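import Mathlib

set_option autoImplicit false

namespace Cfsg.Agent.Lib.Helper3

open Module

section eigenbasis

variable {V : Type*} [AddCommGroup V] [Module ℂ V] [FiniteDimensional ℂ V]

omit [FiniteDimensional ℂ V] in
/-- An endomorphism of finite order of a complex vector space is semisimple. -/
theorem isSemisimple_of_pow_eq_one (f : Module.End ℂ V) (n : ℕ) (hn : 0 < n) (hf : f ^ n = 1) :
    f.IsSemisimple := by
  have hsep : (Polynomial.X ^ n - Polynomial.C (1 : ℂ)).Separable :=
    Polynomial.separable_X_pow_sub_C (1 : ℂ) (by exact_mod_cast hn.ne') one_ne_zero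
  apply Module.End.isSemisimple_of_squarefree_aeval_eq_zero hsep.squarefree
  simp [hf]

/-- A semisimple endomorphism of a finite-dimensional complex vector space has an eigenbasis,
indexed by `Fin (finrank ℂ V)`. -/
theorem exists_eigenbasis_of_isSemisimple (f : Module.End ℂ V) (hf : f.IsSemisimple) :
    ∃ (b : Basis (Fin (finrank ℂ V)) ℂ V) (μ : Fin (finrank ℂ V) → ℂ),
      ∀ i, f (b i) = μ i • b i := by
  classical
  have hind := f.eigenspaces_iSupIndep
  have htop := hf.iSup_eigenspace_eq_top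
  have hint := DirectSum.isInternal_submodule_of_iSupIndep_of_iSup_eq_top hind htop
  let v : ∀ μ : ℂ, Basis (Module.Free.ChooseBasisIndex ℂ (f.eigenspace μ)) ℂ (f.eigenspace μ) :=
    fun μ => Module.Free.chooseBasis ℂ (f.eigenspace μ)
  let B := hint.collectedBasis v
  have : Finite (Σ μ : ℂ, Module.Free.ChooseBasisIndex ℂ (f.eigenspace μ)) :=
    Module.Finite.finite_basis B
  haveI : Fintype (Σ μ : ℂ, Module.Free.ChooseBasisIndex ℂ (f.eigenspace μ)) :=
    Fintype.ofFinite _
  have hcard : Fintype.card (Σ μ : ℂ, Module.Free.ChooseBasisIndex ℂ (f.eigenspace μ)) =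
      finrank ℂ V := (Module.finrank_eq_card_basis B).symm
  let e := (Fintype.equivFinOfCardEq hcard)
  refine ⟨B.reindex e, fun i => (e.symm i).1, fun i => ?_⟩
  have hmem : B (e.symm i) ∈ f.eigenspace (e.symm i).1 := hint.collectedBasis_mem v (e.symm i)
  rw [Basis.reindex_apply]
  exact Module.End.mem_eigenspace_iff.mp hmem

theorem exists_eigenbasis_of_pow_eq_one (f : Module.End ℂ V) (n : ℕ) (hn : 0 < n)
    (hf : f ^ n = 1) :
    ∃ (b : Basis (Fin (finrank ℂ V)) ℂ V) (μ : Fin (finrank ℂ V) → ℂ),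
      (∀ i, f (b i) = μ i • b i) ∧ ∀ i, μ i ^ n = 1 := by
  obtain ⟨b, μ, hb⟩ := exists_eigenbasis_of_isSemisimple f (isSemisimple_of_pow_eq_one f n hn hf)
  refine ⟨b, μ, hb, fun i => ?_⟩
  have h1 : (f ^ n) (b i) = μ i ^ n • b i := by
    have : ∀ k : ℕ, (f ^ k) (b i) = μ i ^ k • b i := by
      intro k
      induction k with
      | zero => simp
      | succ k ih =>
        rw [pow_succ', Module.End.mul_apply, ih, map_smul, hb i, smul_smul, pow_succ]
    exact this n
  rw [hf, Module.End.one_apply] at h1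
  have hne : b i ≠ 0 := b.ne_zero i
  have : (μ i ^ n - 1) • b i = 0 := by rw [sub_smul, one_smul, ← h1, sub_self]
  rcases smul_eq_zero.mp this with h | h
  · exact sub_eq_zero.mp h
  · exact absurd h hne

omit [FiniteDimensional ℂ V] in
/-- Trace in an eigenbasis. -/
theorem trace_eq_sum_of_eigenbasis {ι : Type*} [Fintype ι] [DecidableEq ι] (f : Module.End ℂ V)
    (b : Basis ι ℂ V) (μ : ι → ℂ) (hb : ∀ i, f (b i) = μ i • b i) :
    LinearMap.trace ℂ V f = ∑ i, μ i := by
  rw [LinearMap.trace_eq_matrix_trace ℂ b, Matrix.trace]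
  refine Finset.sum_congr rfl fun i _ => ?_
  simp [Matrix.diag_apply, LinearMap.toMatrix_apply, hb i]

end eigenbasis

end Cfsg.Agent.Lib.Helper3
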