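import Mathlib
import Cfsg.Agent.Lib.Helper3.FinOrder

set_option autoImplicit false

namespace Cfsg.Agent.Lib.Helper3

open Module
open scoped ComplexConjugate

section

variable {G : Type*} [Group G] [Finite G] {V : Type*} [AddCommGroup V] [Module ℂ V]
  [FiniteDimensional ℂ V] (ρ : Representation ℂ G V)

omit [Finite G] [FiniteDimensional ℂ V] in
theorem rho_pow_orderOf (g : G) : (ρ g) ^ (orderOf g) = 1 := by
  rw [← map_pow, pow_orderOf_eq_one, map_one]

/-- Eigenbasis for `ρ g`, with eigenvalues roots of unity. -/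
theorem exists_eigenbasis (g : G) :
    ∃ (b : Basis (Fin (finrank ℂ V)) ℂ V) (μ : Fin (finrank ℂ V) → ℂ),
      (∀ i, ρ g (b i) = μ i • b i) ∧ ∀ i, μ i ^ orderOf g = 1 :=
  exists_eigenbasis_of_pow_eq_one (ρ g) (orderOf g) (orderOf_pos g) (rho_pow_orderOf ρ g)

omit [Finite G] [FiniteDimensional ℂ V] in
theorem character_eq_sum_of_eigenbasis {ι : Type*} [Fintype ι] [DecidableEq ι] (g : G)
    (b : Basis ι ℂ V) (μ : ι → ℂ) (hb : ∀ i, ρ g (b i) = μ i • b i) :
    ρ.character g = ∑ i, μ i :=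
  trace_eq_sum_of_eigenbasis (ρ g) b μ hb

theorem norm_eq_one_of_pow_eq_one {z : ℂ} {n : ℕ} (hn : 0 < n) (h : z ^ n = 1) : ‖z‖ = 1 :=
  Complex.norm_eq_one_of_pow_eq_one h hn.ne'

theorem inv_eq_conj_of_pow_eq_one {z : ℂ} {n : ℕ} (hn : 0 < n) (h : z ^ n = 1) :
    z⁻¹ = conj z :=
  Complex.inv_eq_conj (norm_eq_one_of_pow_eq_one hn h)

/-- `χ(g⁻¹) = conj χ(g)`. -/
theorem character_inv (g : G) : ρ.character g⁻¹ = conj (ρ.character g) := by
  classical
  obtain ⟨b, μ, hb, hμ⟩ := exists_eigenbasis ρ g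
  have hμne : ∀ i, μ i ≠ 0 := fun i h0 => by
    have := hμ i
    rw [h0, zero_pow (orderOf_pos g).ne'] at this
    exact zero_ne_one this
  have hb' : ∀ i, ρ g⁻¹ (b i) = (μ i)⁻¹ • b i := by
    intro i
    have h1 : ρ g⁻¹ (ρ g (b i)) = b i := by
      rw [← Module.End.mul_apply, ← map_mul, inv_mul_cancel, map_one, Module.End.one_apply]
    rw [hb i, map_smul] at h1
    rw [eq_inv_smul_iff₀ (hμne i)]
    exact h1
  rw [character_eq_sum_of_eigenbasis ρ g b μ hb, character_eq_sum_of_eigenbasis ρ g⁻¹ b _ hb',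
    map_sum]
  exact Finset.sum_congr rfl fun i _ => inv_eq_conj_of_pow_eq_one (orderOf_pos g) (hμ i)

/-- `‖χ(g)‖ ≤ χ(1)`. -/
theorem norm_character_le (g : G) : ‖ρ.character g‖ ≤ (finrank ℂ V : ℝ) := by
  classical
  obtain ⟨b, μ, hb, hμ⟩ := exists_eigenbasis ρ g
  rw [character_eq_sum_of_eigenbasis ρ g b μ hb]
  calc ‖∑ i, μ i‖ ≤ ∑ i, ‖μ i‖ := norm_sum_le _ _
    _ = ∑ _i : Fin (finrank ℂ V), (1 : ℝ) :=
      Finset.sum_congr rfl fun i _ => norm_eq_one_of_pow_eq_one (orderOf_pos g) (hμ i)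
    _ = (finrank ℂ V : ℝ) := by simp

/-- Character values are algebraic integers. -/
theorem isIntegral_character (g : G) : IsIntegral ℤ (ρ.character g) := by
  classical
  obtain ⟨b, μ, hb, hμ⟩ := exists_eigenbasis ρ g
  rw [character_eq_sum_of_eigenbasis ρ g b μ hb]
  refine IsIntegral.sum _ fun i _ => ?_
  exact IsIntegral.of_pow (orderOf_pos g) (by rw [hμ i]; exact isIntegral_one)

theorem eq_one_of_norm_le_one_of_re_eq_one {z : ℂ} (h1 : ‖z‖ ≤ 1) (h2 : z.re = 1) : z = 1 := by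
  have h3 : ‖z‖ ^ 2 = z.re ^ 2 + z.im ^ 2 := by
    rw [Complex.sq_norm, Complex.normSq_apply]; ring
  have h4 : ‖z‖ ^ 2 ≤ 1 := by
    have := norm_nonneg z
    nlinarith
  have h5 : z.im = 0 := by
    rw [h2] at h3
    have : z.im ^ 2 ≤ 0 := by linarith
    have h6 := sq_nonneg z.im
    have : z.im ^ 2 = 0 := le_antisymm this h6
    exact pow_eq_zero_iff (two_ne_zero) |>.mp this
  apply Complex.ext <;> simp [h2, h5]

/-- If a sum of `n` complex numbers of norm one has norm `n`, they are all equal. -/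
theorem all_eq_of_norm_sum_eq {ι : Type*} [Fintype ι] (μ : ι → ℂ) (hμ : ∀ i, ‖μ i‖ = 1)
    (hs : ‖∑ i, μ i‖ = (Fintype.card ι : ℝ)) : ∀ i j, μ i = μ j := by
  classical
  rcases isEmpty_or_nonempty ι with hι | hι
  · intro i; exact (hι.false i).elim
  have hcard : (0 : ℝ) < Fintype.card ι := by exact_mod_cast Fintype.card_pos
  set s := ∑ i, μ i with hs_def
  have hsne : s ≠ 0 := by
    intro h0; rw [h0, norm_zero] at hs; linarith
  -- u = s / ‖s‖
  set u : ℂ := s / (‖s‖ : ℂ) with hu_def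
  have hnorm_ne : (‖s‖ : ℂ) ≠ 0 := by
    simpa using hsne
  have hu : ‖u‖ = 1 := by
    rw [hu_def, norm_div, Complex.norm_real, norm_norm, div_self]
    simpa using hsne
  -- conj u * s = ‖s‖
  have hus : conj u * s = (‖s‖ : ℂ) := by
    rw [hu_def, map_div₀, Complex.conj_ofReal, div_mul_eq_mul_div, Complex.conj_mul', 
      sq, mul_div_assoc, div_self hnorm_ne, mul_one]
  have hre : ∀ i, (conj u * μ i).re ≤ 1 := fun i => by
    calc (conj u * μ i).re ≤ ‖conj u * μ i‖ := Complex.re_le_norm _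
      _ = 1 := by rw [norm_mul, Complex.norm_conj, hu, hμ i, one_mul]
  have hsum : ∑ i, (conj u * μ i).re = (Fintype.card ι : ℝ) := by
    rw [← Complex.re_sum, ← Finset.mul_sum, hus, Complex.ofReal_re, hs]
  have hre1 : ∀ i, (conj u * μ i).re = 1 := by
    by_contra hcon
    push Not at hcon
    obtain ⟨i0, hi0⟩ := hcon
    have hlt : (conj u * μ i0).re < 1 := lt_of_le_of_ne (hre i0) hi0
    have : ∑ i, (conj u * μ i).re < ∑ _i : ι, (1 : ℝ) :=
      Finset.sum_lt_sum (fun i _ => hre i) ⟨i0, Finset.mem_univ _, hlt⟩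
    rw [hsum] at this
    simp at this
  have hmu : ∀ i, μ i = u := by
    intro i
    have h1 : conj u * μ i = 1 := by
      apply eq_one_of_norm_le_one_of_re_eq_one _ (hre1 i)
      rw [norm_mul, Complex.norm_conj, hu, hμ i, one_mul]
    have h2 : u * conj u = 1 := by
      rw [Complex.mul_conj, Complex.normSq_eq_norm_sq, hu]; simp
    calc μ i = (u * conj u) * μ i := by rw [h2, one_mul]
      _ = u * (conj u * μ i) := by ring
      _ = u := by rw [h1, mul_one]
  intro i j
  rw [hmu i, hmu j]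

/-- `‖χ(g)‖ = χ(1)` iff `g` acts as a scalar. -/
theorem norm_character_eq_iff (g : G) :
    ‖ρ.character g‖ = (finrank ℂ V : ℝ) ↔ ∃ ω : ℂ, ρ g = ω • (LinearMap.id : V →ₗ[ℂ] V) := by
  classical
  obtain ⟨b, μ, hb, hμ⟩ := exists_eigenbasis ρ g
  constructor
  · intro h
    rw [character_eq_sum_of_eigenbasis ρ g b μ hb] at h
    have hall := all_eq_of_norm_sum_eq μ
      (fun i => norm_eq_one_of_pow_eq_one (orderOf_pos g) (hμ i)) (by simpa using h)
    rcases Nat.eq_zero_or_pos (finrank ℂ V) with h0 | hpos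
    · refine ⟨1, ?_⟩
      have : Subsingleton V := Module.finrank_zero_iff.mp h0
      ext v
      exact Subsingleton.elim _ _
    · refine ⟨μ ⟨0, hpos⟩, ?_⟩
      apply b.ext
      intro i
      rw [hb i, hall i ⟨0, hpos⟩]
      simp
  · rintro ⟨ω, hω⟩
    have hchar : ρ.character g = ω * (finrank ℂ V : ℂ) := by
      unfold Representation.character
      rw [hω, map_smul, LinearMap.trace_id, smul_eq_mul]
    rcases Nat.eq_zero_or_pos (finrank ℂ V) with h0 | hpos
    · rw [hchar, h0]; simp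
    · have hω1 : ω ^ orderOf g = 1 := by
        have h1 := hb ⟨0, hpos⟩
        rw [hω] at h1
        simp only [LinearMap.smul_apply, LinearMap.id_coe, id_eq] at h1
        have hne : b ⟨0, hpos⟩ ≠ 0 := b.ne_zero _
        have : (ω - μ ⟨0, hpos⟩) • b ⟨0, hpos⟩ = 0 := by rw [sub_smul, h1, sub_self]
        rcases smul_eq_zero.mp this with h | h
        · rw [sub_eq_zero.mp h]; exact hμ _
        · exact absurd h hne
      rw [hchar, norm_mul, norm_eq_one_of_pow_eq_one (orderOf_pos g) hω1, one_mul]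
      simp

/-- `χ(g) = χ(1)` iff `g` acts trivially. -/
theorem character_eq_finrank_iff (g : G) :
    ρ.character g = (finrank ℂ V : ℂ) ↔ ρ g = LinearMap.id := by
  classical
  obtain ⟨b, μ, hb, hμ⟩ := exists_eigenbasis ρ g
  constructor
  · intro h
    rw [character_eq_sum_of_eigenbasis ρ g b μ hb] at h
    have hre : ∀ i, (μ i).re ≤ 1 := fun i => by
      calc (μ i).re ≤ ‖μ i‖ := Complex.re_le_norm _
        _ = 1 := norm_eq_one_of_pow_eq_one (orderOf_pos g) (hμ i)
    have hsum : ∑ i, (μ i).re = (finrank ℂ V : ℝ) := by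
      rw [← Complex.re_sum, h]; simp
    have hre1 : ∀ i, (μ i).re = 1 := by
      by_contra hcon
      push Not at hcon
      obtain ⟨i0, hi0⟩ := hcon
      have hlt : (μ i0).re < 1 := lt_of_le_of_ne (hre i0) hi0
      have : ∑ i, (μ i).re < ∑ _i : Fin (finrank ℂ V), (1 : ℝ) :=
        Finset.sum_lt_sum (fun i _ => hre i) ⟨i0, Finset.mem_univ _, hlt⟩
      rw [hsum] at this
      simp at this
    have hmu : ∀ i, μ i = 1 := fun i =>
      eq_one_of_norm_le_one_of_re_eq_one
        (norm_eq_one_of_pow_eq_one (orderOf_pos g) (hμ i)).le (hre1 i)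
    apply b.ext
    intro i
    rw [hb i, hmu i]; simp
  · intro h
    unfold Representation.character
    rw [h, LinearMap.trace_id]

end

end Cfsg.Agent.Lib.Helper3
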