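import Mathlib
import Cfsg.Prelude.Def_Characters
import Cfsg.Agent.Lib.Helper3.CharValues

set_option autoImplicit false

namespace Cfsg.Agent.Lib.Helper3

open Module Representation
open scoped ComplexConjugate

section transport

variable {G : Type*} [Group G] {V W : Type*} [AddCommGroup V] [Module ℂ V]
  [AddCommGroup W] [Module ℂ W]

/-- Irreducibility transfers along an equivalence of representations. -/
theorem isIrreducible_of_equiv {ρ : Representation ℂ G V} {σ : Representation ℂ G W}
    (φ : ρ.Equiv σ) [hρ : ρ.IsIrreducible] : σ.IsIrreducible := by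
  rw [irreducible_iff_isSimpleModule_asModule] at hρ ⊢
  let f := IntertwiningMap.equivLinearMapAsModule σ ρ φ.symm.toIntertwiningMap
  have hf : Function.Bijective f := φ.symm.bijective
  exact IsSimpleModule.congr (LinearEquiv.ofBijective f hf)

/-- Transport a representation along a linear equivalence. -/
noncomputable def transportRep (ρ : Representation ℂ G V) (e : V ≃ₗ[ℂ] W) :
    Representation ℂ G W :=
  (e.conjAlgEquiv ℂ).toAlgHom.toRingHom.toMonoidHom.comp ρ

theorem transportRep_apply (ρ : Representation ℂ G V) (e : V ≃ₗ[ℂ] W) (g : G) :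
    transportRep ρ e g = e.toLinearMap ∘ₗ ρ g ∘ₗ e.symm.toLinearMap := rfl

/-- The transported representation is equivalent to the original one. -/
noncomputable def transportEquiv (ρ : Representation ℂ G V) (e : V ≃ₗ[ℂ] W) :
    ρ.Equiv (transportRep ρ e) :=
  Representation.Equiv.mk e (fun g => by
    ext v
    simp [transportRep_apply])

/-- The character of any finite-dimensional complex representation is a character
in the sense of the Prelude. -/
theorem isCharacter_character [FiniteDimensional ℂ V] (ρ : Representation ℂ G V) :
    Cfsg.IsCharacter G ρ.character := by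
  let e : V ≃ₗ[ℂ] (Fin (finrank ℂ V) → ℂ) := (Module.finBasis ℂ V).equivFun
  exact ⟨finrank ℂ V, transportRep ρ e, (char_iso (transportEquiv ρ e)).symm⟩

/-- The character of any finite-dimensional irreducible complex representation is an
irreducible character in the sense of the Prelude. -/
theorem isIrrCharacter_character [FiniteDimensional ℂ V] (ρ : Representation ℂ G V)
    [ρ.IsIrreducible] : Cfsg.IsIrrCharacter G ρ.character := by
  let e : V ≃ₗ[ℂ] (Fin (finrank ℂ V) → ℂ) := (Module.finBasis ℂ V).equivFun
  exact ⟨finrank ℂ V, transportRep ρ e, isIrreducible_of_equiv (transportEquiv ρ e),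
    (char_iso (transportEquiv ρ e)).symm⟩

theorem IsIrrCharacter.isCharacter {χ : G → ℂ} (h : Cfsg.IsIrrCharacter G χ) :
    Cfsg.IsCharacter G χ := by
  obtain ⟨n, ρ, _, hρ⟩ := h
  exact ⟨n, ρ, hρ⟩

theorem IsCharacter.isClassFunction {χ : G → ℂ} (h : Cfsg.IsCharacter G χ) :
    Cfsg.IsClassFunction G χ := by
  obtain ⟨n, ρ, rfl⟩ := h
  intro g h
  exact char_conj ρ g h

end transport

section orth

variable {G : Type*} [Group G] [Fintype G]

theorem card_ne_zero_complex : (Nat.card G : ℂ) ≠ 0 := by
  have : Nat.card G ≠ 0 := Nat.card_pos.ne'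
  exact_mod_cast this

/-- `classInner` of two characters of representations, in terms of Mathlib's pairing. -/
theorem classInner_character {V W : Type*} [AddCommGroup V] [Module ℂ V] [FiniteDimensional ℂ V]
    [AddCommGroup W] [Module ℂ W] [FiniteDimensional ℂ W]
    (ρ : Representation ℂ G V) (σ : Representation ℂ G W) :
    Cfsg.classInner ρ.character σ.character =
      (Nat.card G : ℂ)⁻¹ * ∑ g : G, ρ.character g * σ.character g⁻¹ := by
  unfold Cfsg.classInner
  congr 1
  refine Finset.sum_congr rfl fun g _ => ?_
  rw [character_inv]

/-- The inner product of two characters is the dimension of the space of intertwiners. -/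
theorem classInner_character_eq_finrank {V W : Type*} [AddCommGroup V] [Module ℂ V]
    [FiniteDimensional ℂ V] [AddCommGroup W] [Module ℂ W] [FiniteDimensional ℂ W]
    (ρ : Representation ℂ G V) (σ : Representation ℂ G W) :
    Cfsg.classInner ρ.character σ.character = (finrank ℂ (IntertwiningMap σ ρ) : ℂ) := by
  have : Invertible (Nat.card G : ℂ) := invertibleOfNonzero card_ne_zero_complex
  rw [classInner_character, card_inv_mul_sum_char_mul_char_eq_finrank]

open scoped Classical in
/-- Orthonormality of irreducible characters, in terms of `classInner`. -/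
theorem classInner_irreducible {V W : Type*} [AddCommGroup V] [Module ℂ V]
    [FiniteDimensional ℂ V] [AddCommGroup W] [Module ℂ W] [FiniteDimensional ℂ W]
    (ρ : Representation ℂ G V) (σ : Representation ℂ G W) [ρ.IsIrreducible] [σ.IsIrreducible] :
    Cfsg.classInner ρ.character σ.character = if Nonempty (σ.Equiv ρ) then 1 else 0 := by
  have : Invertible (Nat.card G : ℂ) := invertibleOfNonzero card_ne_zero_complex
  rw [classInner_character, char_orthonormal]

/-- Two irreducible representations with the same character are equivalent. -/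
theorem nonempty_equiv_of_character_eq {V W : Type*} [AddCommGroup V] [Module ℂ V]
    [FiniteDimensional ℂ V] [AddCommGroup W] [Module ℂ W] [FiniteDimensional ℂ W]
    (ρ : Representation ℂ G V) (σ : Representation ℂ G W) [ρ.IsIrreducible] [σ.IsIrreducible]
    (h : ρ.character = σ.character) : Nonempty (σ.Equiv ρ) := by
  classical
  by_contra hne
  have h1 := classInner_irreducible ρ σ
  have h2 := classInner_irreducible ρ ρ
  rw [if_neg hne] at h1
  rw [if_pos ⟨Representation.Equiv.refl ρ⟩] at h2
  rw [← h] at h1
  rw [h1] at h2
  exact zero_ne_one h2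

open scoped Classical in
/-- Orthonormality of the irreducible characters (Prelude vocabulary). -/
theorem classInner_irrCharacter {χ ψ : G → ℂ} (hχ : Cfsg.IsIrrCharacter G χ)
    (hψ : Cfsg.IsIrrCharacter G ψ) :
    Cfsg.classInner χ ψ = if χ = ψ then 1 else 0 := by
  obtain ⟨n, ρ, hρ, rfl⟩ := hχ
  obtain ⟨m, σ, hσ, rfl⟩ := hψ
  rw [classInner_irreducible ρ σ]
  by_cases h : ρ.character = σ.character
  · rw [if_pos h, if_pos (nonempty_equiv_of_character_eq ρ σ h)]
  · rw [if_neg h, if_neg]
    rintro ⟨φ⟩
    exact h (char_iso φ).symm

end orth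

end Cfsg.Agent.Lib.Helper3
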