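import Mathlib
import Cfsg.Prelude.Def_Characters
import Cfsg.Agent.Lib.Helper3.CharIrr

set_option autoImplicit false

namespace Cfsg.Agent.Lib.Helper3

open Module Representation
open scoped ComplexConjugate MonoidAlgebra

section subrep

variable {G : Type*} [Group G] {V : Type*} [AddCommGroup V] [Module ℂ V]
  (ρ : Representation ℂ G V)

theorem toRepresentation_apply_coe (σ : Subrepresentation ρ) (g : G) (x : σ.toSubmodule) :
    ((σ.toRepresentation g x : σ.toSubmodule) : V) = ρ g (x : V) := rfl

theorem asAlgebraHom_toRepresentation_coe (σ : Subrepresentation ρ) (r : ℂ[G])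
    (x : σ.toSubmodule) :
    ((σ.toRepresentation.asAlgebraHom r x : σ.toSubmodule) : V) = ρ.asAlgebraHom r (x : V) := by
  induction r using MonoidAlgebra.induction_linear with
  | zero => simp
  | add a b ha hb => simp [map_add, ha, hb]
  | single g c => simp [toRepresentation_apply_coe]

/-- The `ℂ[G]`-linear equivalence between the module of the restricted representation and
the corresponding submodule. -/
noncomputable def toRepAsModuleEquiv (σ : Subrepresentation ρ) :
    σ.toRepresentation.asModule ≃ₗ[ℂ[G]] σ.asSubmodule where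
  toFun x := ⟨((σ.toRepresentation.asModuleEquiv x : σ.toSubmodule) : V), (σ.toRepresentation.asModuleEquiv x).2⟩
  invFun y := σ.toRepresentation.asModuleEquiv.symm ⟨y.1, y.2⟩
  map_add' x y := rfl
  map_smul' r x := by
    apply Subtype.ext
    exact asAlgebraHom_toRepresentation_coe ρ σ r _
  left_inv x := rfl
  right_inv y := rfl

theorem isIrreducible_toRepresentation_of_isSimpleModule (m : Submodule ℂ[G] ρ.asModule)
    [hm : IsSimpleModule ℂ[G] m] :
    IsIrreducible (Subrepresentation.ofSubmodule' m).toRepresentation := by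
  rw [irreducible_iff_isSimpleModule_asModule]
  have h2 : (Subrepresentation.ofSubmodule' m).asSubmodule = m := rfl
  have : IsSimpleModule ℂ[G] (Subrepresentation.ofSubmodule' m).asSubmodule := by
    rw [h2]; exact hm
  exact IsSimpleModule.congr (toRepAsModuleEquiv ρ (Subrepresentation.ofSubmodule' m))

/-- A linear map on a representation space of a finite group which vanishes on every irreducible
subrepresentation is zero (Maschke). -/
theorem eq_zero_of_vanish_on_irreducible [Finite G] (T : V →ₗ[ℂ] V)
    (hT : ∀ σ : Subrepresentation ρ, IsIrreducible σ.toRepresentation →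
      ∀ x ∈ σ.toSubmodule, T x = 0) : T = 0 := by
  have : NeZero (Nat.card G : ℂ) := ⟨by
    have : Nat.card G ≠ 0 := Nat.card_pos.ne'
    exact_mod_cast this⟩
  have htop : sSup { m : Submodule ℂ[G] ρ.asModule | IsSimpleModule ℂ[G] m } = ⊤ :=
    IsSemisimpleModule.sSup_simples_eq_top ℂ[G] ρ.asModule
  ext v
  have hv : (ρ.asModuleEquiv.symm v) ∈ sSup { m : Submodule ℂ[G] ρ.asModule | IsSimpleModule ℂ[G] m } := by
    rw [htop]; trivial
  rw [sSup_eq_iSup'] at hv
  have key : ∀ x : ρ.asModule, x ∈ (⨆ m : { m : Submodule ℂ[G] ρ.asModule | IsSimpleModule ℂ[G] m }, (m : Submodule ℂ[G] ρ.asModule)) →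
      T (ρ.asModuleEquiv x) = 0 := by
    intro x hx
    induction hx using Submodule.iSup_induction' with
    | mem i x hx =>
      obtain ⟨m, hm⟩ := i
      have : IsSimpleModule ℂ[G] m := hm
      exact hT (Subrepresentation.ofSubmodule' m)
        (isIrreducible_toRepresentation_of_isSimpleModule ρ m) x hx
    | zero => simp
    | add x y _ _ hx hy =>
      rw [map_add, map_add, hx, hy, add_zero]
  simpa using key _ hv

end subrep

section avg

variable {G : Type*} [Group G] [Fintype G] {V : Type*} [AddCommGroup V] [Module ℂ V]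
  (ρ : Representation ℂ G V)

/-- The operator `∑ g, c g • ρ g`. -/
noncomputable def avgMap (c : G → ℂ) : V →ₗ[ℂ] V := ∑ g : G, c g • ρ g

theorem avgMap_apply (c : G → ℂ) (v : V) : avgMap ρ c v = ∑ g : G, c g • ρ g v := by
  simp [avgMap, LinearMap.sum_apply]

theorem trace_avgMap [FiniteDimensional ℂ V] (c : G → ℂ) :
    LinearMap.trace ℂ V (avgMap ρ c) = ∑ g : G, c g * ρ.character g := by
  simp [avgMap, map_sum, Representation.character]

/-- For a class function `c`, `avgMap ρ c` commutes with the action. -/
theorem avgMap_comm (c : G → ℂ) (hc : Cfsg.IsClassFunction G c) (h : G) :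
    ρ h ∘ₗ avgMap ρ c = avgMap ρ c ∘ₗ ρ h := by
  ext v
  simp only [LinearMap.comp_apply, avgMap_apply, map_sum, map_smul]
  -- ∑ g, c g • ρ h (ρ g v) = ∑ g, c g • ρ g (ρ h v)
  refine Fintype.sum_equiv (MulAut.conj h).toEquiv _ _ fun g => ?_
  simp only [MulEquiv.toEquiv_eq_coe, MulEquiv.coe_toEquiv, MulAut.conj_apply, hc g h]
  congr 1
  rw [← Module.End.mul_apply, ← map_mul, ← Module.End.mul_apply, ← map_mul]
  congr 2
  group

/-- `avgMap` as an intertwining map, for a class function. -/
noncomputable def avgIntertwining (c : G → ℂ) (hc : Cfsg.IsClassFunction G c) :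
    IntertwiningMap ρ ρ where
  toLinearMap := avgMap ρ c
  isIntertwining' h := (avgMap_comm ρ c hc h).symm

omit [Fintype G] in
theorem finrank_pos_of_isIrreducible [FiniteDimensional ℂ V] [hρ : ρ.IsIrreducible] :
    0 < finrank ℂ V := by
  have : Nontrivial (Subrepresentation ρ) := hρ.toNontrivial
  rw [Module.finrank_pos_iff]
  by_contra hV
  rw [not_nontrivial_iff_subsingleton] at hV
  obtain ⟨a, b, hab⟩ := this.exists_pair_ne
  apply hab
  apply Subrepresentation.toSubmodule_injective
  ext x
  simp [Subsingleton.elim x 0]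

/-- Schur: on an irreducible representation, `avgMap ρ c` for a class function `c` is the scalar
`(∑ g, c g * χ g) / χ 1`. -/
theorem avgMap_eq_smul_of_isIrreducible [FiniteDimensional ℂ V] [ρ.IsIrreducible]
    (c : G → ℂ) (hc : Cfsg.IsClassFunction G c) :
    avgMap ρ c = ((∑ g : G, c g * ρ.character g) / (finrank ℂ V : ℂ)) • LinearMap.id := by
  obtain ⟨a, ha⟩ := (IsIrreducible.algebraMap_intertwiningMap_bijective_of_isAlgClosed
    (ρ := ρ)).2 (avgIntertwining ρ c hc)
  have h1 : avgMap ρ c = a • LinearMap.id := by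
    have := congrArg IntertwiningMap.toLinearMap ha
    rw [IntertwiningMap.algebraMap_apply] at this
    rw [show (avgIntertwining ρ c hc).toLinearMap = avgMap ρ c from rfl] at this
    rw [← this]
    rfl
  have h2 : LinearMap.trace ℂ V (avgMap ρ c) = a * (finrank ℂ V : ℂ) := by
    rw [h1, map_smul, LinearMap.trace_id, smul_eq_mul]
  rw [trace_avgMap] at h2
  have hpos : (finrank ℂ V : ℂ) ≠ 0 := by
    have := finrank_pos_of_isIrreducible ρ
    exact_mod_cast this.ne'
  rw [h1, h2, mul_div_assoc, div_self hpos, mul_one]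

theorem avgMap_restrict (σ : Subrepresentation ρ) (c : G → ℂ) (x : σ.toSubmodule) :
    ((avgMap σ.toRepresentation c x : σ.toSubmodule) : V) = avgMap ρ c (x : V) := by
  simp [avgMap_apply, toRepresentation_apply_coe]

end avg

section complete

variable {G : Type*} [Group G] [Fintype G]

/-- If a class function `c` satisfies `∑ g, c g * χ g = 0` for all irreducible characters `χ`,
then `avgMap ρ c = 0` for every representation. -/
theorem avgMap_eq_zero_of_orth {V : Type*} [AddCommGroup V] [Module ℂ V] [FiniteDimensional ℂ V]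
    (ρ : Representation ℂ G V) (c : G → ℂ) (hc : Cfsg.IsClassFunction G c)
    (horth : ∀ χ : G → ℂ, Cfsg.IsIrrCharacter G χ → ∑ g : G, c g * χ g = 0) :
    avgMap ρ c = 0 := by
  apply eq_zero_of_vanish_on_irreducible ρ
  intro σ hσ x hx
  have h1 := avgMap_restrict ρ σ c ⟨x, hx⟩
  rw [← h1]
  have h2 := avgMap_eq_smul_of_isIrreducible σ.toRepresentation c hc
  rw [horth _ (isIrrCharacter_character σ.toRepresentation)] at h2
  rw [h2]
  simp

/-- Completeness: a class function `c` with `∑ g, c g * χ g = 0` for all irreducible characters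
`χ` is zero. -/
theorem eq_zero_of_orth (c : G → ℂ) (hc : Cfsg.IsClassFunction G c)
    (horth : ∀ χ : G → ℂ, Cfsg.IsIrrCharacter G χ → ∑ g : G, c g * χ g = 0) : c = 0 := by
  classical
  have h := avgMap_eq_zero_of_orth (Representation.leftRegular ℂ G) c hc horth
  have h2 := congrArg (fun T => T (MonoidAlgebra.single (1 : G) (1 : ℂ))) h
  simp only [avgMap_apply, LinearMap.zero_apply] at h2
  ext g
  have h3 := congrArg (fun f : ℂ[G] => f.coeff g) h2
  simp only [Representation.ofMulAction_single, MonoidAlgebra.coeff_sum, MonoidAlgebra.coeff_smul,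
    MonoidAlgebra.coeff_single, smul_eq_mul, mul_one, Finsupp.coe_finset_sum, Finsupp.coe_smul,
    Finset.sum_apply, Pi.smul_apply, Finsupp.single_apply, MonoidAlgebra.coeff_zero,
    Finsupp.coe_zero, Pi.zero_apply] at h3
  simpa using h3

end complete

end Cfsg.Agent.Lib.Helper3
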