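import Mathlib
import Cfsg.Prelude.Def_Characters
import Cfsg.Agent.Lib.Helper3.Complete

set_option autoImplicit false

namespace Cfsg.Agent.Lib.Helper3

open Module Representation
open scoped ComplexConjugate

section inner

variable {G : Type*} [Group G] [Fintype G]

theorem classInner_add_left (f₁ f₂ ψ : G → ℂ) :
    Cfsg.classInner (f₁ + f₂) ψ = Cfsg.classInner f₁ ψ + Cfsg.classInner f₂ ψ := by
  simp [Cfsg.classInner, add_mul, Finset.sum_add_distrib, mul_add]

theorem classInner_sub_left (f₁ f₂ ψ : G → ℂ) :
    Cfsg.classInner (f₁ - f₂) ψ = Cfsg.classInner f₁ ψ - Cfsg.classInner f₂ ψ := by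
  simp [Cfsg.classInner, sub_mul, Finset.sum_sub_distrib, mul_sub]

theorem classInner_smul_left (a : ℂ) (f ψ : G → ℂ) :
    Cfsg.classInner (a • f) ψ = a * Cfsg.classInner f ψ := by
  simp only [Cfsg.classInner, Pi.smul_apply, smul_eq_mul, Finset.mul_sum]
  refine Finset.sum_congr rfl fun g _ => ?_
  ring

theorem classInner_zero_left (ψ : G → ℂ) : Cfsg.classInner (0 : G → ℂ) ψ = 0 := by
  simp [Cfsg.classInner]

theorem classInner_sum_left {ι : Type*} (s : Finset ι) (f : ι → G → ℂ) (ψ : G → ℂ) :
    Cfsg.classInner (∑ i ∈ s, f i) ψ = ∑ i ∈ s, Cfsg.classInner (f i) ψ := by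
  classical
  induction s using Finset.induction_on with
  | empty => simp [classInner_zero_left]
  | insert a s ha ih => rw [Finset.sum_insert ha, Finset.sum_insert ha, classInner_add_left, ih]

theorem classInner_conj_symm (φ ψ : G → ℂ) :
    Cfsg.classInner ψ φ = conj (Cfsg.classInner φ ψ) := by
  simp only [Cfsg.classInner, map_mul, map_inv₀, Complex.conj_natCast, map_sum,
    Complex.conj_conj]
  congr 1
  refine Finset.sum_congr rfl fun g _ => ?_
  ring

theorem classInner_add_right (ψ f₁ f₂ : G → ℂ) :
    Cfsg.classInner ψ (f₁ + f₂) = Cfsg.classInner ψ f₁ + Cfsg.classInner ψ f₂ := by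
  rw [classInner_conj_symm, classInner_add_left, map_add, ← classInner_conj_symm,
    ← classInner_conj_symm]

theorem classInner_smul_right (a : ℂ) (ψ f : G → ℂ) :
    Cfsg.classInner ψ (a • f) = conj a * Cfsg.classInner ψ f := by
  rw [classInner_conj_symm, classInner_smul_left, map_mul, ← classInner_conj_symm]

theorem classInner_sum_right {ι : Type*} (s : Finset ι) (ψ : G → ℂ) (f : ι → G → ℂ) :
    Cfsg.classInner ψ (∑ i ∈ s, f i) = ∑ i ∈ s, Cfsg.classInner ψ (f i) := by
  rw [classInner_conj_symm, classInner_sum_left, map_sum]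
  refine Finset.sum_congr rfl fun i _ => ?_
  rw [← classInner_conj_symm]

/-- Completeness in terms of `classInner`. -/
theorem eq_zero_of_classInner_eq_zero (f : G → ℂ) (hf : Cfsg.IsClassFunction G f)
    (h : ∀ χ : G → ℂ, Cfsg.IsIrrCharacter G χ → Cfsg.classInner f χ = 0) : f = 0 := by
  have hc : Cfsg.IsClassFunction G (fun g => conj (f g)) := fun g x => by
    simp only; rw [hf g x]
  have h0 := eq_zero_of_orth (fun g => conj (f g)) hc (fun χ hχ => by
    have h1 := h χ hχ
    unfold Cfsg.classInner at h1
    have h2 : ∑ g : G, f g * conj (χ g) = 0 := by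
      rcases mul_eq_zero.mp h1 with h3 | h3
      · exact absurd (inv_eq_zero.mp h3) card_ne_zero_complex
      · exact h3
    have h3 := congrArg conj h2
    simpa [map_sum] using h3)
  ext g
  have := congrFun h0 g
  simpa using this

end inner

section classfun

variable {G : Type*} [Group G]

theorem isClassFunction_add {f₁ f₂ : G → ℂ} (h₁ : Cfsg.IsClassFunction G f₁)
    (h₂ : Cfsg.IsClassFunction G f₂) : Cfsg.IsClassFunction G (f₁ + f₂) := fun g x => by
  simp [h₁ g x, h₂ g x]

theorem isClassFunction_sub {f₁ f₂ : G → ℂ} (h₁ : Cfsg.IsClassFunction G f₁)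
    (h₂ : Cfsg.IsClassFunction G f₂) : Cfsg.IsClassFunction G (f₁ - f₂) := fun g x => by
  simp [h₁ g x, h₂ g x]

theorem isClassFunction_smul (a : ℂ) {f : G → ℂ} (h : Cfsg.IsClassFunction G f) :
    Cfsg.IsClassFunction G (a • f) := fun g x => by
  simp [h g x]

theorem isClassFunction_zero : Cfsg.IsClassFunction G (0 : G → ℂ) := fun _ _ => rfl

theorem isClassFunction_sum {ι : Type*} (s : Finset ι) (f : ι → G → ℂ)
    (h : ∀ i ∈ s, Cfsg.IsClassFunction G (f i)) : Cfsg.IsClassFunction G (∑ i ∈ s, f i) := by
  classical
  induction s using Finset.induction_on with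
  | empty => simpa using isClassFunction_zero
  | insert a s ha ih =>
    rw [Finset.sum_insert ha]
    exact isClassFunction_add (h a (Finset.mem_insert_self a s))
      (ih fun i hi => h i (Finset.mem_insert_of_mem hi))

theorem IsIrrCharacter.isClassFunction {χ : G → ℂ} (h : Cfsg.IsIrrCharacter G χ) :
    Cfsg.IsClassFunction G χ :=
  IsCharacter.isClassFunction (IsIrrCharacter.isCharacter h)

/-- The space of class functions. -/
def classFunctions (G : Type*) [Group G] : Submodule ℂ (G → ℂ) where
  carrier := {f | Cfsg.IsClassFunction G f}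
  add_mem' := isClassFunction_add
  zero_mem' := isClassFunction_zero
  smul_mem' a _ h := isClassFunction_smul a h

theorem mem_classFunctions {f : G → ℂ} : f ∈ classFunctions G ↔ Cfsg.IsClassFunction G f :=
  Iff.rfl

theorem isClassFunction_iff_isConj {f : G → ℂ} :
    Cfsg.IsClassFunction G f ↔ ∀ g h : G, IsConj g h → f g = f h := by
  constructor
  · intro hf g h hgh
    obtain ⟨c, hc⟩ := isConj_iff.mp hgh
    rw [← hc, hf g c]
  · intro hf g h
    exact (hf g (h * g * h⁻¹) (isConj_iff.mpr ⟨h, rfl⟩)).symm

/-- Class functions are the same as functions on conjugacy classes. -/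
noncomputable def classFunctionsEquiv (G : Type*) [Group G] :
    (ConjClasses G → ℂ) ≃ₗ[ℂ] classFunctions G where
  toFun F := ⟨fun g => F (ConjClasses.mk g), by
    rw [mem_classFunctions, isClassFunction_iff_isConj]
    intro g h hgh
    show F (ConjClasses.mk g) = F (ConjClasses.mk h)
    rw [ConjClasses.mk_eq_mk_iff_isConj.mpr hgh]⟩
  invFun f := fun C => Quotient.liftOn C f.1 (fun a b hab =>
    (isClassFunction_iff_isConj.mp f.2) a b hab)
  map_add' F₁ F₂ := rfl
  map_smul' a F := rfl
  left_inv F := by
    ext C
    induction C using Quotient.inductionOn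
    rfl
  right_inv f := by
    ext g
    rfl

theorem finrank_classFunctions [Finite G] :
    finrank ℂ (classFunctions G) = Nat.card (ConjClasses G) := by
  have : Fintype (ConjClasses G) := Fintype.ofFinite _
  rw [← (classFunctionsEquiv G).finrank_eq, Module.finrank_pi, Nat.card_eq_fintype_card]

end classfun

section basis

variable {G : Type*} [Group G] [Fintype G]

/-- Linear independence of the irreducible characters. -/
theorem linearIndependent_irrCharacter :
    LinearIndependent ℂ (fun χ : Cfsg.IrrCharacter G => (χ : G → ℂ)) := by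
  classical
  rw [linearIndependent_iff']
  intro s a hsum χ hχ
  have h1 := congrArg (fun f => Cfsg.classInner f (χ : G → ℂ)) hsum
  simp only [classInner_sum_left, classInner_smul_left, classInner_zero_left] at h1
  rw [Finset.sum_eq_single χ] at h1
  · rw [classInner_irrCharacter χ.2 χ.2, if_pos rfl, mul_one] at h1
    exact h1
  · intro ψ _ hne
    rw [classInner_irrCharacter ψ.2 χ.2, if_neg, mul_zero]
    exact fun h => hne (Subtype.ext h)
  · intro h; exact absurd hχ h

instance finite_irrCharacter : Finite (Cfsg.IrrCharacter G) :=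
  linearIndependent_irrCharacter.finite_of_isNoetherian

/-- Expansion of a class function in terms of the irreducible characters. -/
theorem classFunction_expansion [Fintype (Cfsg.IrrCharacter G)] (f : G → ℂ)
    (hf : Cfsg.IsClassFunction G f) :
    f = ∑ χ : Cfsg.IrrCharacter G, Cfsg.classInner f (χ : G → ℂ) • (χ : G → ℂ) := by
  classical
  rw [← sub_eq_zero]
  apply eq_zero_of_classInner_eq_zero
  · apply isClassFunction_sub hf
    apply isClassFunction_sum
    intro χ _
    exact isClassFunction_smul _ (IsIrrCharacter.isClassFunction χ.2)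
  · intro ψ hψ
    rw [classInner_sub_left, classInner_sum_left]
    simp only [classInner_smul_left]
    rw [Finset.sum_eq_single (⟨ψ, hψ⟩ : Cfsg.IrrCharacter G)]
    · rw [classInner_irrCharacter hψ hψ, if_pos rfl, mul_one, sub_self]
    · intro χ _ hne
      rw [classInner_irrCharacter χ.2 hψ, if_neg, mul_zero]
      exact fun h => hne (Subtype.ext h)
    · intro h; exact absurd (Finset.mem_univ _) h

theorem span_irrCharacter :
    Submodule.span ℂ (Set.range (fun χ : Cfsg.IrrCharacter G => (χ : G → ℂ))) =
      classFunctions G := by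
  classical
  have : Fintype (Cfsg.IrrCharacter G) := Fintype.ofFinite _
  apply le_antisymm
  · rw [Submodule.span_le]
    rintro _ ⟨χ, rfl⟩
    exact IsIrrCharacter.isClassFunction χ.2
  · intro f hf
    rw [classFunction_expansion f hf]
    apply Submodule.sum_mem
    intro χ _
    apply Submodule.smul_mem
    exact Submodule.subset_span ⟨χ, rfl⟩

/-- The number of irreducible characters equals the number of conjugacy classes. -/
theorem card_irrCharacter : Nat.card (Cfsg.IrrCharacter G) = Nat.card (ConjClasses G) := by
  classical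
  have : Fintype (Cfsg.IrrCharacter G) := Fintype.ofFinite _
  rw [← finrank_classFunctions, ← span_irrCharacter,
    finrank_span_eq_card linearIndependent_irrCharacter, Nat.card_eq_fintype_card]

end basis

end Cfsg.Agent.Lib.Helper3
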