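import Mathlib
import Cfsg.Prelude.Def_OddOrderChar
import Cfsg.Agent.S1498
import Cfsg.Agent.S1499
import Cfsg.Agent.Lib.Helper3.IrrBasis

/-!
# The Dade map: well-definedness and the basic counting formula (helper3)

Main result `sum_dade_mul`: for a class function `φ` of `L`, and a class function `Φ` of `G`,
`|L| ∑_g φ^τ(g) Φ(g) = |G| ∑_{a ∈ A} φ(a) |H a|⁻¹ ∑_{u ∈ H a} Φ(a u)`.
-/

set_option autoImplicit false

namespace Cfsg.Agent.Lib.Helper3.Dade

open Cfsg Cfsg.Agent.Lib.Helper3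
open scoped ComplexConjugate

universe u

variable {G : Type u} [Group G] {A : Set G} {L : Subgroup G} {H : G → Subgroup G}

/-- a subgroup generated by `N` and `K`, `K` normalizing `N`, is `K N` -/
theorem mem_sup_decomp (N K : Subgroup G) (hnorm : ∀ k ∈ K, ∀ u ∈ N, k * u * k⁻¹ ∈ N) {c : G}
    (hc : c ∈ N ⊔ K) : ∃ k ∈ K, ∃ u ∈ N, c = k * u := by
  let S : Subgroup G :=
    { carrier := {c | ∃ k ∈ K, ∃ u ∈ N, c = k * u}
      one_mem' := ⟨1, K.one_mem, 1, N.one_mem, by simp⟩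
      mul_mem' := by
        rintro _ _ ⟨k, hk, u, hu, rfl⟩ ⟨k', hk', u', hu', rfl⟩
        refine ⟨k * k', K.mul_mem hk hk', (k'⁻¹ * u * k'⁻¹⁻¹) * u',
          N.mul_mem (hnorm _ (K.inv_mem hk') u hu) hu', ?_⟩
        group
      inv_mem' := by
        rintro _ ⟨k, hk, u, hu, rfl⟩
        refine ⟨k⁻¹, K.inv_mem hk, k * u⁻¹ * k⁻¹, hnorm k hk _ (N.inv_mem hu), ?_⟩
        group }
  have h1 : N ≤ S := fun u hu => ⟨1, K.one_mem, u, hu, by simp⟩
  have h2 : K ≤ S := fun k hk => ⟨k, hk, 1, N.one_mem, by simp⟩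
  exact (sup_le h1 h2) hc

section fin

variable [Finite G]

theorem conj_split (hD : DadeHypothesis A L H) {a b : G} (ha : a ∈ A) (hb : b ∈ A) {u v g : G}
    (hu : u ∈ H a) (hv : v ∈ H b) (hg : g * (a * u) * g⁻¹ = b * v) :
    g * a * g⁻¹ = b ∧ g * u * g⁻¹ = v := by
  obtain ⟨m, hm1, hm2, -⟩ := Cfsg.Agent.S1499.exists_exponent A L H hD a b ha hb
  have h1 : (g * (a * u) * g⁻¹) ^ m = g * (a * u) ^ m * g⁻¹ := by rw [conj_pow]
  rw [hg, hm1 u hu, hm2 v hv] at h1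
  refine ⟨h1.symm, ?_⟩
  have h2 : g * (a * u) * g⁻¹ = (g * a * g⁻¹) * (g * u * g⁻¹) := by group
  rw [h2, ← h1] at hg
  exact mul_left_cancel hg

theorem mem_centralizer_of_conj_eq {a x g : G} (h : x * a * x⁻¹ = g * a * g⁻¹) :
    x⁻¹ * g ∈ Subgroup.centralizer ({a} : Set G) := by
  rw [Subgroup.mem_centralizer_iff]
  intro y hy
  rw [Set.mem_singleton_iff] at hy
  subst hy
  have h1 : x⁻¹ * (g * y * g⁻¹) * x = y := by rw [← h]; group
  calc y * (x⁻¹ * g) = x⁻¹ * (g * y * g⁻¹) * x * (x⁻¹ * g) := by rw [h1]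
    _ = x⁻¹ * g * y := by group

theorem mem_H_conj_iff (hD : DadeHypothesis A L H) {a : G} (ha : a ∈ A) {g : G}
    (hg : g * a * g⁻¹ ∈ A) (u : G) : u ∈ H a ↔ g * u * g⁻¹ ∈ H (g * a * g⁻¹) := by
  obtain ⟨x, hx, hxa⟩ := hD.fusion a ha g hg
  have hc := mem_centralizer_of_conj_eq hxa
  have hH : H (g * a * g⁻¹) = (H a).map (MulAut.conj x).toMonoidHom := by
    rw [← hxa]; exact Cfsg.Agent.S1498.result A L H hD a ha x hx
  rw [hH, Subgroup.mem_map]
  constructor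
  · intro hu
    refine ⟨(x⁻¹ * g) * u * (x⁻¹ * g)⁻¹, hD.conj_mem_H a ha _ hc u hu, ?_⟩
    simp only [MulEquiv.coe_toMonoidHom, MulAut.conj_apply]
    group
  · rintro ⟨w, hw, hwu⟩
    have h2 : x * w * x⁻¹ = g * u * g⁻¹ := by
      simpa only [MulEquiv.coe_toMonoidHom, MulAut.conj_apply] using hwu
    have h3 : u = (x⁻¹ * g)⁻¹ * w * ((x⁻¹ * g)⁻¹)⁻¹ := by
      have : w = x⁻¹ * (g * u * g⁻¹) * x := by rw [← h2]; group
      rw [this]; group
    rw [h3]
    exact hD.conj_mem_H a ha _ (Subgroup.inv_mem _ hc) w hw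

theorem card_H_conj (hD : DadeHypothesis A L H) {a : G} (ha : a ∈ A) {g : G}
    (hg : g * a * g⁻¹ ∈ A) : Nat.card (H (g * a * g⁻¹)) = Nat.card (H a) := by
  obtain ⟨x, hx, hxa⟩ := hD.fusion a ha g hg
  rw [← hxa, Cfsg.Agent.S1498.result A L H hD a ha x hx]
  exact Subgroup.card_map_of_injective (MulAut.conj x).injective

/-- the defining relation of the Dade map -/
def Rel (A : Set G) (L : Subgroup G) (H : G → Subgroup G) (g : G) (a : L) : Prop :=
  (a : G) ∈ A ∧ ∃ x : G, ∃ u ∈ H (a : G), x * g * x⁻¹ = (a : G) * u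

theorem dade_eq (hD : DadeHypothesis A L H) {α : L → ℂ} (hα : IsClassFunction L α) {g : G}
    {a : L} (h : Rel A L H g a) : dadeIsometry A L H α g = α a := by
  have hex : ∃ a : L, (a : G) ∈ A ∧ ∃ x : G, ∃ u ∈ H (a : G), x * g * x⁻¹ = (a : G) * u :=
    ⟨a, h⟩
  have h0 : dadeIsometry A L H α g = α (Classical.choose hex) := by
    unfold dadeIsometry
    exact dif_pos hex
  rw [h0]
  obtain ⟨ha', x', u', hu', hx'⟩ := Classical.choose_spec hex
  set a' := Classical.choose hex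
  obtain ⟨ha, x, u, hu, hx⟩ := h
  have h1 : (x * x'⁻¹) * ((a' : G) * u') * (x * x'⁻¹)⁻¹ = (a : G) * u := by
    rw [← hx', ← hx]; group
  obtain ⟨l, hl, hla⟩ := (Cfsg.Agent.S1499.result A L H hD a' a ha' ha).1 ⟨u', hu', u, hu, _, h1⟩
  have h2 : a = ⟨l, hl⟩ * a' * (⟨l, hl⟩ : L)⁻¹ := Subtype.ext (by simp [hla])
  rw [h2, hα]

theorem dade_eq_zero {α : L → ℂ} {g : G} (h : ¬ ∃ a : L, Rel A L H g a) :
    dadeIsometry A L H α g = 0 := by
  unfold dadeIsometry
  exact dif_neg h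

theorem rel_conj_iff (g y : G) (a : L) : Rel A L H (y * g * y⁻¹) a ↔ Rel A L H g a := by
  constructor
  · rintro ⟨ha, x, u, hu, hx⟩
    exact ⟨ha, x * y, u, hu, by rw [← hx]; group⟩
  · rintro ⟨ha, x, u, hu, hx⟩
    exact ⟨ha, x * y⁻¹, u, hu, by rw [← hx]; group⟩

theorem dade_isClassFunction (hD : DadeHypothesis A L H) {α : L → ℂ} (hα : IsClassFunction L α) :
    IsClassFunction G (dadeIsometry A L H α) := by
  intro g y
  by_cases h : ∃ a : L, Rel A L H g a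
  · obtain ⟨a, ha⟩ := h
    rw [dade_eq hD hα ha, dade_eq hD hα ((rel_conj_iff g y a).mpr ha)]
  · rw [dade_eq_zero h, dade_eq_zero]
    rintro ⟨a, ha⟩
    exact h ⟨a, (rel_conj_iff g y a).mp ha⟩

theorem dade_coset (hD : DadeHypothesis A L H) {α : L → ℂ} (hα : IsClassFunction L α) (a : L)
    (ha : (a : G) ∈ A) {u : G} (hu : u ∈ H (a : G)) :
    dadeIsometry A L H α ((a : G) * u) = α a :=
  dade_eq hD hα ⟨ha, 1, u, hu, by group⟩

/-- the elements conjugating `a` into `A` form `L · H a` -/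
theorem card_conj_mem (hD : DadeHypothesis A L H) {a : G} (ha : a ∈ A) :
    Nat.card {z : G // z * a * z⁻¹ ∈ A} = Nat.card L * Nat.card (H a) := by
  rw [← Nat.card_prod]
  symm
  have hcomm : ∀ u ∈ H a, u * a * u⁻¹ = a := by
    intro u hu
    have := Subgroup.mem_centralizer_iff.mp (hD.le_centralizer a ha hu) a rfl
    rw [← this]; group
  refine Nat.card_congr (Equiv.ofBijective
    (fun p : L × H a => (⟨(p.1 : G) * (p.2 : G), ?_⟩ : {z : G // z * a * z⁻¹ ∈ A})) ⟨?_, ?_⟩)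
  · have h1 : (p.1 : G) * (p.2 : G) * a * ((p.1 : G) * (p.2 : G))⁻¹ =
        (p.1 : G) * ((p.2 : G) * a * (p.2 : G)⁻¹) * (p.1 : G)⁻¹ := by group
    rw [h1, hcomm _ p.2.2]
    exact hD.conj_mem _ p.1.2 a ha
  · rintro ⟨l, u⟩ ⟨l', u'⟩ h
    have h1 : (l : G) * (u : G) = (l' : G) * (u' : G) := congrArg Subtype.val h
    have h2 : (l' : G)⁻¹ * (l : G) = (u' : G) * (u : G)⁻¹ := by
      have : (l : G) = (l' : G) * (u' : G) * (u : G)⁻¹ := by rw [← h1]; group
      rw [this]; group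
    have h3 : (u' : G) * (u : G)⁻¹ ∈ H a ⊓ (L ⊓ Subgroup.centralizer ({a} : Set G)) := by
      have hm : (u' : G) * (u : G)⁻¹ ∈ H a := (H a).mul_mem u'.2 ((H a).inv_mem u.2)
      refine ⟨hm, ?_, hD.le_centralizer a ha hm⟩
      rw [← h2]
      exact L.mul_mem (L.inv_mem l'.2) l.2
    rw [hD.inf_eq_bot a ha, Subgroup.mem_bot] at h3
    have h4 : (u' : G) = (u : G) := by
      have := mul_inv_eq_one.mp h3
      exact this
    have h5 : (l : G) = (l' : G) := by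
      rw [h4] at h1
      exact mul_right_cancel h1
    exact Prod.ext (Subtype.ext h5) (Subtype.ext h4.symm)
  · rintro ⟨z, hz⟩
    obtain ⟨l, hl, hla⟩ := hD.fusion a ha z hz
    have hc := mem_centralizer_of_conj_eq hla
    rw [← hD.sup_eq a ha] at hc
    obtain ⟨k, hk, u, hu, hku⟩ := mem_sup_decomp (H a) (L ⊓ Subgroup.centralizer ({a} : Set G))
      (fun k hk u hu => hD.conj_mem_H a ha k hk.2 u hu) hc
    refine ⟨(⟨l * k, L.mul_mem hl hk.1⟩, ⟨u, hu⟩), Subtype.ext ?_⟩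
    show l * k * u = z
    rw [mul_assoc, ← hku]; group

end fin

section sums

variable [Fintype G] [Fintype L]

open Classical in
/-- the auxiliary function supported on `⋃ a H(a)` -/
noncomputable def W (A : Set G) (L : Subgroup G) (H : G → Subgroup G) [Fintype L] (φ : L → ℂ)
    (g : G) : ℂ :=
  ∑ a : L, if (a : G) ∈ A ∧ (a : G)⁻¹ * g ∈ H (a : G) then
    φ a / (Nat.card (H (a : G)) : ℂ) else 0

open Classical in
theorem W_conj (hD : DadeHypothesis A L H) {φ : L → ℂ} (hφ : IsClassFunction L φ) (a₀ : L)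
    (ha₀ : (a₀ : G) ∈ A) {u₀ : G} (hu₀ : u₀ ∈ H (a₀ : G)) (z : G) :
    W A L H φ (z * ((a₀ : G) * u₀) * z⁻¹) =
      if z * (a₀ : G) * z⁻¹ ∈ A then φ a₀ / (Nat.card (H (a₀ : G)) : ℂ) else 0 := by
  unfold W
  by_cases hz : z * (a₀ : G) * z⁻¹ ∈ A
  · rw [if_pos hz]
    let b : L := ⟨z * (a₀ : G) * z⁻¹, hD.subset hz⟩
    rw [Finset.sum_eq_single b]
    · have hcond : (b : G) ∈ A ∧ (b : G)⁻¹ * (z * ((a₀ : G) * u₀) * z⁻¹) ∈ H (b : G) := by
        refine ⟨hz, ?_⟩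
        have h1 : (b : G)⁻¹ * (z * ((a₀ : G) * u₀) * z⁻¹) = z * u₀ * z⁻¹ := by
          show (z * (a₀ : G) * z⁻¹)⁻¹ * (z * ((a₀ : G) * u₀) * z⁻¹) = z * u₀ * z⁻¹
          group
        rw [h1]
        exact (mem_H_conj_iff hD ha₀ hz u₀).mp hu₀
      rw [if_pos hcond]
      have h2 : Nat.card (H (b : G)) = Nat.card (H (a₀ : G)) := card_H_conj hD ha₀ hz
      obtain ⟨l, hl, hla⟩ := hD.fusion _ ha₀ z hz
      have h3 : b = ⟨l, hl⟩ * a₀ * (⟨l, hl⟩ : L)⁻¹ := Subtype.ext (by simp [b, hla])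
      rw [h2, h3, hφ]
    · intro a _ hne
      rw [if_neg]
      rintro ⟨haA, hmem⟩
      apply hne
      have h1 : z * ((a₀ : G) * u₀) * z⁻¹ = (a : G) * ((a : G)⁻¹ * (z * ((a₀ : G) * u₀) * z⁻¹)) := by
        group
      have := (conj_split hD ha₀ haA hu₀ hmem h1).1
      exact Subtype.ext this.symm
    · intro h; exact absurd (Finset.mem_univ _) h
  · rw [if_neg hz]
    apply Finset.sum_eq_zero
    intro a _
    rw [if_neg]
    rintro ⟨haA, hmem⟩
    apply hz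
    have h1 : z * ((a₀ : G) * u₀) * z⁻¹ = (a : G) * ((a : G)⁻¹ * (z * ((a₀ : G) * u₀) * z⁻¹)) := by
      group
    have := (conj_split hD ha₀ haA hu₀ hmem h1).1
    rw [this]; exact haA

/-- the pointwise identity -/
theorem sum_W_conj (hD : DadeHypothesis A L H) {φ : L → ℂ} (hφ : IsClassFunction L φ) (g : G) :
    ∑ x : G, W A L H φ (x * g * x⁻¹) = (Nat.card L : ℂ) * dadeIsometry A L H φ g := by
  classical
  by_cases hex : ∃ a : L, Rel A L H g a
  · obtain ⟨a₀, ha₀, x₀, u₀, hu₀, hx₀⟩ := hex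
    rw [dade_eq hD hφ ⟨ha₀, x₀, u₀, hu₀, hx₀⟩]
    have h1 : ∑ x : G, W A L H φ (x * g * x⁻¹) =
        ∑ z : G, W A L H φ (z * ((a₀ : G) * u₀) * z⁻¹) := by
      apply Fintype.sum_equiv (Equiv.mulRight x₀⁻¹)
      intro x
      congr 1
      rw [← hx₀]
      simp only [Equiv.coe_mulRight]
      group
    rw [h1, Finset.sum_congr rfl fun z _ => W_conj hD hφ a₀ ha₀ hu₀ z, ← Finset.sum_filter,
      Finset.sum_const, nsmul_eq_mul]
    have h2 : (Finset.univ.filter fun z : G => z * (a₀ : G) * z⁻¹ ∈ A).card =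
        Nat.card L * Nat.card (H (a₀ : G)) := by
      rw [← card_conj_mem hD ha₀, Nat.card_eq_fintype_card, Fintype.card_subtype]
    rw [h2]
    have h3 : (Nat.card (H (a₀ : G)) : ℂ) ≠ 0 := by
      have : 0 < Nat.card (H (a₀ : G)) := Nat.card_pos
      exact_mod_cast this.ne'
    push_cast
    field_simp
  · rw [dade_eq_zero hex, mul_zero]
    apply Finset.sum_eq_zero
    intro x _
    unfold W
    apply Finset.sum_eq_zero
    intro a _
    rw [if_neg]
    rintro ⟨haA, hmem⟩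
    exact hex ⟨a, haA, x, _, hmem, by group⟩

open Classical in
/-- the basic counting formula for the Dade map -/
theorem sum_dade_mul (hD : DadeHypothesis A L H) {φ : L → ℂ} (hφ : IsClassFunction L φ)
    {Φ : G → ℂ} (hΦ : IsClassFunction G Φ) :
    (Nat.card L : ℂ) * ∑ g : G, dadeIsometry A L H φ g * Φ g =
      (Nat.card G : ℂ) * ∑ a : L, if (a : G) ∈ A then
        φ a * ((Nat.card (H (a : G)) : ℂ)⁻¹ * ∑ᶠ u ∈ (H (a : G) : Set G), Φ ((a : G) * u)) else 0 := by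
  classical
  have h1 : (Nat.card L : ℂ) * ∑ g : G, dadeIsometry A L H φ g * Φ g =
      ∑ x : G, ∑ g : G, W A L H φ (x * g * x⁻¹) * Φ (x * g * x⁻¹) := by
    rw [Finset.mul_sum, Finset.sum_comm]
    refine Finset.sum_congr rfl fun g _ => ?_
    rw [← mul_assoc, ← sum_W_conj hD hφ g, Finset.sum_mul]
    refine Finset.sum_congr rfl fun x _ => ?_
    rw [hΦ g x]
  have h2 : ∀ x : G, ∑ g : G, W A L H φ (x * g * x⁻¹) * Φ (x * g * x⁻¹) =
      ∑ g : G, W A L H φ g * Φ g := by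
    intro x
    apply Fintype.sum_equiv (MulAut.conj x).toEquiv
    intro g
    simp [MulAut.conj_apply]
  rw [h1, Finset.sum_congr rfl fun x _ => h2 x, Finset.sum_const, Finset.card_univ, nsmul_eq_mul,
    Nat.card_eq_fintype_card]
  congr 1
  -- now compute `∑ g, W g Φ g`
  unfold W
  simp only [Finset.sum_mul]
  rw [Finset.sum_comm]
  refine Finset.sum_congr rfl fun a _ => ?_
  by_cases haA : (a : G) ∈ A
  · rw [if_pos haA]
    have h3 : ∑ᶠ u ∈ (H (a : G) : Set G), Φ ((a : G) * u) =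
        ∑ g : G, if (a : G)⁻¹ * g ∈ H (a : G) then Φ g else 0 := by
      have h3a : ∑ᶠ u ∈ (H (a : G) : Set G), Φ ((a : G) * u) =
          ∑ u ∈ Finset.univ.filter (fun u : G => u ∈ H (a : G)), Φ ((a : G) * u) := by
        apply finsum_mem_eq_sum_of_inter_support_eq
        ext x
        simp
      rw [h3a, Finset.sum_filter]
      apply Fintype.sum_equiv (Equiv.mulLeft (a : G))
      intro u
      simp only [Equiv.coe_mulLeft, SetLike.mem_coe, inv_mul_cancel_left]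
    rw [h3, Finset.mul_sum, Finset.mul_sum]
    refine Finset.sum_congr rfl fun g _ => ?_
    by_cases hg : (a : G)⁻¹ * g ∈ H (a : G)
    · rw [if_pos ⟨haA, hg⟩, if_pos hg]
      ring
    · rw [if_neg (fun h => hg h.2), if_neg hg]
      simp
  · rw [if_neg haA]
    apply Finset.sum_eq_zero
    intro g _
    rw [if_neg (fun h => haA h.1), zero_mul]

end sums

end Cfsg.Agent.Lib.Helper3.Dade
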