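import Mathlib
import Cfsg.Prelude.Def_Characters
import Cfsg.Agent.Lib.Helper75.Clifford

set_option autoImplicit false

namespace Cfsg.Agent.Lib.Helper3

open Cfsg
open scoped ComplexConjugate

section trans

variable {G : Type*} [Group G] [Fintype G]

theorem card_ne_zero_complex' {X : Type*} [Finite X] [Nonempty X] : (Nat.card X : ℂ) ≠ 0 := by
  have : Nat.card X ≠ 0 := Nat.card_pos.ne'
  exact_mod_cast this

omit [Fintype G] in
/-- extension by zero from `H.subgroupOf K` agrees with extension by zero from `H`. -/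
theorem extendByZero_subgroupOf (H K : Subgroup G) (θ : H → ℂ) (z : K) :
    extendByZero (H.subgroupOf K)
      (fun x => θ ⟨(x : K), Subgroup.mem_subgroupOf.mp x.2⟩) z = extendByZero H θ (z : G) := by
  by_cases hz : (z : G) ∈ H
  · have hz' : z ∈ H.subgroupOf K := Subgroup.mem_subgroupOf.mpr hz
    rw [Cfsg.Agent.Lib.Helper75.extendByZero_of_mem _ _ hz',
      Cfsg.Agent.Lib.Helper75.extendByZero_of_mem _ _ hz]
  · have hz' : z ∉ H.subgroupOf K := fun h => hz (Subgroup.mem_subgroupOf.mp h)
    rw [Cfsg.Agent.Lib.Helper75.extendByZero_of_not_mem _ _ hz',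
      Cfsg.Agent.Lib.Helper75.extendByZero_of_not_mem _ _ hz]

/-- Transitivity of induction. -/
theorem indFun_trans (H K : Subgroup G) [Fintype K] (hHK : H ≤ K) (θ : H → ℂ) :
    indFun K (indFun (H.subgroupOf K)
      (fun x => θ ⟨(x : K), Subgroup.mem_subgroupOf.mp x.2⟩)) = indFun H θ := by
  classical
  ext g
  have hcardH : Nat.card (H.subgroupOf K) = Nat.card H :=
    Nat.card_congr (Subgroup.subgroupOfEquivOfLe hHK).toEquiv
  -- inner function on `K`
  have hinner : ∀ k : K, indFun (H.subgroupOf K)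
      (fun x => θ ⟨(x : K), Subgroup.mem_subgroupOf.mp x.2⟩) k =
      (Nat.card H : ℂ)⁻¹ * ∑ y : K, extendByZero H θ ((y : G)⁻¹ * (k : G) * (y : G)) := by
    intro k
    unfold indFun
    rw [hcardH]
    congr 1
    refine Finset.sum_congr rfl fun y _ => ?_
    rw [extendByZero_subgroupOf]
    rfl
  -- extension by zero of the inner function to `G`
  have hext : ∀ z : G, extendByZero K (indFun (H.subgroupOf K)
      (fun x => θ ⟨(x : K), Subgroup.mem_subgroupOf.mp x.2⟩)) z =
      (Nat.card H : ℂ)⁻¹ * ∑ y : K, extendByZero H θ ((y : G)⁻¹ * z * (y : G)) := by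
    intro z
    by_cases hz : z ∈ K
    · rw [Cfsg.Agent.Lib.Helper75.extendByZero_of_mem _ _ hz, hinner]
    · rw [Cfsg.Agent.Lib.Helper75.extendByZero_of_not_mem _ _ hz]
      have : ∀ y : K, extendByZero H θ ((y : G)⁻¹ * z * (y : G)) = 0 := by
        intro y
        apply Cfsg.Agent.Lib.Helper75.extendByZero_of_not_mem
        intro hmem
        apply hz
        have h1 : (y : G)⁻¹ * z * (y : G) ∈ K := hHK hmem
        have h2 : (y : G) * ((y : G)⁻¹ * z * (y : G)) * (y : G)⁻¹ ∈ K :=
          K.mul_mem (K.mul_mem y.2 h1) (K.inv_mem y.2)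
        have h3 : (y : G) * ((y : G)⁻¹ * z * (y : G)) * (y : G)⁻¹ = z := by group
        rwa [h3] at h2
      rw [Finset.sum_congr rfl fun y _ => this y]
      simp
  show (Nat.card K : ℂ)⁻¹ * ∑ x : G, extendByZero K _ (x⁻¹ * g * x) = indFun H θ g
  rw [Finset.sum_congr rfl fun x _ => hext (x⁻¹ * g * x), ← Finset.mul_sum, Finset.sum_comm]
  have hswap : ∀ y : K, ∑ x : G, extendByZero H θ ((y : G)⁻¹ * (x⁻¹ * g * x) * (y : G)) =
      ∑ x : G, extendByZero H θ (x⁻¹ * g * x) := by
    intro y
    refine Fintype.sum_equiv (Equiv.mulRight (y : G)) _ _ fun x => ?_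
    simp only [Equiv.coe_mulRight, mul_inv_rev]
    congr 1
    group
  rw [Finset.sum_congr rfl fun y _ => hswap y, Finset.sum_const, Finset.card_univ,
    nsmul_eq_mul, ← Nat.card_eq_fintype_card]
  unfold indFun
  have hK : (Nat.card K : ℂ) ≠ 0 := card_ne_zero_complex'
  field_simp

end trans

section TI

variable {G : Type*} [Group G] [Fintype G]

/-- Induction from the normalizer of a TI-set agrees with the original function on the
nonidentity elements of the TI-set. -/
theorem indFun_TI (T : Set G)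
    (hTI : ∀ g : G, g ∉ Subgroup.normalizer T → ∀ t ∈ T, g * t * g⁻¹ ∈ T → t = 1)
    (ψ : Subgroup.normalizer T → ℂ) (hψ : IsClassFunction (Subgroup.normalizer T) ψ)
    (hψT : ∀ x : Subgroup.normalizer T, (x : G) ∉ T → ψ x = 0)
    (t : Subgroup.normalizer T) (htT : (t : G) ∈ T) (ht1 : t ≠ 1) :
    indFun (Subgroup.normalizer T) ψ t = ψ t := by
  classical
  unfold indFun
  have hterm : ∀ x : G, extendByZero (Subgroup.normalizer T) ψ (x⁻¹ * (t : G) * x) =
      if x ∈ Subgroup.normalizer T then ψ t else 0 := by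
    intro x
    by_cases hx : x ∈ Subgroup.normalizer T
    · rw [if_pos hx]
      have hmem : x⁻¹ * (t : G) * x ∈ Subgroup.normalizer T :=
        (Subgroup.normalizer T).mul_mem ((Subgroup.normalizer T).mul_mem
          ((Subgroup.normalizer T).inv_mem hx) t.2) hx
      rw [Cfsg.Agent.Lib.Helper75.extendByZero_of_mem _ _ hmem]
      have := hψ t (⟨x, hx⟩⁻¹ : Subgroup.normalizer T)
      rw [← this]
      congr 1
      apply Subtype.ext
      simp
    · rw [if_neg hx]
      by_cases hmem : x⁻¹ * (t : G) * x ∈ Subgroup.normalizer T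
      · rw [Cfsg.Agent.Lib.Helper75.extendByZero_of_mem _ _ hmem]
        apply hψT
        intro hT
        have hx' : x⁻¹ ∉ Subgroup.normalizer T := fun h => hx (by
          have := (Subgroup.normalizer T).inv_mem h
          simpa using this)
        have h1 := hTI x⁻¹ hx' (t : G) htT (by simpa using hT)
        apply ht1
        exact Subtype.ext h1
      · exact Cfsg.Agent.Lib.Helper75.extendByZero_of_not_mem _ _ hmem
  rw [Finset.sum_congr rfl fun x _ => hterm x, Finset.sum_ite, Finset.sum_const_zero, add_zero,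
    Finset.sum_const, nsmul_eq_mul]
  have hcard : ((Finset.univ.filter (fun x : G => x ∈ Subgroup.normalizer T)).card : ℂ) =
      (Nat.card (Subgroup.normalizer T) : ℂ) := by
    congr 1
    rw [Nat.card_eq_fintype_card, Fintype.card_subtype]
  rw [hcard]
  have hN : (Nat.card (Subgroup.normalizer T) : ℂ) ≠ 0 := card_ne_zero_complex'
  field_simp

/-- Inner products of functions induced from the normalizer of a TI-set. -/
theorem classInner_indFun_TI (T : Set G)
    (hTI : ∀ g : G, g ∉ Subgroup.normalizer T → ∀ t ∈ T, g * t * g⁻¹ ∈ T → t = 1)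
    [Fintype (Subgroup.normalizer T)]
    (ψ θ : Subgroup.normalizer T → ℂ)
    (hθ : IsClassFunction (Subgroup.normalizer T) θ)
    (hψT : ∀ x : Subgroup.normalizer T, (x : G) ∉ T → ψ x = 0)
    (hθT : ∀ x : Subgroup.normalizer T, (x : G) ∉ T → θ x = 0) (hψ1 : ψ 1 = 0) :
    classInner (indFun (Subgroup.normalizer T) ψ) (indFun (Subgroup.normalizer T) θ) =
      classInner ψ θ := by
  rw [Cfsg.Agent.Lib.Helper75.frobenius_reciprocity _ ψ
    (Cfsg.Agent.Lib.Helper75.isClassFunction_indFun _ θ)]
  unfold classInner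
  congr 1
  refine Finset.sum_congr rfl fun n _ => ?_
  by_cases hn : (n : G) ∈ T
  · by_cases hn1 : n = 1
    · rw [hn1, hψ1, zero_mul, zero_mul]
    · simp only
      rw [indFun_TI T hTI θ hθ hθT n hn hn1]
  · rw [hψT n hn, zero_mul, zero_mul]

end TI

end Cfsg.Agent.Lib.Helper3
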