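import Mathlib
import Cfsg.Prelude.Def_Characters
import Cfsg.Agent.Lib.Helper3.IrrBasis

set_option autoImplicit false

namespace Cfsg.Agent.Lib.Helper3

open Module Representation
open scoped ComplexConjugate

section classsize

variable {G : Type*} [Group G] [Finite G]

/-- Orbit-stabilizer for conjugacy classes. -/
theorem card_isConj_mul_card_centralizer (h : G) :
    Nat.card {g : G // IsConj h g} * Nat.card (Subgroup.centralizer ({h} : Set G)) =
      Nat.card G := by
  classical
  have : Fintype G := Fintype.ofFinite G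
  rw [Subgroup.nat_card_centralizer_nat_card_stabilizer]
  have h1 := MulAction.card_orbit_mul_card_stabilizer_eq_card_group (ConjAct G) h
  have h2 : Nat.card {g : G // IsConj h g} = Nat.card (MulAction.orbit (ConjAct G) h) := by
    apply Nat.card_congr
    refine Equiv.subtypeEquivRight fun g => ?_
    rw [ConjAct.mem_orbit_conjAct, isConj_comm]
  rw [h2, Nat.card_eq_fintype_card, Nat.card_eq_fintype_card, h1, Nat.card_eq_fintype_card]
  exact Fintype.card_congr ConjAct.ofConjAct.toEquiv

theorem card_isConj_eq_index (h : G) :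
    Nat.card {g : G // IsConj h g} = (Subgroup.centralizer ({h} : Set G)).index := by
  have h1 := card_isConj_mul_card_centralizer h
  have h2 := (Subgroup.centralizer ({h} : Set G)).index_mul_card
  have hpos : 0 < Nat.card (Subgroup.centralizer ({h} : Set G)) := Nat.card_pos
  exact Nat.eq_of_mul_eq_mul_right hpos (h1.trans h2.symm)

end classsize

section colorth

variable {G : Type*} [Group G] [Fintype G]

open scoped Classical in
theorem sum_ite_isConj (h : G) (F : G → ℂ) (hF : Cfsg.IsClassFunction G F) :
    ∑ g : G, (if IsConj h g then F g else 0) = (Nat.card {g : G // IsConj h g} : ℂ) * F h := by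
  rw [← Finset.sum_filter]
  have : ∀ g ∈ Finset.univ.filter (fun g => IsConj h g), F g = F h := fun g hg => by
    rw [Finset.mem_filter] at hg
    exact (isClassFunction_iff_isConj.mp hF h g hg.2).symm
  rw [Finset.sum_congr rfl this, Finset.sum_const, nsmul_eq_mul]
  congr 2
  rw [Nat.card_eq_fintype_card, Fintype.card_subtype]

open scoped Classical in
theorem isClassFunction_indicator (h : G) :
    Cfsg.IsClassFunction G (fun g => if IsConj h g then (1 : ℂ) else 0) := by
  rw [isClassFunction_iff_isConj]
  intro a b hab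
  by_cases hha : IsConj h a
  · rw [if_pos hha, if_pos (hha.trans hab)]
  · rw [if_neg hha, if_neg]
    intro hhb
    exact hha (hhb.trans hab.symm)

open scoped Classical in
theorem classInner_indicator (h : G) (χ : G → ℂ) (hχ : Cfsg.IsClassFunction G χ) :
    Cfsg.classInner (fun g => if IsConj h g then (1 : ℂ) else 0) χ =
      (Nat.card G : ℂ)⁻¹ * ((Nat.card {g : G // IsConj h g} : ℂ) * conj (χ h)) := by
  unfold Cfsg.classInner
  congr 1
  have hc : Cfsg.IsClassFunction G (fun g => conj (χ g)) := fun g x => by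
    simp only; rw [hχ g x]
  rw [← sum_ite_isConj h (fun g => conj (χ g)) hc]
  refine Finset.sum_congr rfl fun g _ => ?_
  by_cases hg : IsConj h g
  · simp only [if_pos hg, one_mul]
  · simp only [if_neg hg, zero_mul]

open scoped Classical in
/-- Column orthogonality (second orthogonality relation). -/
theorem column_orthogonality [Fintype (Cfsg.IrrCharacter G)] (g h : G) :
    ∑ χ : Cfsg.IrrCharacter G, (χ : G → ℂ) g * conj ((χ : G → ℂ) h) =
      if IsConj g h then (Nat.card (Subgroup.centralizer ({g} : Set G)) : ℂ) else 0 := by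
  have hexp := classFunction_expansion _ (isClassFunction_indicator g)
  have h1 := congrFun hexp h
  simp only [Finset.sum_apply, Pi.smul_apply, smul_eq_mul] at h1
  have h2 : ∀ χ : Cfsg.IrrCharacter G,
      Cfsg.classInner (fun x => if IsConj g x then (1 : ℂ) else 0) (χ : G → ℂ) * (χ : G → ℂ) h =
      (Nat.card G : ℂ)⁻¹ * (Nat.card {x : G // IsConj g x} : ℂ) *
        (conj ((χ : G → ℂ) g) * (χ : G → ℂ) h) := fun χ => by
    rw [classInner_indicator g _ (IsIrrCharacter.isClassFunction χ.2)]
    ring
  rw [Finset.sum_congr rfl fun χ _ => h2 χ, ← Finset.mul_sum] at h1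
  have hcard := card_isConj_mul_card_centralizer g
  have hcard' : (Nat.card {x : G // IsConj g x} : ℂ) *
      (Nat.card (Subgroup.centralizer ({g} : Set G)) : ℂ) = (Nat.card G : ℂ) := by
    exact_mod_cast hcard
  have hG : (Nat.card G : ℂ) ≠ 0 := card_ne_zero_complex
  have hcl : (Nat.card {x : G // IsConj g x} : ℂ) ≠ 0 := by
    intro h0
    rw [h0, zero_mul] at hcard'
    exact hG hcard'.symm
  -- conjugate h1
  have h3 := congrArg conj h1
  rw [map_mul, map_mul, map_inv₀, Complex.conj_natCast, Complex.conj_natCast, map_sum] at h3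
  have h4 : ∑ χ : Cfsg.IrrCharacter G, conj (conj ((χ : G → ℂ) g) * (χ : G → ℂ) h) =
      ∑ χ : Cfsg.IrrCharacter G, (χ : G → ℂ) g * conj ((χ : G → ℂ) h) :=
    Finset.sum_congr rfl fun χ _ => by rw [map_mul, Complex.conj_conj]
  rw [h4] at h3
  have h5 : ∑ χ : Cfsg.IrrCharacter G, (χ : G → ℂ) g * conj ((χ : G → ℂ) h) =
      (Nat.card (Subgroup.centralizer ({g} : Set G)) : ℂ) *
        conj (if IsConj g h then (1 : ℂ) else 0) := by
    rw [h3, ← hcard']
    field_simp
  rw [h5]
  split_ifs <;> simp

omit [Fintype G] in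
theorem irrCharacter_one_conj (χ : Cfsg.IrrCharacter G) :
    conj ((χ : G → ℂ) 1) = (χ : G → ℂ) 1 := by
  obtain ⟨n, ρ, _, hρ⟩ := χ.2
  rw [← hρ, char_one, Complex.conj_natCast]

/-- Sum of squares of the degrees. -/
theorem sum_sq_degrees [Fintype (Cfsg.IrrCharacter G)] :
    ∑ χ : Cfsg.IrrCharacter G, (χ : G → ℂ) 1 ^ 2 = (Nat.card G : ℂ) := by
  classical
  have h := column_orthogonality (G := G) 1 1
  rw [if_pos (IsConj.refl 1)] at h
  have h2 : Subgroup.centralizer ({1} : Set G) = ⊤ := by
    ext x; simp [Subgroup.mem_centralizer_iff]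
  rw [h2, Subgroup.card_top] at h
  rw [← h]
  refine Finset.sum_congr rfl fun χ _ => ?_
  rw [irrCharacter_one_conj, sq]

/-- Irreducible characters separate conjugacy classes. -/
theorem isConj_iff_irrCharacter (g h : G) :
    IsConj g h ↔ ∀ χ : Cfsg.IrrCharacter G, (χ : G → ℂ) g = (χ : G → ℂ) h := by
  classical
  have : Fintype (Cfsg.IrrCharacter G) := Fintype.ofFinite _
  constructor
  · intro hgh χ
    exact isClassFunction_iff_isConj.mp (IsIrrCharacter.isClassFunction χ.2) g h hgh
  · intro hall
    by_contra hne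
    have h1 := column_orthogonality g h
    rw [if_neg hne] at h1
    have h2 := column_orthogonality h h
    rw [if_pos (IsConj.refl h)] at h2
    have h3 : ∑ χ : Cfsg.IrrCharacter G, (χ : G → ℂ) g * conj ((χ : G → ℂ) h) =
        ∑ χ : Cfsg.IrrCharacter G, (χ : G → ℂ) h * conj ((χ : G → ℂ) h) :=
      Finset.sum_congr rfl fun χ _ => by rw [hall χ]
    rw [h3, h2] at h1
    have : Nat.card (Subgroup.centralizer ({h} : Set G)) ≠ 0 := Nat.card_pos.ne'
    exact this (by exact_mod_cast h1)

end colorth

end Cfsg.Agent.Lib.Helper3
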