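import Mathlib
import Cfsg.Prelude.Def_Characters
import Cfsg.Agent.Lib.Helper3.ColOrth

set_option autoImplicit false

namespace Cfsg.Agent.Lib.Helper3

open Module Representation
open scoped ComplexConjugate MonoidAlgebra

section integrality

variable {G : Type*} [Group G] [Fintype G] {V : Type*} [AddCommGroup V] [Module ℂ V]
  (ρ : Representation ℂ G V)

/-- For an integer-valued function `c`, the operator `∑ g, c g • ρ g` is integral over `ℤ`. -/
theorem isIntegral_avgMap_int (c : G → ℤ) :
    IsIntegral ℤ (avgMap ρ (fun g => (c g : ℂ))) := by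
  let F : ℤ[G] →ₐ[ℤ] Module.End ℂ V := MonoidAlgebra.lift ℤ (Module.End ℂ V) G ρ
  let z : ℤ[G] := ∑ g : G, MonoidAlgebra.single g (c g)
  have hz : IsIntegral ℤ z := IsIntegral.of_finite ℤ z
  have hF : F z = avgMap ρ (fun g => (c g : ℂ)) := by
    simp only [F, z, map_sum, MonoidAlgebra.lift_single, avgMap]
    refine Finset.sum_congr rfl fun g _ => ?_
    rw [Int.cast_smul_eq_zsmul]
  rw [← hF]
  exact IsIntegral.map (R := ℤ) (A := ℤ) F hz

open scoped Classical in
/-- For an irreducible representation, `|cl(g)| χ(g) / χ(1)` is an algebraic integer. -/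
theorem isIntegral_centralCharacter [FiniteDimensional ℂ V] [ρ.IsIrreducible] (g : G) :
    IsIntegral ℤ (((Subgroup.centralizer ({g} : Set G)).index : ℂ) * ρ.character g /
      (finrank ℂ V : ℂ)) := by
  have hc : Cfsg.IsClassFunction G (fun x => ((if IsConj g x then (1 : ℤ) else 0 : ℤ) : ℂ)) := by
    have := isClassFunction_indicator g
    convert this using 2
    split_ifs <;> simp
  have h1 := avgMap_eq_smul_of_isIrreducible ρ _ hc
  have h2 : ∑ x : G, ((if IsConj g x then (1 : ℤ) else 0 : ℤ) : ℂ) * ρ.character x =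
      ((Subgroup.centralizer ({g} : Set G)).index : ℂ) * ρ.character g := by
    rw [← card_isConj_eq_index, ← sum_ite_isConj g ρ.character (fun a b => char_conj ρ a b)]
    refine Finset.sum_congr rfl fun x _ => ?_
    split_ifs <;> simp
  rw [h2] at h1
  have h3 := isIntegral_avgMap_int ρ (fun x => if IsConj g x then (1 : ℤ) else 0)
  rw [h1] at h3
  have hV : Nontrivial V := Module.finrank_pos_iff.mp (finrank_pos_of_isIrreducible ρ)
  have hinj : Function.Injective (algebraMap ℂ (Module.End ℂ V)) :=
    FaithfulSMul.algebraMap_injective ℂ (Module.End ℂ V)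
  rw [← isIntegral_algebraMap_iff hinj]
  convert h3 using 1
  rw [Algebra.algebraMap_eq_smul_one]
  rfl

/-- For a function `c` with algebraic integer values, the operator `∑ g, c g • ρ g` is integral
over `ℤ`. -/
theorem isIntegral_avgMap_of_isIntegral (c : G → ℂ) (hc : ∀ g, IsIntegral ℤ (c g)) :
    IsIntegral ℤ (avgMap ρ c) := by
  let R := integralClosure ℤ ℂ
  let c' : G → R := fun g => ⟨c g, hc g⟩
  let F : R[G] →ₐ[R] Module.End ℂ V := MonoidAlgebra.lift R (Module.End ℂ V) G ρ
  let z : R[G] := ∑ g : G, MonoidAlgebra.single g (c' g)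
  have hz : IsIntegral R z := IsIntegral.of_finite R z
  have hF : F z = avgMap ρ c := by
    simp only [F, z, map_sum, MonoidAlgebra.lift_single, avgMap]
    refine Finset.sum_congr rfl fun g _ => ?_
    rfl
  rw [← hF]
  have h1 : IsIntegral R (F z) := IsIntegral.map (R := R) (A := R) F hz
  exact isIntegral_trans (R := ℤ) (A := R) _ h1

/-- If `ω • id` is integral over `ℤ` on a nontrivial space then `ω` is an algebraic integer. -/
theorem isIntegral_of_isIntegral_smul_id [Nontrivial V] (ω : ℂ)
    (h : IsIntegral ℤ (ω • (LinearMap.id : V →ₗ[ℂ] V))) : IsIntegral ℤ ω := by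
  have hinj : Function.Injective (algebraMap ℂ (Module.End ℂ V)) :=
    FaithfulSMul.algebraMap_injective ℂ (Module.End ℂ V)
  rw [← isIntegral_algebraMap_iff hinj]
  convert h using 1
  rw [Algebra.algebraMap_eq_smul_one]
  rfl

/-- A rational number (as a complex number) which is an algebraic integer is an integer. -/
theorem exists_int_of_isIntegral_ratCast (q : ℚ) (h : IsIntegral ℤ (q : ℂ)) :
    ∃ n : ℤ, (n : ℚ) = q := by
  have h1 : IsIntegral ℤ q := by
    have hinj : Function.Injective (algebraMap ℚ ℂ) := (algebraMap ℚ ℂ).injective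
    rw [← isIntegral_algebraMap_iff hinj]
    simpa using h
  obtain ⟨n, hn⟩ := IsIntegrallyClosed.algebraMap_eq_of_integral h1
  exact ⟨n, by simpa using hn⟩

/-- The degree of an irreducible representation divides the group order. -/
theorem finrank_dvd_card [FiniteDimensional ℂ V] [ρ.IsIrreducible] :
    finrank ℂ V ∣ Nat.card G := by
  have hV : Nontrivial V := Module.finrank_pos_iff.mp (finrank_pos_of_isIrreducible ρ)
  have hpos := finrank_pos_of_isIrreducible ρ
  -- class function `conj χ`
  have hc : Cfsg.IsClassFunction G (fun g => conj (ρ.character g)) := fun a b => by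
    simp only; rw [char_conj]
  have h1 := avgMap_eq_smul_of_isIrreducible ρ _ hc
  have h2 : ∑ g : G, conj (ρ.character g) * ρ.character g = (Nat.card G : ℂ) := by
    have h3 := classInner_irreducible ρ ρ
    rw [if_pos ⟨Representation.Equiv.refl ρ⟩] at h3
    unfold Cfsg.classInner at h3
    have hG : (Nat.card G : ℂ) ≠ 0 := card_ne_zero_complex
    have h4 : ∑ g : G, ρ.character g * conj (ρ.character g) = (Nat.card G : ℂ) := by
      field_simp at h3
      exact h3
    rw [← h4]
    exact Finset.sum_congr rfl fun g _ => mul_comm _ _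
  rw [h2] at h1
  have h3 := isIntegral_avgMap_of_isIntegral ρ (fun g => conj (ρ.character g)) (fun g => by
    rw [← character_inv]
    exact isIntegral_character ρ g⁻¹)
  rw [h1] at h3
  have h4 := isIntegral_of_isIntegral_smul_id _ h3
  have h5 : ((Nat.card G : ℂ) / (finrank ℂ V : ℂ)) = (((Nat.card G : ℚ) / (finrank ℂ V : ℚ) : ℚ) : ℂ) := by
    push_cast; rfl
  rw [h5] at h4
  obtain ⟨n, hn⟩ := exists_int_of_isIntegral_ratCast _ h4
  have hq : (finrank ℂ V : ℚ) ≠ 0 := by exact_mod_cast hpos.ne'
  have h6 : (Nat.card G : ℚ) = (finrank ℂ V : ℚ) * (n : ℚ) := by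
    rw [hn]; field_simp
  have h7 : (Nat.card G : ℤ) = (finrank ℂ V : ℤ) * n := by exact_mod_cast h6
  have h8 : (finrank ℂ V : ℤ) ∣ (Nat.card G : ℤ) := ⟨n, h7⟩
  exact_mod_cast h8

end integrality

end Cfsg.Agent.Lib.Helper3
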