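import Mathlib
import Cfsg.Prelude.Def_Characters
import Cfsg.Agent.Lib.Helper25.LinChar

/-!
# Linear characters of finite abelian groups: column orthogonality (helper3)
-/

set_option autoImplicit false

namespace Cfsg.Agent.Lib.Helper3

open Cfsg
open scoped ComplexConjugate

/-- the (finite) set of linear characters of a finite group is a fintype -/
noncomputable instance homUnitsFintype (C : Type*) [Group C] [Finite C] : Fintype (C →* ℂˣ) :=
  Fintype.ofFinite _

section

variable {C : Type*} [Group C] [Finite C]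

theorem hom_conj (μ : C →* ℂˣ) (x : C) : conj (μ x : ℂ) = (μ x⁻¹ : ℂ) := by
  rw [Cfsg.Agent.Lib.Helper25.lin_conj, MonoidHom.inv_apply, map_inv]

theorem hom_pow_card (μ : C →* ℂˣ) (x : C) : (μ x : ℂ) ^ Nat.card C = 1 := by
  rw [← Units.val_pow_eq_pow_val, ← map_pow, pow_card_eq_one', map_one, Units.val_one]

theorem exists_hom_apply_ne_one (hcomm : ∀ a b : C, a * b = b * a) {c : C} (hc : c ≠ 1) :
    ∃ φ : C →* ℂˣ, φ c ≠ 1 := by
  letI : CommGroup C := { ‹Group C› with mul_comm := hcomm }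
  have hne : NeZero ((Monoid.exponent C : ℕ) : ℂ) := by
    constructor
    have : Monoid.exponent C ≠ 0 := Monoid.exponent_ne_zero_of_finite
    exact_mod_cast this
  exact CommGroup.exists_apply_ne_one_of_hasEnoughRootsOfUnity C ℂ hc

theorem card_hom_units (hcomm : ∀ a b : C, a * b = b * a) :
    Nat.card (C →* ℂˣ) = Nat.card C := by
  letI : CommGroup C := { ‹Group C› with mul_comm := hcomm }
  have hne : NeZero ((Monoid.exponent C : ℕ) : ℂ) := by
    constructor
    have : Monoid.exponent C ≠ 0 := Monoid.exponent_ne_zero_of_finite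
    exact_mod_cast this
  exact CommGroup.card_monoidHom_of_hasEnoughRootsOfUnity C ℂ

theorem sum_hom_apply_eq_zero (hcomm : ∀ a b : C, a * b = b * a) {c : C} (hc : c ≠ 1) :
    ∑ μ : C →* ℂˣ, (μ c : ℂ) = 0 := by
  obtain ⟨φ, hφ⟩ := exists_hom_apply_ne_one hcomm hc
  have h1 : ∑ μ : C →* ℂˣ, (μ c : ℂ) = (φ c : ℂ) * ∑ μ : C →* ℂˣ, (μ c : ℂ) := by
    rw [Finset.mul_sum]
    symm
    apply Fintype.sum_equiv (Equiv.mulLeft φ)
    intro μ
    simp [MonoidHom.mul_apply]
  have h2 : ((φ c : ℂ) - 1) * ∑ μ : C →* ℂˣ, (μ c : ℂ) = 0 := by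
    rw [sub_mul, one_mul, ← h1, sub_self]
  rcases mul_eq_zero.mp h2 with h3 | h3
  · exfalso
    apply hφ
    ext
    simpa [sub_eq_zero] using h3
  · exact h3

open Classical in
/-- column orthogonality for the linear characters of a finite abelian group -/
theorem sum_hom_mul_conj (hcomm : ∀ a b : C, a * b = b * a) (c x : C) :
    ∑ μ : C →* ℂˣ, (μ c : ℂ) * conj (μ x : ℂ) = if c = x then (Nat.card C : ℂ) else 0 := by
  have h1 : ∀ μ : C →* ℂˣ, (μ c : ℂ) * conj (μ x : ℂ) = (μ (c * x⁻¹) : ℂ) := by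
    intro μ
    rw [hom_conj, map_mul, Units.val_mul]
  rw [Finset.sum_congr rfl (fun μ _ => h1 μ)]
  by_cases hcx : c = x
  · subst hcx
    rw [if_pos rfl]
    simp only [mul_inv_cancel, map_one, Units.val_one, Finset.sum_const, Finset.card_univ,
      nsmul_eq_mul, mul_one]
    rw [← Nat.card_eq_fintype_card, card_hom_units hcomm]
  · rw [if_neg hcx]
    apply sum_hom_apply_eq_zero hcomm
    intro h
    apply hcx
    rw [mul_inv_eq_one] at h
    exact h

end

end Cfsg.Agent.Lib.Helper3
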