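import Mathlib
import Cfsg.Prelude.Def_Characters

/-!
# Elementary groups (helper3)
-/

set_option autoImplicit false

namespace Cfsg.Agent.Lib.Helper3

open Cfsg

section

variable {G : Type*} [Group G]

/-- a subgroup generated by a central element is normal -/
theorem zpowers_normal_of_mem_center {x : G} (hx : x ∈ Subgroup.center G) :
    (Subgroup.zpowers x).Normal := by
  constructor
  intro z hz g
  have hz' : z ∈ Subgroup.center G :=
    (Subgroup.zpowers_le.mpr hx) hz
  have : g * z * g⁻¹ = z := by
    rw [Subgroup.mem_center_iff] at hz'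
    rw [hz' g, mul_assoc, mul_inv_cancel, mul_one]
  rw [this]
  exact hz

/-- `⟨x⟩ P` is `p`-elementary if `x` is `p`-regular and the `p`-subgroup `P` centralizes `x` -/
theorem isElementary_zpowers_sup [Finite G] {p : ℕ} (hp : p.Prime) (x : G)
    (hx : (orderOf x).Coprime p) (P : Subgroup G) (hP : IsPGroup p P)
    (hPx : ∀ u ∈ P, u * x = x * u) : IsElementary p ↥(Subgroup.zpowers x ⊔ P) := by
  haveI : Fact p.Prime := ⟨hp⟩
  set H := Subgroup.zpowers x ⊔ P with hH
  have hxH : x ∈ H := Subgroup.mem_sup_left (Subgroup.mem_zpowers x)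
  have hcent : H ≤ Subgroup.centralizer {x} := by
    apply sup_le
    · apply Subgroup.zpowers_le.mpr
      rw [Subgroup.mem_centralizer_iff]
      intro y hy
      rw [Set.mem_singleton_iff.mp hy]
    · intro u hu
      rw [Subgroup.mem_centralizer_iff]
      intro y hy
      rw [Set.mem_singleton_iff.mp hy]
      exact (hPx u hu).symm
  refine ⟨⟨x, hxH⟩, ?_, ?_, ?_⟩
  · rw [Subgroup.mem_center_iff]
    intro h
    apply Subtype.ext
    have := hcent h.2
    rw [Subgroup.mem_centralizer_iff] at this
    exact (this x rfl).symm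
  · rw [Subgroup.orderOf_mk]
    exact hx
  · have hcen : (⟨x, hxH⟩ : H) ∈ Subgroup.center H := by
      rw [Subgroup.mem_center_iff]
      intro h
      apply Subtype.ext
      have := hcent h.2
      rw [Subgroup.mem_centralizer_iff] at this
      exact (this x rfl).symm
    haveI := zpowers_normal_of_mem_center hcen
    set Z : Subgroup H := Subgroup.zpowers (⟨x, hxH⟩ : H) with hZ
    set P' : Subgroup H := P.subgroupOf H with hP'
    have htop : P' ⊔ Z = ⊤ := by
      rw [eq_top_iff]
      intro h _
      have hh : (h : G) ∈ Subgroup.zpowers x ⊔ P := h.2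
      have : (h : G) ∈ (P' ⊔ Z).map H.subtype := by
        have hle : Subgroup.zpowers x ⊔ P ≤ (P' ⊔ Z).map H.subtype := by
          apply sup_le
          · apply Subgroup.zpowers_le.mpr
            exact ⟨⟨x, hxH⟩, Subgroup.mem_sup_right (Subgroup.mem_zpowers _), rfl⟩
          · intro u hu
            have huH : u ∈ H := Subgroup.mem_sup_right hu
            exact ⟨⟨u, huH⟩, Subgroup.mem_sup_left (Subgroup.mem_subgroupOf.mpr hu), rfl⟩
        exact hle hh
      obtain ⟨h', hh', hEq⟩ := this
      have : h' = h := Subtype.ext hEq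
      rw [← this]
      exact hh'
    have h1 : Z.index = Z.relIndex P' := by
      rw [← Subgroup.relIndex_top_right, ← htop, Subgroup.relIndex_sup_right]
    have hP'p : IsPGroup p P' := hP.comap_subtype
    have h2 : ∃ n, (Z.subgroupOf P').index = p ^ n := hP'p.index _
    obtain ⟨n, hn⟩ := h2
    exact ⟨n, by rw [h1, Subgroup.relIndex, hn]⟩

end

section

variable {E : Type*} [Group E]

/-- elementary groups are preserved by isomorphisms -/
theorem isElementary_of_mulEquiv {E' : Type*} [Group E'] (e : E ≃* E') {p : ℕ}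
    (h : IsElementary p E) : IsElementary p E' := by
  obtain ⟨x, hx, hcop, k, hk⟩ := h
  refine ⟨e x, ?_, ?_, k, ?_⟩
  · rw [Subgroup.mem_center_iff] at hx ⊢
    intro g
    have := hx (e.symm g)
    have h2 := congrArg e this
    rw [map_mul, map_mul, MulEquiv.apply_symm_apply] at h2
    exact h2
  · rw [MulEquiv.orderOf_eq]
    exact hcop
  · have : Subgroup.zpowers (e x) = (Subgroup.zpowers x).map (e : E →* E') := by
      rw [MonoidHom.map_zpowers]
      rfl
    rw [this, Subgroup.index_map_equiv, hk]

/-- subgroups of elementary groups are elementary -/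
theorem isElementary_subgroup {p : ℕ} (hp : p.Prime) (h : IsElementary p E) (H : Subgroup E) :
    IsElementary p H := by
  obtain ⟨x, hx, hcop, k, hk⟩ := h
  set K : Subgroup E := H ⊓ Subgroup.zpowers x with hK
  haveI : IsCyclic K := Subgroup.isCyclic_of_le (inf_le_right : K ≤ Subgroup.zpowers x)
  obtain ⟨g, hg⟩ := IsCyclic.exists_generator (α := K)
  have hgx : (g : E) ∈ Subgroup.zpowers x := g.2.2
  have hgc : (g : E) ∈ Subgroup.center E := (Subgroup.zpowers_le.mpr hx) hgx
  refine ⟨⟨g.1, g.2.1⟩, ?_, ?_, ?_⟩
  · rw [Subgroup.mem_center_iff] at hgc ⊢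
    intro h
    apply Subtype.ext
    exact hgc h
  · rw [Subgroup.orderOf_mk]
    exact Nat.Coprime.coprime_dvd_left (orderOf_dvd_of_mem_zpowers hgx) hcop
  · have hnorm : (Subgroup.zpowers x).Normal := zpowers_normal_of_mem_center hx
    have heq : Subgroup.zpowers (⟨g.1, g.2.1⟩ : H) = (Subgroup.zpowers x).subgroupOf H := by
      ext h
      rw [Subgroup.mem_subgroupOf]
      constructor
      · intro hh
        obtain ⟨n, hn⟩ := Subgroup.mem_zpowers_iff.mp hh
        rw [← hn]
        simp only [Subgroup.coe_zpow]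
        exact Subgroup.zpow_mem _ hgx n
      · intro hh
        have hhK : (h : E) ∈ K := ⟨h.2, hh⟩
        obtain ⟨n, hn⟩ := Subgroup.mem_zpowers_iff.mp (hg ⟨h, hhK⟩)
        rw [Subgroup.mem_zpowers_iff]
        refine ⟨n, ?_⟩
        apply Subtype.ext
        have := congrArg (fun z : K => (z : E)) hn
        simpa using this
    have hdvd : (Subgroup.zpowers (⟨g.1, g.2.1⟩ : H)).index ∣ p ^ k := by
      rw [heq, ← hk]
      exact Subgroup.relIndex_dvd_index_of_normal _ _
    exact (Nat.dvd_prime_pow hp).mp hdvd |>.imp fun j hj => hj.2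

/-- finite elementary groups are nilpotent -/
theorem isNilpotent_of_isElementary [Finite E] {p : ℕ} (hp : p.Prime) (h : IsElementary p E) :
    Group.IsNilpotent E := by
  haveI : Fact p.Prime := ⟨hp⟩
  obtain ⟨x, hx, hcop, k, hk⟩ := h
  haveI hnorm : (Subgroup.zpowers x).Normal := zpowers_normal_of_mem_center hx
  have hpg : IsPGroup p (E ⧸ Subgroup.zpowers x) := by
    apply IsPGroup.of_card (n := k)
    rw [← hk, Subgroup.index]
  haveI : Group.IsNilpotent (E ⧸ Subgroup.zpowers x) := hpg.isNilpotent
  apply Subgroup.isNilpotent_of_ker_le_center (QuotientGroup.mk' (Subgroup.zpowers x))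
  rw [QuotientGroup.ker_mk']
  exact Subgroup.zpowers_le.mpr hx

end

end Cfsg.Agent.Lib.Helper3
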