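import Mathlib
import Cfsg.Prelude.Def_Characters
import Cfsg.Agent.Lib.Helper75.Clifford
import Cfsg.Agent.Lib.Helper80.CharBasic
import Cfsg.Agent.S0148

/-!
# Brauer induction: the spans (helper3)

For a subring `A ⊆ ℂ`:
* `GC A G` : the `A`-span of the characters of `G`;
* `VE A G` : the `A`-span of the characters induced from characters of elementary subgroups.
`VE A G` is an ideal of `GC A G`.
-/

set_option autoImplicit false

namespace Cfsg.Agent.Lib.Helper3

open Cfsg
open scoped ComplexConjugate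

universe u

section

variable {G : Type u} [Group G] [Fintype G]

/-- `χ · Ind_H^G ψ = Ind_H^G (χ_H ψ)` for a class function `χ`. -/
theorem mul_indFun_eq {χ : G → ℂ} (hχ : IsClassFunction G χ) (H : Subgroup G) (ψ : H → ℂ) :
    χ * indFun H ψ = indFun H (fun h : H => χ h * ψ h) := by
  funext g
  rw [Pi.mul_apply]
  unfold indFun
  rw [mul_left_comm]
  congr 1
  rw [Finset.mul_sum]
  apply Finset.sum_congr rfl
  intro x _
  have hc : χ (x⁻¹ * g * x) = χ g := by
    have := hχ g x⁻¹
    rw [inv_inv] at this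
    exact this
  by_cases hx : x⁻¹ * g * x ∈ H
  · rw [Cfsg.Agent.Lib.Helper75.extendByZero_of_mem H _ hx,
      Cfsg.Agent.Lib.Helper75.extendByZero_of_mem H _ hx]
    show _ = χ (x⁻¹ * g * x) * _
    rw [hc]
  · rw [Cfsg.Agent.Lib.Helper75.extendByZero_of_not_mem H _ hx,
      Cfsg.Agent.Lib.Helper75.extendByZero_of_not_mem H _ hx, mul_zero]

end

section

variable (A : Subring ℂ) (G : Type u) [Group G]

/-- the `A`-span of the characters of `G` -/
def GC : Submodule A (G → ℂ) := Submodule.span A {χ | IsCharacter G χ}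

/-- elementary-induced characters -/
def elemInd [Fintype G] : Set (G → ℂ) :=
  {f | ∃ (E : Subgroup G) (ψ : E → ℂ), (∃ p : ℕ, p.Prime ∧ IsElementary p E) ∧
    IsCharacter E ψ ∧ f = indFun E ψ}

/-- the `A`-span of the elementary-induced characters -/
def VE [Fintype G] : Submodule A (G → ℂ) := Submodule.span A (elemInd G)

end

section

variable {A : Subring ℂ} {G : Type u} [Group G]

omit [Group G] in
theorem smul_fun_apply (a : A) (f : G → ℂ) (g : G) : (a • f) g = (a : ℂ) * f g := by
  rw [Pi.smul_apply, Subring.smul_def, smul_eq_mul]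

theorem smul_fun_mul (a : A) (f h : G → ℂ) : (a • f) * h = a • (f * h) := by
  funext g
  rw [Pi.mul_apply, smul_fun_apply, smul_fun_apply, Pi.mul_apply, mul_assoc]

theorem mul_smul_fun (a : A) (f h : G → ℂ) : f * (a • h) = a • (f * h) := by
  funext g
  rw [Pi.mul_apply, smul_fun_apply, smul_fun_apply, Pi.mul_apply, mul_left_comm]

theorem mem_GC_of_isCharacter {χ : G → ℂ} (hχ : IsCharacter G χ) : χ ∈ GC A G :=
  Submodule.subset_span hχ

theorem one_mem_GC : (1 : G → ℂ) ∈ GC A G :=
  mem_GC_of_isCharacter (Cfsg.Agent.Lib.Helper80.isCharacter_one (G := G))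

theorem mul_mem_GC {f h : G → ℂ} (hf : f ∈ GC A G) (hh : h ∈ GC A G) : f * h ∈ GC A G := by
  induction hf using Submodule.span_induction with
  | mem χ hχ =>
    induction hh using Submodule.span_induction with
    | mem ψ hψ => exact mem_GC_of_isCharacter (Cfsg.Agent.Lib.Helper80.isCharacter_mul hχ hψ)
    | zero => rw [mul_zero]; exact Submodule.zero_mem _
    | add x y _ _ hx hy => rw [mul_add]; exact Submodule.add_mem _ hx hy
    | smul a x _ hx => rw [mul_smul_fun]; exact Submodule.smul_mem _ a hx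
  | zero => rw [zero_mul]; exact Submodule.zero_mem _
  | add x y _ _ hx hy => rw [add_mul]; exact Submodule.add_mem _ hx hy
  | smul a x _ hx => rw [smul_fun_mul]; exact Submodule.smul_mem _ a hx

theorem pow_mem_GC {f : G → ℂ} (hf : f ∈ GC A G) (n : ℕ) : f ^ n ∈ GC A G := by
  induction n with
  | zero => rw [pow_zero]; exact one_mem_GC
  | succ n ih => rw [pow_succ]; exact mul_mem_GC ih hf

theorem isClassFunction_of_mem_GC {f : G → ℂ} (hf : f ∈ GC A G) : IsClassFunction G f := by
  induction hf using Submodule.span_induction with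
  | mem χ hχ => exact Cfsg.Agent.Lib.Helper80.isClassFunction_of_isCharacter hχ
  | zero => intro g h; rfl
  | add x y _ _ hx hy =>
    intro g h
    rw [Pi.add_apply, Pi.add_apply, hx g h, hy g h]
  | smul a x _ hx =>
    intro g h
    rw [smul_fun_apply, smul_fun_apply, hx g h]

/-- restriction of an `A`-generalized character to a subgroup -/
theorem res_mem_GC (H : Subgroup G) {f : G → ℂ} (hf : f ∈ GC A G) :
    (fun h : H => f h) ∈ GC A H := by
  induction hf using Submodule.span_induction with
  | mem χ hχ => exact mem_GC_of_isCharacter (Cfsg.Agent.Lib.Helper80.isCharacter_restrict H hχ)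
  | zero => exact Submodule.zero_mem _
  | add x y _ _ hx hy => exact Submodule.add_mem _ hx hy
  | smul a x _ hx => exact Submodule.smul_mem _ a hx

variable [Fintype G]

theorem VE_le_GC : VE A G ≤ GC A G := by
  apply Submodule.span_le.mpr
  rintro f ⟨E, ψ, -, hψ, rfl⟩
  exact mem_GC_of_isCharacter (Cfsg.Agent.S0148.result E ψ hψ)

theorem indFun_mem_VE (E : Subgroup G) {p : ℕ} (hp : p.Prime) (hE : IsElementary p E)
    {ψ : E → ℂ} (hψ : IsCharacter E ψ) : indFun E ψ ∈ VE A G :=
  Submodule.subset_span ⟨E, ψ, ⟨p, hp, hE⟩, hψ, rfl⟩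

omit [Fintype G] in
theorem extendByZero_add' (H : Subgroup G) (f h : H → ℂ) (y : G) :
    extendByZero H (f + h) y = extendByZero H f y + extendByZero H h y := by
  by_cases hy : y ∈ H
  · rw [Cfsg.Agent.Lib.Helper75.extendByZero_of_mem _ _ hy,
      Cfsg.Agent.Lib.Helper75.extendByZero_of_mem _ _ hy,
      Cfsg.Agent.Lib.Helper75.extendByZero_of_mem _ _ hy]
    rfl
  · rw [Cfsg.Agent.Lib.Helper75.extendByZero_of_not_mem _ _ hy,
      Cfsg.Agent.Lib.Helper75.extendByZero_of_not_mem _ _ hy,
      Cfsg.Agent.Lib.Helper75.extendByZero_of_not_mem _ _ hy, add_zero]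

theorem indFun_add' (H : Subgroup G) (f h : H → ℂ) :
    indFun H (f + h) = indFun H f + indFun H h := by
  funext g
  rw [Pi.add_apply]
  unfold indFun
  rw [← mul_add, ← Finset.sum_add_distrib]
  congr 1
  exact Finset.sum_congr rfl fun x _ => extendByZero_add' H f h _

omit [Fintype G] in
theorem extendByZero_smul' (H : Subgroup G) (a : ℂ) (f : H → ℂ) (y : G) :
    extendByZero H (fun h => a * f h) y = a * extendByZero H f y := by
  by_cases hy : y ∈ H
  · rw [Cfsg.Agent.Lib.Helper75.extendByZero_of_mem _ _ hy,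
      Cfsg.Agent.Lib.Helper75.extendByZero_of_mem _ _ hy]
  · rw [Cfsg.Agent.Lib.Helper75.extendByZero_of_not_mem _ _ hy,
      Cfsg.Agent.Lib.Helper75.extendByZero_of_not_mem _ _ hy, mul_zero]

theorem indFun_smul' (H : Subgroup G) (a : ℂ) (f : H → ℂ) :
    indFun H (fun h => a * f h) = fun g => a * indFun H f g := by
  funext g
  unfold indFun
  rw [Finset.sum_congr rfl fun x _ => extendByZero_smul' H a f (x⁻¹ * g * x), ← Finset.mul_sum,
    mul_left_comm]

theorem indFun_zero' (H : Subgroup G) : indFun H (0 : H → ℂ) = 0 := by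
  funext g
  unfold indFun
  have : ∀ x : G, extendByZero H (0 : H → ℂ) (x⁻¹ * g * x) = 0 := by
    intro x
    by_cases hy : x⁻¹ * g * x ∈ H
    · rw [Cfsg.Agent.Lib.Helper75.extendByZero_of_mem _ _ hy]; rfl
    · rw [Cfsg.Agent.Lib.Helper75.extendByZero_of_not_mem _ _ hy]
  rw [Finset.sum_congr rfl fun x _ => this x, Finset.sum_const_zero, mul_zero]
  rfl

/-- inducing an `A`-generalized character of an elementary subgroup lands in `VE` -/
theorem indFun_mem_VE_of_mem_GC (E : Subgroup G) {p : ℕ} (hp : p.Prime) (hE : IsElementary p E)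
    {ψ : E → ℂ} (hψ : ψ ∈ GC A E) : indFun E ψ ∈ VE A G := by
  induction hψ using Submodule.span_induction with
  | mem χ hχ => exact indFun_mem_VE E hp hE hχ
  | zero => rw [indFun_zero']; exact Submodule.zero_mem _
  | add x y _ _ hx hy => rw [indFun_add']; exact Submodule.add_mem _ hx hy
  | smul a x _ hx =>
    have : indFun E (a • x) = a • indFun E x := by
      have h1 : (a • x) = fun h => (a : ℂ) * x h := by
        funext h; exact smul_fun_apply a x h
      rw [h1, indFun_smul']
      funext g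
      rw [smul_fun_apply]
    rw [this]
    exact Submodule.smul_mem _ a hx

/-- `VE A G` is an ideal of `GC A G` -/
theorem mul_mem_VE {f v : G → ℂ} (hf : f ∈ GC A G) (hv : v ∈ VE A G) : f * v ∈ VE A G := by
  induction hv using Submodule.span_induction with
  | mem w hw =>
    obtain ⟨E, ψ, ⟨p, hp, hE⟩, hψ, rfl⟩ := hw
    rw [mul_indFun_eq (isClassFunction_of_mem_GC hf)]
    apply indFun_mem_VE_of_mem_GC E hp hE
    exact mul_mem_GC (res_mem_GC E hf) (mem_GC_of_isCharacter hψ)
  | zero => rw [mul_zero]; exact Submodule.zero_mem _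
  | add x y _ _ hx hy => rw [mul_add]; exact Submodule.add_mem _ hx hy
  | smul a x _ hx => rw [mul_smul_fun]; exact Submodule.smul_mem _ a hx

theorem pow_mem_VE {v : G → ℂ} (hv : v ∈ VE A G) {n : ℕ} (hn : 0 < n) : v ^ n ∈ VE A G := by
  obtain ⟨m, rfl⟩ := Nat.exists_eq_succ_of_ne_zero hn.ne'
  rw [pow_succ]
  exact mul_mem_VE (pow_mem_GC (VE_le_GC hv) m) hv

end

end Cfsg.Agent.Lib.Helper3
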