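import Mathlib
import Cfsg.Prelude.Def_Characters
import Cfsg.Agent.Lib.Helper3.BrAbelian
import Cfsg.Agent.Lib.Helper3.BrSpan
import Cfsg.Agent.Lib.Helper3.BrElem
import Cfsg.Agent.Lib.Helper3.IrrBasis

/-!
# Brauer induction: the Artin-type lemma (helper3)

A class function with values in `|G| A` is an `A`-combination of characters induced from
cyclic subgroups.
-/

set_option autoImplicit false

namespace Cfsg.Agent.Lib.Helper3

open Cfsg
open scoped ComplexConjugate

universe u

section cyclic

variable {G : Type u} [Group G]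

theorem zpowers_comm (c : G) (a b : Subgroup.zpowers c) : a * b = b * a := by
  obtain ⟨i, hi⟩ := Subgroup.mem_zpowers_iff.mp a.2
  obtain ⟨j, hj⟩ := Subgroup.mem_zpowers_iff.mp b.2
  apply Subtype.ext
  rw [Subgroup.coe_mul, Subgroup.coe_mul, ← hi, ← hj, ← zpow_add, ← zpow_add, add_comm]

/-- a finite cyclic group is `p`-elementary for every prime `p` -/
theorem isElementary_zpowers [Finite G] {p : ℕ} (hp : p.Prime) (c : G) :
    IsElementary p ↥(Subgroup.zpowers c) := by
  have hn : orderOf c ≠ 0 := (orderOf_pos c).ne'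
  obtain ⟨k, m, hm, hkm⟩ := Nat.exists_eq_pow_mul_and_not_dvd hn p hp.ne_one
  set c' : Subgroup.zpowers c := ⟨c, Subgroup.mem_zpowers c⟩ with hc'
  have hoc' : orderOf c' = p ^ k * m := by rw [hc', Subgroup.orderOf_mk, hkm]
  have hm0 : m ≠ 0 := by
    rintro rfl
    exact hm (dvd_zero p)
  have hord : orderOf (c' ^ p ^ k) = m := by
    rw [orderOf_pow' _ (pow_ne_zero k hp.ne_zero), hoc']
    have : Nat.gcd (p ^ k * m) (p ^ k) = p ^ k := Nat.gcd_eq_right (dvd_mul_right _ _)
    rw [this, Nat.mul_div_cancel_left _ (pow_pos hp.pos k)]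
  refine ⟨c' ^ p ^ k, ?_, ?_, k, ?_⟩
  · rw [Subgroup.mem_center_iff]
    intro g
    exact zpowers_comm c g _
  · rw [hord]
    exact ((Nat.Prime.coprime_iff_not_dvd hp).mpr hm).symm
  · have h1 := Subgroup.index_mul_card (Subgroup.zpowers (c' ^ p ^ k))
    rw [Nat.card_zpowers, hord, Nat.card_zpowers, hkm] at h1
    exact Nat.eq_of_mul_eq_mul_right (Nat.pos_of_ne_zero hm0) h1

end cyclic

section fourier

variable {C : Type u} [Group C] [Fintype C]

/-- Fourier inversion on a finite abelian group -/
theorem fourier_inversion (hcomm : ∀ a b : C, a * b = b * a) (f : C → ℂ) :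
    f = ∑ μ : C →* ℂˣ, classInner f (fun c => (μ c : ℂ)) • (fun c => (μ c : ℂ)) := by
  classical
  funext c
  rw [Finset.sum_apply]
  simp only [Pi.smul_apply, smul_eq_mul, classInner]
  have hC : (Nat.card C : ℂ) ≠ 0 := by
    have : Nat.card C ≠ 0 := Nat.card_pos.ne'
    exact_mod_cast this
  calc f c = (Nat.card C : ℂ)⁻¹ * ∑ d : C, f d * (if c = d then (Nat.card C : ℂ) else 0) := by
        rw [Finset.sum_eq_single c]
        · rw [if_pos rfl]
          field_simp
        · intro d _ hd
          rw [if_neg (Ne.symm hd), mul_zero]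
        · intro h
          exact absurd (Finset.mem_univ c) h
    _ = (Nat.card C : ℂ)⁻¹ * ∑ d : C, f d * ∑ μ : C →* ℂˣ, (μ c : ℂ) * conj (μ d : ℂ) := by
        congr 1
        apply Finset.sum_congr rfl
        intro d _
        rw [sum_hom_mul_conj hcomm]
    _ = ∑ μ : C →* ℂˣ, (Nat.card C : ℂ)⁻¹ * (∑ d : C, f d * conj (μ d : ℂ)) * (μ c : ℂ) := by
        rw [Finset.mul_sum]
        have h3 : ∀ μ : C →* ℂˣ,
            (Nat.card C : ℂ)⁻¹ * (∑ d : C, f d * conj (μ d : ℂ)) * (μ c : ℂ) =
            ∑ d : C, (Nat.card C : ℂ)⁻¹ * (f d * ((μ c : ℂ) * conj (μ d : ℂ))) := by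
          intro μ
          rw [Finset.mul_sum, Finset.sum_mul]
          apply Finset.sum_congr rfl
          intro d _
          ring
        rw [Finset.sum_congr rfl fun μ _ => h3 μ, Finset.sum_comm]
        apply Finset.sum_congr rfl
        intro d _
        rw [Finset.mul_sum, Finset.mul_sum]

end fourier

section artin

variable {A : Subring ℂ} {G : Type u} [Group G] [Fintype G]

/-- the inner product of an `A`-generalized character with a character lies in `A` -/
theorem classInner_mem_of_mem_GC {f χ : G → ℂ} (hf : f ∈ GC A G) (hχ : IsCharacter G χ) :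
    classInner f χ ∈ A := by
  induction hf using Submodule.span_induction with
  | mem ψ hψ =>
    obtain ⟨n, hn⟩ := Cfsg.Agent.S0148.exists_nat_classInner_of_isCharacter hψ hχ
    rw [hn]
    exact natCast_mem A n
  | zero => rw [classInner_zero_left]; exact zero_mem A
  | add x y _ _ hx hy => rw [classInner_add_left]; exact add_mem hx hy
  | smul a x _ hx =>
    have : (a • x) = ((a : ℂ) • x) := rfl
    rw [this, classInner_smul_left]
    exact mul_mem a.2 hx

/-- a function on a finite abelian group all of whose Fourier coefficients lie in `A` is an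
`A`-combination of (linear) characters -/
theorem mem_GC_of_fourier {C : Type u} [Group C] [Fintype C] (hcomm : ∀ a b : C, a * b = b * a)
    (f : C → ℂ) (hf : ∀ μ : C →* ℂˣ, classInner f (fun c => (μ c : ℂ)) ∈ A) : f ∈ GC A C := by
  rw [fourier_inversion hcomm f]
  apply Submodule.sum_mem
  intro μ _
  have : classInner f (fun c => (μ c : ℂ)) • (fun c => (μ c : ℂ)) =
      (⟨_, hf μ⟩ : A) • (fun c => (μ c : ℂ)) := rfl
  rw [this]
  apply Submodule.smul_mem
  exact mem_GC_of_isCharacter
    (Cfsg.Agent.Lib.Helper80.isCharacter_of_isIrr (Cfsg.Agent.Lib.Helper80.isIrrCharacter_of_hom μ))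

/-- on a finite abelian group, `|C| a δ_x` is an `A`-generalized character, provided `A` contains
the `|C|`-th roots of unity -/
theorem delta_mem_GC {C : Type u} [Group C] [Fintype C] (hcomm : ∀ a b : C, a * b = b * a)
    (hA : ∀ z : ℂ, z ^ Nat.card C = 1 → z ∈ A) (x : C) {a : ℂ} (ha : a ∈ A) [DecidableEq C] :
    (fun c : C => if c = x then (Nat.card C : ℂ) * a else 0) ∈ GC A C := by
  apply mem_GC_of_fourier hcomm
  intro μ
  have hC : (Nat.card C : ℂ) ≠ 0 := by
    have : Nat.card C ≠ 0 := Nat.card_pos.ne'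
    exact_mod_cast this
  have : classInner (fun c : C => if c = x then (Nat.card C : ℂ) * a else 0)
      (fun c => (μ c : ℂ)) = a * conj (μ x : ℂ) := by
    unfold classInner
    rw [Finset.sum_eq_single x]
    · dsimp only
      rw [if_pos rfl]
      field_simp
    · intro d _ hd
      dsimp only
      rw [if_neg hd, zero_mul]
    · intro h
      exact absurd (Finset.mem_univ x) h
  rw [this]
  apply mul_mem ha
  apply hA
  rw [hom_conj]
  exact hom_pow_card μ x⁻¹

omit [Fintype G] [Group G] in
theorem pow_card_mem_of_dvd (hA : ∀ z : ℂ, z ^ Nat.card G = 1 → z ∈ A) {n : ℕ}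
    (hn : n ∣ Nat.card G) : ∀ z : ℂ, z ^ n = 1 → z ∈ A := by
  intro z hz
  apply hA
  obtain ⟨k, hk⟩ := hn
  rw [hk, pow_mul, hz, one_pow]

/-- **Artin-type lemma**: a class function with values in `|G| A` lies in `VE A G`. -/
theorem card_mul_mem_VE (hA : ∀ z : ℂ, z ^ Nat.card G = 1 → z ∈ A) {h : G → ℂ}
    (hcl : IsClassFunction G h) (hval : ∀ g, h g ∈ A) :
    (fun g => (Nat.card G : ℂ) * h g) ∈ VE A G := by
  classical
  -- the local pieces
  set ϑ : ∀ x : G, Subgroup.zpowers x → ℂ := fun x c =>
    if c = ⟨x, Subgroup.mem_zpowers x⟩ then (Nat.card (Subgroup.zpowers x) : ℂ) * h x else 0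
    with hϑ
  have hmem : ∀ x : G, indFun (Subgroup.zpowers x) (ϑ x) ∈ VE A G := by
    intro x
    apply indFun_mem_VE_of_mem_GC (Subgroup.zpowers x) Nat.prime_two
      (isElementary_zpowers Nat.prime_two x)
    exact delta_mem_GC (zpowers_comm x)
      (pow_card_mem_of_dvd hA (Subgroup.card_subgroup_dvd_card _)) _ (hval x)
  have hsum : (fun g => (Nat.card G : ℂ) * h g) =
      ∑ x : G, indFun (Subgroup.zpowers x) (ϑ x) := by
    funext y
    rw [Finset.sum_apply]
    have hval' : ∀ x : G, indFun (Subgroup.zpowers x) (ϑ x) y =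
        ∑ t : G, if t⁻¹ * y * t = x then h y else 0 := by
      intro x
      unfold indFun
      rw [Finset.mul_sum]
      apply Finset.sum_congr rfl
      intro t _
      have hZ : (Nat.card (Subgroup.zpowers x) : ℂ) ≠ 0 := by
        have : Nat.card (Subgroup.zpowers x) ≠ 0 := Nat.card_pos.ne'
        exact_mod_cast this
      by_cases ht : t⁻¹ * y * t = x
      · rw [if_pos ht]
        have hmem' : t⁻¹ * y * t ∈ Subgroup.zpowers x := by
          rw [ht]; exact Subgroup.mem_zpowers x
        rw [Cfsg.Agent.Lib.Helper75.extendByZero_of_mem _ _ hmem', hϑ]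
        simp only
        rw [if_pos (Subtype.ext ht)]
        have hxy : h x = h y := by
          rw [← ht]
          have := hcl y t⁻¹
          rw [inv_inv] at this
          exact this
        rw [hxy]
        field_simp
      · rw [if_neg ht]
        by_cases hmem' : t⁻¹ * y * t ∈ Subgroup.zpowers x
        · rw [Cfsg.Agent.Lib.Helper75.extendByZero_of_mem _ _ hmem', hϑ]
          simp only
          rw [if_neg, mul_zero]
          intro hEq
          exact ht (congrArg Subtype.val hEq)
        · rw [Cfsg.Agent.Lib.Helper75.extendByZero_of_not_mem _ _ hmem', mul_zero]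
    rw [Finset.sum_congr rfl fun x _ => hval' x, Finset.sum_comm]
    have : ∀ t : G, ∑ x : G, (if t⁻¹ * y * t = x then h y else 0) = h y := by
      intro t
      rw [Finset.sum_ite_eq]
      simp
    rw [Finset.sum_congr rfl fun t _ => this t, Finset.sum_const, Finset.card_univ,
      nsmul_eq_mul, Nat.card_eq_fintype_card]
  rw [hsum]
  exact Submodule.sum_mem _ fun x _ => hmem x

end artin

end Cfsg.Agent.Lib.Helper3
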