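import Mathlib
import Cfsg.Prelude.Def_Characters
import Cfsg.Agent.Lib.Helper3.BrArtin
import Cfsg.Agent.Lib.Helper3.Integrality

/-!
# Brauer induction: the congruence lemma (helper3)

If `f` is an `A`-generalized character with integer values, `y ∈ ⟨x⟩` and `x^(p^k) = y^(p^k)`,
then `f x ≡ f y (mod p)`.
-/

set_option autoImplicit false

namespace Cfsg.Agent.Lib.Helper3

open Cfsg
open scoped ComplexConjugate

universe u

section

variable {A : Subring ℂ}

/-- the radical of `pA`, as a predicate on complex numbers -/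
def InRad (A : Subring ℂ) (p : ℕ) (z : ℂ) : Prop :=
  ∃ h : z ∈ A, (⟨z, h⟩ : A) ∈ (Ideal.span {(p : A)}).radical

theorem InRad.add {p : ℕ} {z w : ℂ} (hz : InRad A p z) (hw : InRad A p w) : InRad A p (z + w) := by
  obtain ⟨h1, h2⟩ := hz
  obtain ⟨h3, h4⟩ := hw
  exact ⟨add_mem h1 h3, Ideal.add_mem _ h2 h4⟩

theorem InRad.zero {p : ℕ} : InRad A p 0 :=
  ⟨zero_mem A, Ideal.zero_mem _⟩

theorem InRad.mul_left {p : ℕ} {a z : ℂ} (ha : a ∈ A) (hz : InRad A p z) : InRad A p (a * z) := by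
  obtain ⟨h1, h2⟩ := hz
  exact ⟨mul_mem ha h1, Ideal.mul_mem_left _ (⟨a, ha⟩ : A) h2⟩

theorem InRad.sum {p : ℕ} {ι : Type*} (s : Finset ι) (g : ι → ℂ) (h : ∀ i ∈ s, InRad A p (g i)) :
    InRad A p (∑ i ∈ s, g i) := by
  classical
  induction s using Finset.induction_on with
  | empty => rw [Finset.sum_empty]; exact InRad.zero
  | insert a s ha ih =>
    rw [Finset.sum_insert ha]
    exact InRad.add (h a (Finset.mem_insert_self a s))
      (ih fun i hi => h i (Finset.mem_insert_of_mem hi))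

/-- `ζ - 1` lies in the radical of `pA` when `ζ^(p^k) = 1` -/
theorem inRad_sub_one {p : ℕ} (hp : p.Prime) {ζ : ℂ} (hζ : ζ ∈ A) (k : ℕ) (h1 : ζ ^ p ^ k = 1) :
    InRad A p (ζ - 1) := by
  refine ⟨sub_mem hζ (one_mem A), ?_⟩
  rw [Ideal.mem_radical_iff]
  refine ⟨p ^ k, ?_⟩
  obtain ⟨r, hr⟩ := exists_add_pow_prime_pow_eq hp (⟨ζ - 1, sub_mem hζ (one_mem A)⟩ : A) 1 k
  have h2 : ((⟨ζ - 1, sub_mem hζ (one_mem A)⟩ : A) + 1) ^ p ^ k = 1 := by
    apply Subtype.ext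
    simp only [Subring.coe_pow, Subring.coe_add, Subring.coe_one, sub_add_cancel]
    exact h1
  rw [h2, one_pow] at hr
  rw [Ideal.mem_span_singleton']
  refine ⟨-((⟨ζ - 1, sub_mem hζ (one_mem A)⟩ : A) * r), ?_⟩
  have h3 : (⟨ζ - 1, sub_mem hζ (one_mem A)⟩ : A) ^ p ^ k =
      -((p : A) * (⟨ζ - 1, sub_mem hζ (one_mem A)⟩ : A) * 1 * r) := by
    linear_combination (-1 : ↥A) * hr
  rw [h3]
  ring

/-- an integer in the radical of `pA` is divisible by `p`, if `A` consists of algebraic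
integers -/
theorem int_dvd_of_inRad (hint : ∀ a ∈ A, IsIntegral ℤ a) {p : ℕ} (hp : p.Prime) (n : ℤ)
    (h : InRad A p (n : ℂ)) : (p : ℤ) ∣ n := by
  obtain ⟨h1, h2⟩ := h
  rw [Ideal.mem_radical_iff] at h2
  obtain ⟨k, hk⟩ := h2
  rw [Ideal.mem_span_singleton'] at hk
  obtain ⟨a, ha⟩ := hk
  have ha' : (a : ℂ) * (p : ℂ) = (n : ℂ) ^ k := by
    have := congrArg (fun z : A => (z : ℂ)) ha
    simpa using this
  have hp0 : (p : ℂ) ≠ 0 := by
    have := hp.ne_zero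
    exact_mod_cast this
  have ha2 : (a : ℂ) = (((n ^ k : ℤ) : ℚ) / (p : ℚ) : ℚ) := by
    push_cast
    rw [eq_div_iff hp0]
    exact ha'
  have hai : IsIntegral ℤ ((((n ^ k : ℤ) : ℚ) / (p : ℚ) : ℚ) : ℂ) := by
    rw [← ha2]
    exact hint a a.2
  obtain ⟨m, hm⟩ := exists_int_of_isIntegral_ratCast _ hai
  have hpq : (p : ℚ) ≠ 0 := by
    have := hp.ne_zero
    exact_mod_cast this
  have h3 : n ^ k = m * p := by
    rw [eq_div_iff hpq] at hm
    exact_mod_cast hm.symm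
  have h4 : (p : ℤ) ∣ n ^ k := ⟨m, by rw [h3, mul_comm]⟩
  exact Int.Prime.dvd_pow' hp h4

end

section

variable {A : Subring ℂ} {G : Type u} [Group G] [Fintype G]

/-- **the congruence lemma** -/
theorem int_dvd_sub_of_pow_eq (hint : ∀ a ∈ A, IsIntegral ℤ a)
    (hA : ∀ z : ℂ, z ^ Nat.card G = 1 → z ∈ A) {p : ℕ} (hp : p.Prime) {f : G → ℂ}
    (hf : f ∈ GC A G) (x y : G) (hy : y ∈ Subgroup.zpowers x) (k : ℕ)
    (hxy : x ^ p ^ k = y ^ p ^ k) (n m : ℤ) (hn : f x = n) (hm : f y = m) :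
    (p : ℤ) ∣ n - m := by
  classical
  apply int_dvd_of_inRad hint hp
  set D := Subgroup.zpowers x with hD
  set x' : D := ⟨x, Subgroup.mem_zpowers x⟩ with hx'
  set y' : D := ⟨y, hy⟩ with hy'
  set fD : D → ℂ := fun d => f d with hfD
  have hfD_mem : fD ∈ GC A D := res_mem_GC D hf
  have hroot : ∀ z : ℂ, z ^ Nat.card D = 1 → z ∈ A :=
    pow_card_mem_of_dvd hA (Subgroup.card_subgroup_dvd_card D)
  have hμA : ∀ (μ : D →* ℂˣ) (d : D), (μ d : ℂ) ∈ A := fun μ d => hroot _ (hom_pow_card μ d)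
  have hexp := fourier_inversion (zpowers_comm x) fD
  have hval : ∀ d : D, fD d = ∑ μ : D →* ℂˣ, classInner fD (fun c => (μ c : ℂ)) * (μ d : ℂ) := by
    intro d
    conv_lhs => rw [hexp]
    rw [Finset.sum_apply]
    rfl
  have hdiff : ((n - m : ℤ) : ℂ) = ∑ μ : D →* ℂˣ,
      classInner fD (fun c => (μ c : ℂ)) * ((μ x' : ℂ) - (μ y' : ℂ)) := by
    push_cast
    rw [← hn, ← hm]
    have h1 : f x = fD x' := rfl
    have h2 : f y = fD y' := rfl
    rw [h1, h2, hval x', hval y', ← Finset.sum_sub_distrib]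
    apply Finset.sum_congr rfl
    intro μ _
    ring
  rw [hdiff]
  apply InRad.sum
  intro μ _
  apply InRad.mul_left
  · exact classInner_mem_of_mem_GC hfD_mem
      (Cfsg.Agent.Lib.Helper80.isCharacter_of_isIrr
        (Cfsg.Agent.Lib.Helper80.isIrrCharacter_of_hom μ))
  · have h1 : (μ x' : ℂ) - (μ y' : ℂ) = (μ y' : ℂ) * ((μ (x' * y'⁻¹) : ℂ) - 1) := by
      rw [mul_sub, mul_one, ← Units.val_mul, ← map_mul, zpowers_comm x x' y'⁻¹,
        mul_inv_cancel_left]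
    rw [h1]
    apply InRad.mul_left (hμA μ y')
    apply inRad_sub_one hp (hμA μ _) k
    rw [← Units.val_pow_eq_pow_val, ← map_pow]
    have h2 : (x' * y'⁻¹) ^ p ^ k = 1 := by
      rw [(show Commute x' y'⁻¹ from zpowers_comm x x' y'⁻¹).mul_pow, inv_pow]
      rw [mul_inv_eq_one]
      apply Subtype.ext
      simp only [Subgroup.coe_pow]
      exact hxy
    rw [h2, map_one, Units.val_one]

end

end Cfsg.Agent.Lib.Helper3
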