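import Mathlib
import Cfsg.Prelude.Def_Characters
import Cfsg.Agent.Lib.Helper3.BrArtin
import Cfsg.Agent.Lib.Helper3.CharValues
import Cfsg.Agent.Lib.Helper3.Integrality

/-!
# Brauer induction: the local construction (helper3)

For a `p`-regular element `x` and a `p`-subgroup `P` of `C_G(x)` we build an `A`-generalized
character of `H = ⟨x⟩ × P` whose induction to `G` is `s ↦ |P|⁻¹ #{t | x⁻¹ t⁻¹ s t ∈ P}`.
-/

set_option autoImplicit false

namespace Cfsg.Agent.Lib.Helper3

open Cfsg
open scoped ComplexConjugate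

universe u

section prod

variable {G : Type u} [Group G] (x : G) (P : Subgroup G) (hPx : ∀ u ∈ P, u * x = x * u)

include hPx in
theorem commute_zpowers_of_comm (c : Subgroup.zpowers x) (u : P) :
    Commute ((Subgroup.zpowers x).subtype c) (P.subtype u) := by
  obtain ⟨i, hi⟩ := Subgroup.mem_zpowers_iff.mp c.2
  show Commute (c : G) (u : G)
  rw [← hi]
  have h1 : Commute x (u : G) := (hPx u u.2).symm
  exact h1.zpow_left i

/-- the multiplication map `⟨x⟩ × P → G` -/
noncomputable def prodHom : Subgroup.zpowers x × P →* G :=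
  MonoidHom.noncommCoprod (Subgroup.zpowers x).subtype P.subtype
    (fun c u => commute_zpowers_of_comm x P hPx c u)

theorem prodHom_apply (cu : Subgroup.zpowers x × P) :
    prodHom x P hPx cu = (cu.1 : G) * (cu.2 : G) := rfl

theorem prodHom_range : (prodHom x P hPx).range = Subgroup.zpowers x ⊔ P := by
  unfold prodHom
  rw [MonoidHom.noncommCoprod_range, Subgroup.range_subtype, Subgroup.range_subtype]

theorem prodHom_injective (hcop : (Nat.card (Subgroup.zpowers x)).Coprime (Nat.card P)) :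
    Function.Injective (prodHom x P hPx) := by
  unfold prodHom
  rw [MonoidHom.noncommCoprod_injective]
  refine ⟨Subgroup.subtype_injective _, Subgroup.subtype_injective _, ?_⟩
  rw [Subgroup.range_subtype, Subgroup.range_subtype]
  exact Subgroup.disjoint_of_coprime_natCard hcop

/-- `⟨x⟩ × P ≃* ⟨x⟩ P` -/
noncomputable def prodEquiv (hcop : (Nat.card (Subgroup.zpowers x)).Coprime (Nat.card P)) :
    Subgroup.zpowers x × P ≃* ↥(Subgroup.zpowers x ⊔ P) :=
  (MonoidHom.ofInjective (prodHom_injective x P hPx hcop)).trans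
    (MulEquiv.subgroupCongr (prodHom_range x P hPx))

theorem coe_prodEquiv (hcop : (Nat.card (Subgroup.zpowers x)).Coprime (Nat.card P))
    (cu : Subgroup.zpowers x × P) :
    ((prodEquiv x P hPx hcop cu : ↥(Subgroup.zpowers x ⊔ P)) : G) = (cu.1 : G) * (cu.2 : G) := rfl

/-- the projection `⟨x⟩ P → ⟨x⟩` -/
noncomputable def projC (hcop : (Nat.card (Subgroup.zpowers x)).Coprime (Nat.card P)) :
    ↥(Subgroup.zpowers x ⊔ P) →* Subgroup.zpowers x :=
  (MonoidHom.fst _ _).comp (prodEquiv x P hPx hcop).symm.toMonoidHom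

theorem projC_eq_iff (hcop : (Nat.card (Subgroup.zpowers x)).Coprime (Nat.card P))
    (z : ↥(Subgroup.zpowers x ⊔ P)) :
    projC x P hPx hcop z = ⟨x, Subgroup.mem_zpowers x⟩ ↔ x⁻¹ * (z : G) ∈ P := by
  set cu := (prodEquiv x P hPx hcop).symm z with hcu
  have hz : z = prodEquiv x P hPx hcop cu := by rw [hcu, MulEquiv.apply_symm_apply]
  have hzG : (z : G) = (cu.1 : G) * (cu.2 : G) := by
    rw [hz, coe_prodEquiv]
  have hproj : projC x P hPx hcop z = cu.1 := rfl
  constructor
  · intro h
    rw [hproj] at h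
    rw [hzG, h]
    simp
  · intro h
    have h2 : prodEquiv x P hPx hcop (⟨x, Subgroup.mem_zpowers x⟩, ⟨x⁻¹ * (z : G), h⟩) = z := by
      apply Subtype.ext
      rw [coe_prodEquiv]
      simp
    have h3 : cu = (⟨x, Subgroup.mem_zpowers x⟩, ⟨x⁻¹ * (z : G), h⟩) := by
      rw [hcu, MulEquiv.symm_apply_eq]
      exact h2.symm
    rw [hproj, h3]

include hPx in
theorem card_zpowers_sup (hcop : (Nat.card (Subgroup.zpowers x)).Coprime (Nat.card P)) :
    Nat.card ↥(Subgroup.zpowers x ⊔ P) = Nat.card (Subgroup.zpowers x) * Nat.card P := by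
  rw [← Nat.card_congr (prodEquiv x P hPx hcop).toEquiv, Nat.card_prod]

end prod

section comp

variable {A : Subring ℂ} {H K : Type u} [Group H] [Group K]

theorem comp_mem_GC (φ : H →* K) {f : K → ℂ} (hf : f ∈ GC A K) :
    (fun h => f (φ h)) ∈ GC A H := by
  induction hf using Submodule.span_induction with
  | mem χ hχ => exact mem_GC_of_isCharacter (Cfsg.Agent.Lib.Helper80.isCharacter_comp φ hχ)
  | zero => exact Submodule.zero_mem _
  | add x y _ _ hx hy => exact Submodule.add_mem _ hx hy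
  | smul a x _ hx => exact Submodule.smul_mem _ a hx

theorem isIntegral_of_mem_GC [Finite K] (hint : ∀ a ∈ A, IsIntegral ℤ a) {f : K → ℂ}
    (hf : f ∈ GC A K) (g : K) : IsIntegral ℤ (f g) := by
  induction hf using Submodule.span_induction with
  | mem χ hχ =>
    obtain ⟨n, ρ, rfl⟩ := hχ
    exact isIntegral_character ρ g
  | zero => exact isIntegral_zero
  | add x y _ _ hx hy => exact IsIntegral.add hx hy
  | smul a x _ hx =>
    rw [smul_fun_apply]
    exact IsIntegral.mul (hint a a.2) hx

end comp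

section local_

variable {A : Subring ℂ} {G : Type u} [Group G] [Fintype G] (x : G) (P : Subgroup G)
  (hPx : ∀ u ∈ P, u * x = x * u)
  (hcop : (Nat.card (Subgroup.zpowers x)).Coprime (Nat.card P))

open Classical in
/-- the local generalized character on `⟨x⟩ P` -/
noncomputable def psiLoc : ↥(Subgroup.zpowers x ⊔ P) → ℂ :=
  fun z => if projC x P hPx hcop z = ⟨x, Subgroup.mem_zpowers x⟩ then
    (Nat.card (Subgroup.zpowers x) : ℂ) * 1 else 0

theorem psiLoc_mem_GC (hA : ∀ z : ℂ, z ^ Nat.card G = 1 → z ∈ A) :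
    psiLoc x P hPx hcop ∈ GC A ↥(Subgroup.zpowers x ⊔ P) := by
  classical
  have h1 := delta_mem_GC (A := A) (zpowers_comm x)
    (pow_card_mem_of_dvd hA (Subgroup.card_subgroup_dvd_card _))
    (⟨x, Subgroup.mem_zpowers x⟩ : Subgroup.zpowers x) (one_mem A)
  have h2 := comp_mem_GC (projC x P hPx hcop) h1
  convert h2 using 2
  unfold psiLoc
  congr

omit [Fintype G] in
open Classical in
theorem extendByZero_psiLoc (z : G) :
    extendByZero (Subgroup.zpowers x ⊔ P) (psiLoc x P hPx hcop) z =
      if x⁻¹ * z ∈ P then (Nat.card (Subgroup.zpowers x) : ℂ) else 0 := by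
  by_cases hz : z ∈ Subgroup.zpowers x ⊔ P
  · rw [Cfsg.Agent.Lib.Helper75.extendByZero_of_mem _ _ hz]
    unfold psiLoc
    rw [mul_one]
    have := projC_eq_iff x P hPx hcop ⟨z, hz⟩
    simp only [this]
  · rw [Cfsg.Agent.Lib.Helper75.extendByZero_of_not_mem _ _ hz, if_neg]
    intro h
    apply hz
    have : z = x * (x⁻¹ * z) := by group
    rw [this]
    exact mul_mem (Subgroup.mem_sup_left (Subgroup.mem_zpowers x)) (Subgroup.mem_sup_right h)

open Classical in
theorem indFun_psiLoc (s : G) :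
    indFun (Subgroup.zpowers x ⊔ P) (psiLoc x P hPx hcop) s =
      (Nat.card P : ℂ)⁻¹ *
        ((Finset.univ.filter fun t : G => x⁻¹ * (t⁻¹ * s * t) ∈ P).card : ℂ) := by
  unfold indFun
  rw [Finset.sum_congr rfl fun t _ => extendByZero_psiLoc x P hPx hcop (t⁻¹ * s * t),
    Finset.sum_ite, Finset.sum_const, Finset.sum_const_zero, add_zero, nsmul_eq_mul,
    card_zpowers_sup x P hPx hcop]
  have hC : (Nat.card (Subgroup.zpowers x) : ℂ) ≠ 0 := by
    have : Nat.card (Subgroup.zpowers x) ≠ 0 := Nat.card_pos.ne'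
    exact_mod_cast this
  have hP0 : (Nat.card P : ℂ) ≠ 0 := by
    have : Nat.card P ≠ 0 := Nat.card_pos.ne'
    exact_mod_cast this
  push_cast
  field_simp

omit [Fintype G] in
include hPx in
/-- a `p`-regular element of `x P` is `x` -/
theorem eq_of_mem_of_coprime {p : ℕ} (hP : IsPGroup p P) (hx : (orderOf x).Coprime p) {w : G}
    (hw : (orderOf w).Coprime p) (h : x⁻¹ * w ∈ P) : w = x := by
  set u := x⁻¹ * w with hu
  have hwxu : w = x * u := by rw [hu]; group
  obtain ⟨k, hk⟩ := hP ⟨u, h⟩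
  have hk' : u ^ p ^ k = 1 := by
    have := congrArg (fun z : P => (z : G)) hk
    simpa using this
  have hdvd : orderOf u ∣ p ^ k := orderOf_dvd_of_pow_eq_one hk'
  have hcomm : Commute x u := (hPx u h).symm
  have hco : (orderOf x).Coprime (orderOf u) :=
    Nat.Coprime.coprime_dvd_right hdvd (hx.pow_right k)
  have hord : orderOf w = orderOf x * orderOf u := by
    rw [hwxu]
    exact hcomm.orderOf_mul_eq_mul_orderOf_of_coprime hco
  have hdvd2 : orderOf u ∣ orderOf w := by rw [hord]; exact dvd_mul_left _ _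
  have h1 : orderOf u ∣ Nat.gcd (orderOf w) (p ^ k) := Nat.dvd_gcd hdvd2 hdvd
  have h2 : Nat.gcd (orderOf w) (p ^ k) = 1 := hw.pow_right k
  rw [h2, Nat.dvd_one, orderOf_eq_one_iff] at h1
  rw [hwxu, h1, mul_one]

end local_

end Cfsg.Agent.Lib.Helper3
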