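import Mathlib
import Cfsg.Prelude.Def_Characters
import Cfsg.Agent.Lib.Helper3.BrConstr
import Cfsg.Agent.Lib.Helper3.BrCong

/-!
# Brauer induction: `1 ∈ VE A G` (helper3)
-/

set_option autoImplicit false

namespace Cfsg.Agent.Lib.Helper3

open Cfsg
open scoped ComplexConjugate

universe u

section

variable {G : Type u} [Group G]

theorem orderOf_conj' (t s : G) : orderOf (t⁻¹ * s * t) = orderOf s := by
  have := MulEquiv.orderOf_eq (MulAut.conj t⁻¹) s
  rw [MulAut.conj_apply, inv_inv] at this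
  exact this

/-- the `p'`-part: every element `y` of finite order has a `p`-regular power `z` with
`y^(p^k) = z^(p^k)` -/
theorem exists_pprime_part [Finite G] {p : ℕ} (hp : p.Prime) (y : G) :
    ∃ z ∈ Subgroup.zpowers y, ∃ k : ℕ, (orderOf z).Coprime p ∧ y ^ p ^ k = z ^ p ^ k := by
  have hn : orderOf y ≠ 0 := (orderOf_pos y).ne'
  obtain ⟨k, m, hm, hkm⟩ := Nat.exists_eq_pow_mul_and_not_dvd hn p hp.ne_one
  have hcop : Nat.Coprime (p ^ k) m :=
    Nat.Coprime.pow_left k ((Nat.Prime.coprime_iff_not_dvd hp).mpr hm)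
  set a : ℤ := Nat.gcdA (p ^ k) m with ha
  set b : ℤ := Nat.gcdB (p ^ k) m with hb
  have hbez : ((p ^ k : ℕ) : ℤ) * a + (m : ℤ) * b = 1 := by
    have := Nat.gcd_eq_gcd_ab (p ^ k) m
    rw [hcop] at this
    rw [ha, hb]
    exact_mod_cast this.symm
  refine ⟨y ^ (((p ^ k : ℕ) : ℤ) * a), Subgroup.zpow_mem_zpowers y _, k, ?_, ?_⟩
  · have h1 : (y ^ (((p ^ k : ℕ) : ℤ) * a)) ^ m = 1 := by
      rw [← zpow_natCast, ← zpow_mul]
      have : ((p ^ k : ℕ) : ℤ) * a * (m : ℤ) = ((orderOf y : ℕ) : ℤ) * a := by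
        rw [hkm]; push_cast; ring
      rw [this, zpow_mul, zpow_natCast, pow_orderOf_eq_one, one_zpow]
    have h2 : orderOf (y ^ (((p ^ k : ℕ) : ℤ) * a)) ∣ m := orderOf_dvd_of_pow_eq_one h1
    exact Nat.Coprime.coprime_dvd_left h2 ((Nat.Prime.coprime_iff_not_dvd hp).mpr hm).symm
  · have h1 : y ^ p ^ k = y ^ (((p ^ k : ℕ) : ℤ) * (((p ^ k : ℕ) : ℤ) * a + (m : ℤ) * b)) := by
      rw [hbez, mul_one, zpow_natCast]
    rw [h1, mul_add, zpow_add]
    have h2 : y ^ (((p ^ k : ℕ) : ℤ) * ((m : ℤ) * b)) = 1 := by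
      have : ((p ^ k : ℕ) : ℤ) * ((m : ℤ) * b) = ((orderOf y : ℕ) : ℤ) * b := by
        rw [hkm]; push_cast; ring
      rw [this, zpow_mul, zpow_natCast, pow_orderOf_eq_one, one_zpow]
    rw [h2, mul_one, ← zpow_natCast (y ^ (((p ^ k : ℕ) : ℤ) * a)), ← zpow_mul]
    congr 1
    ring

end

section

variable {A : Subring ℂ} {G : Type u} [Group G] [Fintype G]

/-- **the local lemma** -/
theorem exists_local (hint : ∀ a ∈ A, IsIntegral ℤ a)
    (hA : ∀ z : ℂ, z ^ Nat.card G = 1 → z ∈ A) {p : ℕ} (hp : p.Prime) (x : G)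
    (hx : (orderOf x).Coprime p) :
    ∃ f : G → ℂ, f ∈ VE A G ∧ (∀ y, ∃ n : ℤ, f y = n) ∧
      (∀ s, (orderOf s).Coprime p → ¬ IsConj s x → f s = 0) ∧
      (∀ n : ℤ, f x = n → ¬ (p : ℤ) ∣ n) := by
  classical
  haveI : Fact p.Prime := ⟨hp⟩
  set Cx := Subgroup.centralizer ({x} : Set G) with hCx
  obtain ⟨Q⟩ : Nonempty (Sylow p Cx) := inferInstance
  set P : Subgroup G := (Q : Subgroup Cx).map Cx.subtype with hPdef
  have hP : IsPGroup p P := Q.isPGroup'.map _
  have hPle : P ≤ Cx := Subgroup.map_subtype_le _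
  have hPx : ∀ u ∈ P, u * x = x * u := by
    intro u hu
    have := hPle hu
    rw [hCx, Subgroup.mem_centralizer_iff] at this
    exact (this x rfl).symm
  have hcardP : Nat.card P = Nat.card (Q : Subgroup Cx) :=
    Nat.card_congr ((Q : Subgroup Cx).equivMapOfInjective Cx.subtype
      Cx.subtype_injective).toEquiv.symm
  obtain ⟨k, hk⟩ := (IsPGroup.iff_card (p := p) (G := P)).mp hP
  have hcop : (Nat.card (Subgroup.zpowers x)).Coprime (Nat.card P) := by
    rw [Nat.card_zpowers, hk]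
    exact hx.pow_right k
  set f := indFun (Subgroup.zpowers x ⊔ P) (psiLoc x P hPx hcop) with hf
  have hfVE : f ∈ VE A G :=
    indFun_mem_VE_of_mem_GC _ hp (isElementary_zpowers_sup hp x hx P hP hPx)
      (psiLoc_mem_GC x P hPx hcop hA)
  have hP0 : (Nat.card P : ℂ) ≠ 0 := by
    have : Nat.card P ≠ 0 := Nat.card_pos.ne'
    exact_mod_cast this
  refine ⟨f, hfVE, ?_, ?_, ?_⟩
  · intro y
    have h1 := isIntegral_of_mem_GC hint (VE_le_GC hfVE) y
    have h2 : f y = (((((Finset.univ.filter fun t : G => x⁻¹ * (t⁻¹ * y * t) ∈ P).card : ℕ) : ℚ) /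
        ((Nat.card P : ℕ) : ℚ) : ℚ) : ℂ) := by
      rw [hf, indFun_psiLoc]
      push_cast
      rw [div_eq_inv_mul]
    rw [h2] at h1
    obtain ⟨n, hn⟩ := exists_int_of_isIntegral_ratCast _ h1
    refine ⟨n, ?_⟩
    rw [h2, ← hn]
    push_cast
    rfl
  · intro s hs hns
    rw [hf, indFun_psiLoc]
    have : (Finset.univ.filter fun t : G => x⁻¹ * (t⁻¹ * s * t) ∈ P) = ∅ := by
      rw [Finset.filter_eq_empty_iff]
      intro t _ ht
      have hw : (orderOf (t⁻¹ * s * t)).Coprime p := by rw [orderOf_conj']; exact hs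
      have := eq_of_mem_of_coprime x P hPx hP hx hw ht
      apply hns
      rw [isConj_iff]
      exact ⟨t⁻¹, by rw [inv_inv]; exact this⟩
    rw [this, Finset.card_empty, Nat.cast_zero, mul_zero]
  · intro n hn
    rw [hf, indFun_psiLoc] at hn
    have hfilter : (Finset.univ.filter fun t : G => x⁻¹ * (t⁻¹ * x * t) ∈ P) =
        Finset.univ.filter fun t : G => t ∈ Cx := by
      apply Finset.filter_congr
      intro t _
      constructor
      · intro ht
        have hw : (orderOf (t⁻¹ * x * t)).Coprime p := by rw [orderOf_conj']; exact hx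
        have h1 := eq_of_mem_of_coprime x P hPx hP hx hw ht
        rw [hCx, Subgroup.mem_centralizer_iff]
        intro z hz
        rw [Set.mem_singleton_iff.mp hz]
        calc x * t = t * (t⁻¹ * x * t) := by group
          _ = t * x := by rw [h1]
      · intro ht
        rw [hCx, Subgroup.mem_centralizer_iff] at ht
        have h1 : x * t = t * x := ht x rfl
        have h2 : x⁻¹ * (t⁻¹ * x * t) = 1 := by
          rw [mul_assoc t⁻¹, h1, inv_mul_cancel_left, inv_mul_cancel]
        rw [h2]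
        exact one_mem P
    have hcardCx : (Finset.univ.filter fun t : G => t ∈ Cx).card = Nat.card Cx := by
      rw [Nat.card_eq_fintype_card, Fintype.card_subtype]
    rw [hfilter, hcardCx] at hn
    have hidx : Nat.card Cx = Nat.card P * (Q : Subgroup Cx).index := by
      rw [hcardP, mul_comm]
      exact ((Q : Subgroup Cx).index_mul_card).symm
    rw [hidx] at hn
    push_cast at hn
    rw [← mul_assoc, inv_mul_cancel₀ hP0, one_mul] at hn
    have hn' : ((Q : Subgroup Cx).index : ℤ) = n := by exact_mod_cast hn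
    rw [← hn']
    intro hdvd
    exact Q.not_dvd_index (by exact_mod_cast hdvd)

end

end Cfsg.Agent.Lib.Helper3
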