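import Mathlib
import Cfsg.Prelude.Def_Characters
import Cfsg.Agent.Lib.Helper3.BrLocal

/-!
# Brauer induction: `1 ∈ VE A G` (helper3)
-/

set_option autoImplicit false

namespace Cfsg.Agent.Lib.Helper3

open Cfsg
open scoped ComplexConjugate

universe u

section

variable {A : Subring ℂ} {G : Type u} [Group G] [Fintype G]

omit [Fintype G] in
theorem classFunction_isConj {f : G → ℂ} (hf : IsClassFunction G f) {s t : G} (h : IsConj s t) :
    f s = f t := by
  rw [isConj_iff] at h
  obtain ⟨c, hc⟩ := h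
  rw [← hc, hf s c]

/-- **the global lemma**: an integer-valued element of `VE A G` with values prime to `p` -/
theorem exists_global (hint : ∀ a ∈ A, IsIntegral ℤ a)
    (hA : ∀ z : ℂ, z ^ Nat.card G = 1 → z ∈ A) {p : ℕ} (hp : p.Prime) :
    ∃ F : G → ℂ, F ∈ VE A G ∧ ∀ y, ∃ n : ℤ, F y = n ∧ ¬ (p : ℤ) ∣ n := by
  classical
  have hloc := fun (x : G) (hx : (orderOf x).Coprime p) => exists_local hint hA hp x hx
  choose f hfVE hfint hfvan hfx using hloc
  letI : Fintype (ConjClasses G) := Fintype.ofFinite _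
  set r : ConjClasses G → G := fun K => Quotient.out K with hr_def
  have hr : ∀ K, ConjClasses.mk (r K) = K := fun K => Quotient.out_eq K
  set T : ConjClasses G → G → ℂ :=
    fun K => if h : (orderOf (r K)).Coprime p then f (r K) h else 0 with hT
  set F : G → ℂ := ∑ K : ConjClasses G, T K with hF
  have hTVE : ∀ K, T K ∈ VE A G := by
    intro K
    rw [hT]
    dsimp only
    split_ifs with h
    · exact hfVE _ h
    · exact Submodule.zero_mem _
  have hFVE : F ∈ VE A G := Submodule.sum_mem _ fun K _ => hTVE K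
  have hFint : ∀ y, ∃ n : ℤ, F y = n := by
    intro y
    have hT_int : ∀ K, ∃ n : ℤ, T K y = n := by
      intro K
      rw [hT]
      dsimp only
      split_ifs with h
      · exact hfint _ h y
      · exact ⟨0, by simp⟩
    choose g hg using hT_int
    refine ⟨∑ K, g K, ?_⟩
    rw [hF, Finset.sum_apply]
    push_cast
    exact Finset.sum_congr rfl fun K _ => hg K
  have hFreg : ∀ s, (orderOf s).Coprime p → ∀ n : ℤ, F s = n → ¬ (p : ℤ) ∣ n := by
    intro s hs n hn
    set K0 := ConjClasses.mk s with hK0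
    have hconj : IsConj s (r K0) := by
      rw [← ConjClasses.mk_eq_mk_iff_isConj, hr]
    have h0 : (orderOf (r K0)).Coprime p := by
      obtain ⟨c, hc⟩ := isConj_iff.mp hconj
      have : orderOf (r K0) = orderOf s := by
        rw [← hc]
        have := orderOf_conj' c⁻¹ s
        rw [inv_inv] at this
        exact this
      rw [this]; exact hs
    have hsum : F s = T K0 s := by
      rw [hF, Finset.sum_apply]
      apply Finset.sum_eq_single K0
      · intro K _ hK
        rw [hT]
        dsimp only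
        split_ifs with h
        · apply hfvan _ h s hs
          intro hc
          apply hK
          rw [← hr K, hK0]
          exact (ConjClasses.mk_eq_mk_iff_isConj.mpr hc).symm
        · rfl
      · intro h
        exact absurd (Finset.mem_univ K0) h
    have hTK0 : T K0 s = f (r K0) h0 (r K0) := by
      rw [hT]
      dsimp only
      rw [dif_pos h0]
      exact classFunction_isConj (isClassFunction_of_mem_GC (VE_le_GC (hfVE _ h0))) hconj
    rw [hsum, hTK0] at hn
    exact hfx _ h0 n hn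
  refine ⟨F, hFVE, ?_⟩
  intro y
  obtain ⟨n, hn⟩ := hFint y
  refine ⟨n, hn, ?_⟩
  obtain ⟨z, hz, k, hzcop, hpow⟩ := exists_pprime_part hp y
  obtain ⟨m, hm⟩ := hFint z
  have h1 := int_dvd_sub_of_pow_eq hint hA hp (VE_le_GC hFVE) y z hz k hpow n m hn hm
  intro hdvd
  apply hFreg z hzcop m hm
  have := dvd_sub hdvd h1
  rwa [sub_sub_cancel] at this

theorem int_pow_totient_sub_one {p : ℕ} (hp : p.Prime) (n : ℕ) (a : ℤ) (ha : ¬ (p : ℤ) ∣ a) :
    ((p ^ n : ℕ) : ℤ) ∣ a ^ Nat.totient (p ^ n) - 1 := by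
  have hpi : Prime (p : ℤ) := Nat.prime_iff_prime_int.mp hp
  have h1 : IsCoprime a ((p ^ n : ℕ) : ℤ) := by
    push_cast
    apply IsCoprime.pow_right
    exact ((Prime.coprime_iff_not_dvd hpi).mpr ha).symm
  have h2 := ZMod.pow_totient (ZMod.unitOfIsCoprime a h1)
  have h3 : ((a : ZMod (p ^ n)) ^ Nat.totient (p ^ n)) = 1 := by
    have := congrArg Units.val h2
    rw [Units.val_pow_eq_pow_val, Units.val_one, ZMod.coe_unitOfIsCoprime] at this
    exact this
  rw [← ZMod.intCast_zmod_eq_zero_iff_dvd]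
  push_cast
  rw [h3, sub_self]

/-- for each prime `p`, some integer prime to `p` lies in `VE A G` (as a constant function) -/
theorem exists_pprime_mem (hint : ∀ a ∈ A, IsIntegral ℤ a)
    (hA : ∀ z : ℂ, z ^ Nat.card G = 1 → z ∈ A) {p : ℕ} (hp : p.Prime) :
    ∃ l : ℕ, ¬ p ∣ l ∧ (fun _ : G => (l : ℂ)) ∈ VE A G := by
  classical
  have hG0 : Nat.card G ≠ 0 := Nat.card_pos.ne'
  obtain ⟨n, l, hl, hnl⟩ := Nat.exists_eq_pow_mul_and_not_dvd hG0 p hp.ne_one
  obtain ⟨F, hFVE, hF⟩ := exists_global hint hA hp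
  choose a haF hap using hF
  set N := Nat.totient (p ^ n) with hN
  have hNpos : 0 < N := Nat.totient_pos.mpr (pow_pos hp.pos n)
  have hdvd : ∀ y, ((p ^ n : ℕ) : ℤ) ∣ a y ^ N - 1 := fun y =>
    int_pow_totient_sub_one hp n (a y) (hap y)
  choose b hb using hdvd
  have hpn0 : ((p ^ n : ℕ) : ℂ) ≠ 0 := by
    have : p ^ n ≠ 0 := pow_ne_zero n hp.ne_zero
    exact_mod_cast this
  set h : G → ℂ := fun y => (F y ^ N - 1) / ((p ^ n : ℕ) : ℂ) with hh
  have hFcl : IsClassFunction G F := isClassFunction_of_mem_GC (VE_le_GC hFVE)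
  have hcl : IsClassFunction G h := by
    intro g c
    rw [hh]
    dsimp only
    rw [hFcl g c]
  have hval : ∀ y, h y ∈ A := by
    intro y
    have : h y = ((b y : ℤ) : ℂ) := by
      rw [hh]
      dsimp only
      rw [div_eq_iff hpn0, haF y]
      have := congrArg (fun z : ℤ => (z : ℂ)) (hb y)
      push_cast at this ⊢
      rw [this]
      ring
    rw [this]
    exact intCast_mem A _
  have h1 := card_mul_mem_VE hA hcl hval
  have h2 : (l • F ^ N) ∈ VE A G := nsmul_mem (pow_mem_VE hFVE hNpos) l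
  refine ⟨l, hl, ?_⟩
  have h3 : (fun _ : G => (l : ℂ)) = (l • F ^ N) - fun g => (Nat.card G : ℂ) * h g := by
    funext g
    rw [Pi.sub_apply, Pi.smul_apply, Pi.pow_apply, nsmul_eq_mul, hh]
    dsimp only
    rw [hnl]
    have hp0 : (p : ℂ) ≠ 0 := by
      have := hp.ne_zero
      exact_mod_cast this
    push_cast
    field_simp
    ring
  rw [h3]
  exact Submodule.sub_mem _ h2 h1

/-- **`1 ∈ VE A G`** -/
theorem one_mem_VE (hint : ∀ a ∈ A, IsIntegral ℤ a)
    (hA : ∀ z : ℂ, z ^ Nat.card G = 1 → z ∈ A) : (1 : G → ℂ) ∈ VE A G := by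
  classical
  have hex : ∃ m : ℕ, 0 < m ∧ (fun _ : G => (m : ℂ)) ∈ VE A G := by
    refine ⟨Nat.card G, Nat.card_pos, ?_⟩
    have := card_mul_mem_VE (A := A) hA (h := fun _ : G => (1 : ℂ)) (fun _ _ => rfl)
      (fun _ => one_mem A)
    simpa using this
  set m0 := Nat.find hex with hm0
  obtain ⟨hm0pos, hm0mem⟩ : 0 < m0 ∧ (fun _ : G => (m0 : ℂ)) ∈ VE A G := Nat.find_spec hex
  have hm01 : m0 = 1 := by
    by_contra hne
    obtain ⟨p, hp, hpd⟩ := Nat.exists_prime_and_dvd hne
    obtain ⟨l, hl, hlmem⟩ := exists_pprime_mem hint hA hp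
    set g := Nat.gcd m0 l with hg
    have hgpos : 0 < g := Nat.gcd_pos_of_pos_left _ hm0pos
    have hgmem : (fun _ : G => (g : ℂ)) ∈ VE A G := by
      have hbez := Nat.gcd_eq_gcd_ab m0 l
      have : (fun _ : G => (g : ℂ)) = (Nat.gcdA m0 l) • (fun _ : G => (m0 : ℂ)) +
          (Nat.gcdB m0 l) • (fun _ : G => (l : ℂ)) := by
        funext x
        rw [Pi.add_apply, Pi.smul_apply, Pi.smul_apply, zsmul_eq_mul, zsmul_eq_mul]
        have := congrArg (fun z : ℤ => (z : ℂ)) hbez
        push_cast at this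
        rw [hg]
        push_cast
        rw [this]
        ring
      rw [this]
      exact Submodule.add_mem _ (zsmul_mem hm0mem _) (zsmul_mem hlmem _)
    have hle : m0 ≤ g := Nat.find_min' hex ⟨hgpos, hgmem⟩
    have hge : g ≤ m0 := Nat.le_of_dvd hm0pos (Nat.gcd_dvd_left m0 l)
    have heq : g = m0 := le_antisymm hge hle
    apply hl
    exact dvd_trans hpd (heq ▸ Nat.gcd_dvd_right m0 l)
  rw [hm01] at hm0mem
  convert hm0mem using 1
  funext x
  simp

end

end Cfsg.Agent.Lib.Helper3
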