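import Mathlib
import Cfsg.Prelude.Def_Characters
import Cfsg.Agent.Lib.Helper3.BrGlobal

/-!
# Brauer induction: descent from `ℤ[ω]` to `ℤ` (helper3)
-/

set_option autoImplicit false

namespace Cfsg.Agent.Lib.Helper3

open Cfsg
open scoped ComplexConjugate

universe u

theorem exists_retraction {ω : ℂ} (hω : IsIntegral ℤ ω) :
    ∃ φ : (Algebra.adjoin ℤ ({ω} : Set ℂ)) →ₗ[ℤ] ℤ, φ 1 = 1 := by
  have hdim : 0 < (Algebra.adjoin.powerBasis' hω).dim := by
    rw [Algebra.adjoin.powerBasis'_dim]
    exact minpoly.natDegree_pos hω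
  refine ⟨(Algebra.adjoin.powerBasis' hω).basis.coord ⟨0, hdim⟩, ?_⟩
  have h1 : (1 : Algebra.adjoin ℤ ({ω} : Set ℂ)) =
      (Algebra.adjoin.powerBasis' hω).basis ⟨0, hdim⟩ := by
    rw [PowerBasis.coe_basis]
    simp
  rw [h1, Module.Basis.coord_apply, Module.Basis.repr_self, Finsupp.single_eq_same]

/-- a subring of `ℂ` of algebraic integers containing the `g`-th roots of unity and admitting an
additive retraction onto `ℤ` -/
theorem exists_good_subring (g : ℕ) (hg : 0 < g) :
    ∃ A : Subring ℂ, (∀ a ∈ A, IsIntegral ℤ a) ∧ (∀ z : ℂ, z ^ g = 1 → z ∈ A) ∧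
      ∃ π : A →+ ℤ, π 1 = 1 := by
  haveI : NeZero g := ⟨hg.ne'⟩
  have hω : IsPrimitiveRoot (Complex.exp (2 * Real.pi * Complex.I / g)) g :=
    Complex.isPrimitiveRoot_exp g hg.ne'
  generalize Complex.exp (2 * Real.pi * Complex.I / g) = ω at hω
  have hωint : IsIntegral ℤ ω := hω.isIntegral hg
  have hωS : ω ∈ Algebra.adjoin ℤ ({ω} : Set ℂ) := Algebra.subset_adjoin (Set.mem_singleton ω)
  obtain ⟨φ, hφ⟩ := exists_retraction hωint
  refine ⟨(Algebra.adjoin ℤ ({ω} : Set ℂ)).toSubring, ?_, ?_, ?_⟩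
  · intro a ha
    have h1 : Algebra.adjoin ℤ ({ω} : Set ℂ) ≤ integralClosure ℤ ℂ :=
      adjoin_le_integralClosure hωint
    exact h1 ha
  · intro z hz
    obtain ⟨i, -, hi⟩ := hω.eq_pow_of_pow_eq_one hz
    rw [← hi]
    exact pow_mem hωS i
  · refine ⟨{ toFun := fun a => φ ⟨a.1, a.2⟩, map_zero' := ?_, map_add' := ?_ }, ?_⟩
    · exact map_zero φ
    · intro a b
      exact map_add φ ⟨a.1, a.2⟩ ⟨b.1, b.2⟩
    · exact hφ

section

variable {A : Subring ℂ} {G : Type u} [Group G] [Fintype G]

open Classical in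
/-- the extension by zero of `π` to `ℂ` -/
noncomputable def extPi (π : A →+ ℤ) (z : ℂ) : ℤ := if h : z ∈ A then π ⟨z, h⟩ else 0

theorem extPi_of_mem (π : A →+ ℤ) {z : ℂ} (h : z ∈ A) : extPi π z = π ⟨z, h⟩ := by
  unfold extPi
  rw [dif_pos h]

theorem extPi_add (π : A →+ ℤ) {z w : ℂ} (hz : z ∈ A) (hw : w ∈ A) :
    extPi π (z + w) = extPi π z + extPi π w := by
  rw [extPi_of_mem π hz, extPi_of_mem π hw, extPi_of_mem π (add_mem hz hw), ← map_add]
  rfl

theorem extPi_zero (π : A →+ ℤ) : extPi π 0 = 0 := by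
  rw [extPi_of_mem π (zero_mem A)]
  exact map_zero π

theorem extPi_mul_int (π : A →+ ℤ) {a : ℂ} (ha : a ∈ A) (n : ℤ) :
    extPi π (a * (n : ℂ)) = n * extPi π a := by
  have h1 : a * (n : ℂ) ∈ A := mul_mem ha (intCast_mem A n)
  rw [extPi_of_mem π h1, extPi_of_mem π ha]
  have : (⟨a * (n : ℂ), h1⟩ : A) = n • (⟨a, ha⟩ : A) := by
    apply Subtype.ext
    simp [mul_comm]
  rw [this, map_zsmul, smul_eq_mul]

theorem extPi_int (π : A →+ ℤ) (hπ : π 1 = 1) (n : ℤ) : extPi π (n : ℂ) = n := by
  have := extPi_mul_int π (one_mem A) n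
  rw [one_mul] at this
  rw [this, extPi_of_mem π (one_mem A)]
  have : (⟨1, one_mem A⟩ : A) = 1 := rfl
  rw [this, hπ, mul_one]

/-- **descent**: an `A`-combination of generalized characters which has integral coefficients
is a `ℤ`-combination -/
theorem descent (π : A →+ ℤ) (hπ : π 1 = 1) (S : Set (G → ℂ))
    (hS : ∀ s ∈ S, IsClassFunction G s ∧ ∀ χ : IrrCharacter G, ∃ n : ℤ, classInner s χ = n)
    {f : G → ℂ} (hf : f ∈ Submodule.span A S)
    (hfint : ∀ χ : IrrCharacter G, ∃ n : ℤ, classInner f χ = n) :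
    f ∈ AddSubgroup.closure S := by
  classical
  letI : Fintype (IrrCharacter G) := Fintype.ofFinite _
  set Φ : (G → ℂ) → (G → ℂ) := fun f =>
    ∑ χ : IrrCharacter G, ((extPi π (classInner f χ) : ℤ) : ℂ) • (χ : G → ℂ) with hΦ
  have key : ∀ f' : G → ℂ, f' ∈ Submodule.span A S →
      (∀ χ : IrrCharacter G, classInner f' χ ∈ A) ∧ IsClassFunction G f' ∧
      Φ f' ∈ AddSubgroup.closure S := by
    intro f' hf'
    induction hf' using Submodule.closure_induction with
    | zero =>
      refine ⟨fun χ => ?_, fun _ _ => rfl, ?_⟩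
      · rw [classInner_zero_left]; exact zero_mem A
      · have : Φ 0 = 0 := by
          rw [hΦ]
          dsimp only
          apply Finset.sum_eq_zero
          intro χ _
          rw [classInner_zero_left, extPi_zero, Int.cast_zero, zero_smul]
        rw [this]
        exact zero_mem _
    | add x y _ _ hx hy =>
      obtain ⟨hx1, hx2, hx3⟩ := hx
      obtain ⟨hy1, hy2, hy3⟩ := hy
      refine ⟨fun χ => ?_, isClassFunction_add hx2 hy2, ?_⟩
      · rw [classInner_add_left]; exact add_mem (hx1 χ) (hy1 χ)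
      · have : Φ (x + y) = Φ x + Φ y := by
          rw [hΦ]
          dsimp only
          rw [← Finset.sum_add_distrib]
          apply Finset.sum_congr rfl
          intro χ _
          rw [classInner_add_left, extPi_add π (hx1 χ) (hy1 χ), Int.cast_add, add_smul]
        rw [this]
        exact add_mem hx3 hy3
    | smul_mem a s hs =>
      obtain ⟨hcl, hint⟩ := hS s hs
      choose n hn using hint
      have hinner : ∀ χ : IrrCharacter G, classInner (a • s) χ = (a : ℂ) * (n χ : ℂ) := by
        intro χ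
        have : (a • s) = ((a : ℂ) • s) := rfl
        rw [this, classInner_smul_left, hn]
      refine ⟨fun χ => ?_, ?_, ?_⟩
      · rw [hinner]; exact mul_mem a.2 (intCast_mem A _)
      · have : (a • s) = ((a : ℂ) • s) := rfl
        rw [this]
        exact isClassFunction_smul _ hcl
      · have hexp := classFunction_expansion s hcl
        have : Φ (a • s) = (π a) • s := by
          rw [hΦ]
          dsimp only
          conv_rhs => rw [hexp]
          rw [Finset.smul_sum]
          apply Finset.sum_congr rfl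
          intro χ _
          rw [hinner, extPi_mul_int π a.2, extPi_of_mem π a.2, hn]
          have e : (⟨(a : ℂ), a.2⟩ : A) = a := rfl
          rw [e]
          funext g
          simp only [Pi.smul_apply, smul_eq_mul, zsmul_eq_mul]
          push_cast
          ring
        rw [this]
        exact zsmul_mem (AddSubgroup.subset_closure hs) _
  obtain ⟨h1, h2, h3⟩ := key f hf
  have : Φ f = f := by
    rw [hΦ]
    dsimp only
    conv_rhs => rw [classFunction_expansion f h2]
    apply Finset.sum_congr rfl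
    intro χ _
    obtain ⟨n, hn⟩ := hfint χ
    rw [hn, extPi_int π hπ]
  rw [← this]
  exact h3

end

end Cfsg.Agent.Lib.Helper3
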