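import Mathlib
import Cfsg.Prelude.Def_Characters
import Cfsg.Agent.Lib.Helper3.BrDescent
import Cfsg.Agent.Lib.Helper75.Monomial
import Cfsg.Agent.Lib.Helper75.IndTrans
import Cfsg.Agent.Lib.Helper78.CharMore

/-!
# Brauer's induction theorem (helper3)

* `one_mem_closure_elemInd` : the trivial character is a `ℤ`-combination of characters induced
  from elementary subgroups;
* `mem_closure_linInd_of_isCharacter` : every character is a `ℤ`-combination of characters induced
  from linear characters of elementary subgroups;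
* `brauer_list` : the same in list form.
-/

set_option autoImplicit false

namespace Cfsg.Agent.Lib.Helper3

open Cfsg
open scoped ComplexConjugate

universe u

section

variable {G : Type u} [Group G] [Fintype G]

/-- **Brauer**: `1` is a `ℤ`-combination of characters induced from elementary subgroups -/
theorem one_mem_closure_elemInd : (1 : G → ℂ) ∈ AddSubgroup.closure (elemInd G) := by
  obtain ⟨A, hint, hA, π, hπ⟩ := exists_good_subring (Nat.card G) Nat.card_pos
  have h1 : (1 : G → ℂ) ∈ VE A G := one_mem_VE hint hA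
  apply descent π hπ (elemInd G) _ h1
  · intro χ
    obtain ⟨n, hn⟩ := Cfsg.Agent.S0148.exists_nat_classInner_of_isCharacter
      (Cfsg.Agent.Lib.Helper80.isCharacter_one (G := G))
      (Cfsg.Agent.Lib.Helper80.isCharacter_of_isIrr χ.2)
    exact ⟨n, by rw [← Int.cast_natCast] at hn; exact hn⟩
  · rintro s ⟨E, ψ, -, hψ, rfl⟩
    have hchar := Cfsg.Agent.S0148.result E ψ hψ
    refine ⟨Cfsg.Agent.Lib.Helper80.isClassFunction_of_isCharacter hchar, fun χ => ?_⟩
    obtain ⟨n, hn⟩ := Cfsg.Agent.S0148.exists_nat_classInner_of_isCharacter hchar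
      (Cfsg.Agent.Lib.Helper80.isCharacter_of_isIrr χ.2)
    exact ⟨n, by rw [← Int.cast_natCast] at hn; exact hn⟩

/-- the `ℤ`-span of the elementary-induced characters is closed under multiplication by class
functions whose restrictions to elementary subgroups times characters stay in a given class;
here: by characters -/
theorem mul_mem_closure_elemInd {χ : G → ℂ} (hχ : IsCharacter G χ) {v : G → ℂ}
    (hv : v ∈ AddSubgroup.closure (elemInd G)) : χ * v ∈ AddSubgroup.closure (elemInd G) := by
  induction hv using AddSubgroup.closure_induction with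
  | mem w hw =>
    obtain ⟨E, ψ, hE, hψ, rfl⟩ := hw
    rw [mul_indFun_eq (Cfsg.Agent.Lib.Helper80.isClassFunction_of_isCharacter hχ)]
    apply AddSubgroup.subset_closure
    exact ⟨E, _, hE, Cfsg.Agent.Lib.Helper80.isCharacter_mul
      (Cfsg.Agent.Lib.Helper80.isCharacter_restrict E hχ) hψ, rfl⟩
  | zero => rw [mul_zero]; exact zero_mem _
  | add x y _ _ hx hy => rw [mul_add]; exact add_mem hx hy
  | neg x _ hx => rw [mul_neg]; exact neg_mem hx

theorem mem_closure_elemInd_of_isCharacter {χ : G → ℂ} (hχ : IsCharacter G χ) :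
    χ ∈ AddSubgroup.closure (elemInd G) := by
  have := mul_mem_closure_elemInd hχ (one_mem_closure_elemInd (G := G))
  rwa [mul_one] at this

/-- characters induced from linear characters of elementary subgroups -/
def linInd (G : Type u) [Group G] [Fintype G] : Set (G → ℂ) :=
  {f | ∃ (E : Subgroup G) (lam : E →* ℂˣ), (∃ p : ℕ, p.Prime ∧ IsElementary p E) ∧
    f = indFun E (fun e => (lam e : ℂ))}

theorem indFun_sum' {ι : Type*} (H : Subgroup G) (s : Finset ι) (f : ι → H → ℂ) :
    indFun H (∑ i ∈ s, f i) = ∑ i ∈ s, indFun H (f i) := by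
  classical
  induction s using Finset.induction_on with
  | empty => rw [Finset.sum_empty, Finset.sum_empty, indFun_zero']
  | insert a s ha ih => rw [Finset.sum_insert ha, Finset.sum_insert ha, indFun_add', ih]

theorem indFun_nsmul' (H : Subgroup G) (n : ℕ) (f : H → ℂ) :
    indFun H ((n : ℂ) • f) = n • indFun H f := by
  have h1 : ((n : ℂ) • f) = fun h => (n : ℂ) * f h := rfl
  rw [h1, indFun_smul']
  funext g
  rw [Pi.smul_apply, nsmul_eq_mul]

/-- a character induced from an irreducible character of an elementary subgroup is induced from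
a linear character of an elementary subgroup -/
theorem indFun_irr_mem_linInd (E : Subgroup G) {p : ℕ} (hp : p.Prime) (hE : IsElementary p E)
    {χ : E → ℂ} (hχ : IsIrrCharacter E χ) : indFun E χ ∈ linInd G := by
  classical
  haveI : Fintype E := Fintype.ofFinite E
  haveI : Group.IsNilpotent E := isNilpotent_of_isElementary hp hE
  obtain ⟨H, lam, rfl⟩ := Cfsg.Agent.Lib.Helper75.nilpotent_monomial χ hχ
  rw [Cfsg.Agent.Lib.Helper75.indFun_indFun]
  set e := H.equivMapOfInjective E.subtype E.subtype_injective with he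
  refine ⟨H.map E.subtype, lam.comp e.symm.toMonoidHom, ⟨p, hp, ?_⟩, ?_⟩
  · exact isElementary_of_mulEquiv e (isElementary_subgroup hp hE H)
  · rfl

theorem elemInd_subset_closure_linInd : elemInd G ⊆ AddSubgroup.closure (linInd G) := by
  classical
  rintro s ⟨E, ψ, ⟨p, hp, hE⟩, hψ, rfl⟩
  haveI : Fintype E := Fintype.ofFinite E
  obtain ⟨m, rfl⟩ := (Cfsg.Agent.Lib.Helper78.isCharacter_iff_exists_nat_combination ψ).mp hψ
  rw [indFun_sum']
  apply sum_mem
  intro χ _
  rw [indFun_nsmul']
  apply nsmul_mem
  exact AddSubgroup.subset_closure (indFun_irr_mem_linInd E hp hE χ.2)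

/-- **Brauer's induction theorem** (closure form) -/
theorem mem_closure_linInd_of_isCharacter {χ : G → ℂ} (hχ : IsCharacter G χ) :
    χ ∈ AddSubgroup.closure (linInd G) := by
  have h1 := mem_closure_elemInd_of_isCharacter hχ
  have h2 : AddSubgroup.closure (elemInd G) ≤ AddSubgroup.closure (linInd G) :=
    (AddSubgroup.closure_le _).mpr elemInd_subset_closure_linInd
  exact h2 h1

theorem neg_list_sum (l : List ((E : Subgroup G) × ((E →* ℂˣ) × ℤ))) :
    -(l.map fun t => (t.2.2 : ℂ) • indFun t.1 (fun e => (t.2.1 e : ℂ))).sum =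
      ((l.map fun t => (⟨t.1, (t.2.1, -t.2.2)⟩ : (E : Subgroup G) × ((E →* ℂˣ) × ℤ))).map
        fun t => (t.2.2 : ℂ) • indFun t.1 (fun e => (t.2.1 e : ℂ))).sum := by
  induction l with
  | nil => simp
  | cons a l ih =>
    rw [List.map_cons, List.sum_cons, List.map_cons, List.map_cons, List.sum_cons, neg_add, ih]
    congr 1
    simp

/-- **Brauer's induction theorem** (list form) -/
theorem brauer_list {f : G → ℂ} (hf : f ∈ AddSubgroup.closure (linInd G)) :
    ∃ l : List ((E : Subgroup G) × ((E →* ℂˣ) × ℤ)),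
      (∀ t ∈ l, ∃ p : ℕ, p.Prime ∧ IsElementary p t.1) ∧
      f = (l.map fun t => (t.2.2 : ℂ) • indFun t.1 (fun e => (t.2.1 e : ℂ))).sum := by
  induction hf using AddSubgroup.closure_induction with
  | mem w hw =>
    obtain ⟨E, lam, hE, rfl⟩ := hw
    refine ⟨[⟨E, (lam, 1)⟩], ?_, ?_⟩
    · intro t ht
      rw [List.mem_singleton] at ht
      rw [ht]
      exact hE
    · simp
  | zero => exact ⟨[], by simp, by simp⟩
  | add x y _ _ hx hy =>
    obtain ⟨l1, h1, rfl⟩ := hx
    obtain ⟨l2, h2, rfl⟩ := hy
    refine ⟨l1 ++ l2, ?_, ?_⟩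
    · intro t ht
      rcases List.mem_append.mp ht with h | h
      · exact h1 t h
      · exact h2 t h
    · rw [List.map_append, List.sum_append]
  | neg x _ hx =>
    obtain ⟨l, h1, rfl⟩ := hx
    refine ⟨l.map fun t => ⟨t.1, (t.2.1, -t.2.2)⟩, ?_, ?_⟩
    · intro t ht
      obtain ⟨t', ht', rfl⟩ := List.mem_map.mp ht
      exact h1 t' ht'
    · exact neg_list_sum l

end

end Cfsg.Agent.Lib.Helper3
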