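import Mathlib
import Cfsg.Prelude.Def_Characters
import Cfsg.Agent.Lib.Helper3.ColOrth

set_option autoImplicit false

namespace Cfsg.Agent.Lib.Helper3

open Module Representation
open scoped ComplexConjugate

section regular

variable {G : Type*} [Group G] [Fintype G]

/-- The character of the regular representation. -/
theorem leftRegular_character [DecidableEq G] (g : G) :
    (Representation.leftRegular ℂ G).character g = if g = 1 then (Nat.card G : ℂ) else 0 := by
  unfold Representation.character
  rw [LinearMap.trace_eq_matrix_trace ℂ (MonoidAlgebra.basis G ℂ), Matrix.trace]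
  simp only [Matrix.diag_apply, LinearMap.toMatrix_apply, MonoidAlgebra.basis_apply,
    Representation.ofMulAction_single, smul_eq_mul]
  have : ∀ x : G, ((MonoidAlgebra.basis G ℂ).repr (MonoidAlgebra.single (g * x) (1 : ℂ))) x =
      if g = 1 then 1 else 0 := by
    intro x
    show (MonoidAlgebra.single (g * x) (1 : ℂ)).coeff x = _
    rw [MonoidAlgebra.coeff_single, Finsupp.single_apply]
    simp
  rw [Finset.sum_congr rfl fun x _ => this x]
  split_ifs <;> simp [Nat.card_eq_fintype_card]

/-- The regular character is `∑ χ(1) χ`. -/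
theorem leftRegular_character_eq_sum [Fintype (Cfsg.IrrCharacter G)] :
    (Representation.leftRegular ℂ G).character =
      ∑ χ : Cfsg.IrrCharacter G, (χ : G → ℂ) 1 • (χ : G → ℂ) := by
  classical
  ext g
  rw [leftRegular_character]
  simp only [Finset.sum_apply, Pi.smul_apply, smul_eq_mul]
  have h := column_orthogonality g (1 : G)
  have h2 : ∑ χ : Cfsg.IrrCharacter G, (χ : G → ℂ) g * conj ((χ : G → ℂ) 1) =
      ∑ χ : Cfsg.IrrCharacter G, (χ : G → ℂ) 1 * (χ : G → ℂ) g :=
    Finset.sum_congr rfl fun χ _ => by rw [irrCharacter_one_conj, mul_comm]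
  rw [← h2, h]
  by_cases hg : g = 1
  · subst hg
    rw [if_pos rfl, if_pos (IsConj.refl 1)]
    have h3 : Subgroup.centralizer ({1} : Set G) = ⊤ := by
      ext x; simp [Subgroup.mem_centralizer_iff]
    rw [h3, Subgroup.card_top]
  · rw [if_neg hg, if_neg]
    intro hc
    exact hg (isConj_one_left.mp hc)

end regular

end Cfsg.Agent.Lib.Helper3
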