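import Mathlib

/-!
# Regular wreath products: base embedding, functoriality, Kaloujnine–Krasner embedding
-/

set_option autoImplicit false

namespace Cfsg.Agent.Lib.Helper3.Wreath

universe u v w

variable {D : Type u} {D' : Type v} {Q : Type w} [Group D] [Group D'] [Group Q]

/-- the base group embedding `(Q → D) →* D ≀ᵣ Q` -/
def base : (Q → D) →* D ≀ᵣ Q where
  toFun b := ⟨b, 1⟩
  map_one' := rfl
  map_mul' a b := by
    ext x
    · simp [RegularWreathProduct.mul_left]
    · simp [RegularWreathProduct.mul_right]

@[simp] theorem base_left (b : Q → D) : (base b : D ≀ᵣ Q).left = b := rfl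
@[simp] theorem base_right (b : Q → D) : (base b : D ≀ᵣ Q).right = 1 := rfl

theorem base_injective : Function.Injective (base : (Q → D) →* D ≀ᵣ Q) := by
  intro a b h
  have := congrArg RegularWreathProduct.left h
  simpa using this

theorem mem_range_base {x : D ≀ᵣ Q} : x ∈ (base : (Q → D) →* D ≀ᵣ Q).range ↔ x.right = 1 := by
  constructor
  · rintro ⟨b, rfl⟩
    rfl
  · intro h
    refine ⟨x.left, ?_⟩
    ext y
    · rfl
    · exact h.symm

theorem range_base_eq_ker :
    (base : (Q → D) →* D ≀ᵣ Q).range = (RegularWreathProduct.rightHom : D ≀ᵣ Q →* Q).ker := by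
  ext x
  rw [mem_range_base, MonoidHom.mem_ker]
  rfl

instance range_base_normal : ((base : (Q → D) →* D ≀ᵣ Q).range).Normal := by
  rw [range_base_eq_ker]
  infer_instance

/-- conjugating a base element by `⟨a, c⟩` -/
theorem conj_base (x : D ≀ᵣ Q) (b : Q → D) :
    x⁻¹ * base b * x = base (fun y => (x.left (x.right * y))⁻¹ * b (x.right * y) * x.left (x.right * y)) := by
  ext y
  · simp [RegularWreathProduct.mul_left, RegularWreathProduct.inv_left,
      RegularWreathProduct.mul_right, RegularWreathProduct.inv_right]
  · simp [RegularWreathProduct.mul_right, RegularWreathProduct.inv_right]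

/-- conjugating a base element the other way -/
theorem conj_base' (x : D ≀ᵣ Q) (b : Q → D) :
    x * base b * x⁻¹ = base (fun y => x.left y * b (x.right⁻¹ * y) * (x.left y)⁻¹) := by
  ext y
  · simp [RegularWreathProduct.mul_left, RegularWreathProduct.inv_left,
      RegularWreathProduct.mul_right, RegularWreathProduct.inv_right]
  · simp [RegularWreathProduct.mul_right, RegularWreathProduct.inv_right]

/-- functoriality of the regular wreath product in the bottom group -/
def mapLeft (f : D →* D') : D ≀ᵣ Q →* D' ≀ᵣ Q where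
  toFun x := ⟨fun q => f (x.left q), x.right⟩
  map_one' := by
    ext y
    · simp
    · rfl
  map_mul' a b := by
    ext y
    · simp [RegularWreathProduct.mul_left]
    · simp [RegularWreathProduct.mul_right]

theorem mapLeft_injective {f : D →* D'} (hf : Function.Injective f) :
    Function.Injective (mapLeft f : D ≀ᵣ Q →* D' ≀ᵣ Q) := by
  intro a b h
  have h1 := congrArg RegularWreathProduct.left h
  have h2 := congrArg RegularWreathProduct.right h
  ext y
  · exact hf (congrFun h1 y)
  · exact h2

section KK

variable {G : Type u} [Group G] (N : Subgroup G) [hN : N.Normal]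

theorem kk_mem (g : G) (x : G ⧸ N) :
    (Quotient.out x)⁻¹ * g * Quotient.out ((g : G ⧸ N)⁻¹ * x) ∈ N := by
  rw [← QuotientGroup.eq_one_iff]
  simp only [QuotientGroup.mk_mul, QuotientGroup.mk_inv, QuotientGroup.out_eq']
  group

/-- the Kaloujnine–Krasner embedding of `G` in `N ≀ᵣ (G ⧸ N)` -/
noncomputable def kk : G →* N ≀ᵣ (G ⧸ N) where
  toFun g := ⟨fun x => ⟨(Quotient.out x)⁻¹ * g * Quotient.out ((g : G ⧸ N)⁻¹ * x), kk_mem N g x⟩,
    (g : G ⧸ N)⟩
  map_one' := by
    ext x
    · simp
    · rfl
  map_mul' a b := by
    ext x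
    · simp only [RegularWreathProduct.mul_left, Pi.mul_apply, Subgroup.coe_mul, inv_inv,
        QuotientGroup.mk_mul, mul_inv_rev]
      simp only [mul_assoc]
      simp
    · rfl

theorem kk_injective : Function.Injective (kk N) := by
  rw [injective_iff_map_eq_one]
  intro g hg
  have h1 : ((g : G ⧸ N)) = 1 := congrArg RegularWreathProduct.right hg
  have h2 := congrFun (congrArg RegularWreathProduct.left hg) 1
  have h3 := congrArg (Subtype.val) h2
  simp only [kk, MonoidHom.coe_mk, OneHom.coe_mk, h1, inv_one, one_mul,
    RegularWreathProduct.one_left, Pi.one_apply, Subgroup.coe_one] at h3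
  have h4 : g = Quotient.out (1 : G ⧸ N) * (Quotient.out (1 : G ⧸ N))⁻¹ := by
    have := congrArg (fun z => Quotient.out (1 : G ⧸ N) * z * (Quotient.out (1 : G ⧸ N))⁻¹) h3
    simpa [mul_assoc] using this
  rw [h4]
  simp

end KK

end Cfsg.Agent.Lib.Helper3.Wreath
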