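import Mathlib
import Cfsg.Prelude.Def_Characters
import Cfsg.Agent.Lib.Helper3.CharIrr

set_option autoImplicit false

namespace Cfsg.Agent.Lib.Helper3

open Module Representation MulAction
open scoped ComplexConjugate

section permchar

variable {G : Type*} [Group G] {X : Type*} [MulAction G X]

instance finiteDimensional_monoidAlgebra [Finite X] : FiniteDimensional ℂ (MonoidAlgebra ℂ X) :=
  Module.Finite.of_basis (MonoidAlgebra.basis X ℂ)

/-- The character of the permutation representation counts fixed points. -/
theorem ofMulAction_character [Finite X] (g : G) :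
    (Representation.ofMulAction ℂ G X).character g = (Nat.card (fixedBy X g) : ℂ) := by
  classical
  have : Fintype X := Fintype.ofFinite X
  unfold Representation.character
  rw [LinearMap.trace_eq_matrix_trace ℂ (MonoidAlgebra.basis X ℂ), Matrix.trace]
  simp only [Matrix.diag_apply, LinearMap.toMatrix_apply, MonoidAlgebra.basis_apply,
    Representation.ofMulAction_single]
  have : ∀ x : X, ((MonoidAlgebra.basis X ℂ).repr (MonoidAlgebra.single (g • x) (1 : ℂ))) x =
      if g • x = x then 1 else 0 := by
    intro x
    show (MonoidAlgebra.single (g • x) (1 : ℂ)).coeff x = _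
    rw [MonoidAlgebra.coeff_single, Finsupp.single_apply]
  rw [Finset.sum_congr rfl fun x _ => this x, Finset.sum_boole]
  congr 1
  rw [Nat.card_eq_fintype_card, Fintype.card_subtype]
  rfl

/-- The permutation character is a character. -/
theorem isCharacter_card_fixedBy [Finite X] :
    Cfsg.IsCharacter G (fun g : G => (Nat.card (fixedBy X g) : ℂ)) := by
  have h := isCharacter_character (Representation.ofMulAction ℂ G X)
  have h2 : (Representation.ofMulAction ℂ G X).character =
      fun g => (Nat.card (fixedBy X g) : ℂ) := funext fun g => ofMulAction_character g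
  rwa [h2] at h

/-- Burnside's lemma in terms of `classInner`. -/
theorem classInner_card_fixedBy_one [Fintype G] [Finite X] :
    Cfsg.classInner (fun g : G => (Nat.card (fixedBy X g) : ℂ)) (fun _ : G => (1 : ℂ)) =
      (Nat.card (orbitRel.Quotient G X) : ℂ) := by
  classical
  have : Fintype X := Fintype.ofFinite X
  have : Fintype (orbitRel.Quotient G X) := Fintype.ofFinite _
  have hB := MulAction.sum_card_fixedBy_eq_card_orbits_mul_card_group G X
  unfold Cfsg.classInner
  simp only [map_one, mul_one]
  have h1 : ∑ g : G, (Nat.card (fixedBy X g) : ℂ) =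
      ((∑ g : G, Fintype.card (fixedBy X g) : ℕ) : ℂ) := by
    push_cast
    refine Finset.sum_congr rfl fun g _ => ?_
    rw [Nat.card_eq_fintype_card]
  rw [h1, hB]
  push_cast
  rw [Nat.card_eq_fintype_card, Nat.card_eq_fintype_card]
  have hG : (Fintype.card G : ℂ) ≠ 0 := by
    exact_mod_cast Fintype.card_ne_zero
  field_simp

/-- Fixed points on a product. -/
theorem card_fixedBy_prod [Finite X] (g : G) :
    Nat.card (fixedBy (X × X) g) = Nat.card (fixedBy X g) * Nat.card (fixedBy X g) := by
  rw [← Nat.card_prod]
  apply Nat.card_congr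
  refine ⟨fun p => (⟨p.1.1, ?_⟩, ⟨p.1.2, ?_⟩), fun q => ⟨(q.1.1, q.2.1), ?_⟩, ?_, ?_⟩
  · have h : g • (p.1 : X × X) = p.1 := p.2
    show g • (p.1 : X × X).1 = (p.1 : X × X).1
    exact congrArg Prod.fst h
  · have h : g • (p.1 : X × X) = p.1 := p.2
    show g • (p.1 : X × X).2 = (p.1 : X × X).2
    exact congrArg Prod.snd h
  · show g • ((q.1.1 : X), (q.2.1 : X)) = ((q.1.1 : X), (q.2.1 : X))
    exact Prod.ext q.1.2 q.2.2
  · intro p; rfl
  · intro q; rfl

/-- The norm of the permutation character is the number of orbits on pairs. -/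
theorem classInner_card_fixedBy_self [Fintype G] [Finite X] :
    Cfsg.classInner (fun g : G => (Nat.card (fixedBy X g) : ℂ))
      (fun g : G => (Nat.card (fixedBy X g) : ℂ)) =
      (Nat.card (orbitRel.Quotient G (X × X)) : ℂ) := by
  rw [← classInner_card_fixedBy_one (G := G) (X := X × X)]
  unfold Cfsg.classInner
  congr 1
  refine Finset.sum_congr rfl fun g _ => ?_
  simp only
  rw [card_fixedBy_prod]
  simp

end permchar

section twotrans

variable {G : Type*} [Group G] {X : Type*} [MulAction G X]

/-- For a transitive action on at least two points, 2-transitivity means exactly two orbits on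
pairs. -/
theorem is_two_pretransitive_iff_card_orbits [Finite X] [IsPretransitive G X]
    (hX : 2 ≤ Nat.card X) :
    IsMultiplyPretransitive G X 2 ↔ Nat.card (orbitRel.Quotient G (X × X)) = 2 := by
  classical
  have hfin : Finite (orbitRel.Quotient G (X × X)) := Quotient.finite _
  -- two distinct points
  have hnt : Nontrivial X := by
    rw [← Finite.one_lt_card_iff_nontrivial]
    omega
  obtain ⟨a, b, hab⟩ := exists_pair_ne X
  let u : orbitRel.Quotient G (X × X) := Quotient.mk'' (a, a)
  let v : orbitRel.Quotient G (X × X) := Quotient.mk'' (a, b)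
  -- orbit description
  have hrel : ∀ p q : X × X, (Quotient.mk'' p : orbitRel.Quotient G (X × X)) = Quotient.mk'' q ↔
      ∃ g : G, g • q = p := by
    intro p q
    rw [Quotient.eq'']
    show p ∈ orbit G q ↔ _
    rfl
  have huv : u ≠ v := by
    intro h
    obtain ⟨g, hg⟩ := (hrel _ _).mp h
    have h1 := congrArg Prod.fst hg
    have h2 := congrArg Prod.snd hg
    simp only [Prod.smul_fst, Prod.smul_snd] at h1 h2
    apply hab
    have : g • a = g • b := h1.trans h2.symm
    exact (MulAction.injective g) this
  have hdiag : ∀ c : X, (Quotient.mk'' (c, c) : orbitRel.Quotient G (X × X)) = u := by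
    intro c
    obtain ⟨g, hg⟩ := exists_smul_eq G a c
    rw [hrel]
    exact ⟨g, by simp [hg]⟩
  have hoff : ∀ c d : X, c ≠ d → (Quotient.mk'' (c, d) : orbitRel.Quotient G (X × X)) ≠ u := by
    intro c d hcd h
    obtain ⟨g, hg⟩ := (hrel _ _).mp h
    have h1 := congrArg Prod.fst hg
    have h2 := congrArg Prod.snd hg
    simp only [Prod.smul_fst, Prod.smul_snd] at h1 h2
    exact hcd (h1.symm.trans h2)
  rw [is_two_pretransitive_iff]
  constructor
  · intro h2
    rw [Nat.card_eq_two_iff' u]
    refine ⟨v, huv.symm, ?_⟩
    intro w hw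
    obtain ⟨⟨c, d⟩, rfl⟩ := Quotient.mk''_surjective w
    by_cases hcd : c = d
    · subst hcd
      exact absurd (hdiag c) hw
    · obtain ⟨g, hg1, hg2⟩ := h2 hab hcd
      show Quotient.mk'' (c, d) = Quotient.mk'' (a, b)
      rw [hrel]
      exact ⟨g, by simp [hg1, hg2]⟩
  · intro hcard a' b' c' d' hab' hcd'
    rw [Nat.card_eq_two_iff' u] at hcard
    obtain ⟨w, -, hw⟩ := hcard
    have h1 := hw _ (hoff a' b' hab')
    have h2 := hw _ (hoff c' d' hcd')
    obtain ⟨g, hg⟩ := (hrel _ _).mp (h2.trans h1.symm)
    have h3 := congrArg Prod.fst hg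
    have h4 := congrArg Prod.snd hg
    simp only [Prod.smul_fst, Prod.smul_snd] at h3 h4
    exact ⟨g, h3, h4⟩

end twotrans

end Cfsg.Agent.Lib.Helper3
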