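import Mathlib
import Cfsg.Prelude.Def_Characters
import Cfsg.Agent.Lib.Helper3.Complete

set_option autoImplicit false

namespace Cfsg.Agent.Lib.Helper3

open Module Representation
open scoped ComplexConjugate MonoidAlgebra

universe u v w

section decomp

variable {G : Type u} [Group G] [Finite G]

theorem neZero_card_complex : NeZero (Nat.card G : ℂ) :=
  ⟨by exact_mod_cast Nat.card_pos.ne'⟩

omit [Finite G] in
theorem isCompl_toSubmodule' {V : Type v} [AddCommGroup V] [Module ℂ V]
    {ρ : Representation ℂ G V} {S S' : Subrepresentation ρ}
    (h : IsCompl S S') : IsCompl S.toSubmodule S'.toSubmodule := by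
  constructor
  · rw [disjoint_iff]
    exact congrArg Subrepresentation.toSubmodule h.inf_eq_bot
  · rw [codisjoint_iff]
    exact congrArg Subrepresentation.toSubmodule h.sup_eq_top

/-- A representation is the product of complementary subrepresentations. -/
noncomputable def prodEquivOfIsCompl {V : Type v} [AddCommGroup V] [Module ℂ V]
    {ρ : Representation ℂ G V} {S S' : Subrepresentation ρ}
    (h : IsCompl S S') :
    Representation.Equiv (S.toRepresentation.prod S'.toRepresentation) ρ :=
  Representation.Equiv.mk
    (Submodule.prodEquivOfIsCompl S.toSubmodule S'.toSubmodule (isCompl_toSubmodule' h))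
    (fun g => by
      ext x <;> simp [Subrepresentation.toRepresentation])

/-- Products of equivalent representations are equivalent. -/
noncomputable def prodCongrEquiv {V₁ V₂ W₁ W₂ : Type*} [AddCommGroup V₁] [Module ℂ V₁]
    [AddCommGroup V₂] [Module ℂ V₂] [AddCommGroup W₁] [Module ℂ W₁] [AddCommGroup W₂] [Module ℂ W₂]
    {ρ₁ : Representation ℂ G V₁} {ρ₂ : Representation ℂ G V₂} {σ₁ : Representation ℂ G W₁}
    {σ₂ : Representation ℂ G W₂} (e₁ : Representation.Equiv ρ₁ σ₁)
    (e₂ : Representation.Equiv ρ₂ σ₂) : Representation.Equiv (ρ₁.prod ρ₂) (σ₁.prod σ₂) :=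
  Representation.Equiv.mk (LinearEquiv.prodCongr e₁.toLinearEquiv e₂.toLinearEquiv)
    (fun g => by
      ext x
      · simp [e₁.toIntertwiningMap.isIntertwining]
      · simp
      · simp
      · simp [e₂.toIntertwiningMap.isIntertwining])

omit [Finite G] in
theorem character_prod' {V : Type v} {W : Type w} [AddCommGroup V] [Module ℂ V]
    [FiniteDimensional ℂ V] [AddCommGroup W] [Module ℂ W] [FiniteDimensional ℂ W]
    (ρ : Representation ℂ G V) (σ : Representation ℂ G W) :
    (ρ.prod σ).character = ρ.character + σ.character := by
  funext g
  simp only [Representation.character, Pi.add_apply]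
  exact LinearMap.trace_prodMap' (ρ g) (σ g)

/-- Every nonzero finite-dimensional representation has an irreducible subrepresentation with
a complement. -/
theorem exists_irreducible_subrep_isCompl {V : Type v} [AddCommGroup V] [Module ℂ V]
    [Nontrivial V] (ρ : Representation ℂ G V) :
    ∃ S S' : Subrepresentation ρ, IsIrreducible S.toRepresentation ∧ IsCompl S S' := by
  have := neZero_card_complex (G := G)
  have hnt : Nontrivial ρ.asModule := ‹Nontrivial V›
  obtain ⟨m, hm⟩ := IsSemisimpleModule.exists_simple_submodule ℂ[G] ρ.asModule
  have hS := isIrreducible_toRepresentation_of_isSimpleModule ρ m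
  obtain ⟨S', hS'⟩ := exists_isCompl (Subrepresentation.ofSubmodule' m)
  exact ⟨_, S', hS, hS'⟩

/-- The inclusion of a subrepresentation as an intertwining map. -/
def subrepIncl {V : Type v} [AddCommGroup V] [Module ℂ V] {ρ : Representation ℂ G V}
    (S : Subrepresentation ρ) : IntertwiningMap S.toRepresentation ρ where
  toLinearMap := S.toSubmodule.subtype
  isIntertwining' _ := rfl

/-- An injective intertwining map gives an equivalence onto its range. -/
noncomputable def equivRangeOfInjective {V : Type v} {W : Type w} [AddCommGroup V] [Module ℂ V]
    [AddCommGroup W] [Module ℂ W] {ρ : Representation ℂ G V} {σ : Representation ℂ G W}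
    (f : IntertwiningMap ρ σ) (hf : Function.Injective f) :
    Representation.Equiv ρ f.range.toRepresentation :=
  Representation.Equiv.mk (LinearEquiv.ofInjective f.toLinearMap hf)
    (fun g => by
      apply LinearMap.ext
      intro x
      apply Subtype.ext
      show f (ρ g x) = σ g (f x)
      exact IntertwiningMap.isIntertwining ρ σ f g x)

end decomp

section main

variable {G : Type u} [Group G] [Fintype G]

omit [Fintype G] in
theorem finrank_eq_of_character_eq {V : Type v} {W : Type w} [AddCommGroup V] [Module ℂ V]
    [FiniteDimensional ℂ V] [AddCommGroup W] [Module ℂ W] [FiniteDimensional ℂ W]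
    (ρ : Representation ℂ G V) (σ : Representation ℂ G W) (h : ρ.character = σ.character) :
    finrank ℂ V = finrank ℂ W := by
  have := congrFun h 1
  rw [char_one, char_one] at this
  exact_mod_cast this

/-- Representations with equal characters are equivalent (induction on the dimension). -/
theorem nonempty_equiv_of_character_eq_aux (n : ℕ) :
    ∀ {V : Type v} {W : Type w} [AddCommGroup V] [Module ℂ V] [FiniteDimensional ℂ V]
      [AddCommGroup W] [Module ℂ W] [FiniteDimensional ℂ W]
      (ρ : Representation ℂ G V) (σ : Representation ℂ G W),
      finrank ℂ V = n → ρ.character = σ.character → Nonempty (ρ.Equiv σ) := by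
  induction n using Nat.strong_induction_on with
  | _ n ih =>
  intro V W _ _ _ _ _ _ ρ σ hn hchar
  have hVW := finrank_eq_of_character_eq ρ σ hchar
  rcases Nat.eq_zero_or_pos n with h0 | hpos
  · -- both spaces are trivial
    have hV : Subsingleton V := Module.finrank_zero_iff.mp (hn.trans h0)
    have hW : Subsingleton W := Module.finrank_zero_iff.mp (hVW.symm.trans (hn.trans h0))
    refine ⟨Representation.Equiv.mk (LinearEquiv.ofSubsingleton V W) (fun g => ?_)⟩
    ext x
    exact Subsingleton.elim _ _
  · have hVnt : Nontrivial V := Module.finrank_pos_iff.mp (hn ▸ hpos)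
    obtain ⟨S, S', hS, hSS'⟩ := exists_irreducible_subrep_isCompl ρ
    have e1 := prodEquivOfIsCompl hSS'
    have hχρ : ρ.character = S.toRepresentation.character + S'.toRepresentation.character := by
      rw [← character_prod', char_iso e1]
    -- a nonzero intertwiner from `S` to `σ`
    have hfin : finrank ℂ (IntertwiningMap S.toRepresentation σ) =
        finrank ℂ (IntertwiningMap S.toRepresentation ρ) := by
      have h1 := classInner_character_eq_finrank σ S.toRepresentation
      have h2 := classInner_character_eq_finrank ρ S.toRepresentation
      rw [← hchar, h2] at h1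
      exact_mod_cast h1.symm
    have hincl : subrepIncl S ≠ 0 := by
      intro h0
      have hSpos := finrank_pos_of_isIrreducible S.toRepresentation
      obtain ⟨x, hx⟩ := (Module.finrank_pos_iff_exists_ne_zero (R := ℂ)).mp hSpos
      apply hx
      have := congrArg (fun f : IntertwiningMap S.toRepresentation ρ => f x) h0
      exact Subtype.ext this
    have hpos2 : 0 < finrank ℂ (IntertwiningMap S.toRepresentation σ) := by
      rw [hfin]
      exact (Module.finrank_pos_iff_exists_ne_zero (R := ℂ)).mpr ⟨_, hincl⟩
    obtain ⟨f, hf⟩ := (Module.finrank_pos_iff_exists_ne_zero (R := ℂ)).mp hpos2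
    have hinj : Function.Injective f := by
      rcases IsIrreducible.injective_or_eq_zero f with h | h
      · exact h
      · exact absurd h hf
    have e2 := equivRangeOfInjective f hinj
    have := neZero_card_complex (G := G)
    obtain ⟨R', hRR'⟩ := exists_isCompl f.range
    have e3 := prodEquivOfIsCompl hRR'
    have hχσ : σ.character = f.range.toRepresentation.character + R'.toRepresentation.character := by
      rw [← character_prod', char_iso e3]
    have hχS : S.toRepresentation.character = f.range.toRepresentation.character := char_iso e2
    have hχS' : S'.toRepresentation.character = R'.toRepresentation.character := by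
      have := hchar
      rw [hχρ, hχσ, hχS] at this
      exact add_left_cancel this
    -- dimension of `S'` is smaller
    have hdim : finrank ℂ S'.toSubmodule < n := by
      have h1 : finrank ℂ (S.toSubmodule × S'.toSubmodule) = finrank ℂ V :=
        e1.toLinearEquiv.finrank_eq
      rw [Module.finrank_prod] at h1
      have hSpos := finrank_pos_of_isIrreducible S.toRepresentation
      omega
    obtain ⟨e4⟩ := ih _ hdim S'.toRepresentation R'.toRepresentation rfl hχS'
    exact ⟨e1.symm.trans ((prodCongrEquiv e2 e4).trans e3)⟩

/-- Complex representations of a finite group with equal characters are equivalent. -/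
theorem nonempty_equiv_of_character_eq' {V : Type v} {W : Type w} [AddCommGroup V] [Module ℂ V]
    [FiniteDimensional ℂ V] [AddCommGroup W] [Module ℂ W] [FiniteDimensional ℂ W]
    (ρ : Representation ℂ G V) (σ : Representation ℂ G W) (h : ρ.character = σ.character) :
    Nonempty (ρ.Equiv σ) :=
  nonempty_equiv_of_character_eq_aux _ ρ σ rfl h

end main

end Cfsg.Agent.Lib.Helper3
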