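import Mathlib

/-!
# Defect-one blocks, general case: group theory of `C_G(P)` for a Sylow subgroup of order `p` (helper3)

`P` a Sylow `p`-subgroup of `G` of prime order `p`, `C = C_G(P)`, `N = N_G(P)`.
-/

set_option autoImplicit false

namespace Cfsg.Agent.Lib.Helper3.DefOneGen

section Grp

variable {G : Type*} [Group G] {p : ℕ} [hp : Fact p.Prime]

/-- A subgroup of prime order is generated by each of its nontrivial elements. -/
theorem zpowers_eq_of_card_prime {Q : Subgroup G} (hQ : Nat.card Q = p) {y : G} (hy : y ∈ Q)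
    (hy1 : y ≠ 1) : Subgroup.zpowers y = Q := by
  have hfin : Finite Q := Nat.finite_of_card_ne_zero (by rw [hQ]; exact hp.out.ne_zero)
  have h1 : (⟨y, hy⟩ : Q) ≠ 1 := fun h => hy1 (congrArg Subtype.val h)
  have h2 : Subgroup.zpowers (⟨y, hy⟩ : Q) = ⊤ := zpowers_eq_top_of_prime_card hQ h1
  apply le_antisymm
  · rw [Subgroup.zpowers_le]
    exact hy
  · intro x hx
    have h3 : (⟨x, hx⟩ : Q) ∈ Subgroup.zpowers (⟨y, hy⟩ : Q) := by
      rw [h2]
      exact Subgroup.mem_top _
    obtain ⟨k, hk⟩ := Subgroup.mem_zpowers_iff.mp h3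
    rw [Subgroup.mem_zpowers_iff]
    refine ⟨k, ?_⟩
    have := congrArg Subtype.val hk
    simpa using this

/-- A subgroup of prime order is commutative. -/
theorem commute_of_card_prime {Q : Subgroup G} (hQ : Nat.card Q = p) {x y : G} (hx : x ∈ Q)
    (hy : y ∈ Q) : Commute x y := by
  by_cases hy1 : y = 1
  · rw [hy1]
    exact Commute.one_right x
  · have h := zpowers_eq_of_card_prime hQ hy hy1
    rw [← h] at hx
    obtain ⟨k, hk⟩ := Subgroup.mem_zpowers_iff.mp hx
    rw [← hk]
    exact (Commute.refl y).zpow_left k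

theorem le_centralizer_of_card_prime {Q : Subgroup G} (hQ : Nat.card Q = p) :
    Q ≤ Subgroup.centralizer (Q : Set G) := by
  intro x hx
  rw [Subgroup.mem_centralizer_iff]
  intro y hy
  exact (commute_of_card_prime hQ hx hy).eq.symm

/-- Membership in the centralizer of a subgroup of prime order is tested on any nontrivial
element. -/
theorem mem_centralizer_iff_commute {Q : Subgroup G} (hQ : Nat.card Q = p) {y : G} (hy : y ∈ Q)
    (hy1 : y ≠ 1) (g : G) : g ∈ Subgroup.centralizer (Q : Set G) ↔ Commute y g := by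
  constructor
  · intro h
    rw [Subgroup.mem_centralizer_iff] at h
    exact h y hy
  · intro h
    rw [Subgroup.mem_centralizer_iff]
    intro x hx
    have hz := zpowers_eq_of_card_prime hQ hy hy1
    rw [← hz] at hx
    obtain ⟨k, hk⟩ := Subgroup.mem_zpowers_iff.mp hx
    rw [← hk]
    exact (h.zpow_left k).eq

/-- An element conjugating a nontrivial element of `Q` (of prime order) into `Q` normalizes `Q`. -/
theorem mem_normalizer_of_conj_mem [Finite G] {Q : Subgroup G} (hQ : Nat.card Q = p) {y : G}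
    (hy : y ∈ Q) (hy1 : y ≠ 1) {x : G} (h : x * y * x⁻¹ ∈ Q) :
    x ∈ Subgroup.normalizer (Q : Set G) := by
  have hz := zpowers_eq_of_card_prime hQ hy hy1
  have h1 : x * y * x⁻¹ ≠ 1 := by
    intro h0
    apply hy1
    have : y = x⁻¹ * (x * y * x⁻¹) * x := by group
    rw [this, h0]
    group
  have hz' := zpowers_eq_of_card_prime hQ h h1
  -- conjugation maps `Q` into `Q`
  have hsub : ∀ q ∈ Q, x * q * x⁻¹ ∈ Q := by
    intro q hq
    rw [← hz] at hq
    obtain ⟨k, hk⟩ := Subgroup.mem_zpowers_iff.mp hq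
    rw [← hk, ← hz']
    rw [Subgroup.mem_zpowers_iff]
    refine ⟨k, ?_⟩
    rw [conj_zpow]
  have hQfin : Finite Q := Nat.finite_of_card_ne_zero (by rw [hQ]; exact hp.out.ne_zero)
  rw [Subgroup.mem_normalizer_iff]
  intro q
  constructor
  · exact hsub q
  · intro hq
    -- injective self-map of the finite set `Q`
    let φ : Q → Q := fun q => ⟨x * q * x⁻¹, hsub q q.2⟩
    have hinj : Function.Injective φ := by
      intro a b hab
      have : x * (a : G) * x⁻¹ = x * (b : G) * x⁻¹ := congrArg Subtype.val hab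
      apply Subtype.ext
      simpa using this
    have hsurj : Function.Surjective φ := Finite.surjective_of_injective hinj
    obtain ⟨a, ha⟩ := hsurj ⟨x * q * x⁻¹, hq⟩
    have : x * (a : G) * x⁻¹ = x * q * x⁻¹ := congrArg Subtype.val ha
    have hqa : q = (a : G) := by simpa using this.symm
    rw [hqa]
    exact a.2

/-- The normalizer of `Q` normalizes the centralizer of `Q`. -/
theorem normalizer_le_normalizer_centralizer (Q : Subgroup G) :
    Subgroup.normalizer (Q : Set G) ≤
      Subgroup.normalizer ((Subgroup.centralizer (Q : Set G) : Subgroup G) : Set G) := by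
  have key : ∀ n : G, n ∈ Subgroup.normalizer (Q : Set G) →
      ∀ c ∈ Subgroup.centralizer (Q : Set G), n * c * n⁻¹ ∈ Subgroup.centralizer (Q : Set G) := by
    intro n hn c hc
    rw [Subgroup.mem_centralizer_iff] at hc ⊢
    intro q hq
    have hq' : n⁻¹ * q * n ∈ Q := by
      have := (Subgroup.mem_normalizer_iff.mp (inv_mem hn) q).mp hq
      simpa using this
    have h1 := hc (n⁻¹ * q * n) hq'
    calc q * (n * c * n⁻¹) = n * ((n⁻¹ * q * n) * c) * n⁻¹ := by group
      _ = n * (c * (n⁻¹ * q * n)) * n⁻¹ := by rw [h1]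
      _ = n * c * n⁻¹ * q := by group
  intro n hn
  rw [Subgroup.mem_normalizer_iff]
  intro c
  constructor
  · exact key n hn c
  · intro h
    have := key n⁻¹ (inv_mem hn) _ h
    have e : n⁻¹ * (n * c * n⁻¹) * n⁻¹⁻¹ = c := by group
    rwa [e] at this

end Grp

section Syl

variable {G : Type*} [Group G] [Finite G] {p : ℕ} [hp : Fact p.Prime]

/-- `p`-elements of `C_G(P)` lie in the Sylow subgroup `P`. -/
theorem mem_sylow_of_mem_centralizer (P : Sylow p G) {c : G}
    (hc : c ∈ Subgroup.centralizer ((P : Subgroup G) : Set G)) (hck : ∃ k : ℕ, orderOf c = p ^ k) :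
    c ∈ (P : Subgroup G) := by
  have h1 : IsPGroup p (Subgroup.zpowers c) := by
    obtain ⟨k, hk⟩ := hck
    rw [IsPGroup.iff_card]
    exact ⟨k, by rw [Nat.card_zpowers, hk]⟩
  have h2 : Subgroup.zpowers c ≤ Subgroup.normalizer ((P : Subgroup G) : Set G) := by
    rw [Subgroup.zpowers_le]
    exact Subgroup.centralizer_le_normalizer _ hc
  have h3 : IsPGroup p ((P : Subgroup G) ⊔ Subgroup.zpowers c : Subgroup G) := by
    rw [sup_comm]
    exact IsPGroup.to_sup_of_normal_right' h1 P.2 h2
  have h4 := P.is_maximal' h3 le_sup_left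
  have h5 : c ∈ ((P : Subgroup G) ⊔ Subgroup.zpowers c : Subgroup G) :=
    (le_sup_right : Subgroup.zpowers c ≤ _) (Subgroup.mem_zpowers c)
  rw [h4] at h5
  exact h5

theorem index_normalizer_modEq_one (P : Sylow p G) :
    (Subgroup.normalizer ((P : Subgroup G) : Set G)).index ≡ 1 [MOD p] := by
  have h := P.card_eq_index_normalizer
  have h2 := card_sylow_modEq_one p G
  rw [h] at h2
  exact h2

end Syl

end Cfsg.Agent.Lib.Helper3.DefOneGen
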