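import Mathlib
import Cfsg.Agent.Lib.Helper78.BrauerCount
import Cfsg.Agent.Lib.Helper82.SubsecKernel

/-!
# Two-point block orthogonality on a `p`-section (helper3)

`∑_{χ ∈ B} χ(y s) conj χ(y s') = ∑_{ξ ∈ S} ξ(s) conj ξ(s')` for a `p`-element `y`, `H = C_G(y)`,
`p`-regular `s, s' ∈ H` and `S` the union of the blocks of `H` inducing `B`.
-/

set_option autoImplicit false
set_option linter.unusedSectionVars false

namespace Cfsg.Agent.Lib.Helper3.DefOneGen

open Cfsg Cfsg.Agent.Lib.Helper16 Cfsg.Agent.Lib.Helper78 Cfsg.Agent.Lib.Helper82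
open scoped ComplexConjugate

section Sec

variable {G : Type*} [Group G] [Fintype G] {M : Ideal AlgInt}

open scoped Classical in
/-- **Two-point block orthogonality on the section of `y`.** -/
theorem sum_block_section_mul_conj {p : ℕ} [Fact p.Prime] (hM : IsPModular p M) (y : G)
    (hy : ∃ k : ℕ, orderOf y = p ^ k) (H : Subgroup G) [Fintype H]
    (hH : H = Subgroup.centralizer ({y} : Set G)) {B : Set (IrrCharacter G)}
    (hB : IsPBlock M B) (s s' : H) (hs : ¬ p ∣ orderOf s) (hs' : ¬ p ∣ orderOf s') :
    ∑ χ ∈ Finset.univ.filter (fun χ : IrrCharacter G => χ ∈ B),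
      (χ : G → ℂ) (y * (s : G)) * conj ((χ : G → ℂ) (y * (s' : G))) =
      blockKernel (inducingSet M H B) s s' := by
  haveI hMp : M.IsPrime := isPModular_isPrime hM
  subst hH
  have hH : ∀ g : G, g ∈ Subgroup.centralizer ({y} : Set G) ↔ Commute y g := by
    intro g
    rw [Subgroup.mem_centralizer_iff]
    constructor
    · intro h
      exact h y (Set.mem_singleton y)
    · intro h t ht
      rw [Set.mem_singleton_iff] at ht
      rw [ht]
      exact h.eq
  have key := sum_irr_secPart_mul_conj y hy (Subgroup.centralizer ({y} : Set G)) hH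
    (e := inducingSet M (Subgroup.centralizer ({y} : Set G)) B) s s'
    (fun c hc => blockKernel_union_eq_zero hM _
      (inducingSet_closed (Subgroup.centralizer ({y} : Set G)) B) hs hc)
    (fun c hc => blockKernel_union_eq_zero hM _
      (inducingSet_closed (Subgroup.centralizer ({y} : Set G)) B) hs' hc)
  rw [← key, Finset.sum_filter]
  apply Finset.sum_congr rfl
  intro χ _
  unfold secPart
  rw [blockPart_inducingSet_irr hM y hy hB χ s hs, blockPart_inducingSet_irr hM y hy hB χ s' hs']
  split_ifs <;> simp

end Sec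

end Cfsg.Agent.Lib.Helper3.DefOneGen
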