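import Mathlib
import Cfsg.Agent.Lib.Helper78.CharOrtho
import Cfsg.Agent.Lib.Helper78.CharMore
import Cfsg.Agent.Lib.Helper78.FiniteAbelianDual
import Cfsg.Agent.Lib.Helper81.Gallagher
import Cfsg.Agent.Lib.Helper16.LocalRing
import Cfsg.Agent.Lib.Helper82.SubsecMain
import Cfsg.Agent.Lib.Helper79.Schur
import Cfsg.Agent.Lib.Helper16.BlockBasic

/-!
# Characters of a group with a central split Sylow subgroup (helper3)

Abstract setting: a finite group `K`, a finite commutative group `A`, homomorphisms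
`π : K →* A`, `ι : A →* K` with `π ∘ ι = id`, `ι A` central in `K` and `ker π` the set of
`p`-regular elements of `K` (`IsCentralSplit`).  For `λ : A →* ℂˣ` and `ϑ ∈ Irr(K)` the twist
`λ * ϑ : c ↦ λ (π c) ϑ(c)` is again irreducible.
-/

set_option autoImplicit false
set_option linter.unusedSectionVars false

namespace Cfsg.Agent.Lib.Helper3.DefOneGen

open Cfsg
open scoped ComplexConjugate

/-- `K = ι(A) × ker π` with `ι(A)` central and `ker π` the set of `p`-regular elements. -/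
structure IsCentralSplit {K A : Type*} [Group K] [Group A] (p : ℕ) (π : K →* A) (ι : A →* K) :
    Prop where
  right_inv : ∀ a, π (ι a) = a
  central : ∀ a k, ι a * k = k * ι a
  ker_iff : ∀ s : K, π s = 1 ↔ ¬ p ∣ orderOf s

section Split

variable {K A : Type*} [Group K] [Fintype K] [CommGroup A] [Fintype A] {p : ℕ}
  {π : K →* A} {ι : A →* K}

/-- The decomposition `K ≃ A × ker π`. -/
noncomputable def IsCentralSplit.equiv (h : IsCentralSplit p π ι) :
    K ≃ A × {s : K // π s = 1} where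
  toFun c := (π c, ⟨(ι (π c))⁻¹ * c, by rw [map_mul, map_inv, h.right_inv, inv_mul_cancel]⟩)
  invFun x := ι x.1 * x.2.1
  left_inv c := by simp
  right_inv x := by
    obtain ⟨a, s, hs⟩ := x
    have h1 : π (ι a * s) = a := by rw [map_mul, h.right_inv, hs, mul_one]
    apply Prod.ext
    · exact h1
    · apply Subtype.ext
      show (ι (π (ι a * s)))⁻¹ * (ι a * s) = s
      rw [h1, inv_mul_cancel_left]

open scoped Classical in
/-- Summation over `K` along the decomposition. -/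
theorem IsCentralSplit.sum_eq (h : IsCentralSplit p π ι) (g : K → ℂ) :
    ∑ c : K, g c = ∑ a : A, ∑ s : K, if p ∣ orderOf s then 0 else g (ι a * s) := by
  rw [← Equiv.sum_comp h.equiv.symm g, Fintype.sum_prod_type]
  apply Finset.sum_congr rfl
  intro a _
  have h1 : ∀ s : K, (if p ∣ orderOf s then (0 : ℂ) else g (ι a * s)) =
      if π s = 1 then g (ι a * s) else 0 := by
    intro s
    by_cases hs : π s = 1
    · rw [if_pos hs, if_neg ((h.ker_iff s).mp hs)]
    · rw [if_neg hs, if_pos]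
      by_contra hn
      exact hs ((h.ker_iff s).mpr hn)
  rw [Finset.sum_congr rfl (fun s _ => h1 s), ← Finset.sum_filter]
  rw [Finset.sum_subtype (Finset.univ.filter (fun s : K => π s = 1)) (p := fun s => π s = 1)
    (by simp) (fun s => g (ι a * s))]
  rfl

open scoped Classical in
theorem IsCentralSplit.card_eq (h : IsCentralSplit p π ι) :
    (Fintype.card K : ℂ) = (Fintype.card A : ℂ) *
      ((Finset.univ.filter (fun s : K => ¬ p ∣ orderOf s)).card : ℂ) := by
  have h1 := h.sum_eq (fun _ => (1 : ℂ))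
  simp only [Finset.sum_const, Finset.card_univ, nsmul_eq_mul, mul_one] at h1
  rw [h1]
  congr 1
  rw [Finset.card_filter]
  push_cast
  apply Finset.sum_congr rfl
  intro s _
  split_ifs <;> simp

/-- The twist of an irreducible character by a linear character of `A`. -/
noncomputable def twist (π : K →* A) (ψ : A →* ℂˣ) (ϑ : IrrCharacter K) : IrrCharacter K :=
  ⟨fun c => (((ψ.comp π) c : ℂˣ) : ℂ) * (ϑ : K → ℂ) c,
    Cfsg.Agent.Lib.Helper81.isIrrCharacter_monoidHom_mul (ψ.comp π) ϑ.2⟩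

theorem twist_apply (π : K →* A) (ψ : A →* ℂˣ) (ϑ : IrrCharacter K) (c : K) :
    (twist π ψ ϑ : K → ℂ) c = ((ψ (π c) : ℂˣ) : ℂ) * (ϑ : K → ℂ) c := rfl

theorem twist_one (π : K →* A) (ϑ : IrrCharacter K) : twist π 1 ϑ = ϑ := by
  apply Subtype.ext
  funext c
  rw [twist_apply]
  simp

/-- `A` is in the kernel of `ϑ`. -/
def InKer (ι : A →* K) (ϑ : K → ℂ) : Prop := ∀ a k, ϑ (ι a * k) = ϑ k

theorem twist_apply_mul (h : IsCentralSplit p π ι) (ψ : A →* ℂˣ) {ϑ : IrrCharacter K}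
    (hϑ : InKer ι (ϑ : K → ℂ)) (a : A) {s : K} (hs : ¬ p ∣ orderOf s) :
    (twist π ψ ϑ : K → ℂ) (ι a * s) = ((ψ a : ℂˣ) : ℂ) * (ϑ : K → ℂ) s := by
  rw [twist_apply, map_mul, h.right_inv, (h.ker_iff s).mpr hs, mul_one, hϑ]

open scoped Classical in
/-- The sum of all twists is supported on the `p`-regular elements. -/
theorem sum_twist_apply (h : IsCentralSplit p π ι) [Fintype (A →* ℂˣ)] (ϑ : IrrCharacter K)
    (c : K) :
    ∑ ψ : A →* ℂˣ, (twist π ψ ϑ : K → ℂ) c =
      if p ∣ orderOf c then 0 else (Fintype.card A : ℂ) * (ϑ : K → ℂ) c := by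
  simp_rw [twist_apply]
  rw [← Finset.sum_mul, Cfsg.Agent.Lib.Helper78.dual_sum_apply]
  by_cases hc : π c = 1
  · rw [if_pos hc, if_neg ((h.ker_iff c).mp hc)]
  · rw [if_neg hc, zero_mul, if_pos]
    by_contra hn
    exact hc ((h.ker_iff c).mpr hn)

open scoped Classical in
/-- The `p`-regular inner product counts the twists. -/
theorem regInner_eq_card (h : IsCentralSplit p π ι) [Fintype (A →* ℂˣ)]
    (ξ ϑ : IrrCharacter K) :
    (Fintype.card A : ℂ) / (Fintype.card K : ℂ) *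
      ∑ s : K, (if p ∣ orderOf s then 0 else (ξ : K → ℂ) s * conj ((ϑ : K → ℂ) s)) =
      ((Finset.univ.filter (fun ψ : A →* ℂˣ => twist π ψ ϑ = ξ)).card : ℂ) := by
  have h1 : ∀ ψ : A →* ℂˣ, classInner (ξ : K → ℂ) (twist π ψ ϑ : K → ℂ) =
      if twist π ψ ϑ = ξ then 1 else 0 := by
    intro ψ
    rw [Cfsg.Agent.Lib.Helper78.classInner_irr ξ.2 (twist π ψ ϑ).2]
    by_cases he : twist π ψ ϑ = ξ
    · rw [if_pos he, if_pos (congrArg Subtype.val he).symm]
    · rw [if_neg he, if_neg]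
      intro he'
      exact he (Subtype.ext he'.symm)
  have h2 : ((Finset.univ.filter (fun ψ : A →* ℂˣ => twist π ψ ϑ = ξ)).card : ℂ) =
      ∑ ψ : A →* ℂˣ, classInner (ξ : K → ℂ) (twist π ψ ϑ : K → ℂ) := by
    rw [Finset.sum_congr rfl (fun ψ _ => h1 ψ), Finset.card_filter]
    push_cast
    rfl
  rw [h2]
  unfold classInner
  rw [← Finset.mul_sum, Finset.sum_comm]
  have h3 : ∀ c : K, ∑ ψ : A →* ℂˣ, (ξ : K → ℂ) c * conj ((twist π ψ ϑ : K → ℂ) c) =
      (Fintype.card A : ℂ) * (if p ∣ orderOf c then 0 else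
        (ξ : K → ℂ) c * conj ((ϑ : K → ℂ) c)) := by
    intro c
    rw [← Finset.mul_sum, ← map_sum, sum_twist_apply h]
    split_ifs
    · simp
    · rw [map_mul, Complex.conj_natCast]
      ring
  rw [Finset.sum_congr rfl (fun c _ => h3 c), ← Finset.mul_sum, Nat.card_eq_fintype_card]
  ring

/-- Twisting is injective on pairs. -/
theorem twist_injective (h : IsCentralSplit p π ι) {ψ₁ ψ₂ : A →* ℂˣ} {ϑ₁ ϑ₂ : IrrCharacter K}
    (h₁ : InKer ι (ϑ₁ : K → ℂ)) (h₂ : InKer ι (ϑ₂ : K → ℂ))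
    (heq : twist π ψ₁ ϑ₁ = twist π ψ₂ ϑ₂) : ψ₁ = ψ₂ ∧ ϑ₁ = ϑ₂ := by
  have hval : ∀ c : K, ((ψ₁ (π c) : ℂˣ) : ℂ) * (ϑ₁ : K → ℂ) c =
      ((ψ₂ (π c) : ℂˣ) : ℂ) * (ϑ₂ : K → ℂ) c := by
    intro c
    have := congrFun (congrArg Subtype.val heq) c
    rwa [twist_apply, twist_apply] at this
  have hϑ : ϑ₁ = ϑ₂ := by
    apply Subtype.ext
    funext c
    -- decompose `c`
    have hc : c = ι (π c) * ((ι (π c))⁻¹ * c) := by simp
    have hs : π ((ι (π c))⁻¹ * c) = 1 := by
      rw [map_mul, map_inv, h.right_inv, inv_mul_cancel]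
    have := hval ((ι (π c))⁻¹ * c)
    rw [hs, map_one, map_one, Units.val_one, one_mul, one_mul] at this
    rw [hc, h₁, h₂, this]
  refine ⟨?_, hϑ⟩
  ext a
  have := hval (ι a)
  rw [h.right_inv, hϑ] at this
  have h1 : (ϑ₂ : K → ℂ) (ι a) ≠ 0 := by
    have h3 : (ϑ₂ : K → ℂ) (ι a) = (ϑ₂ : K → ℂ) 1 := by
      have := h₂ a 1
      rwa [mul_one] at this
    rw [h3, Cfsg.Agent.Lib.Helper78.IsCharacter.apply_one_eq_charDegree
      (Cfsg.Agent.Lib.Helper78.IsIrrCharacter.isCharacter ϑ₂.2)]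
    exact_mod_cast (Cfsg.Agent.Lib.Helper78.IsIrrCharacter.charDegree_pos ϑ₂.2).ne'
  exact mul_right_cancel₀ h1 this

end Split

section Block

variable {K A : Type*} [Group K] [Fintype K] [CommGroup A] [Fintype A] {p : ℕ}
  {π : K →* A} {M : Ideal AlgInt}

open Cfsg.Agent.Lib.Helper16

/-- A twist by a character of a `p`-group lies in the same block. -/
theorem sameBlock_twist (hM : IsPModular p M) {k : ℕ} (hA : Fintype.card A = p ^ k)
    (ψ : A →* ℂˣ) (ϑ : IrrCharacter K) :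
    SameBlock M (ϑ : K → ℂ) (twist π ψ ϑ : K → ℂ) := by
  have hMp : M.IsPrime := isPModular_isPrime hM
  intro g
  have hpow : (((ψ (π g) : ℂˣ) : ℂ)) ^ p ^ k = 1 := by
    rw [← Units.val_pow_eq_pow_val, ← map_pow, ← hA, pow_card_eq_one, map_one, Units.val_one]
  have h1 := Cfsg.Agent.Lib.Helper82.memLocalIdeal_sub_one_of_pow_eq_one hM hpow
  have h2 : centralChar (ϑ : K → ℂ) g - centralChar (twist π ψ ϑ : K → ℂ) g =
      -(centralChar (ϑ : K → ℂ) g * (((ψ (π g) : ℂˣ) : ℂ) - 1)) := by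
    unfold centralChar
    rw [twist_apply, twist_apply, map_one, map_one, Units.val_one, one_mul]
    ring
  rw [h2, memLocalIdeal_neg_iff]
  exact memLocalIdeal_mul_left (memLocalRing_of_isIntegral hMp.ne_top
    (Cfsg.Agent.Lib.Helper79.isIntegral_centralChar ϑ g)) h1

theorem twist_mem_blockOf (hM : IsPModular p M) {k : ℕ} (hA : Fintype.card A = p ^ k)
    (ψ : A →* ℂˣ) (ϑ : IrrCharacter K) : twist π ψ ϑ ∈ blockOf M (ϑ : K → ℂ) :=
  sameBlock_twist hM hA ψ ϑ

end Block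

end Cfsg.Agent.Lib.Helper3.DefOneGen
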