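import Mathlib
import Cfsg.Agent.Lib.Helper3.DefOneGenGrp
import Cfsg.Agent.Lib.Helper3.DefOneGenTwist
import Cfsg.Agent.Lib.Helper3.DefOneGenSec
import Cfsg.Agent.Lib.Helper80.CharBasic
import Cfsg.Agent.Lib.Helper78.ExcGram
import Cfsg.Agent.Lib.Helper77.NrmAct
import Cfsg.Agent.Lib.Helper59.DefOneCS

/-!
# Defect-one blocks, general case: the functions `f_χ` (helper3)

`P` a Sylow `p`-subgroup of order `p`, `C = C_G(P)`.  For a class function `F` of `G`, an
irreducible character `ϑ` of `C` with `P` in its kernel and `y ∈ P`: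
`fpart p C F ϑ y = (p/|C|) ∑_{s ∈ C p-regular} F(y s) conj ϑ(s)`.

* `sum_fpart_mul_conj`, `exists_int_gco_fpart`: Fourier coefficients on `P` are the multiplicities
  `⟨F_C, λ * ϑ⟩`;
* `fpart_conj`: conjugating `y` by `n ∈ N_G(P)` conjugates `ϑ`;
* `sum_block_fpart_mul_conj`, `sum_block_fpart_normSq`, `sum_block_fpart_mul_conj_of_ne`: the kernel
  identities (from the two-point block orthogonality on the section of `y`).
-/

set_option autoImplicit false
set_option linter.unusedSectionVars false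

namespace Cfsg.Agent.Lib.Helper3.DefOneGen

open Cfsg Cfsg.Agent.Lib.Helper78
open scoped ComplexConjugate IsMulCommutative

section Split

variable {G : Type*} [Group G] [Finite G] {p : ℕ} [hp : Fact p.Prime]

theorem exists_centralSplit (P : Sylow p G) (hP : Nat.card P = p) :
    ∃ π : ↥(Subgroup.centralizer ((P : Subgroup G) : Set G)) →* ↥(P : Subgroup G),
      IsCentralSplit p π (Subgroup.inclusion (le_centralizer_of_card_prime hP)) := by
  have hPC := le_centralizer_of_card_prime (Q := (P : Subgroup G)) hP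
  set C := Subgroup.centralizer ((P : Subgroup G) : Set G) with hC
  set Q : Subgroup ↥C := (P : Subgroup G).subgroupOf C with hQdef
  have hQc : Q ≤ Subgroup.center ↥C := by
    intro q hq
    rw [Subgroup.mem_center_iff]
    intro k
    apply Subtype.ext
    have hk := k.2
    rw [Subgroup.mem_centralizer_iff] at hk
    exact (hk q (Subgroup.mem_subgroupOf.mp hq)).symm
  let e : Q ≃* (P : Subgroup G) := Subgroup.subgroupOfEquivOfLe hPC
  have hQ : Nat.card Q = p := by
    rw [Nat.card_congr e.toEquiv]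
    exact hP
  have hidx : ¬ p ∣ Q.index := by
    intro h
    have h1 : Q.index ∣ (P : Subgroup G).index := by
      show ((P : Subgroup G).subgroupOf C).index ∣ _
      exact Subgroup.relIndex_dvd_index_of_le hPC
    exact P.not_dvd_index (h.trans h1)
  obtain ⟨π₀, h1, h2, h3⟩ := Cfsg.Agent.Lib.Helper59.DefOneCS.CS Q hQc hQ hidx
  refine ⟨e.toMonoidHom.comp π₀, ?_, ?_, ?_⟩
  · intro a
    have ha : (Subgroup.inclusion hPC a : ↥C) ∈ Q := by
      rw [Subgroup.mem_subgroupOf]
      exact a.2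
    have := h1 ⟨Subgroup.inclusion hPC a, ha⟩
    simp only [MonoidHom.coe_comp, Function.comp_apply]
    rw [this]
    rfl
  · intro a k
    apply Subtype.ext
    have hk := k.2
    rw [Subgroup.mem_centralizer_iff] at hk
    exact hk a a.2
  · intro s
    simp only [MonoidHom.coe_comp, Function.comp_apply, MulEquiv.coe_toMonoidHom,
      EmbeddingLike.map_eq_one_iff]
    exact ⟨h3 s, h2 s⟩

end Split

section Concrete

variable {G : Type*} [Group G] [Fintype G] {p : ℕ} [hp : Fact p.Prime] (P : Sylow p G)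
  (hP : Nat.card P = p)

/-- The `p`-part homomorphism `C_G(P) → P`. -/
noncomputable def ppart : ↥(Subgroup.centralizer ((P : Subgroup G) : Set G)) →* ↥(P : Subgroup G) :=
  Classical.choose (exists_centralSplit P hP)

theorem ppart_spec : IsCentralSplit p (ppart P hP)
    (Subgroup.inclusion (le_centralizer_of_card_prime hP)) :=
  Classical.choose_spec (exists_centralSplit P hP)

open scoped Classical in
/-- The Fourier coefficient of `F` on the coset `y C_{p'}` against `ϑ`. -/
noncomputable def fpart (p : ℕ) (H : Subgroup G) [Fintype H] (F : G → ℂ) (ϑ : H → ℂ) (y : G) : ℂ :=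
  (p : ℂ) / (Fintype.card H : ℂ) *
    ∑ s : H, if p ∣ orderOf s then 0 else F (y * (s : G)) * conj (ϑ s)

variable [Fintype ↥(Subgroup.centralizer ((P : Subgroup G) : Set G))] [Fintype ↥(P : Subgroup G)]
  [IsMulCommutative ↥(P : Subgroup G)]

include hP in
theorem card_P_eq : (Fintype.card ↥(P : Subgroup G) : ℂ) = (p : ℂ) := by
  rw [← Nat.card_eq_fintype_card, hP]

open scoped Classical in
/-- Fourier coefficients of `y ↦ fpart χ ϑ y` on `P`. -/
theorem sum_fpart_mul_conj (F : G → ℂ)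
    (ϑ : IrrCharacter ↥(Subgroup.centralizer ((P : Subgroup G) : Set G)))
    (hϑ : InKer (Subgroup.inclusion (le_centralizer_of_card_prime hP))
      (ϑ : ↥(Subgroup.centralizer ((P : Subgroup G) : Set G)) → ℂ))
    (ψ : ↥(P : Subgroup G) →* ℂˣ) :
    (Fintype.card ↥(P : Subgroup G) : ℂ)⁻¹ * ∑ y : ↥(P : Subgroup G),
      fpart p (Subgroup.centralizer ((P : Subgroup G) : Set G)) F
        (ϑ : ↥(Subgroup.centralizer ((P : Subgroup G) : Set G)) → ℂ) (y : G) *
        conj ((ψ y : ℂˣ) : ℂ) =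
    classInner (fun c : ↥(Subgroup.centralizer ((P : Subgroup G) : Set G)) => F (c : G))
      (twist (ppart P hP) ψ ϑ : ↥(Subgroup.centralizer ((P : Subgroup G) : Set G)) → ℂ) := by
  have hsp := ppart_spec P hP
  unfold classInner
  rw [hsp.sum_eq, Nat.card_eq_fintype_card]
  have hp0 : (p : ℂ) ≠ 0 := by exact_mod_cast hp.out.ne_zero
  have hC0 : (Fintype.card ↥(Subgroup.centralizer ((P : Subgroup G) : Set G)) : ℂ) ≠ 0 := by
    exact_mod_cast Fintype.card_ne_zero
  rw [card_P_eq P hP, Finset.mul_sum, Finset.mul_sum]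
  apply Finset.sum_congr rfl
  intro y _
  unfold fpart
  rw [Finset.mul_sum, Finset.sum_mul, Finset.mul_sum, Finset.mul_sum]
  apply Finset.sum_congr rfl
  intro s _
  split_ifs with hs
  · simp
  · rw [twist_apply_mul hsp ψ hϑ y hs, map_mul]
    simp only [Subgroup.coe_mul, Subgroup.coe_inclusion]
    field_simp

/-- Integrality of the multiplicity differences. -/
theorem exists_int_gco_fpart {χ : G → ℂ} (hχ : IsCharacter G χ)
    (ϑ : IrrCharacter ↥(Subgroup.centralizer ((P : Subgroup G) : Set G)))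
    (hϑ : InKer (Subgroup.inclusion (le_centralizer_of_card_prime hP))
      (ϑ : ↥(Subgroup.centralizer ((P : Subgroup G) : Set G)) → ℂ))
    (ψ : ↥(P : Subgroup G) →* ℂˣ) :
    ∃ k : ℤ, gco (fun y : ↥(P : Subgroup G) =>
      fpart p (Subgroup.centralizer ((P : Subgroup G) : Set G)) χ
        (ϑ : ↥(Subgroup.centralizer ((P : Subgroup G) : Set G)) → ℂ) (y : G)) ψ = (k : ℂ) := by
  have hres : IsCharacter ↥(Subgroup.centralizer ((P : Subgroup G) : Set G))
      (fun c : ↥(Subgroup.centralizer ((P : Subgroup G) : Set G)) => χ (c : G)) :=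
    Cfsg.Agent.Lib.Helper80.isCharacter_restrict _ hχ
  obtain ⟨n₁, hn₁⟩ := IsCharacter.exists_nat_classInner hres (twist (ppart P hP) 1 ϑ)
  obtain ⟨n₂, hn₂⟩ := IsCharacter.exists_nat_classInner hres (twist (ppart P hP) ψ ϑ)
  refine ⟨(n₁ : ℤ) - (n₂ : ℤ), ?_⟩
  push_cast
  rw [← hn₁, ← hn₂, ← sum_fpart_mul_conj P hP χ ϑ hϑ 1, ← sum_fpart_mul_conj P hP χ ϑ hϑ ψ]
  unfold gco
  rw [← mul_sub, ← Finset.sum_sub_distrib]
  congr 1
  apply Finset.sum_congr rfl
  intro y _
  simp only [MonoidHom.one_apply, Units.val_one, map_one]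
  ring

end Concrete

section Conj

variable {G : Type*} [Group G] [Fintype G] {p : ℕ} [hp : Fact p.Prime] (P : Sylow p G)
  (hP : Nat.card P = p)
variable [Fintype ↥(Subgroup.centralizer ((P : Subgroup G) : Set G))] [Fintype ↥(P : Subgroup G)]
  [IsMulCommutative ↥(P : Subgroup G)]

attribute [local instance] Cfsg.Agent.Lib.Helper77.nrmMulAction

/-- An element of `N_G(P)` as an element of `N_G(C_G(P))`. -/
def toNC (n : G) (hn : n ∈ Subgroup.normalizer ((P : Subgroup G) : Set G)) :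
    ↥(Subgroup.normalizer
      ((Subgroup.centralizer ((P : Subgroup G) : Set G) : Subgroup G) : Set G)) :=
  ⟨n, normalizer_le_normalizer_centralizer _ hn⟩

/-- The conjugate `c ↦ ϑ(n c n⁻¹)` of an irreducible character of `C_G(P)` by `n ∈ N_G(P)`. -/
noncomputable def thetaConj (n : G) (hn : n ∈ Subgroup.normalizer ((P : Subgroup G) : Set G))
    (ϑ : IrrCharacter ↥(Subgroup.centralizer ((P : Subgroup G) : Set G))) :
    IrrCharacter ↥(Subgroup.centralizer ((P : Subgroup G) : Set G)) :=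
  Cfsg.Agent.Lib.Helper77.nrmSmul _ (toNC P n hn)⁻¹ ϑ

theorem thetaConj_apply (n : G) (hn : n ∈ Subgroup.normalizer ((P : Subgroup G) : Set G))
    (ϑ : IrrCharacter ↥(Subgroup.centralizer ((P : Subgroup G) : Set G)))
    (c : ↥(Subgroup.centralizer ((P : Subgroup G) : Set G))) :
    (thetaConj P n hn ϑ : ↥(Subgroup.centralizer ((P : Subgroup G) : Set G)) → ℂ) c =
      (ϑ : ↥(Subgroup.centralizer ((P : Subgroup G) : Set G)) → ℂ)
        ((Subgroup.centralizer ((P : Subgroup G) : Set G)).normalizerMonoidHom (toNC P n hn) c) := by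
  unfold thetaConj
  rw [Cfsg.Agent.Lib.Helper77.nrmSmul_apply, inv_inv]

theorem coe_normalizerMonoidHom_toNC (n : G)
    (hn : n ∈ Subgroup.normalizer ((P : Subgroup G) : Set G))
    (c : ↥(Subgroup.centralizer ((P : Subgroup G) : Set G))) :
    (((Subgroup.centralizer ((P : Subgroup G) : Set G)).normalizerMonoidHom (toNC P n hn) c :
      ↥(Subgroup.centralizer ((P : Subgroup G) : Set G))) : G) = n * (c : G) * n⁻¹ := rfl

theorem thetaConj_eq_of_eq (n : G) (hn : n ∈ Subgroup.normalizer ((P : Subgroup G) : Set G))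
    (ϑ : IrrCharacter ↥(Subgroup.centralizer ((P : Subgroup G) : Set G)))
    (c c' : ↥(Subgroup.centralizer ((P : Subgroup G) : Set G))) (h : (c' : G) = n * (c : G) * n⁻¹) :
    (thetaConj P n hn ϑ : ↥(Subgroup.centralizer ((P : Subgroup G) : Set G)) → ℂ) c =
      (ϑ : ↥(Subgroup.centralizer ((P : Subgroup G) : Set G)) → ℂ) c' := by
  rw [thetaConj_apply]
  have e : (Subgroup.centralizer ((P : Subgroup G) : Set G)).normalizerMonoidHom (toNC P n hn) c =
      c' := by
    apply Subtype.ext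
    rw [coe_normalizerMonoidHom_toNC, h]
  rw [e]

open scoped Classical in
/-- Conjugating the argument of `fpart` by `n ∈ N_G(P)` conjugates the character. -/
theorem fpart_conj {F : G → ℂ} (hF : IsClassFunction G F) (n : G)
    (hn : n ∈ Subgroup.normalizer ((P : Subgroup G) : Set G))
    (ϑ : IrrCharacter ↥(Subgroup.centralizer ((P : Subgroup G) : Set G))) (y : G) :
    fpart p (Subgroup.centralizer ((P : Subgroup G) : Set G)) F
      (ϑ : ↥(Subgroup.centralizer ((P : Subgroup G) : Set G)) → ℂ) (n * y * n⁻¹) =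
    fpart p (Subgroup.centralizer ((P : Subgroup G) : Set G)) F
      (thetaConj P n hn ϑ : ↥(Subgroup.centralizer ((P : Subgroup G) : Set G)) → ℂ) y := by
  unfold fpart
  congr 1
  rw [← Equiv.sum_comp ((Subgroup.centralizer ((P : Subgroup G) : Set G)).normalizerMonoidHom
    (toNC P n hn)).toEquiv]
  apply Finset.sum_congr rfl
  intro s _
  simp only [MulEquiv.toEquiv_eq_coe, EquivLike.coe_coe]
  rw [MulEquiv.orderOf_eq, coe_normalizerMonoidHom_toNC, ← thetaConj_apply]
  have e1 : n * y * n⁻¹ * (n * (s : G) * n⁻¹) = n * (y * (s : G)) * n⁻¹ := by group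
  rw [e1, hF]

/-- Conjugation preserves the property of having `P` in the kernel. -/
theorem inKer_thetaConj (n : G) (hn : n ∈ Subgroup.normalizer ((P : Subgroup G) : Set G))
    (ϑ : IrrCharacter ↥(Subgroup.centralizer ((P : Subgroup G) : Set G)))
    (hϑ : InKer (Subgroup.inclusion (le_centralizer_of_card_prime hP))
      (ϑ : ↥(Subgroup.centralizer ((P : Subgroup G) : Set G)) → ℂ)) :
    InKer (Subgroup.inclusion (le_centralizer_of_card_prime hP))
      (thetaConj P n hn ϑ : ↥(Subgroup.centralizer ((P : Subgroup G) : Set G)) → ℂ) := by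
  intro a k
  rw [thetaConj_apply, thetaConj_apply, map_mul]
  have ha : n * (a : G) * n⁻¹ ∈ (P : Subgroup G) :=
    (Subgroup.mem_normalizer_iff.mp hn a).mp a.2
  have e1 : (Subgroup.centralizer ((P : Subgroup G) : Set G)).normalizerMonoidHom (toNC P n hn)
      (Subgroup.inclusion (le_centralizer_of_card_prime hP) a) =
      Subgroup.inclusion (le_centralizer_of_card_prime hP) ⟨n * (a : G) * n⁻¹, ha⟩ := by
    apply Subtype.ext
    rw [coe_normalizerMonoidHom_toNC]
    rfl
  rw [e1, hϑ]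

/-- Elements of `C_G(P)` fix every irreducible character of `C_G(P)`. -/
theorem thetaConj_of_mem_centralizer (n : G)
    (hn : n ∈ Subgroup.centralizer ((P : Subgroup G) : Set G))
    (ϑ : IrrCharacter ↥(Subgroup.centralizer ((P : Subgroup G) : Set G))) :
    thetaConj P n (Subgroup.centralizer_le_normalizer _ hn) ϑ = ϑ := by
  apply Subtype.ext
  funext c
  rw [thetaConj_eq_of_eq P n _ ϑ c (⟨n, hn⟩ * c * ⟨n, hn⟩⁻¹) rfl]
  exact isClassFunction_irr ϑ c ⟨n, hn⟩

end Conj

section Kernel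

theorem bilinear_swap {ι κ : Type*} [Fintype κ] (I : Finset ι) (a : ι → κ → ℂ) (g₁ g₂ : κ → ℂ)
    (c₀ : ℂ) :
    ∑ i ∈ I, (c₀ * ∑ s, a i s * g₁ s) * conj (c₀ * ∑ s, a i s * g₂ s) =
      c₀ * conj c₀ * ∑ s, ∑ s', g₁ s * conj (g₂ s') * ∑ i ∈ I, a i s * conj (a i s') := by
  have h1 : ∀ i, (c₀ * ∑ s, a i s * g₁ s) * conj (c₀ * ∑ s, a i s * g₂ s) =
      c₀ * conj c₀ * ∑ s, ∑ s', g₁ s * conj (g₂ s') * (a i s * conj (a i s')) := by
    intro i
    rw [map_mul, map_sum, mul_mul_mul_comm, Finset.sum_mul_sum]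
    congr 1
    apply Finset.sum_congr rfl
    intro s _
    apply Finset.sum_congr rfl
    intro s' _
    rw [map_mul]
    ring
  rw [Finset.sum_congr rfl (fun i _ => h1 i), ← Finset.mul_sum]
  congr 1
  rw [Finset.sum_comm]
  apply Finset.sum_congr rfl
  intro s _
  rw [Finset.sum_comm]
  apply Finset.sum_congr rfl
  intro s' _
  rw [Finset.mul_sum]

variable {G : Type*} [Group G] [Fintype G] {p : ℕ} [hp : Fact p.Prime] (P : Sylow p G)
  (hP : Nat.card P = p)
variable [Fintype ↥(Subgroup.centralizer ((P : Subgroup G) : Set G))] [Fintype ↥(P : Subgroup G)]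
  [IsMulCommutative ↥(P : Subgroup G)] [Fintype (↥(P : Subgroup G) →* ℂˣ)]
variable {M : Ideal AlgInt}

include hP in
theorem orderOf_eq_of_mem {y : G} (hyP : y ∈ (P : Subgroup G)) (hy1 : y ≠ 1) : orderOf y = p := by
  apply orderOf_eq_prime
  · have h : (⟨y, hyP⟩ : ↥(P : Subgroup G)) ^ Nat.card ↥(P : Subgroup G) = 1 := pow_card_eq_one'
    rw [hP] at h
    exact congrArg Subtype.val h
  · exact hy1

include hP in
theorem centralizer_eq_centralizer_singleton {y : G} (hyP : y ∈ (P : Subgroup G)) (hy1 : y ≠ 1) :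
    Subgroup.centralizer ((P : Subgroup G) : Set G) = Subgroup.centralizer ({y} : Set G) := by
  ext g
  rw [mem_centralizer_iff_commute hP hyP hy1, Subgroup.mem_centralizer_iff]
  constructor
  · intro h t ht
    rw [Set.mem_singleton_iff] at ht
    rw [ht]
    exact h.eq
  · intro h
    exact h y (Set.mem_singleton y)

theorem fpart_eq (F : G → ℂ) (ϑ : ↥(Subgroup.centralizer ((P : Subgroup G) : Set G)) → ℂ) (y : G) :
    fpart p (Subgroup.centralizer ((P : Subgroup G) : Set G)) F ϑ y =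
      (p : ℂ) / (Fintype.card ↥(Subgroup.centralizer ((P : Subgroup G) : Set G)) : ℂ) *
        ∑ s : ↥(Subgroup.centralizer ((P : Subgroup G) : Set G)), F (y * (s : G)) *
          (if p ∣ orderOf s then 0 else conj (ϑ s)) := by
  unfold fpart
  congr 1
  apply Finset.sum_congr rfl
  intro s _
  split_ifs <;> simp

open scoped Classical in
/-- **The kernel identity** for the functions `fpart`. -/
theorem sum_block_fpart_mul_conj (hM : IsPModular p M) {y : G} (hyP : y ∈ (P : Subgroup G))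
    (hy1 : y ≠ 1) {B : Set (IrrCharacter G)} (hB : IsPBlock M B)
    (ϑ₁ ϑ₂ : IrrCharacter ↥(Subgroup.centralizer ((P : Subgroup G) : Set G))) :
    ∑ χ ∈ Finset.univ.filter (fun χ : IrrCharacter G => χ ∈ B),
      fpart p (Subgroup.centralizer ((P : Subgroup G) : Set G)) (χ : G → ℂ)
        (ϑ₁ : ↥(Subgroup.centralizer ((P : Subgroup G) : Set G)) → ℂ) y *
      conj (fpart p (Subgroup.centralizer ((P : Subgroup G) : Set G)) (χ : G → ℂ)
        (ϑ₂ : ↥(Subgroup.centralizer ((P : Subgroup G) : Set G)) → ℂ) y) =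
    ∑ ξ ∈ Finset.univ.filter (fun ξ : IrrCharacter ↥(Subgroup.centralizer
        ((P : Subgroup G) : Set G)) =>
        ξ ∈ inducingSet M (Subgroup.centralizer ((P : Subgroup G) : Set G)) B),
      ((Finset.univ.filter (fun ψ : ↥(P : Subgroup G) →* ℂˣ =>
        twist (ppart P hP) ψ ϑ₁ = ξ)).card : ℂ) *
      ((Finset.univ.filter (fun ψ : ↥(P : Subgroup G) →* ℂˣ =>
        twist (ppart P hP) ψ ϑ₂ = ξ)).card : ℂ) := by
  have hsp := ppart_spec P hP
  have hyk : ∃ k : ℕ, orderOf y = p ^ k := ⟨1, by rw [orderOf_eq_of_mem P hP hyP hy1, pow_one]⟩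
  have hH := centralizer_eq_centralizer_singleton P hP hyP hy1
  -- rewrite the right-hand side
  have hR : ∀ (ϑ : IrrCharacter ↥(Subgroup.centralizer ((P : Subgroup G) : Set G)))
      (ξ : IrrCharacter ↥(Subgroup.centralizer ((P : Subgroup G) : Set G))),
      ((Finset.univ.filter (fun ψ : ↥(P : Subgroup G) →* ℂˣ =>
        twist (ppart P hP) ψ ϑ = ξ)).card : ℂ) =
      (p : ℂ) / (Fintype.card ↥(Subgroup.centralizer ((P : Subgroup G) : Set G)) : ℂ) *
        ∑ s : ↥(Subgroup.centralizer ((P : Subgroup G) : Set G)),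
          (ξ : ↥(Subgroup.centralizer ((P : Subgroup G) : Set G)) → ℂ) s *
          (if p ∣ orderOf s then 0 else
            conj ((ϑ : ↥(Subgroup.centralizer ((P : Subgroup G) : Set G)) → ℂ) s)) := by
    intro ϑ ξ
    rw [← regInner_eq_card hsp ξ ϑ, card_P_eq P hP]
    congr 1
    apply Finset.sum_congr rfl
    intro s _
    split_ifs <;> simp
  have hRc : ∀ (ϑ : IrrCharacter ↥(Subgroup.centralizer ((P : Subgroup G) : Set G)))
      (ξ : IrrCharacter ↥(Subgroup.centralizer ((P : Subgroup G) : Set G))),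
      ((Finset.univ.filter (fun ψ : ↥(P : Subgroup G) →* ℂˣ =>
        twist (ppart P hP) ψ ϑ = ξ)).card : ℂ) =
      conj ((p : ℂ) / (Fintype.card ↥(Subgroup.centralizer ((P : Subgroup G) : Set G)) : ℂ) *
        ∑ s : ↥(Subgroup.centralizer ((P : Subgroup G) : Set G)),
          (ξ : ↥(Subgroup.centralizer ((P : Subgroup G) : Set G)) → ℂ) s *
          (if p ∣ orderOf s then 0 else
            conj ((ϑ : ↥(Subgroup.centralizer ((P : Subgroup G) : Set G)) → ℂ) s))) := by
    intro ϑ ξ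
    rw [← hR ϑ ξ, Complex.conj_natCast]
  obtain ⟨c₀, hc₀⟩ : ∃ c₀ : ℂ, c₀ = (p : ℂ) /
      (Fintype.card ↥(Subgroup.centralizer ((P : Subgroup G) : Set G)) : ℂ) := ⟨_, rfl⟩
  obtain ⟨g₁, hg₁⟩ : ∃ g₁ : ↥(Subgroup.centralizer ((P : Subgroup G) : Set G)) → ℂ,
      g₁ = fun s => if p ∣ orderOf s then 0 else
        conj ((ϑ₁ : ↥(Subgroup.centralizer ((P : Subgroup G) : Set G)) → ℂ) s) := ⟨_, rfl⟩
  obtain ⟨g₂, hg₂⟩ : ∃ g₂ : ↥(Subgroup.centralizer ((P : Subgroup G) : Set G)) → ℂ,
      g₂ = fun s => if p ∣ orderOf s then 0 else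
        conj ((ϑ₂ : ↥(Subgroup.centralizer ((P : Subgroup G) : Set G)) → ℂ) s) := ⟨_, rfl⟩
  have hL : ∀ χ : IrrCharacter G,
      fpart p (Subgroup.centralizer ((P : Subgroup G) : Set G)) (χ : G → ℂ)
        (ϑ₁ : ↥(Subgroup.centralizer ((P : Subgroup G) : Set G)) → ℂ) y *
      conj (fpart p (Subgroup.centralizer ((P : Subgroup G) : Set G)) (χ : G → ℂ)
        (ϑ₂ : ↥(Subgroup.centralizer ((P : Subgroup G) : Set G)) → ℂ) y) =
      (c₀ * ∑ s : ↥(Subgroup.centralizer ((P : Subgroup G) : Set G)),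
        (χ : G → ℂ) (y * (s : G)) * g₁ s) *
      conj (c₀ * ∑ s : ↥(Subgroup.centralizer ((P : Subgroup G) : Set G)),
        (χ : G → ℂ) (y * (s : G)) * g₂ s) := by
    intro χ
    rw [fpart_eq, fpart_eq, hc₀, hg₁, hg₂]
  have hRR : ∀ ξ : IrrCharacter ↥(Subgroup.centralizer ((P : Subgroup G) : Set G)),
      ((Finset.univ.filter (fun ψ : ↥(P : Subgroup G) →* ℂˣ =>
        twist (ppart P hP) ψ ϑ₁ = ξ)).card : ℂ) *
      ((Finset.univ.filter (fun ψ : ↥(P : Subgroup G) →* ℂˣ =>
        twist (ppart P hP) ψ ϑ₂ = ξ)).card : ℂ) =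
      (c₀ * ∑ s : ↥(Subgroup.centralizer ((P : Subgroup G) : Set G)),
        (ξ : ↥(Subgroup.centralizer ((P : Subgroup G) : Set G)) → ℂ) s * g₁ s) *
      conj (c₀ * ∑ s : ↥(Subgroup.centralizer ((P : Subgroup G) : Set G)),
        (ξ : ↥(Subgroup.centralizer ((P : Subgroup G) : Set G)) → ℂ) s * g₂ s) := by
    intro ξ
    rw [hR ϑ₁ ξ, hRc ϑ₂ ξ, hc₀, hg₁, hg₂]
  rw [Finset.sum_congr rfl (fun χ _ => hL χ), Finset.sum_congr rfl (fun ξ _ => hRR ξ),
    bilinear_swap, bilinear_swap]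
  congr 1
  apply Finset.sum_congr rfl
  intro s _
  apply Finset.sum_congr rfl
  intro s' _
  by_cases hs : p ∣ orderOf s
  · rw [hg₁]
    simp only
    rw [if_pos hs, zero_mul, zero_mul, zero_mul]
  · by_cases hs' : p ∣ orderOf s'
    · rw [hg₂]
      simp only
      rw [if_pos hs', map_zero, mul_zero, zero_mul, zero_mul]
    · congr 1
      exact sum_block_section_mul_conj hM y hyk _ hH hB s s' hs hs'

end Kernel

section KernelCor

variable {G : Type*} [Group G] [Fintype G] {p : ℕ} [hp : Fact p.Prime] (P : Sylow p G)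
  (hP : Nat.card P = p)
variable [Fintype ↥(Subgroup.centralizer ((P : Subgroup G) : Set G))] [Fintype ↥(P : Subgroup G)]
  [IsMulCommutative ↥(P : Subgroup G)] [Fintype (↥(P : Subgroup G) →* ℂˣ)]
variable {M : Ideal AlgInt}

open scoped Classical in
/-- The kernel identity on the diagonal: the norm is `p`. -/
theorem sum_block_fpart_normSq (hM : IsPModular p M) {y : G} (hyP : y ∈ (P : Subgroup G))
    (hy1 : y ≠ 1) {B : Set (IrrCharacter G)} (hB : IsPBlock M B)
    (ϑ : IrrCharacter ↥(Subgroup.centralizer ((P : Subgroup G) : Set G)))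
    (hϑ : InKer (Subgroup.inclusion (le_centralizer_of_card_prime hP))
      (ϑ : ↥(Subgroup.centralizer ((P : Subgroup G) : Set G)) → ℂ))
    (hind : IsInducedBlock M (Subgroup.centralizer ((P : Subgroup G) : Set G))
      (blockOf M (ϑ : ↥(Subgroup.centralizer ((P : Subgroup G) : Set G)) → ℂ)) B) :
    ∑ χ ∈ Finset.univ.filter (fun χ : IrrCharacter G => χ ∈ B),
      fpart p (Subgroup.centralizer ((P : Subgroup G) : Set G)) (χ : G → ℂ)
        (ϑ : ↥(Subgroup.centralizer ((P : Subgroup G) : Set G)) → ℂ) y *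
      conj (fpart p (Subgroup.centralizer ((P : Subgroup G) : Set G)) (χ : G → ℂ)
        (ϑ : ↥(Subgroup.centralizer ((P : Subgroup G) : Set G)) → ℂ) y) = (p : ℂ) := by
  have hMp : M.IsPrime := Cfsg.Agent.Lib.Helper16.isPModular_isPrime hM
  have hsp := ppart_spec P hP
  rw [sum_block_fpart_mul_conj P hP hM hyP hy1 hB ϑ ϑ]
  have hle : ∀ ξ : IrrCharacter ↥(Subgroup.centralizer ((P : Subgroup G) : Set G)),
      (Finset.univ.filter (fun ψ : ↥(P : Subgroup G) →* ℂˣ =>
        twist (ppart P hP) ψ ϑ = ξ)).card ≤ 1 := by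
    intro ξ
    rw [Finset.card_le_one]
    intro ψ₁ h₁ ψ₂ h₂
    simp only [Finset.mem_filter, Finset.mem_univ, true_and] at h₁ h₂
    exact (twist_injective hsp hϑ hϑ (h₁.trans h₂.symm)).1
  have hsq : ∀ ξ : IrrCharacter ↥(Subgroup.centralizer ((P : Subgroup G) : Set G)),
      ((Finset.univ.filter (fun ψ : ↥(P : Subgroup G) →* ℂˣ =>
        twist (ppart P hP) ψ ϑ = ξ)).card : ℂ) *
      ((Finset.univ.filter (fun ψ : ↥(P : Subgroup G) →* ℂˣ =>
        twist (ppart P hP) ψ ϑ = ξ)).card : ℂ) =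
      ((Finset.univ.filter (fun ψ : ↥(P : Subgroup G) →* ℂˣ =>
        twist (ppart P hP) ψ ϑ = ξ)).card : ℂ) := by
    intro ξ
    rcases Nat.le_one_iff_eq_zero_or_eq_one.mp (hle ξ) with h | h <;> rw [h] <;> simp
  rw [Finset.sum_congr rfl (fun ξ _ => hsq ξ), ← Nat.cast_sum]
  have hmem : ∀ ψ ∈ (Finset.univ : Finset (↥(P : Subgroup G) →* ℂˣ)),
      twist (ppart P hP) ψ ϑ ∈ Finset.univ.filter (fun ξ : IrrCharacter ↥(Subgroup.centralizer
        ((P : Subgroup G) : Set G)) =>
        ξ ∈ inducingSet M (Subgroup.centralizer ((P : Subgroup G) : Set G)) B) := by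
    intro ψ _
    simp only [Finset.mem_filter, Finset.mem_univ, true_and]
    unfold inducingSet
    simp only [Set.mem_ofPred_eq]
    have hk : Fintype.card ↥(P : Subgroup G) = p ^ 1 := by
      rw [← Nat.card_eq_fintype_card, hP, pow_one]
    rw [← Cfsg.Agent.Lib.Helper16.blockOf_eq_of_sameBlock
      (sameBlock_twist (π := ppart P hP) hM hk ψ ϑ)]
    exact hind
  rw [← Finset.card_eq_sum_card_fiberwise hmem, Finset.card_univ, dual_card,
    ← Nat.card_eq_fintype_card, hP]

open scoped Classical in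
/-- The kernel identity off the diagonal. -/
theorem sum_block_fpart_mul_conj_of_ne (hM : IsPModular p M) {y : G}
    (hyP : y ∈ (P : Subgroup G)) (hy1 : y ≠ 1) {B : Set (IrrCharacter G)} (hB : IsPBlock M B)
    (ϑ₁ ϑ₂ : IrrCharacter ↥(Subgroup.centralizer ((P : Subgroup G) : Set G)))
    (h₁ : InKer (Subgroup.inclusion (le_centralizer_of_card_prime hP))
      (ϑ₁ : ↥(Subgroup.centralizer ((P : Subgroup G) : Set G)) → ℂ))
    (h₂ : InKer (Subgroup.inclusion (le_centralizer_of_card_prime hP))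
      (ϑ₂ : ↥(Subgroup.centralizer ((P : Subgroup G) : Set G)) → ℂ))
    (hne : ϑ₁ ≠ ϑ₂) :
    ∑ χ ∈ Finset.univ.filter (fun χ : IrrCharacter G => χ ∈ B),
      fpart p (Subgroup.centralizer ((P : Subgroup G) : Set G)) (χ : G → ℂ)
        (ϑ₁ : ↥(Subgroup.centralizer ((P : Subgroup G) : Set G)) → ℂ) y *
      conj (fpart p (Subgroup.centralizer ((P : Subgroup G) : Set G)) (χ : G → ℂ)
        (ϑ₂ : ↥(Subgroup.centralizer ((P : Subgroup G) : Set G)) → ℂ) y) = 0 := by
  have hsp := ppart_spec P hP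
  rw [sum_block_fpart_mul_conj P hP hM hyP hy1 hB ϑ₁ ϑ₂]
  apply Finset.sum_eq_zero
  intro ξ _
  by_cases h0 : (Finset.univ.filter (fun ψ : ↥(P : Subgroup G) →* ℂˣ =>
      twist (ppart P hP) ψ ϑ₁ = ξ)).card = 0
  · rw [h0]; simp
  · by_cases h0' : (Finset.univ.filter (fun ψ : ↥(P : Subgroup G) →* ℂˣ =>
        twist (ppart P hP) ψ ϑ₂ = ξ)).card = 0
    · rw [h0']; simp
    · exfalso
      obtain ⟨ψ₁, hψ₁⟩ := Finset.card_pos.mp (Nat.pos_of_ne_zero h0)
      obtain ⟨ψ₂, hψ₂⟩ := Finset.card_pos.mp (Nat.pos_of_ne_zero h0')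
      simp only [Finset.mem_filter, Finset.mem_univ, true_and] at hψ₁ hψ₂
      exact hne (twist_injective hsp h₁ h₂ (hψ₁.trans hψ₂.symm)).2

end KernelCor

end Cfsg.Agent.Lib.Helper3.DefOneGen
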