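import Mathlib
import Cfsg.Agent.Lib.Helper3.DefOneGenF
import Cfsg.Agent.Lib.Helper75.Clifford
import Cfsg.Agent.Lib.Helper78.BlockSums

set_option autoImplicit false
set_option linter.unusedSectionVars false

namespace Cfsg.Agent.Lib.Helper3.DefOneGen

open Cfsg Cfsg.Agent.Lib.Helper78 Cfsg.Agent.Lib.Helper16
open scoped ComplexConjugate IsMulCommutative

section Coset

variable {G : Type*} [Group G] [Fintype G]

open scoped Classical in
/-- Summing a right-`H`-invariant function over the group. -/
theorem sum_eq_card_mul_sum_quotient (H : Subgroup G) [Fintype H] (F : G → ℂ)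
    (hF : ∀ (x : G) (c : H), F (x * (c : G)) = F x) :
    ∑ x : G, F x = (Fintype.card H : ℂ) * ∑ q : G ⧸ H, F (Quotient.out q) := by
  rw [← Finset.sum_fiberwise Finset.univ (fun x : G => (x : G ⧸ H)) F, Finset.mul_sum]
  apply Finset.sum_congr rfl
  intro q _
  have h1 : ∀ x ∈ Finset.univ.filter (fun x : G => (x : G ⧸ H) = q), F x = F (Quotient.out q) := by
    intro x hx
    simp only [Finset.mem_filter, Finset.mem_univ, true_and] at hx
    have hmem : (Quotient.out q)⁻¹ * x ∈ H := by
      rw [← QuotientGroup.eq, hx]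
      exact QuotientGroup.out_eq' q
    have := hF (Quotient.out q) ⟨_, hmem⟩
    simp only [mul_inv_cancel_left] at this
    exact this
  rw [Finset.sum_congr rfl h1, Finset.sum_const, nsmul_eq_mul]
  congr 1
  have hcard : (Finset.univ.filter (fun x : G => (x : G ⧸ H) = q)).card = Fintype.card H := by
    rw [← Finset.card_univ]
    symm
    apply Finset.card_bij (fun (c : H) _ => Quotient.out q * (c : G))
    · intro c _
      simp only [Finset.mem_filter, Finset.mem_univ, true_and]
      rw [← QuotientGroup.out_eq' q]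
      symm
      rw [QuotientGroup.eq]
      simp
    · intro c _ c' _ h
      apply Subtype.ext
      exact mul_left_cancel h
    · intro x hx
      simp only [Finset.mem_filter, Finset.mem_univ, true_and] at hx
      have hmem : (Quotient.out q)⁻¹ * x ∈ H := by
        rw [← QuotientGroup.eq, hx]
        exact QuotientGroup.out_eq' q
      exact ⟨⟨_, hmem⟩, Finset.mem_univ _, by simp⟩
  rw [hcard]

variable {M : Ideal AlgInt}

/-- The average over `H` of a right-`H`-invariant function with local-integral values is a local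
integer. -/
theorem memLocalRing_avg [hMp : M.IsPrime] (H : Subgroup G) [Fintype H] (F : G → ℂ)
    (hF : ∀ (x : G) (c : H), F (x * (c : G)) = F x) (hFR : ∀ x, MemLocalRing M (F x)) :
    MemLocalRing M ((Fintype.card H : ℂ)⁻¹ * ∑ x : G, F x) := by
  classical
  rw [sum_eq_card_mul_sum_quotient H F hF, ← mul_assoc, inv_mul_cancel₀, one_mul]
  · apply memLocalRing_sum
    intro q _
    exact hFR _
  · exact_mod_cast Fintype.card_ne_zero

end Coset

section Dagger

variable {G : Type*} [Group G] [Fintype G] {M : Ideal AlgInt}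

open scoped Classical in
/-- The congruence of central characters of an induced block, tested on a class function with
local-integral values. -/
theorem induced_congr_sum [hMp : M.IsPrime] (H : Subgroup G) [Fintype H]
    {b : Set (IrrCharacter H)} {B : Set (IrrCharacter G)} (hind : IsInducedBlock M H b B)
    {ξ : IrrCharacter H} (hξ : ξ ∈ b) {χ : IrrCharacter G} (hχ : χ ∈ B) {β : G → ℂ}
    (hβ : IsClassFunction G β) (hβR : ∀ g, MemLocalRing M (β g)) :
    MemLocalIdeal M ((∑ h : H, (ξ : H → ℂ) h * β h) / (ξ : H → ℂ) 1 -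
      (∑ g : G, (χ : G → ℂ) g * β g) / (χ : G → ℂ) 1) := by
  have hξ1 : (ξ : H → ℂ) 1 ≠ 0 := by
    rw [IsCharacter.apply_one_eq_charDegree (IsIrrCharacter.isCharacter ξ.2)]
    exact_mod_cast (IsIrrCharacter.charDegree_pos ξ.2).ne'
  have hχ1 : (χ : G → ℂ) 1 ≠ 0 := by
    rw [IsCharacter.apply_one_eq_charDegree (IsIrrCharacter.isCharacter χ.2)]
    exact_mod_cast (IsIrrCharacter.charDegree_pos χ.2).ne'
  rw [sum_subgroup_mul_eq_sum_conjClasses H (ξ : H → ℂ) hξ1 hβ, mul_div_cancel_left₀ _ hξ1]
  have hcf : IsClassFunction G (fun g => (χ : G → ℂ) g * β g) := by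
    intro g h
    simp only
    rw [isClassFunction_irr χ g h, hβ g h]
  rw [sum_eq_sum_conjClasses hcf, Finset.sum_div, ← Finset.sum_sub_distrib]
  apply memLocalIdeal_sum
  intro c _
  have e : β (Quotient.out c) * inducedCentralChar H (ξ : H → ℂ) (Quotient.out c) -
      ((Subgroup.centralizer ({Quotient.out c} : Set G)).index : ℂ) *
        ((χ : G → ℂ) (Quotient.out c) * β (Quotient.out c)) / (χ : G → ℂ) 1 =
      β (Quotient.out c) * (inducedCentralChar H (ξ : H → ℂ) (Quotient.out c) -
        centralChar (χ : G → ℂ) (Quotient.out c)) := by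
    unfold centralChar
    field_simp
  rw [e]
  exact memLocalIdeal_mul_left (hβR _) (hind.2.2 ξ hξ χ hχ _)

end Dagger

section Test

variable {G : Type*} [Group G] [Fintype G] {p : ℕ} [hp : Fact p.Prime] (P : Sylow p G)
  (hP : Nat.card P = p)
variable [Fintype ↥(Subgroup.centralizer ((P : Subgroup G) : Set G))] [Fintype ↥(P : Subgroup G)]
  [IsMulCommutative ↥(P : Subgroup G)] [Fintype (↥(P : Subgroup G) →* ℂˣ)]
variable {M : Ideal AlgInt}

open scoped Classical in
/-- The local test function on `C_G(P)`: `conj ϑ` on the coset `y₀ C_{p'}`. -/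
noncomputable def testLoc (ϑ : ↥(Subgroup.centralizer ((P : Subgroup G) : Set G)) → ℂ)
    (y₀ : ↥(P : Subgroup G)) : ↥(Subgroup.centralizer ((P : Subgroup G) : Set G)) → ℂ :=
  fun c => if ppart P hP c = y₀ then conj (ϑ c) else 0

/-- The test class function on `G`. -/
noncomputable def testFun (ϑ : ↥(Subgroup.centralizer ((P : Subgroup G) : Set G)) → ℂ)
    (y₀ : ↥(P : Subgroup G)) : G → ℂ :=
  indFun (Subgroup.centralizer ((P : Subgroup G) : Set G)) (testLoc P hP ϑ y₀)

theorem isClassFunction_testFun (ϑ : ↥(Subgroup.centralizer ((P : Subgroup G) : Set G)) → ℂ)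
    (y₀ : ↥(P : Subgroup G)) : IsClassFunction G (testFun P hP ϑ y₀) :=
  Cfsg.Agent.Lib.Helper75.isClassFunction_indFun _ _

theorem testLoc_conj {ϑ : ↥(Subgroup.centralizer ((P : Subgroup G) : Set G)) → ℂ}
    (hϑ : IsClassFunction ↥(Subgroup.centralizer ((P : Subgroup G) : Set G)) ϑ)
    (y₀ : ↥(P : Subgroup G)) (h c : ↥(Subgroup.centralizer ((P : Subgroup G) : Set G))) :
    testLoc P hP ϑ y₀ (c * h * c⁻¹) = testLoc P hP ϑ y₀ h := by
  unfold testLoc
  rw [hϑ h c, map_mul, map_mul, map_inv, mul_comm (ppart P hP c), mul_inv_cancel_right]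

/-- The test function has local-integral values. -/
theorem memLocalRing_testFun [hMp : M.IsPrime]
    (ϑ : IrrCharacter ↥(Subgroup.centralizer ((P : Subgroup G) : Set G)))
    (y₀ : ↥(P : Subgroup G)) (g : G) :
    MemLocalRing M (testFun P hP
      (ϑ : ↥(Subgroup.centralizer ((P : Subgroup G) : Set G)) → ℂ) y₀ g) := by
  unfold testFun indFun
  rw [Nat.card_eq_fintype_card]
  apply memLocalRing_avg
  · intro x c
    have e1 : (x * (c : G))⁻¹ * g * (x * (c : G)) = (c : G)⁻¹ * (x⁻¹ * g * x) * (c : G) := by group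
    rw [e1]
    by_cases hmem : x⁻¹ * g * x ∈ Subgroup.centralizer ((P : Subgroup G) : Set G)
    · have hmem' : (c : G)⁻¹ * (x⁻¹ * g * x) * (c : G) ∈
          Subgroup.centralizer ((P : Subgroup G) : Set G) :=
        mul_mem (mul_mem (inv_mem c.2) hmem) c.2
      rw [extendByZero_apply_of_mem _ _ hmem', extendByZero_apply_of_mem _ _ hmem]
      have := testLoc_conj P hP (isClassFunction_irr ϑ) y₀ ⟨_, hmem⟩ c⁻¹
      rw [← this]
      congr 1
      apply Subtype.ext
      simp
    · have hmem' : (c : G)⁻¹ * (x⁻¹ * g * x) * (c : G) ∉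
          Subgroup.centralizer ((P : Subgroup G) : Set G) := by
        intro h
        apply hmem
        have := mul_mem (mul_mem c.2 h) (inv_mem c.2)
        have e2 : (c : G) * ((c : G)⁻¹ * (x⁻¹ * g * x) * (c : G)) * (c : G)⁻¹ = x⁻¹ * g * x := by
          group
        rwa [e2] at this
      rw [extendByZero_apply_not_mem _ _ hmem', extendByZero_apply_not_mem _ _ hmem]
  · intro x
    by_cases hmem : x⁻¹ * g * x ∈ Subgroup.centralizer ((P : Subgroup G) : Set G)
    · rw [extendByZero_apply_of_mem _ _ hmem]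
      unfold testLoc
      split_ifs
      · apply memLocalRing_of_isIntegral hMp.ne_top
        have := IsCharacter.isIntegral (IsIrrCharacter.isCharacter ϑ.2) (⟨_, hmem⟩ :
          ↥(Subgroup.centralizer ((P : Subgroup G) : Set G)))
        exact this.map (starRingEnd ℂ).toIntAlgHom
      · exact memLocalRing_zero hMp.ne_top
    · rw [extendByZero_apply_not_mem _ _ hmem]
      exact memLocalRing_zero hMp.ne_top

end Test

section TestEval

variable {G : Type*} [Group G] [Fintype G] {p : ℕ} [hp : Fact p.Prime] (P : Sylow p G)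
  (hP : Nat.card P = p)
variable [Fintype ↥(Subgroup.centralizer ((P : Subgroup G) : Set G))] [Fintype ↥(P : Subgroup G)]
  [IsMulCommutative ↥(P : Subgroup G)] [Fintype (↥(P : Subgroup G) →* ℂˣ)]
variable {M : Ideal AlgInt}

open scoped Classical in
/-- Summing `testLoc` against a function on `C_G(P)`. -/
theorem sum_testLoc_mul (ϑ : ↥(Subgroup.centralizer ((P : Subgroup G) : Set G)) → ℂ)
    (hϑ : InKer (Subgroup.inclusion (le_centralizer_of_card_prime hP)) ϑ)
    (y₀ : ↥(P : Subgroup G)) (F : ↥(Subgroup.centralizer ((P : Subgroup G) : Set G)) → ℂ) :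
    ∑ c : ↥(Subgroup.centralizer ((P : Subgroup G) : Set G)), testLoc P hP ϑ y₀ c * F c =
      ∑ s : ↥(Subgroup.centralizer ((P : Subgroup G) : Set G)),
        if p ∣ orderOf s then 0 else
          F (Subgroup.inclusion (le_centralizer_of_card_prime hP) y₀ * s) * conj (ϑ s) := by
  have hsp := ppart_spec P hP
  rw [hsp.sum_eq]
  rw [Finset.sum_eq_single y₀]
  · apply Finset.sum_congr rfl
    intro s _
    split_ifs with hs
    · rfl
    · unfold testLoc
      rw [map_mul, hsp.right_inv, (hsp.ker_iff s).mpr hs, mul_one, if_pos rfl, hϑ]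
      ring
  · intro a _ ha
    apply Finset.sum_eq_zero
    intro s _
    split_ifs with hs
    · rfl
    · unfold testLoc
      rw [map_mul, hsp.right_inv, (hsp.ker_iff s).mpr hs, mul_one, if_neg ha, zero_mul]
  · intro h
    exact absurd (Finset.mem_univ _) h

open scoped Classical in
/-- The value of an irreducible character of `G` on the test function. -/
theorem sum_mul_testFun {χ : G → ℂ} (hχ : IsClassFunction G χ)
    (ϑ : ↥(Subgroup.centralizer ((P : Subgroup G) : Set G)) → ℂ)
    (hϑ : InKer (Subgroup.inclusion (le_centralizer_of_card_prime hP)) ϑ)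
    (y₀ : ↥(P : Subgroup G)) :
    ∑ g : G, χ g * testFun P hP ϑ y₀ g =
      ((Fintype.card G : ℂ) / (p : ℂ)) *
        fpart p (Subgroup.centralizer ((P : Subgroup G) : Set G)) χ ϑ (y₀ : G) := by
  have hp0 : (p : ℂ) ≠ 0 := by exact_mod_cast hp.out.ne_zero
  have hC0 : (Fintype.card ↥(Subgroup.centralizer ((P : Subgroup G) : Set G)) : ℂ) ≠ 0 := by
    exact_mod_cast Fintype.card_ne_zero
  have hG0 : (Fintype.card G : ℂ) ≠ 0 := by exact_mod_cast Fintype.card_ne_zero
  have h1 := classInner_indFun (Subgroup.centralizer ((P : Subgroup G) : Set G))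
    (testLoc P hP ϑ y₀) (isClassFunction_conj hχ)
  unfold classInner at h1
  simp only [Complex.conj_conj, Nat.card_eq_fintype_card] at h1
  have h2 : ∑ g : G, χ g * testFun P hP ϑ y₀ g =
      (Fintype.card G : ℂ) *
        ((Fintype.card ↥(Subgroup.centralizer ((P : Subgroup G) : Set G)) : ℂ)⁻¹ *
        ∑ c : ↥(Subgroup.centralizer ((P : Subgroup G) : Set G)),
          testLoc P hP ϑ y₀ c * χ (c : G)) := by
    rw [← h1, ← mul_assoc, mul_inv_cancel₀ hG0, one_mul]
    apply Finset.sum_congr rfl
    intro g _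
    unfold testFun
    ring
  rw [h2, sum_testLoc_mul P hP ϑ hϑ y₀ (fun c => χ (c : G))]
  unfold fpart
  simp only [Subgroup.coe_mul, Subgroup.coe_inclusion]
  field_simp

end TestEval

section TestEval2

variable {G : Type*} [Group G] [Fintype G] {p : ℕ} [hp : Fact p.Prime] (P : Sylow p G)
  (hP : Nat.card P = p)
variable [Fintype ↥(Subgroup.centralizer ((P : Subgroup G) : Set G))] [Fintype ↥(P : Subgroup G)]
  [IsMulCommutative ↥(P : Subgroup G)] [Fintype (↥(P : Subgroup G) →* ℂˣ)]
  [Fintype ↥(Subgroup.normalizer ((P : Subgroup G) : Set G))]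
variable {M : Ideal AlgInt}

/-- If a conjugate `x⁻¹ h x` of `h ∈ C_G(P)` lies in `C_G(P)` with nontrivial `p`-part, then
`x ∈ N_G(P)`. -/
theorem mem_normalizer_of_ppart_ne_one {x h : G}
    (hh : h ∈ Subgroup.centralizer ((P : Subgroup G) : Set G))
    (hc' : x⁻¹ * h * x ∈ Subgroup.centralizer ((P : Subgroup G) : Set G))
    (hne : ppart P hP ⟨x⁻¹ * h * x, hc'⟩ ≠ 1) :
    x ∈ Subgroup.normalizer ((P : Subgroup G) : Set G) := by
  have hsp := ppart_spec P hP
  set c' : ↥(Subgroup.centralizer ((P : Subgroup G) : Set G)) := ⟨x⁻¹ * h * x, hc'⟩ with hc'def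
  set y₀ := ppart P hP c' with hy₀
  set ι := Subgroup.inclusion (le_centralizer_of_card_prime (Q := (P : Subgroup G)) hP) with hι
  set s' := (ι y₀)⁻¹ * c' with hs'
  have hπs : ppart P hP s' = 1 := by
    rw [hs', map_mul, map_inv, hsp.right_inv, inv_mul_cancel]
  have hreg : ¬ p ∣ orderOf s' := (hsp.ker_iff s').mp hπs
  have hc'eq : c' = ι y₀ * s' := by rw [hs', mul_inv_cancel_left]
  have hcomm : Commute (ι y₀) s' := hsp.central y₀ s'
  have hpow : c' ^ orderOf s' = ι (y₀ ^ orderOf s') := by
    rw [hc'eq, hcomm.mul_pow, pow_orderOf_eq_one, mul_one, map_pow]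
  -- the element `y₀ ^ m`
  have hyP : ((y₀ ^ orderOf s' : ↥(P : Subgroup G)) : G) ∈ (P : Subgroup G) := (y₀ ^ orderOf s').2
  have hy1 : ((y₀ ^ orderOf s' : ↥(P : Subgroup G)) : G) ≠ 1 := by
    intro h1
    have h2 : y₀ ^ orderOf s' = 1 := Subtype.ext h1
    have h3 : orderOf y₀ ∣ orderOf s' := orderOf_dvd_of_pow_eq_one h2
    have h4 : orderOf y₀ = p := by
      have := orderOf_eq_of_mem P hP y₀.2 (fun h => hne (Subtype.ext h))
      rwa [Subgroup.orderOf_coe] at this
    rw [h4] at h3
    exact hreg h3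
  have hval : x * ((y₀ ^ orderOf s' : ↥(P : Subgroup G)) : G) * x⁻¹ = h ^ orderOf s' := by
    have h5 := congrArg (Subtype.val : ↥(Subgroup.centralizer ((P : Subgroup G) : Set G)) → G) hpow
    simp only [Subgroup.coe_pow, hc'def] at h5
    have h6 : ((ι (y₀ ^ orderOf s') : ↥(Subgroup.centralizer ((P : Subgroup G) : Set G))) : G) =
        ((y₀ ^ orderOf s' : ↥(P : Subgroup G)) : G) := rfl
    rw [h6] at h5
    rw [← h5]
    have h7 : ∀ m : ℕ, (x⁻¹ * h * x) ^ m = x⁻¹ * h ^ m * x := by
      intro m
      induction m with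
      | zero => simp
      | succ k ih => rw [pow_succ, ih, pow_succ]; group
    rw [h7]
    group
  have hmemC : x * ((y₀ ^ orderOf s' : ↥(P : Subgroup G)) : G) * x⁻¹ ∈
      Subgroup.centralizer ((P : Subgroup G) : Set G) := by
    rw [hval]
    exact pow_mem hh _
  have hord : ∃ k : ℕ, orderOf (x * ((y₀ ^ orderOf s' : ↥(P : Subgroup G)) : G) * x⁻¹) = p ^ k := by
    refine ⟨1, ?_⟩
    have e : x * ((y₀ ^ orderOf s' : ↥(P : Subgroup G)) : G) * x⁻¹ =
        MulAut.conj x ((y₀ ^ orderOf s' : ↥(P : Subgroup G)) : G) := by simp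
    rw [e, MulEquiv.orderOf_eq, pow_one]
    exact orderOf_eq_of_mem P hP hyP hy1
  have hmemP := mem_sylow_of_mem_centralizer P hmemC hord
  exact mem_normalizer_of_conj_mem hP hyP hy1 hmemP

open scoped Classical in
/-- The value of `θ` on the (restricted) test function counts the stabilizer of `θ`. -/
theorem sum_theta_mul_testFun
    (θ : IrrCharacter ↥(Subgroup.centralizer ((P : Subgroup G) : Set G)))
    (hθ : InKer (Subgroup.inclusion (le_centralizer_of_card_prime hP))
      (θ : ↥(Subgroup.centralizer ((P : Subgroup G) : Set G)) → ℂ))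
    (y₀ : ↥(P : Subgroup G)) (hy₀ : y₀ ≠ 1) :
    ∑ h : ↥(Subgroup.centralizer ((P : Subgroup G) : Set G)),
      (θ : ↥(Subgroup.centralizer ((P : Subgroup G) : Set G)) → ℂ) h *
        testFun P hP (θ : ↥(Subgroup.centralizer ((P : Subgroup G) : Set G)) → ℂ) y₀ (h : G) =
    ((Finset.univ.filter (fun n : ↥(Subgroup.normalizer ((P : Subgroup G) : Set G)) =>
      thetaConj P (n : G) n.2 θ = θ)).card : ℂ) / (p : ℂ) := by
  have hsp := ppart_spec P hP
  have hp0 : (p : ℂ) ≠ 0 := by exact_mod_cast hp.out.ne_zero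
  have hC0 : (Fintype.card ↥(Subgroup.centralizer ((P : Subgroup G) : Set G)) : ℂ) ≠ 0 := by
    exact_mod_cast Fintype.card_ne_zero
  obtain ⟨φ, hφ⟩ : ∃ φ, φ = testLoc P hP
    (θ : ↥(Subgroup.centralizer ((P : Subgroup G) : Set G)) → ℂ) y₀ := ⟨_, rfl⟩
  obtain ⟨S, hS⟩ : ∃ S : G → ℂ, S = fun x =>
      ∑ h : ↥(Subgroup.centralizer ((P : Subgroup G) : Set G)),
        (θ : ↥(Subgroup.centralizer ((P : Subgroup G) : Set G)) → ℂ) h *
          extendByZero (Subgroup.centralizer ((P : Subgroup G) : Set G)) φ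
            (x⁻¹ * (h : G) * x) := ⟨_, rfl⟩
  -- rewrite the left-hand side
  have hL : ∑ h : ↥(Subgroup.centralizer ((P : Subgroup G) : Set G)),
      (θ : ↥(Subgroup.centralizer ((P : Subgroup G) : Set G)) → ℂ) h *
        testFun P hP (θ : ↥(Subgroup.centralizer ((P : Subgroup G) : Set G)) → ℂ) y₀ (h : G) =
      (Fintype.card ↥(Subgroup.centralizer ((P : Subgroup G) : Set G)) : ℂ)⁻¹ * ∑ x : G, S x := by
    rw [hS]
    simp only
    rw [Finset.sum_comm, Finset.mul_sum]
    apply Finset.sum_congr rfl
    intro h _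
    unfold testFun indFun
    rw [Nat.card_eq_fintype_card, ← hφ, Finset.mul_sum, Finset.mul_sum, Finset.mul_sum]
    apply Finset.sum_congr rfl
    intro x _
    ring
  -- Claim 1
  have h1 : ∀ x : G, x ∉ Subgroup.normalizer ((P : Subgroup G) : Set G) → S x = 0 := by
    intro x hx
    rw [hS]
    simp only
    apply Finset.sum_eq_zero
    intro h _
    by_cases hmem : x⁻¹ * (h : G) * x ∈ Subgroup.centralizer ((P : Subgroup G) : Set G)
    · rw [extendByZero_apply_of_mem _ _ hmem, hφ]
      unfold testLoc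
      rw [if_neg, mul_zero]
      intro hπ
      apply hx
      apply mem_normalizer_of_ppart_ne_one P hP h.2 hmem
      rw [hπ]
      exact hy₀
    · rw [extendByZero_apply_not_mem _ _ hmem, mul_zero]
  -- Claim 2
  have h2 : ∀ n : ↥(Subgroup.normalizer ((P : Subgroup G) : Set G)), S (n : G) =
      (Fintype.card ↥(Subgroup.centralizer ((P : Subgroup G) : Set G)) : ℂ) / (p : ℂ) *
        (if thetaConj P (n : G) n.2 θ = θ then 1 else 0) := by
    intro n
    rw [hS]
    simp only
    rw [← Equiv.sum_comp ((Subgroup.centralizer ((P : Subgroup G) : Set G)).normalizerMonoidHom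
      (toNC P (n : G) n.2)).toEquiv]
    have hterm : ∀ h' : ↥(Subgroup.centralizer ((P : Subgroup G) : Set G)),
        (θ : ↥(Subgroup.centralizer ((P : Subgroup G) : Set G)) → ℂ)
          (((Subgroup.centralizer ((P : Subgroup G) : Set G)).normalizerMonoidHom
            (toNC P (n : G) n.2)).toEquiv h') *
        extendByZero (Subgroup.centralizer ((P : Subgroup G) : Set G)) φ
          ((n : G)⁻¹ * ((((Subgroup.centralizer ((P : Subgroup G) : Set G)).normalizerMonoidHom
            (toNC P (n : G) n.2)).toEquiv h' :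
              ↥(Subgroup.centralizer ((P : Subgroup G) : Set G))) : G) * (n : G)) =
        φ h' * (thetaConj P (n : G) n.2 θ :
          ↥(Subgroup.centralizer ((P : Subgroup G) : Set G)) → ℂ) h' := by
      intro h'
      simp only [MulEquiv.toEquiv_eq_coe, EquivLike.coe_coe]
      rw [coe_normalizerMonoidHom_toNC, ← thetaConj_apply]
      have e : (n : G)⁻¹ * ((n : G) * (h' : G) * (n : G)⁻¹) * (n : G) = (h' : G) := by group
      rw [e, extendByZero_apply_mem, mul_comm]
    rw [Finset.sum_congr rfl (fun h' _ => hterm h'), hφ,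
      sum_testLoc_mul P hP _ hθ y₀]
    have hθn := inKer_thetaConj P hP (n : G) n.2 θ hθ
    have h3 := regInner_eq_card hsp (thetaConj P (n : G) n.2 θ) θ
    rw [card_P_eq P hP] at h3
    have h4 : ∑ s : ↥(Subgroup.centralizer ((P : Subgroup G) : Set G)),
        (if p ∣ orderOf s then 0 else
          (thetaConj P (n : G) n.2 θ : ↥(Subgroup.centralizer ((P : Subgroup G) : Set G)) → ℂ)
            (Subgroup.inclusion (le_centralizer_of_card_prime hP) y₀ * s) *
          conj ((θ : ↥(Subgroup.centralizer ((P : Subgroup G) : Set G)) → ℂ) s)) =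
        ∑ s : ↥(Subgroup.centralizer ((P : Subgroup G) : Set G)),
        (if p ∣ orderOf s then 0 else
          (thetaConj P (n : G) n.2 θ : ↥(Subgroup.centralizer ((P : Subgroup G) : Set G)) → ℂ) s *
          conj ((θ : ↥(Subgroup.centralizer ((P : Subgroup G) : Set G)) → ℂ) s)) := by
      apply Finset.sum_congr rfl
      intro s _
      rw [hθn]
    rw [h4]
    have h5 : ((Finset.univ.filter (fun ψ : ↥(P : Subgroup G) →* ℂˣ =>
        twist (ppart P hP) ψ θ = thetaConj P (n : G) n.2 θ)).card : ℂ) =
        if thetaConj P (n : G) n.2 θ = θ then 1 else 0 := by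
      split_ifs with heq
      · have : Finset.univ.filter (fun ψ : ↥(P : Subgroup G) →* ℂˣ =>
            twist (ppart P hP) ψ θ = thetaConj P (n : G) n.2 θ) = {1} := by
          ext ψ
          simp only [Finset.mem_filter, Finset.mem_univ, true_and, Finset.mem_singleton]
          constructor
          · intro h
            rw [heq, ← twist_one (ppart P hP) θ] at h
            rw [twist_one] at h
            have h' : twist (ppart P hP) ψ θ = twist (ppart P hP) 1 θ := by
              rw [twist_one]; exact h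
            exact (twist_injective hsp hθ hθ h').1
          · intro h
            rw [h, twist_one, heq]
        rw [this]
        simp
      · have : Finset.univ.filter (fun ψ : ↥(P : Subgroup G) →* ℂˣ =>
            twist (ppart P hP) ψ θ = thetaConj P (n : G) n.2 θ) = ∅ := by
          ext ψ
          simp only [Finset.mem_filter, Finset.mem_univ, true_and, Finset.notMem_empty, iff_false]
          intro h
          have h' : twist (ppart P hP) ψ θ = twist (ppart P hP) 1 (thetaConj P (n : G) n.2 θ) := by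
            rw [twist_one]; exact h
          exact heq (twist_injective hsp hθ hθn h').2.symm
        rw [this]
        simp
    rw [← h5, ← h3]
    field_simp
  -- assemble
  rw [hL]
  have h6 : ∑ x : G, S x = ∑ x ∈ Finset.univ.filter
      (fun x : G => x ∈ Subgroup.normalizer ((P : Subgroup G) : Set G)), S x := by
    symm
    apply Finset.sum_subset (Finset.subset_univ _)
    intro x _ hx
    simp only [Finset.mem_filter, Finset.mem_univ, true_and] at hx
    exact h1 x hx
  rw [h6, Finset.sum_subtype (Finset.univ.filter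
      (fun x : G => x ∈ Subgroup.normalizer ((P : Subgroup G) : Set G)))
    (p := fun x => x ∈ Subgroup.normalizer ((P : Subgroup G) : Set G)) (by simp) S]
  rw [Finset.sum_congr rfl (fun n _ => h2 n), ← Finset.mul_sum, Finset.sum_boole]
  field_simp

end TestEval2

end Cfsg.Agent.Lib.Helper3.DefOneGen
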