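import Mathlib
import Cfsg.Agent.Lib.Helper3.DefOneGenDeg
import Cfsg.Agent.S0914
import Cfsg.Agent.Lib.Helper79.Integrality

set_option autoImplicit false
set_option linter.unusedSectionVars false

namespace Cfsg.Agent.Lib.Helper3.DefOneGen

open Cfsg Cfsg.Agent.Lib.Helper78 Cfsg.Agent.Lib.Helper16
open scoped ComplexConjugate IsMulCommutative

section Integrality

variable {G : Type*} [Group G] [Fintype G] {p : ℕ} [hp : Fact p.Prime] (P : Sylow p G)
  (hP : Nat.card P = p)
variable [Fintype ↥(Subgroup.centralizer ((P : Subgroup G) : Set G))] [Fintype ↥(P : Subgroup G)]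
  [IsMulCommutative ↥(P : Subgroup G)] [Fintype (↥(P : Subgroup G) →* ℂˣ)]
variable {M : Ideal AlgInt}

/-- Fourier expansion of `y ↦ fpart χ ϑ y`. -/
theorem fpart_eq_sum_dual (F : G → ℂ)
    (ϑ : IrrCharacter ↥(Subgroup.centralizer ((P : Subgroup G) : Set G)))
    (hϑ : InKer (Subgroup.inclusion (le_centralizer_of_card_prime hP))
      (ϑ : ↥(Subgroup.centralizer ((P : Subgroup G) : Set G)) → ℂ))
    (y : ↥(P : Subgroup G)) :
    fpart p (Subgroup.centralizer ((P : Subgroup G) : Set G)) F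
      (ϑ : ↥(Subgroup.centralizer ((P : Subgroup G) : Set G)) → ℂ) (y : G) =
    ∑ ψ : ↥(P : Subgroup G) →* ℂˣ,
      classInner (fun c : ↥(Subgroup.centralizer ((P : Subgroup G) : Set G)) => F (c : G))
        (twist (ppart P hP) ψ ϑ : ↥(Subgroup.centralizer ((P : Subgroup G) : Set G)) → ℂ) *
      ((ψ y : ℂˣ) : ℂ) := by
  have h := dual_inversion (fun y : ↥(P : Subgroup G) =>
    fpart p (Subgroup.centralizer ((P : Subgroup G) : Set G)) F
      (ϑ : ↥(Subgroup.centralizer ((P : Subgroup G) : Set G)) → ℂ) (y : G)) y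
  rw [h]
  apply Finset.sum_congr rfl
  intro ψ _
  rw [sum_fpart_mul_conj P hP F ϑ hϑ ψ]

/-- `fpart χ ϑ y` is an algebraic integer. -/
theorem isIntegral_fpart {χ : G → ℂ} (hχ : IsCharacter G χ)
    (ϑ : IrrCharacter ↥(Subgroup.centralizer ((P : Subgroup G) : Set G)))
    (hϑ : InKer (Subgroup.inclusion (le_centralizer_of_card_prime hP))
      (ϑ : ↥(Subgroup.centralizer ((P : Subgroup G) : Set G)) → ℂ))
    (y : ↥(P : Subgroup G)) :
    IsIntegral ℤ (fpart p (Subgroup.centralizer ((P : Subgroup G) : Set G)) χ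
      (ϑ : ↥(Subgroup.centralizer ((P : Subgroup G) : Set G)) → ℂ) (y : G)) := by
  rw [fpart_eq_sum_dual P hP χ ϑ hϑ y]
  apply IsIntegral.sum
  intro ψ _
  have hres : IsCharacter ↥(Subgroup.centralizer ((P : Subgroup G) : Set G))
      (fun c : ↥(Subgroup.centralizer ((P : Subgroup G) : Set G)) => χ (c : G)) :=
    Cfsg.Agent.Lib.Helper80.isCharacter_restrict _ hχ
  obtain ⟨n, hn⟩ := IsCharacter.exists_nat_classInner hres (twist (ppart P hP) ψ ϑ)
  rw [hn]
  apply IsIntegral.mul
  · have h := isIntegral_algebraMap (R := ℤ) (A := ℂ) (x := (n : ℤ))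
    simpa using h
  · have hpow : ((ψ y : ℂˣ) : ℂ) ^ Fintype.card ↥(P : Subgroup G) = 1 := by
      rw [← Units.val_pow_eq_pow_val, ← map_pow, pow_card_eq_one, map_one, Units.val_one]
    exact IsIntegral.of_pow Fintype.card_pos (by rw [hpow]; exact isIntegral_one)

end Integrality

section DegCongr

variable {G : Type*} [Group G] [Fintype G] {p : ℕ} [hp : Fact p.Prime] (P : Sylow p G)
  (hP : Nat.card P = p)
variable [Fintype ↥(Subgroup.centralizer ((P : Subgroup G) : Set G))] [Fintype ↥(P : Subgroup G)]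
  [IsMulCommutative ↥(P : Subgroup G)] [Fintype (↥(P : Subgroup G) →* ℂˣ)]
  [Fintype ↥(Subgroup.normalizer ((P : Subgroup G) : Set G))]
variable {M : Ideal AlgInt}

open scoped Classical in
/-- The raw congruence obtained by testing the induced block on `testFun`. -/
theorem deg_congr_aux (hM : IsPModular p M)
    {b : Set (IrrCharacter ↥(Subgroup.centralizer ((P : Subgroup G) : Set G)))}
    {B : Set (IrrCharacter G)}
    (hind : IsInducedBlock M (Subgroup.centralizer ((P : Subgroup G) : Set G)) b B)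
    {θ : IrrCharacter ↥(Subgroup.centralizer ((P : Subgroup G) : Set G))} (hθb : θ ∈ b)
    (hθ : InKer (Subgroup.inclusion (le_centralizer_of_card_prime hP))
      (θ : ↥(Subgroup.centralizer ((P : Subgroup G) : Set G)) → ℂ))
    {χ : IrrCharacter G} (hχ : χ ∈ B) (y₀ : ↥(P : Subgroup G)) (hy₀ : y₀ ≠ 1) :
    MemLocalIdeal M
      (((Finset.univ.filter (fun n : ↥(Subgroup.normalizer ((P : Subgroup G) : Set G)) =>
        thetaConj P (n : G) n.2 θ = θ)).card : ℂ) / (p : ℂ) /
        (θ : ↥(Subgroup.centralizer ((P : Subgroup G) : Set G)) → ℂ) 1 -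
      ((Fintype.card G : ℂ) / (p : ℂ)) *
        fpart p (Subgroup.centralizer ((P : Subgroup G) : Set G)) (χ : G → ℂ)
          (θ : ↥(Subgroup.centralizer ((P : Subgroup G) : Set G)) → ℂ) (y₀ : G) /
        (χ : G → ℂ) 1) := by
  haveI hMp : M.IsPrime := isPModular_isPrime hM
  have h := induced_congr_sum (Subgroup.centralizer ((P : Subgroup G) : Set G)) hind hθb hχ
    (isClassFunction_testFun P hP
      (θ : ↥(Subgroup.centralizer ((P : Subgroup G) : Set G)) → ℂ) y₀)
    (memLocalRing_testFun P hP θ y₀)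
  rw [sum_theta_mul_testFun P hP θ hθ y₀ hy₀,
    sum_mul_testFun P hP (isClassFunction_irr χ) _ hθ y₀] at h
  exact h

/-- The arithmetic behind the degree congruence. -/
theorem arith_congr (hM : IsPModular p M) {τ cG e f i k dθ dχ : ℕ} (hτ : τ = e * (p * k))
    (hG : cG = i * (f * (p * k))) (hk : ¬ p ∣ k) (hi : i ≡ 1 [MOD p]) (hdθ : dθ ≠ 0)
    (hdχ : dχ ≠ 0) {F : ℂ} (hF : MemLocalRing M F)
    (h : MemLocalIdeal M ((τ : ℂ) / (p : ℂ) / (dθ : ℂ) - ((cG : ℂ) / (p : ℂ)) * F / (dχ : ℂ))) :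
    MemLocalIdeal M ((e : ℂ) * (dχ : ℂ) - (f : ℂ) * (dθ : ℂ) * F) := by
  haveI hMp : M.IsPrime := isPModular_isPrime hM
  have hp0 : (p : ℂ) ≠ 0 := by exact_mod_cast hp.out.ne_zero
  have hdθ0 : (dθ : ℂ) ≠ 0 := by exact_mod_cast hdθ
  have hdχ0 : (dχ : ℂ) ≠ 0 := by exact_mod_cast hdχ
  have hnat := fun n : ℕ => memLocalRing_natCast (M := M) hMp.ne_top n
  have h1 := memLocalIdeal_mul_right h (memLocalRing_mul (hnat dθ) (hnat dχ))
  have e1 : ((τ : ℂ) / (p : ℂ) / (dθ : ℂ) - ((cG : ℂ) / (p : ℂ)) * F / (dχ : ℂ)) *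
      ((dθ : ℂ) * (dχ : ℂ)) =
      (k : ℂ) * ((e : ℂ) * (dχ : ℂ) - (i : ℂ) * (f : ℂ) * (dθ : ℂ) * F) := by
    rw [hτ, hG]
    push_cast
    field_simp
  rw [e1] at h1
  have hrest : MemLocalRing M ((e : ℂ) * (dχ : ℂ) - (i : ℂ) * (f : ℂ) * (dθ : ℂ) * F) :=
    memLocalRing_sub (memLocalRing_mul (hnat e) (hnat dχ))
      (memLocalRing_mul (memLocalRing_mul (memLocalRing_mul (hnat i) (hnat f)) (hnat dθ)) hF)
  have h2 : MemLocalIdeal M ((e : ℂ) * (dχ : ℂ) - (i : ℂ) * (f : ℂ) * (dθ : ℂ) * F) := by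
    rcases (memLocalIdeal_mul_iff (hnat k) hrest).mp h1 with h3 | h3
    · exact absurd ((memLocalIdeal_natCast_iff hM k).mp h3) hk
    · exact h3
  have h4 : (p : ℤ) ∣ (1 : ℤ) - (i : ℤ) := by
    have := Nat.modEq_iff_dvd.mp hi
    simpa using this
  have h5 : MemLocalIdeal M (((1 - (i : ℤ) : ℤ) : ℂ)) := (memLocalIdeal_intCast_iff hM _).mpr h4
  have h6 : MemLocalIdeal M ((((1 - (i : ℤ) : ℤ) : ℂ)) * ((f : ℂ) * (dθ : ℂ) * F)) :=
    memLocalIdeal_mul_right h5 (memLocalRing_mul (memLocalRing_mul (hnat f) (hnat dθ)) hF)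
  have e2 : (e : ℂ) * (dχ : ℂ) - (f : ℂ) * (dθ : ℂ) * F =
      ((e : ℂ) * (dχ : ℂ) - (i : ℂ) * (f : ℂ) * (dθ : ℂ) * F) -
        (((1 - (i : ℤ) : ℤ) : ℂ)) * ((f : ℂ) * (dθ : ℂ) * F) := by
    push_cast
    ring
  rw [e2]
  exact memLocalIdeal_sub h2 h6

end DegCongr

section DegT

variable {G : Type*} [Group G] [Fintype G] {p : ℕ} [hp : Fact p.Prime] (P : Sylow p G)
  (hP : Nat.card P = p)
variable [Fintype ↥(Subgroup.centralizer ((P : Subgroup G) : Set G))] [Fintype ↥(P : Subgroup G)]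
  [IsMulCommutative ↥(P : Subgroup G)] [Fintype (↥(P : Subgroup G) →* ℂˣ)]
  [Fintype ↥(Subgroup.normalizer ((P : Subgroup G) : Set G))]
variable {M : Ideal AlgInt}

theorem card_eq_card_mul_relIndex {H K : Subgroup G} (h : H ≤ K) :
    Nat.card K = H.relIndex K * Nat.card H := by
  have := Subgroup.relIndex_mul_relIndex (⊥ : Subgroup G) H K bot_le h
  rw [Subgroup.relIndex_bot_left, Subgroup.relIndex_bot_left] at this
  rw [← this, mul_comm]

open scoped Classical in
/-- The stabilizer count is the order of the inertia group. -/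
theorem card_stab_eq (θ : IrrCharacter ↥(Subgroup.centralizer ((P : Subgroup G) : Set G)))
    (T : Subgroup G) (hTN : T ≤ Subgroup.normalizer ((P : Subgroup G) : Set G))
    (hT : ∀ (n : G) (hn : n ∈ Subgroup.normalizer ((P : Subgroup G) : Set G)),
      n ∈ T ↔ thetaConj P n hn θ = θ) :
    (Finset.univ.filter (fun n : ↥(Subgroup.normalizer ((P : Subgroup G) : Set G)) =>
        thetaConj P (n : G) n.2 θ = θ)).card = Nat.card T := by
  rw [← Fintype.card_subtype, ← Nat.card_eq_fintype_card]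
  apply Nat.card_congr
  exact {
    toFun := fun n => ⟨(n.1 : G), (hT _ n.1.2).mpr n.2⟩
    invFun := fun t => ⟨⟨(t : G), hTN t.2⟩, (hT _ _).mp t.2⟩
    left_inv := fun n => rfl
    right_inv := fun t => rfl }

include hP in
/-- The inertia group contains the centralizer. -/
theorem centralizer_le_of_stab (θ : IrrCharacter ↥(Subgroup.centralizer ((P : Subgroup G) : Set G)))
    (T : Subgroup G)
    (hT : ∀ (n : G) (hn : n ∈ Subgroup.normalizer ((P : Subgroup G) : Set G)),
      n ∈ T ↔ thetaConj P n hn θ = θ) :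
    Subgroup.centralizer ((P : Subgroup G) : Set G) ≤ T := by
  intro c hc
  rw [hT c (Subgroup.centralizer_le_normalizer _ hc)]
  exact thetaConj_of_mem_centralizer P c hc θ

include hP in
/-- `p²` does not divide the group order. -/
theorem not_sq_dvd_card : ¬ p * p ∣ Nat.card G := by
  intro h
  have h1 := P.card_eq_multiplicity
  rw [hP] at h1
  have h2 : (Nat.card G).factorization p = 1 := by
    have h3 : p ^ 1 = p ^ (Nat.card G).factorization p := by rw [pow_one]; exact h1
    exact (Nat.pow_right_injective hp.out.two_le h3).symm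
  have h4 : p ^ 2 ∣ Nat.card G := by rw [pow_two]; exact h
  have h5 := (hp.out.pow_dvd_iff_le_factorization (Nat.card_pos.ne')).mp h4
  omega

end DegT

section DegMain

variable {G : Type*} [Group G] [Fintype G] {p : ℕ} [hp : Fact p.Prime] (P : Sylow p G)
  (hP : Nat.card P = p)
variable [Fintype ↥(Subgroup.centralizer ((P : Subgroup G) : Set G))] [Fintype ↥(P : Subgroup G)]
  [IsMulCommutative ↥(P : Subgroup G)] [Fintype (↥(P : Subgroup G) →* ℂˣ)]
  [Fintype ↥(Subgroup.normalizer ((P : Subgroup G) : Set G))]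
variable {M : Ideal AlgInt}

include hP in
/-- The numerical data attached to an inertia group `T`. -/
theorem exists_card_data (T : Subgroup G)
    (hCT : Subgroup.centralizer ((P : Subgroup G) : Set G) ≤ T)
    (hTN : T ≤ Subgroup.normalizer ((P : Subgroup G) : Set G)) :
    ∃ k : ℕ, ¬ p ∣ k ∧
      Nat.card T = (Subgroup.centralizer ((P : Subgroup G) : Set G)).relIndex T * (p * k) ∧
      Nat.card G = (Subgroup.normalizer ((P : Subgroup G) : Set G)).index *
        ((Subgroup.centralizer ((P : Subgroup G) : Set G)).relIndex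
          (Subgroup.normalizer ((P : Subgroup G) : Set G)) * (p * k)) ∧
      ¬ p ∣ (Subgroup.centralizer ((P : Subgroup G) : Set G)).relIndex T := by
  have hPC : (P : Subgroup G) ≤ Subgroup.centralizer ((P : Subgroup G) : Set G) :=
    le_centralizer_of_card_prime hP
  obtain ⟨k, hk⟩ : Nat.card (P : Subgroup G) ∣
      Nat.card ↥(Subgroup.centralizer ((P : Subgroup G) : Set G)) := Subgroup.card_dvd_of_le hPC
  have hP' : Nat.card (P : Subgroup G) = p := hP
  rw [hP'] at hk
  have hT := card_eq_card_mul_relIndex hCT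
  have hN := card_eq_card_mul_relIndex (hCT.trans hTN)
  rw [hk] at hT hN
  have hG : Nat.card G = (Subgroup.normalizer ((P : Subgroup G) : Set G)).index *
      ((Subgroup.centralizer ((P : Subgroup G) : Set G)).relIndex
        (Subgroup.normalizer ((P : Subgroup G) : Set G)) * (p * k)) := by
    rw [← hN, mul_comm]
    exact (Subgroup.card_mul_index _).symm
  have hsq := not_sq_dvd_card P hP
  have hTG : Nat.card T ∣ Nat.card G := Subgroup.card_subgroup_dvd_card T
  refine ⟨k, ?_, hT, hG, ?_⟩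
  · rintro ⟨j, rfl⟩
    apply hsq
    rw [hT] at hTG
    exact dvd_trans ⟨(Subgroup.centralizer ((P : Subgroup G) : Set G)).relIndex T * j, by ring⟩ hTG
  · rintro ⟨j, hj⟩
    apply hsq
    rw [hT, hj] at hTG
    exact dvd_trans ⟨j * k, by ring⟩ hTG

open scoped Classical in
/-- **The degree congruence**: `e χ(1) ≡ f θ(1) a_χ(y)` modulo the maximal ideal. -/
theorem deg_congr (hM : IsPModular p M)
    {b : Set (IrrCharacter ↥(Subgroup.centralizer ((P : Subgroup G) : Set G)))}
    {B : Set (IrrCharacter G)}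
    (hind : IsInducedBlock M (Subgroup.centralizer ((P : Subgroup G) : Set G)) b B)
    {θ : IrrCharacter ↥(Subgroup.centralizer ((P : Subgroup G) : Set G))} (hθb : θ ∈ b)
    (hθ : InKer (Subgroup.inclusion (le_centralizer_of_card_prime hP))
      (θ : ↥(Subgroup.centralizer ((P : Subgroup G) : Set G)) → ℂ))
    {χ : IrrCharacter G} (hχ : χ ∈ B) (y₀ : ↥(P : Subgroup G)) (hy₀ : y₀ ≠ 1)
    (T : Subgroup G) (hTN : T ≤ Subgroup.normalizer ((P : Subgroup G) : Set G))
    (hT : ∀ (n : G) (hn : n ∈ Subgroup.normalizer ((P : Subgroup G) : Set G)),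
      n ∈ T ↔ thetaConj P n hn θ = θ) :
    MemLocalIdeal M
      ((((Subgroup.centralizer ((P : Subgroup G) : Set G)).relIndex T : ℕ) : ℂ) *
          ((charDegree (χ : G → ℂ) : ℕ) : ℂ) -
        (((Subgroup.centralizer ((P : Subgroup G) : Set G)).relIndex
          (Subgroup.normalizer ((P : Subgroup G) : Set G)) : ℕ) : ℂ) *
          ((charDegree (θ : ↥(Subgroup.centralizer ((P : Subgroup G) : Set G)) → ℂ) : ℕ) : ℂ) *
          fpart p (Subgroup.centralizer ((P : Subgroup G) : Set G)) (χ : G → ℂ)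
            (θ : ↥(Subgroup.centralizer ((P : Subgroup G) : Set G)) → ℂ) (y₀ : G)) := by
  haveI hMp : M.IsPrime := isPModular_isPrime hM
  have hCT := centralizer_le_of_stab P hP θ T hT
  obtain ⟨k, hk, hτ, hG, -⟩ := exists_card_data P hP T hCT hTN
  have h := deg_congr_aux P hP hM hind hθb hθ hχ y₀ hy₀
  rw [card_stab_eq P θ T hTN hT, ← Nat.card_eq_fintype_card,
    IsCharacter.apply_one_eq_charDegree (IsIrrCharacter.isCharacter θ.2),
    IsCharacter.apply_one_eq_charDegree (IsIrrCharacter.isCharacter χ.2)] at h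
  exact arith_congr hM hτ hG hk (index_normalizer_modEq_one P)
    (IsIrrCharacter.charDegree_pos θ.2).ne' (IsIrrCharacter.charDegree_pos χ.2).ne'
    (memLocalRing_of_isIntegral hMp.ne_top
      (isIntegral_fpart P hP (IsIrrCharacter.isCharacter χ.2) θ hθ y₀)) h

end DegMain

section DegCor

variable {G : Type*} [Group G] [Fintype G] {p : ℕ} [hp : Fact p.Prime] (P : Sylow p G)
  (hP : Nat.card P = p)
variable [Fintype ↥(Subgroup.centralizer ((P : Subgroup G) : Set G))] [Fintype ↥(P : Subgroup G)]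
  [IsMulCommutative ↥(P : Subgroup G)] [Fintype (↥(P : Subgroup G) →* ℂˣ)]
  [Fintype ↥(Subgroup.normalizer ((P : Subgroup G) : Set G))]
variable {M : Ideal AlgInt}

include hP in
/-- The product of a nontrivial element of `P` and a `p`-regular element of `C_G(P)` is
`p`-singular. -/
theorem dvd_orderOf_mul {y : G} (hyP : y ∈ (P : Subgroup G)) (hy1 : y ≠ 1)
    (s : ↥(Subgroup.centralizer ((P : Subgroup G) : Set G))) (hs : ¬ p ∣ orderOf s) :
    p ∣ orderOf (y * (s : G)) := by
  have hcomm : Commute y (s : G) := by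
    have := s.2
    rw [Subgroup.mem_centralizer_iff] at this
    exact (this y hyP)
  have hy := orderOf_eq_of_mem P hP hyP hy1
  have hs' : ¬ p ∣ orderOf (s : G) := by rwa [Subgroup.orderOf_coe]
  have hcop : Nat.Coprime (orderOf y) (orderOf (s : G)) := by
    rw [hy]
    exact (Nat.Prime.coprime_iff_not_dvd hp.out).mpr hs'
  rw [hcomm.orderOf_mul_eq_mul_orderOf_of_coprime hcop, hy]
  exact dvd_mul_right _ _

include hP in
theorem fpart_eq_zero_of_vanish {F : G → ℂ} (hF : ∀ g : G, p ∣ orderOf g → F g = 0)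
    (ϑ : ↥(Subgroup.centralizer ((P : Subgroup G) : Set G)) → ℂ) {y : G}
    (hyP : y ∈ (P : Subgroup G)) (hy1 : y ≠ 1) :
    fpart p (Subgroup.centralizer ((P : Subgroup G) : Set G)) F ϑ y = 0 := by
  unfold fpart
  rw [Finset.sum_eq_zero, mul_zero]
  intro s _
  split_ifs with hs
  · rfl
  · rw [hF _ (dvd_orderOf_mul P hP hyP hy1 s hs), zero_mul]

include hP in
theorem exists_ne_one_of_card : ∃ y₀ : ↥(P : Subgroup G), y₀ ≠ 1 := by
  have h1 : 1 < Fintype.card ↥(P : Subgroup G) := by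
    rw [← Nat.card_eq_fintype_card]
    have hP' : Nat.card (P : Subgroup G) = p := hP
    rw [hP']
    exact hp.out.one_lt
  haveI := Fintype.one_lt_card_iff_nontrivial.mp h1
  exact exists_ne 1

open scoped Classical in
/-- The characters of a block of full defect have degree prime to `p`. -/
theorem not_dvd_charDegree (hM : IsPModular p M)
    {b : Set (IrrCharacter ↥(Subgroup.centralizer ((P : Subgroup G) : Set G)))}
    {B : Set (IrrCharacter G)}
    (hind : IsInducedBlock M (Subgroup.centralizer ((P : Subgroup G) : Set G)) b B)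
    {θ : IrrCharacter ↥(Subgroup.centralizer ((P : Subgroup G) : Set G))} (hθb : θ ∈ b)
    (hθ : InKer (Subgroup.inclusion (le_centralizer_of_card_prime hP))
      (θ : ↥(Subgroup.centralizer ((P : Subgroup G) : Set G)) → ℂ))
    {χ : IrrCharacter G} (hχ : χ ∈ B)
    (T : Subgroup G) (hTN : T ≤ Subgroup.normalizer ((P : Subgroup G) : Set G))
    (hT : ∀ (n : G) (hn : n ∈ Subgroup.normalizer ((P : Subgroup G) : Set G)),
      n ∈ T ↔ thetaConj P n hn θ = θ) :
    ¬ p ∣ charDegree (χ : G → ℂ) := by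
  haveI hMp : M.IsPrime := isPModular_isPrime hM
  intro hdvd
  obtain ⟨y₀, hy₀⟩ := exists_ne_one_of_card P hP
  have hy₀1 : (y₀ : G) ≠ 1 := fun h => hy₀ (Subtype.ext h)
  have hCT := centralizer_le_of_stab P hP θ T hT
  obtain ⟨k, hk, hτ, hG, he⟩ := exists_card_data P hP T hCT hTN
  -- `χ` has defect zero
  obtain ⟨q, hq⟩ := Cfsg.Agent.Lib.Helper79.irr_charDegree_dvd_card χ
  have hpos := IsIrrCharacter.charDegree_pos χ.2
  have hdz : ¬ p ∣ Nat.card G / charDegree (χ : G → ℂ) := by
    rw [hq, Nat.mul_div_cancel_left _ hpos]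
    intro hpq
    apply not_sq_dvd_card P hP
    rw [hq]
    exact Nat.mul_dvd_mul hdvd hpq
  have hsing := Cfsg.Agent.S0914.block_singleton_of_defect_zero p M hM χ hdz
  have hvan := Cfsg.Agent.S0914.vanish_of_block_singleton p M hM χ hsing
  have h := deg_congr_aux P hP hM hind hθb hθ hχ y₀ hy₀
  rw [fpart_eq_zero_of_vanish P hP hvan _ y₀.2 hy₀1, mul_zero, zero_div, sub_zero,
    card_stab_eq P θ T hTN hT,
    IsCharacter.apply_one_eq_charDegree (IsIrrCharacter.isCharacter θ.2), hτ] at h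
  have hnat := fun n : ℕ => memLocalRing_natCast (M := M) hMp.ne_top n
  have h1 := memLocalIdeal_mul_right h
    (hnat (charDegree (θ : ↥(Subgroup.centralizer ((P : Subgroup G) : Set G)) → ℂ)))
  have hp0 : (p : ℂ) ≠ 0 := by exact_mod_cast hp.out.ne_zero
  have hd0 : ((charDegree (θ : ↥(Subgroup.centralizer ((P : Subgroup G) : Set G)) → ℂ) : ℕ) : ℂ)
      ≠ 0 := by exact_mod_cast (IsIrrCharacter.charDegree_pos θ.2).ne'
  have e1 : ((((Subgroup.centralizer ((P : Subgroup G) : Set G)).relIndex T * (p * k) : ℕ) : ℂ) /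
      (p : ℂ) /
      ((charDegree (θ : ↥(Subgroup.centralizer ((P : Subgroup G) : Set G)) → ℂ) : ℕ) : ℂ)) *
      ((charDegree (θ : ↥(Subgroup.centralizer ((P : Subgroup G) : Set G)) → ℂ) : ℕ) : ℂ) =
      (((Subgroup.centralizer ((P : Subgroup G) : Set G)).relIndex T * k : ℕ) : ℂ) := by
    push_cast
    field_simp
  rw [e1, memLocalIdeal_natCast_iff hM] at h1
  rcases (Nat.Prime.dvd_mul hp.out).mp h1 with h2 | h2
  · exact he h2
  · exact hk h2

open scoped Classical in
/-- The functions `a_χ` do not vanish modulo the maximal ideal. -/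
theorem fpart_not_memLocalIdeal (hM : IsPModular p M)
    {b : Set (IrrCharacter ↥(Subgroup.centralizer ((P : Subgroup G) : Set G)))}
    {B : Set (IrrCharacter G)}
    (hind : IsInducedBlock M (Subgroup.centralizer ((P : Subgroup G) : Set G)) b B)
    {θ : IrrCharacter ↥(Subgroup.centralizer ((P : Subgroup G) : Set G))} (hθb : θ ∈ b)
    (hθ : InKer (Subgroup.inclusion (le_centralizer_of_card_prime hP))
      (θ : ↥(Subgroup.centralizer ((P : Subgroup G) : Set G)) → ℂ))
    {χ : IrrCharacter G} (hχ : χ ∈ B) (y₀ : ↥(P : Subgroup G)) (hy₀ : y₀ ≠ 1)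
    (T : Subgroup G) (hTN : T ≤ Subgroup.normalizer ((P : Subgroup G) : Set G))
    (hT : ∀ (n : G) (hn : n ∈ Subgroup.normalizer ((P : Subgroup G) : Set G)),
      n ∈ T ↔ thetaConj P n hn θ = θ) :
    ¬ MemLocalIdeal M (fpart p (Subgroup.centralizer ((P : Subgroup G) : Set G)) (χ : G → ℂ)
      (θ : ↥(Subgroup.centralizer ((P : Subgroup G) : Set G)) → ℂ) (y₀ : G)) := by
  haveI hMp : M.IsPrime := isPModular_isPrime hM
  intro hmem
  have hCT := centralizer_le_of_stab P hP θ T hT
  obtain ⟨k, hk, hτ, hG, he⟩ := exists_card_data P hP T hCT hTN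
  have h := deg_congr P hP hM hind hθb hθ hχ y₀ hy₀ T hTN hT
  have hnat := fun n : ℕ => memLocalRing_natCast (M := M) hMp.ne_top n
  have h1 := memLocalIdeal_mul_left (memLocalRing_mul
    (hnat ((Subgroup.centralizer ((P : Subgroup G) : Set G)).relIndex
          (Subgroup.normalizer ((P : Subgroup G) : Set G))))
    (hnat (charDegree (θ : ↥(Subgroup.centralizer ((P : Subgroup G) : Set G)) → ℂ)))) hmem
  have h2 := memLocalIdeal_add h h1
  rw [sub_add_cancel, ← Nat.cast_mul, memLocalIdeal_natCast_iff hM] at h2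
  rcases (Nat.Prime.dvd_mul hp.out).mp h2 with h3 | h3
  · exact he h3
  · exact not_dvd_charDegree P hP hM hind hθb hθ hχ T hTN hT h3

end DegCor

end Cfsg.Agent.Lib.Helper3.DefOneGen
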