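import Mathlib
import Cfsg.Agent.Lib.Helper3.DefOneGenDeg2
import Cfsg.Agent.Lib.Helper78.ExcConcrete

set_option autoImplicit false
set_option linter.unusedSectionVars false

/-!
# General defect-one blocks: orthogonality relations for the functions `fpart` (helper3)
-/

namespace Cfsg.Agent.Lib.Helper3.DefOneGen

open Cfsg Cfsg.Agent.Lib.Helper78 Cfsg.Agent.Lib.Helper16
open scoped ComplexConjugate IsMulCommutative

section Swap

theorem bilinear_swap₂ {ι κ : Type*} [Fintype κ] (I : Finset ι) (a a' : ι → κ → ℂ)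
    (g₁ g₂ : κ → ℂ) (c₀ : ℂ) :
    ∑ i ∈ I, (c₀ * ∑ s, a i s * g₁ s) * conj (c₀ * ∑ s, a' i s * g₂ s) =
      c₀ * conj c₀ * ∑ s, ∑ s', g₁ s * conj (g₂ s') * ∑ i ∈ I, a i s * conj (a' i s') := by
  have h1 : ∀ i, (c₀ * ∑ s, a i s * g₁ s) * conj (c₀ * ∑ s, a' i s * g₂ s) =
      c₀ * conj c₀ * ∑ s, ∑ s', g₁ s * conj (g₂ s') * (a i s * conj (a' i s')) := by
    intro i
    rw [map_mul, map_sum, mul_mul_mul_comm, Finset.sum_mul_sum]
    congr 1
    apply Finset.sum_congr rfl
    intro s _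
    apply Finset.sum_congr rfl
    intro s' _
    rw [map_mul]
    ring
  rw [Finset.sum_congr rfl (fun i _ => h1 i), ← Finset.mul_sum]
  congr 1
  rw [Finset.sum_comm]
  apply Finset.sum_congr rfl
  intro s _
  rw [Finset.sum_comm]
  apply Finset.sum_congr rfl
  intro s' _
  rw [Finset.mul_sum]

end Swap

section Ortho

variable {G : Type*} [Group G] [Fintype G] {p : ℕ} [hp : Fact p.Prime] (P : Sylow p G)
  (hP : Nat.card P = p)
variable [Fintype ↥(Subgroup.centralizer ((P : Subgroup G) : Set G))] [Fintype ↥(P : Subgroup G)]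
  [IsMulCommutative ↥(P : Subgroup G)] [Fintype (↥(P : Subgroup G) →* ℂˣ)]
variable {M : Ideal AlgInt}

include hP in
theorem isPPart_mul {y : G} (hyP : y ∈ (P : Subgroup G)) (hy1 : y ≠ 1)
    (s : ↥(Subgroup.centralizer ((P : Subgroup G) : Set G))) (hs : ¬ p ∣ orderOf s) :
    IsPPart p (y * (s : G)) y := by
  refine ⟨(s : G), rfl, ?_, ⟨1, by rw [orderOf_eq_of_mem P hP hyP hy1, pow_one]⟩, ?_⟩
  · have := s.2
    rw [Subgroup.mem_centralizer_iff] at this
    exact this y hyP
  · rwa [Subgroup.orderOf_coe]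

include hP in
open scoped Classical in
/-- Orthogonality of the `fpart` functions to the `p`-regular columns. -/
theorem sum_block_fpart_mul_pRegular (hM : IsPModular p M) {y : G} (hyP : y ∈ (P : Subgroup G))
    (hy1 : y ≠ 1) {B : Set (IrrCharacter G)} (hB : IsPBlock M B)
    (ϑ : ↥(Subgroup.centralizer ((P : Subgroup G) : Set G)) → ℂ) {g : G}
    (hg : ¬ p ∣ orderOf g) :
    ∑ χ ∈ Finset.univ.filter (fun χ : IrrCharacter G => χ ∈ B),
      fpart p (Subgroup.centralizer ((P : Subgroup G) : Set G)) (χ : G → ℂ) ϑ y *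
        (χ : G → ℂ) g = 0 := by
  have hMp : M.IsPrime := isPModular_isPrime hM
  have hg' : ¬ p ∣ orderOf g⁻¹ := by rwa [orderOf_inv]
  unfold fpart
  simp only [mul_assoc, Finset.sum_mul]
  rw [← Finset.mul_sum, Finset.sum_comm]
  rw [Finset.sum_eq_zero, mul_zero]
  intro s _
  by_cases hs : p ∣ orderOf s
  · simp [if_pos hs]
  · simp only [if_neg hs]
    have hz := sum_block_mul_inv_eq_zero hM (isPPart_mul P hP hyP hy1 s hs)
      (isPPart_one_of_not_dvd hg') (not_isConj_one_of_ne_one hy1) hB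
    rw [inv_inv] at hz
    have e : ∀ χ : IrrCharacter G, (χ : G → ℂ) (y * (s : G)) * conj (ϑ s) * (χ : G → ℂ) g =
        conj (ϑ s) * ((χ : G → ℂ) (y * (s : G)) * (χ : G → ℂ) g) := by
      intro χ; ring
    rw [Finset.sum_congr rfl (fun χ _ => e χ), ← Finset.mul_sum, hz, mul_zero]

include hP in
open scoped Classical in
/-- The kernel identity for non-conjugate elements. -/
theorem sum_block_fpart_mul_conj_of_not_isConj (hM : IsPModular p M) {y y' : G}
    (hyP : y ∈ (P : Subgroup G)) (hy1 : y ≠ 1) (hy'P : y' ∈ (P : Subgroup G)) (hy'1 : y' ≠ 1)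
    (hconj : ¬ IsConj y y') {B : Set (IrrCharacter G)} (hB : IsPBlock M B)
    (ϑ₁ ϑ₂ : ↥(Subgroup.centralizer ((P : Subgroup G) : Set G)) → ℂ) :
    ∑ χ ∈ Finset.univ.filter (fun χ : IrrCharacter G => χ ∈ B),
      fpart p (Subgroup.centralizer ((P : Subgroup G) : Set G)) (χ : G → ℂ) ϑ₁ y *
      conj (fpart p (Subgroup.centralizer ((P : Subgroup G) : Set G)) (χ : G → ℂ) ϑ₂ y') = 0 := by
  have hMp : M.IsPrime := isPModular_isPrime hM
  simp only [fpart_eq]
  refine (bilinear_swap₂ (Finset.univ.filter (fun χ : IrrCharacter G => χ ∈ B))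
    (fun χ (s : ↥(Subgroup.centralizer ((P : Subgroup G) : Set G))) => (χ : G → ℂ) (y * (s : G)))
    (fun χ (s : ↥(Subgroup.centralizer ((P : Subgroup G) : Set G))) => (χ : G → ℂ) (y' * (s : G)))
    (fun s => if p ∣ orderOf s then 0 else conj (ϑ₁ s))
    (fun s => if p ∣ orderOf s then 0 else conj (ϑ₂ s))
    ((p : ℂ) / (Fintype.card ↥(Subgroup.centralizer ((P : Subgroup G) : Set G)) : ℂ))).trans ?_
  rw [Finset.sum_eq_zero, mul_zero]
  intro s _
  apply Finset.sum_eq_zero
  intro s' _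
  by_cases hs : p ∣ orderOf s
  · simp [if_pos hs]
  · by_cases hs' : p ∣ orderOf s'
    · simp [if_pos hs']
    · have hz := sum_block_mul_inv_eq_zero hM (isPPart_mul P hP hyP hy1 s hs)
        (isPPart_mul P hP hy'P hy'1 s' hs') hconj hB
      have e : ∀ χ : IrrCharacter G, (χ : G → ℂ) (y * (s : G)) *
          conj ((χ : G → ℂ) (y' * (s' : G))) =
          (χ : G → ℂ) (y * (s : G)) * (χ : G → ℂ) (y' * (s' : G))⁻¹ := by
        intro χ
        rw [IsCharacter.inv (IsIrrCharacter.isCharacter χ.2)]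
      rw [Finset.sum_congr rfl (fun χ _ => e χ), hz, mul_zero]

end Ortho

section KernelT

variable {G : Type*} [Group G] [Fintype G] {p : ℕ} [hp : Fact p.Prime] (P : Sylow p G)
  (hP : Nat.card P = p)
variable [Fintype ↥(Subgroup.centralizer ((P : Subgroup G) : Set G))] [Fintype ↥(P : Subgroup G)]
  [IsMulCommutative ↥(P : Subgroup G)] [Fintype (↥(P : Subgroup G) →* ℂˣ)]
variable {M : Ideal AlgInt}

include hP in
open scoped Classical in
/-- Invariance of `fpart χ θ` under the inertia group. -/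
theorem fpart_conj_of_mem {F : G → ℂ} (hF : IsClassFunction G F)
    (θ : IrrCharacter ↥(Subgroup.centralizer ((P : Subgroup G) : Set G)))
    (T : Subgroup G) (hTN : T ≤ Subgroup.normalizer ((P : Subgroup G) : Set G))
    (hT : ∀ (n : G) (hn : n ∈ Subgroup.normalizer ((P : Subgroup G) : Set G)),
      n ∈ T ↔ thetaConj P n hn θ = θ) {n : G} (hn : n ∈ T) (y : G) :
    fpart p (Subgroup.centralizer ((P : Subgroup G) : Set G)) F
      (θ : ↥(Subgroup.centralizer ((P : Subgroup G) : Set G)) → ℂ) (n * y * n⁻¹) =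
    fpart p (Subgroup.centralizer ((P : Subgroup G) : Set G)) F
      (θ : ↥(Subgroup.centralizer ((P : Subgroup G) : Set G)) → ℂ) y := by
  rw [fpart_conj P hF n (hTN hn) θ y, (hT n (hTN hn)).mp hn]

include hP in
open scoped Classical in
/-- **The kernel relation** for the functions `a_χ = fpart χ θ` on `P ∖ 1`. -/
theorem sum_block_fpart_kernel (hM : IsPModular p M) {B : Set (IrrCharacter G)}
    (hB : IsPBlock M B)
    (θ : IrrCharacter ↥(Subgroup.centralizer ((P : Subgroup G) : Set G)))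
    (hθ : InKer (Subgroup.inclusion (le_centralizer_of_card_prime hP))
      (θ : ↥(Subgroup.centralizer ((P : Subgroup G) : Set G)) → ℂ))
    (hind : IsInducedBlock M (Subgroup.centralizer ((P : Subgroup G) : Set G))
      (blockOf M (θ : ↥(Subgroup.centralizer ((P : Subgroup G) : Set G)) → ℂ)) B)
    (T : Subgroup G) (hTN : T ≤ Subgroup.normalizer ((P : Subgroup G) : Set G))
    (hT : ∀ (n : G) (hn : n ∈ Subgroup.normalizer ((P : Subgroup G) : Set G)),
      n ∈ T ↔ thetaConj P n hn θ = θ)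
    (y y' : ↥(P : Subgroup G)) (hy : y ≠ 1) (hy' : y' ≠ 1) :
    ∑ χ ∈ Finset.univ.filter (fun χ : IrrCharacter G => χ ∈ B),
      fpart p (Subgroup.centralizer ((P : Subgroup G) : Set G)) (χ : G → ℂ)
        (θ : ↥(Subgroup.centralizer ((P : Subgroup G) : Set G)) → ℂ) (y : G) *
      conj (fpart p (Subgroup.centralizer ((P : Subgroup G) : Set G)) (χ : G → ℂ)
        (θ : ↥(Subgroup.centralizer ((P : Subgroup G) : Set G)) → ℂ) (y' : G)) =
    if ∃ n : G, n ∈ T ∧ n * (y : G) * n⁻¹ = (y' : G) then (p : ℂ) else 0 := by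
  have hMp : M.IsPrime := isPModular_isPrime hM
  have hy1 : (y : G) ≠ 1 := fun h => hy (Subtype.ext h)
  have hy'1 : (y' : G) ≠ 1 := fun h => hy' (Subtype.ext h)
  by_cases h : ∃ n : G, n ∈ T ∧ n * (y : G) * n⁻¹ = (y' : G)
  · rw [if_pos h]
    obtain ⟨n, hn, hval⟩ := h
    rw [← sum_block_fpart_normSq P hP hM y.2 hy1 hB θ hθ hind]
    apply Finset.sum_congr rfl
    intro χ _
    rw [← hval, fpart_conj_of_mem P hP (isClassFunction_irr χ) θ T hTN hT hn]
  · rw [if_neg h]
    by_cases hc : IsConj (y : G) (y' : G)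
    · obtain ⟨c, hc⟩ := isConj_iff.mp hc
      have hmem : (c⁻¹)⁻¹ * (y : G) * c⁻¹ ∈ (P : Subgroup G) := by
        rw [inv_inv, hc]
        exact y'.2
      obtain ⟨n, hn, hn'⟩ := Sylow.conj_eq_normalizer_conj_of_mem P (y : G) c⁻¹ y.2 hmem
      rw [inv_inv, hc] at hn'
      -- `y' = n⁻¹ y n`
      have hnN : n⁻¹ ∈ Subgroup.normalizer ((P : Subgroup G) : Set G) := inv_mem hn
      have hval : (y' : G) = n⁻¹ * (y : G) * (n⁻¹)⁻¹ := by rw [inv_inv, hn']
      have hnT : n⁻¹ ∉ T := fun hmemT => h ⟨n⁻¹, hmemT, hval.symm⟩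
      have hne : θ ≠ thetaConj P n⁻¹ hnN θ := by
        intro heq
        exact hnT ((hT n⁻¹ hnN).mpr heq.symm)
      rw [← sum_block_fpart_mul_conj_of_ne P hP hM y.2 hy1 hB θ (thetaConj P n⁻¹ hnN θ) hθ
        (inKer_thetaConj P hP n⁻¹ hnN θ hθ) hne]
      apply Finset.sum_congr rfl
      intro χ _
      rw [hval, fpart_conj P (isClassFunction_irr χ) n⁻¹ hnN θ (y : G)]
    · exact sum_block_fpart_mul_conj_of_not_isConj P hP hM y.2 hy1 y'.2 hy'1 hc hB _ _

end KernelT

end Cfsg.Agent.Lib.Helper3.DefOneGen
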