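import Mathlib
import Cfsg.Agent.Lib.Helper3.DefOneGenOrtho
import Cfsg.Agent.Lib.Helper78.ExcAbstract

set_option autoImplicit false
set_option linter.unusedSectionVars false

/-!
# General defect-one blocks: the exceptional character theory (helper3)

`main_aux_gen`: Brauer–Dade structure of a block `B` with defect group `P` of order `p`, in terms
of the functions `a_χ(y) = fpart χ θ y` (`θ` the canonical character of a root `b` of `B` in
`C_G(P)`, `T` its inertia group in `N_G(P)`), case `|T : C_G(P)| + 1 < p`.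
-/

namespace Cfsg.Agent.Lib.Helper3.DefOneGen

open Cfsg Cfsg.Agent.Lib.Helper78 Cfsg.Agent.Lib.Helper16
open scoped ComplexConjugate IsMulCommutative

section Main

variable {G : Type*} [Group G] [Fintype G] {p : ℕ} [hp : Fact p.Prime] (P : Sylow p G)
  (hP : Nat.card P = p)
variable [Fintype ↥(Subgroup.centralizer ((P : Subgroup G) : Set G))] [Fintype ↥(P : Subgroup G)]
  [IsMulCommutative ↥(P : Subgroup G)] [Fintype (↥(P : Subgroup G) →* ℂˣ)]
  [Fintype ↥(Subgroup.normalizer ((P : Subgroup G) : Set G))]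
variable {M : Ideal AlgInt}

include hP in
open scoped Classical in
theorem main_aux_gen (hM : IsPModular p M) {B : Set (IrrCharacter G)} (hB : IsPBlock M B)
    (θ : IrrCharacter ↥(Subgroup.centralizer ((P : Subgroup G) : Set G)))
    (hθ : InKer (Subgroup.inclusion (le_centralizer_of_card_prime hP))
      (θ : ↥(Subgroup.centralizer ((P : Subgroup G) : Set G)) → ℂ))
    (hind : IsInducedBlock M (Subgroup.centralizer ((P : Subgroup G) : Set G))
      (blockOf M (θ : ↥(Subgroup.centralizer ((P : Subgroup G) : Set G)) → ℂ)) B)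
    (T : Subgroup G) (hTN : T ≤ Subgroup.normalizer ((P : Subgroup G) : Set G))
    (hT : ∀ (n : G) (hn : n ∈ Subgroup.normalizer ((P : Subgroup G) : Set G)),
      n ∈ T ↔ thetaConj P n hn θ = θ)
    (m : ℕ) (hCT : (Subgroup.centralizer ((P : Subgroup G) : Set G)).relIndex T = m)
    (hm2 : m + 1 < p) :
    ∃ (δ d : ℤ) (ζ : (↥(P : Subgroup G) →* ℂˣ) → IrrCharacter G) (a : IrrCharacter G → ℤ)
      (Y : Finset (IrrCharacter G)),
      (δ = 1 ∨ δ = -1) ∧
      (∀ η ∈ Y, η ∈ B) ∧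
      (∀ ψ : ↥(P : Subgroup G) →* ℂˣ, ψ ≠ 1 → ζ ψ ∈ Y) ∧
      (∀ η ∈ Y, ∃ ψ : ↥(P : Subgroup G) →* ℂˣ, ψ ≠ 1 ∧ ζ ψ = η) ∧
      (∀ ψ ψ' : ↥(P : Subgroup G) →* ℂˣ, ψ ≠ 1 →
        (∃ n : G, n ∈ T ∧ ∀ w w' : ↥(P : Subgroup G), (w' : G) = n * w * n⁻¹ → ψ' w' = ψ w) →
          ζ ψ' = ζ ψ) ∧
      Y.card * m = p - 1 ∧
      (∀ χ : IrrCharacter G, χ ∉ B → a χ = 0) ∧
      (∀ χ ∈ B, χ ∉ Y → ∀ y : ↥(P : Subgroup G), y ≠ 1 →
        fpart p (Subgroup.centralizer ((P : Subgroup G) : Set G)) (χ : G → ℂ)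
          (θ : ↥(Subgroup.centralizer ((P : Subgroup G) : Set G)) → ℂ) (y : G) = (a χ : ℂ)) ∧
      (∀ ψ : ↥(P : Subgroup G) →* ℂˣ, ψ ≠ 1 → ∀ y : ↥(P : Subgroup G), y ≠ 1 →
        fpart p (Subgroup.centralizer ((P : Subgroup G) : Set G)) (ζ ψ : G → ℂ)
          (θ : ↥(Subgroup.centralizer ((P : Subgroup G) : Set G)) → ℂ) (y : G) =
        (d : ℂ) + (δ : ℂ) *
          ∑ᶠ ψ' ∈ {ψ' : ↥(P : Subgroup G) →* ℂˣ | ∃ n : G, n ∈ T ∧
            ∀ w w' : ↥(P : Subgroup G), (w' : G) = n * w * n⁻¹ → ψ' w' = ψ w},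
            ((ψ' y : ℂˣ) : ℂ)) ∧
      ((d - δ) ^ 2 + ((Y.card : ℤ) - 1) * d ^ 2 +
        ∑ χ ∈ Finset.univ.filter (· ∉ Y), a χ ^ 2 = (m : ℤ) + 1) ∧
      (∀ g : G, ¬ p ∣ orderOf g →
        (∀ η ∈ Y, ∀ η' ∈ Y, (η : G → ℂ) g = (η' : G → ℂ) g) ∧
        ∀ η ∈ Y, ((Y.card : ℂ) * (d : ℂ) - (δ : ℂ)) * (η : G → ℂ) g +
          ∑ χ ∈ Finset.univ.filter (· ∉ Y), (a χ : ℂ) * (χ : G → ℂ) g = 0) := by
  have hpp : p.Prime := hp.out
  have hMp : M.IsPrime := isPModular_isPrime hM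
  have hfinT : Fintype ↥T := Fintype.ofFinite _
  letI instT : MulDistribMulAction ↥T ↥(P : Subgroup G) :=
    MulDistribMulAction.compHom ↥(P : Subgroup G) (Subgroup.inclusion hTN)
  have hsmul : ∀ (n : ↥T) (y : ↥(P : Subgroup G)),
      ((n • y : ↥(P : Subgroup G)) : G) = (n : G) * (y : G) * (n : G)⁻¹ := fun _ _ => rfl
  have hPcard : Fintype.card ↥(P : Subgroup G) = p := by
    rw [← Nat.card_eq_fintype_card]; exact hP
  -- the stabilizer
  obtain ⟨S, hSdef⟩ : ∃ S : Subgroup ↥T,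
      S = (Subgroup.centralizer ((P : Subgroup G) : Set G)).subgroupOf T := ⟨_, rfl⟩
  have hS : ∀ y : ↥(P : Subgroup G), y ≠ 1 → ∀ n : ↥T, n • y = y ↔ n ∈ S := by
    intro y hy n
    have hy1 : (y : G) ≠ 1 := fun h => hy (Subtype.ext h)
    rw [hSdef, Subgroup.mem_subgroupOf, mem_centralizer_iff_commute hP y.2 hy1]
    constructor
    · intro h
      have h' : (n : G) * (y : G) * (n : G)⁻¹ = (y : G) := by rw [← hsmul, h]
      exact (mul_inv_eq_iff_eq_mul.mp h').symm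
    · intro h
      apply Subtype.ext
      rw [hsmul]
      exact mul_inv_eq_iff_eq_mul.mpr h.eq.symm
  have hmcard : Fintype.card ↥T = Nat.card S * m := by
    have h1 := Subgroup.card_mul_index S
    have h2 : S.index = m := by
      rw [hSdef]
      exact hCT
    rw [← Nat.card_eq_fintype_card, ← h1, h2]
  have hmA : m + 1 < Fintype.card ↥(P : Subgroup G) := by rw [hPcard]; exact hm2
  -- the functions
  obtain ⟨φ, hφ⟩ : ∃ φ : IrrCharacter G → ↥(P : Subgroup G) → ℂ,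
      φ = fun χ (y : ↥(P : Subgroup G)) =>
        if χ ∈ B then fpart p (Subgroup.centralizer ((P : Subgroup G) : Set G)) (χ : G → ℂ)
          (θ : ↥(Subgroup.centralizer ((P : Subgroup G) : Set G)) → ℂ) (y : G) else 0 := ⟨_, rfl⟩
  have hφin : ∀ χ : IrrCharacter G, χ ∈ B → ∀ y : ↥(P : Subgroup G),
      φ χ y = fpart p (Subgroup.centralizer ((P : Subgroup G) : Set G)) (χ : G → ℂ)
          (θ : ↥(Subgroup.centralizer ((P : Subgroup G) : Set G)) → ℂ) (y : G) := by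
    intro χ hχ y
    rw [hφ]
    simp only
    rw [if_pos hχ]
  have hφout : ∀ χ : IrrCharacter G, χ ∉ B → ∀ y : ↥(P : Subgroup G), φ χ y = 0 := by
    intro χ hχ y
    rw [hφ]
    simp only
    rw [if_neg hχ]
  have hsumφ : ∀ (f : IrrCharacter G → ℂ) (y : ↥(P : Subgroup G)),
      ∑ χ : IrrCharacter G, φ χ y * f χ =
        ∑ χ ∈ Finset.univ.filter (fun χ : IrrCharacter G => χ ∈ B),
          fpart p (Subgroup.centralizer ((P : Subgroup G) : Set G)) (χ : G → ℂ)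
            (θ : ↥(Subgroup.centralizer ((P : Subgroup G) : Set G)) → ℂ) (y : G) * f χ := by
    intro f y
    rw [Finset.sum_filter]
    apply Finset.sum_congr rfl
    intro χ _
    by_cases hχ : χ ∈ B
    · rw [if_pos hχ, hφin χ hχ]
    · rw [if_neg hχ, hφout χ hχ, zero_mul]
  have hinv : ∀ (χ : IrrCharacter G) (n : ↥T) (y : ↥(P : Subgroup G)),
      φ χ (n • y) = φ χ y := by
    intro χ n y
    by_cases hχ : χ ∈ B
    · rw [hφin χ hχ, hφin χ hχ, hsmul]
      exact fpart_conj_of_mem P hP (isClassFunction_irr χ) θ T hTN hT n.2 (y : G)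
    · rw [hφout χ hχ, hφout χ hχ]
  have hint : ∀ (χ : IrrCharacter G) (ψ : ↥(P : Subgroup G) →* ℂˣ),
      ∃ k : ℤ, gco (φ χ) ψ = (k : ℂ) := by
    intro χ ψ
    by_cases hχ : χ ∈ B
    · have h1 : φ χ = fun y : ↥(P : Subgroup G) =>
          fpart p (Subgroup.centralizer ((P : Subgroup G) : Set G)) (χ : G → ℂ)
            (θ : ↥(Subgroup.centralizer ((P : Subgroup G) : Set G)) → ℂ) (y : G) := by
        funext y
        exact hφin χ hχ y
      rw [h1]
      exact exists_int_gco_fpart P hP (IsIrrCharacter.isCharacter χ.2) θ hθ ψ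
    · refine ⟨0, ?_⟩
      have h1 : φ χ = fun _ => (0 : ℂ) := by
        funext y
        exact hφout χ hχ y
      rw [h1]
      unfold gco
      simp
  have hexiff : ∀ y y' : ↥(P : Subgroup G), (∃ n : ↥T, n • y = y') ↔
      ∃ n : G, n ∈ T ∧ n * (y : G) * n⁻¹ = (y' : G) := by
    intro y y'
    constructor
    · rintro ⟨n, hn⟩
      exact ⟨(n : G), n.2, by rw [← hsmul, hn]⟩
    · rintro ⟨n, hn, h⟩
      exact ⟨⟨n, hn⟩, Subtype.ext (by rw [hsmul]; exact h)⟩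
  have hK : ∀ y y' : ↥(P : Subgroup G), y ≠ 1 → y' ≠ 1 →
      ∑ χ : IrrCharacter G, φ χ y * conj (φ χ y') =
        if ∃ n : ↥T, n • y = y' then (Fintype.card ↥(P : Subgroup G) : ℂ) else 0 := by
    intro y y' hy hy'
    have hsum : ∑ χ : IrrCharacter G, φ χ y * conj (φ χ y') =
        ∑ χ ∈ Finset.univ.filter (fun χ : IrrCharacter G => χ ∈ B),
          fpart p (Subgroup.centralizer ((P : Subgroup G) : Set G)) (χ : G → ℂ)
            (θ : ↥(Subgroup.centralizer ((P : Subgroup G) : Set G)) → ℂ) (y : G) *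
          conj (fpart p (Subgroup.centralizer ((P : Subgroup G) : Set G)) (χ : G → ℂ)
            (θ : ↥(Subgroup.centralizer ((P : Subgroup G) : Set G)) → ℂ) (y' : G)) := by
      rw [Finset.sum_filter]
      apply Finset.sum_congr rfl
      intro χ _
      by_cases hχ : χ ∈ B
      · rw [if_pos hχ, hφin χ hχ, hφin χ hχ]
      · rw [if_neg hχ, hφout χ hχ, zero_mul]
    have h' := sum_block_fpart_kernel P hP hM hB θ hθ hind T hTN hT y y' hy hy'
    rw [hsum, hPcard, h']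
    by_cases h : ∃ n : ↥T, n • y = y'
    · rw [if_pos h, if_pos ((hexiff y y').mp h)]
    · rw [if_neg h, if_neg (fun h2 => h ((hexiff y y').mpr h2))]
  obtain ⟨deg, hdegdef⟩ : ∃ deg : IrrCharacter G → ℤ,
      deg = fun χ : IrrCharacter G => (charDegree (χ : G → ℂ) : ℤ) := ⟨_, rfl⟩
  have hdeg : ∀ χ, 0 < deg χ := by
    intro χ
    rw [hdegdef]
    show (0 : ℤ) < (charDegree (χ : G → ℂ) : ℤ)
    exact_mod_cast IsIrrCharacter.charDegree_pos χ.2
  have hdegval : ∀ χ : IrrCharacter G, (deg χ : ℂ) = (χ : G → ℂ) 1 := by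
    intro χ
    rw [hdegdef, IsCharacter.apply_one_eq_charDegree (IsIrrCharacter.isCharacter χ.2)]
    simp
  have hone : ¬ p ∣ orderOf (1 : G) := by
    rw [orderOf_one]
    exact hpp.one_lt.ne' ∘ Nat.dvd_one.mp
  have hdeg0 : ∀ y : ↥(P : Subgroup G), y ≠ 1 →
      ∑ χ : IrrCharacter G, φ χ y * (deg χ : ℂ) = 0 := by
    intro y hy
    have hy1 : (y : G) ≠ 1 := fun h => hy (Subtype.ext h)
    rw [hsumφ, ← sum_block_fpart_mul_pRegular P hP hM y.2 hy1 hB
      (θ : ↥(Subgroup.centralizer ((P : Subgroup G) : Set G)) → ℂ) hone]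
    apply Finset.sum_congr rfl
    intro χ _
    rw [hdegval]
  obtain ⟨δ, d, ζ, a, Y, hδ, hζY, hYsurj, hζR, hYcard, hconst, hX, hval, hnorm, hw⟩ :=
    exceptional_abstract S hS m hmcard hmA φ hinv hint
      (by intro y y' hy hy'; convert hK y y' hy hy') deg hdeg hdeg0
  obtain ⟨y₀, hy₀⟩ := exists_ne_one_of_card P hP
  have hYB : ∀ η ∈ Y, η ∈ B := by
    intro η hη
    by_contra hnot
    exact hconst η 0 (hφout η hnot) hη
  have hset : ∀ ψ : ↥(P : Subgroup G) →* ℂˣ,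
      {ψ' : ↥(P : Subgroup G) →* ℂˣ | ∃ n : G, n ∈ T ∧
        ∀ w w' : ↥(P : Subgroup G), (w' : G) = n * w * n⁻¹ → ψ' w' = ψ w} =
      {ψ' : ↥(P : Subgroup G) →* ℂˣ | ∃ n : ↥T, ∀ y : ↥(P : Subgroup G), ψ' (n • y) = ψ y} := by
    intro ψ
    ext ψ'
    simp only [Set.mem_ofPred_eq]
    constructor
    · rintro ⟨n, hn, h⟩
      exact ⟨⟨n, hn⟩, fun y => h y ((⟨n, hn⟩ : ↥T) • y) rfl⟩
    · rintro ⟨n, h⟩
      refine ⟨(n : G), n.2, ?_⟩
      intro w w' hw
      have : w' = n • w := Subtype.ext hw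
      rw [this]
      exact h w
  refine ⟨δ, d, ζ, a, Y, hδ, hYB, hζY, hYsurj, ?_, ?_, ?_, ?_, ?_, by convert hnorm, ?_⟩
  · rintro ψ ψ' hψ ⟨n, hn, h⟩
    exact hζR ψ ψ' hψ ⟨⟨n, hn⟩, fun y => h y ((⟨n, hn⟩ : ↥T) • y) rfl⟩
  · rw [hYcard, hPcard]
  · intro χ hχ
    have hχY : χ ∉ Y := fun h => hχ (hYB χ h)
    have h1 := hX χ hχY y₀ hy₀
    rw [hφout χ hχ] at h1
    exact_mod_cast h1.symm
  · intro χ hχ hχY y hy
    rw [← hφin χ hχ]
    exact hX χ hχY y hy
  · intro ψ hψ y hy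
    rw [← hφin (ζ ψ) (hYB _ (hζY ψ hψ)), hset ψ]
    exact hval ψ hψ y hy
  · intro g hg
    have hwg : ∀ y : ↥(P : Subgroup G), y ≠ 1 →
        ∑ χ : IrrCharacter G, φ χ y * (χ : G → ℂ) g = 0 := by
      intro y hy
      have hy1 : (y : G) ≠ 1 := fun h => hy (Subtype.ext h)
      rw [hsumφ]
      exact sum_block_fpart_mul_pRegular P hP hM y.2 hy1 hB _ hg
    convert hw (fun χ => (χ : G → ℂ) g) hwg

end Main

end Cfsg.Agent.Lib.Helper3.DefOneGen
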