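import Mathlib
import Cfsg.Agent.Lib.Helper3.DefOneGenMain
import Cfsg.Agent.Lib.Helper78.DefectOneData
import Cfsg.Agent.Lib.Helper77.CyclicAutomizer

set_option autoImplicit false
set_option linter.unusedSectionVars false

/-!
# General defect-one blocks: normalized data (helper3)

`B` a block with defect group `P` of order `p`, `θ` the canonical character of a root of `B` in
`C_G(P)`, `T` the inertia group, `e = |T : C_G(P)|`.

* `relIndex_dvd_pred` : `e ∣ p - 1`;
* `card_block_le` : `k(B) ≤ e + (p - 1) / e` (unconditional);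
* `defect_one_gen_data` : from `e + (p - 1) / e ≤ k(B)` the normalized description
  `DefOneGenData` of `B`.
-/

namespace Cfsg.Agent.Lib.Helper3.DefOneGen

open Cfsg Cfsg.Agent.Lib.Helper78 Cfsg.Agent.Lib.Helper16
open scoped ComplexConjugate IsMulCommutative

open scoped Classical in
/-- The normalized description of a block with defect group of order `p`. -/
structure DefOneGenData {G : Type*} [Group G] [Fintype G] {p : ℕ} [Fact p.Prime] (P : Sylow p G)
    [Fintype ↥(Subgroup.centralizer ((P : Subgroup G) : Set G))]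
    (B : Set (IrrCharacter G))
    (θ : IrrCharacter ↥(Subgroup.centralizer ((P : Subgroup G) : Set G)))
    (e : ℕ) (ε : ℤ) (a : IrrCharacter G → ℤ) (X Y : Finset (IrrCharacter G)) : Prop where
  hε : ε = 1 ∨ ε = -1
  hmem : ∀ χ : IrrCharacter G, χ ∈ B ↔ χ ∈ X ∨ χ ∈ Y
  hdisj : Disjoint X Y
  hXcard : X.card = e
  hYcard : Y.card = (p - 1) / e
  haX : ∀ χ ∈ X, a χ = 1 ∨ a χ = -1
  hX : ∀ χ ∈ X, ∀ y : G, y ∈ (P : Subgroup G) → y ≠ 1 →
    fpart p (Subgroup.centralizer ((P : Subgroup G) : Set G)) (χ : G → ℂ)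
      (θ : ↥(Subgroup.centralizer ((P : Subgroup G) : Set G)) → ℂ) y = (a χ : ℂ)
  hregY : ∀ g : G, ¬ p ∣ orderOf g → ∀ η ∈ Y, ∀ η' ∈ Y, (η : G → ℂ) g = (η' : G → ℂ) g
  hrel : ∀ g : G, ¬ p ∣ orderOf g → ∀ η ∈ Y,
    (ε : ℂ) * (η : G → ℂ) g = ∑ χ ∈ X, (a χ : ℂ) * (χ : G → ℂ) g

section Data

variable {G : Type*} [Group G] [Fintype G] {p : ℕ} [hp : Fact p.Prime] (P : Sylow p G)
  (hP : Nat.card P = p)
variable [Fintype ↥(Subgroup.centralizer ((P : Subgroup G) : Set G))] [Fintype ↥(P : Subgroup G)]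
  [IsMulCommutative ↥(P : Subgroup G)] [Fintype (↥(P : Subgroup G) →* ℂˣ)]
  [Fintype ↥(Subgroup.normalizer ((P : Subgroup G) : Set G))]
variable {M : Ideal AlgInt}

open scoped Classical in
theorem card_block_eq_card_filter (B : Set (IrrCharacter G)) :
    Nat.card B = (Finset.univ.filter (fun χ : IrrCharacter G => χ ∈ B)).card := by
  rw [Nat.card_eq_fintype_card, Fintype.card_subtype]

include hP in
/-- `|T : C_G(P)|` divides `p - 1`. -/
theorem relIndex_dvd_pred
    (θ : IrrCharacter ↥(Subgroup.centralizer ((P : Subgroup G) : Set G)))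
    (T : Subgroup G) (hTN : T ≤ Subgroup.normalizer ((P : Subgroup G) : Set G))
    (hT : ∀ (n : G) (hn : n ∈ Subgroup.normalizer ((P : Subgroup G) : Set G)),
      n ∈ T ↔ thetaConj P n hn θ = θ) :
    (Subgroup.centralizer ((P : Subgroup G) : Set G)).relIndex T ∣ p - 1 := by
  have hCT := centralizer_le_of_stab P hP θ T hT
  obtain ⟨k, -, -, -, hidx⟩ := exists_card_data P hP T hCT hTN
  have hCnorm : ((Subgroup.centralizer ((P : Subgroup G) : Set G)).subgroupOf
      (Subgroup.normalizer ((P : Subgroup G) : Set G))).Normal :=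
    Subgroup.normal_subgroupOf_centralizer_normalizer _
  haveI hnormT : ((Subgroup.centralizer ((P : Subgroup G) : Set G)).subgroupOf T).Normal := by
    constructor
    intro x hx t
    have hx' : (x : G) ∈ Subgroup.centralizer ((P : Subgroup G) : Set G) :=
      Subgroup.mem_subgroupOf.mp hx
    apply Subgroup.mem_subgroupOf.mpr
    have h1 := hCnorm.conj_mem ⟨(x : G), hTN x.2⟩ (Subgroup.mem_subgroupOf.mpr hx')
      ⟨(t : G), hTN t.2⟩
    exact Subgroup.mem_subgroupOf.mp h1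
  have hP1 : (P : Subgroup G) ≠ ⊥ := by
    intro h
    have h1 : Nat.card (P : Subgroup G) = 1 := by rw [h]; exact Subgroup.card_bot
    have h2 : Nat.card (P : Subgroup G) = p := hP
    rw [h2] at h1
    exact hp.out.one_lt.ne' h1
  exact (Cfsg.Agent.Lib.Helper77.cyclic_pGroup_automizer (p := p) (P : Subgroup G) T
    P.isPGroup' hP1 (isCyclic_of_prime_card hP) hTN hidx).2.1

end Data

section Orbit

variable {G : Type*} [Group G] [Fintype G] {p : ℕ} [hp : Fact p.Prime] (P : Sylow p G)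
  (hP : Nat.card P = p)

include hP in
/-- If `|T : C_G(P)| = p - 1` then `T` is transitive on `P ∖ 1`. -/
theorem exists_conj_of_relIndex_eq (T : Subgroup G)
    (hTN : T ≤ Subgroup.normalizer ((P : Subgroup G) : Set G))
    (he : (Subgroup.centralizer ((P : Subgroup G) : Set G)).relIndex T = p - 1)
    (y y' : ↥(P : Subgroup G)) (hy : y ≠ 1) (hy' : y' ≠ 1) :
    ∃ n : G, n ∈ T ∧ n * (y : G) * n⁻¹ = (y' : G) := by
  letI instT : MulDistribMulAction ↥T ↥(P : Subgroup G) :=
    MulDistribMulAction.compHom ↥(P : Subgroup G) (Subgroup.inclusion hTN)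
  have hsmul : ∀ (n : ↥T) (y : ↥(P : Subgroup G)),
      ((n • y : ↥(P : Subgroup G)) : G) = (n : G) * (y : G) * (n : G)⁻¹ := fun _ _ => rfl
  have hy1 : (y : G) ≠ 1 := fun h => hy (Subtype.ext h)
  have hstab : MulAction.stabilizer ↥T y =
      (Subgroup.centralizer ((P : Subgroup G) : Set G)).subgroupOf T := by
    ext n
    rw [MulAction.mem_stabilizer_iff, Subgroup.mem_subgroupOf,
      mem_centralizer_iff_commute hP y.2 hy1]
    constructor
    · intro h
      have h' : (n : G) * (y : G) * (n : G)⁻¹ = (y : G) := by rw [← hsmul, h]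
      exact (mul_inv_eq_iff_eq_mul.mp h').symm
    · intro h
      apply Subtype.ext
      rw [hsmul]
      exact mul_inv_eq_iff_eq_mul.mpr h.eq.symm
  have hncard : (MulAction.orbit ↥T y).ncard = p - 1 := by
    rw [← MulAction.index_stabilizer, hstab]
    exact he
  have hsub : MulAction.orbit ↥T y ⊆ ({1} : Set ↥(P : Subgroup G))ᶜ := by
    rintro z ⟨n, rfl⟩
    rw [Set.mem_compl_iff, Set.mem_singleton_iff]
    intro h
    apply hy
    have h1 : n⁻¹ • (n • y) = n⁻¹ • (1 : ↥(P : Subgroup G)) := congrArg (n⁻¹ • ·) h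
    rwa [inv_smul_smul, smul_one] at h1
  have h2 : (({1} : Set ↥(P : Subgroup G))ᶜ).ncard = p - 1 := by
    rw [Set.ncard_compl, Set.ncard_singleton]
    have h3 : Nat.card ↥(P : Subgroup G) = p := hP
    rw [h3]
  have h1 : MulAction.orbit ↥T y = ({1} : Set ↥(P : Subgroup G))ᶜ := by
    apply Set.eq_of_subset_of_ncard_le hsub
    rw [h2, hncard]
  have h3 : y' ∈ MulAction.orbit ↥T y := by
    rw [h1]
    simpa using hy'
  obtain ⟨n, hn⟩ := h3
  refine ⟨(n : G), n.2, ?_⟩
  have := congrArg Subtype.val hn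
  rw [← this]
  rfl

end Orbit

section DataLt

variable {G : Type*} [Group G] [Fintype G] {p : ℕ} [hp : Fact p.Prime] (P : Sylow p G)
  (hP : Nat.card P = p)
variable [Fintype ↥(Subgroup.centralizer ((P : Subgroup G) : Set G))] [Fintype ↥(P : Subgroup G)]
  [IsMulCommutative ↥(P : Subgroup G)] [Fintype (↥(P : Subgroup G) →* ℂˣ)]
  [Fintype ↥(Subgroup.normalizer ((P : Subgroup G) : Set G))]
variable {M : Ideal AlgInt}

include hP in
open scoped Classical in
/-- **The case `e + 1 < p`.** -/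
theorem defect_one_gen_lt (hM : IsPModular p M) {B : Set (IrrCharacter G)} (hB : IsPBlock M B)
    (θ : IrrCharacter ↥(Subgroup.centralizer ((P : Subgroup G) : Set G)))
    (hθ : InKer (Subgroup.inclusion (le_centralizer_of_card_prime hP))
      (θ : ↥(Subgroup.centralizer ((P : Subgroup G) : Set G)) → ℂ))
    (hind : IsInducedBlock M (Subgroup.centralizer ((P : Subgroup G) : Set G))
      (blockOf M (θ : ↥(Subgroup.centralizer ((P : Subgroup G) : Set G)) → ℂ)) B)
    (T : Subgroup G) (hTN : T ≤ Subgroup.normalizer ((P : Subgroup G) : Set G))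
    (hT : ∀ (n : G) (hn : n ∈ Subgroup.normalizer ((P : Subgroup G) : Set G)),
      n ∈ T ↔ thetaConj P n hn θ = θ)
    (e : ℕ) (hCT : (Subgroup.centralizer ((P : Subgroup G) : Set G)).relIndex T = e)
    (hlt : e + 1 < p) :
    Nat.card B ≤ e + (p - 1) / e ∧
      (e + (p - 1) / e ≤ Nat.card B →
        ∃ (ε : ℤ) (a : IrrCharacter G → ℤ) (X Y : Finset (IrrCharacter G)),
          DefOneGenData P B θ e ε a X Y) := by
  have hpp : p.Prime := hp.out
  have hMp : M.IsPrime := isPModular_isPrime hM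
  have hθb : θ ∈ blockOf M (θ : ↥(Subgroup.centralizer ((P : Subgroup G) : Set G)) → ℂ) :=
    self_mem_blockOf hMp.ne_top θ
  obtain ⟨δ, d, ζ, a, Y, hδ, hYB, hζY, hYsurj, hζR, hYcard, haout, hX, hval, hnorm,
    hreg⟩ := main_aux_gen P hP hM hB θ hθ hind T hTN hT e hCT hlt
  -- `e` is positive and `|Y| = (p - 1) / e ≥ 2`
  have he0 : 0 < e := by
    rcases Nat.eq_zero_or_pos e with h | h
    · rw [h, mul_zero] at hYcard
      have := hpp.two_le
      omega
    · exact h
  have hYdiv : Y.card = (p - 1) / e := (Nat.div_eq_of_eq_mul_left he0 hYcard.symm).symm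
  have hY2 : 2 ≤ Y.card := by
    by_contra hc
    push Not at hc
    have h1 : Y.card * e ≤ 1 * e := Nat.mul_le_mul_right e (by omega)
    omega
  obtain ⟨y₀, hy₀⟩ := exists_ne_one_of_card P hP
  -- the nonexceptional characters
  obtain ⟨X, hXdef⟩ : ∃ X : Finset (IrrCharacter G),
      X = Finset.univ.filter (fun χ => χ ∈ B ∧ χ ∉ Y) := ⟨_, rfl⟩
  have hmemX : ∀ χ, χ ∈ X ↔ χ ∈ B ∧ χ ∉ Y := by
    intro χ
    rw [hXdef]
    simp
  have hdisj : Disjoint X Y := by
    rw [Finset.disjoint_left]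
    intro χ hχ
    exact ((hmemX χ).mp hχ).2
  have hunion : Finset.univ.filter (fun χ : IrrCharacter G => χ ∈ B) = X ∪ Y := by
    ext χ
    simp only [Finset.mem_filter, Finset.mem_univ, true_and, Finset.mem_union, hmemX]
    constructor
    · intro h
      by_cases hY : χ ∈ Y
      · exact Or.inr hY
      · exact Or.inl ⟨h, hY⟩
    · rintro (h | h)
      · exact h.1
      · exact hYB χ h
  have hcardB : Nat.card B = X.card + Y.card := by
    rw [card_block_eq_card_filter, hunion, Finset.card_union_of_disjoint hdisj]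
  -- the values `a χ` are nonzero on `X`
  have haX0 : ∀ χ ∈ X, a χ ≠ 0 := by
    intro χ hχ h0
    have h1 := (hmemX χ).mp hχ
    have h2 := hX χ h1.1 h1.2 y₀ hy₀
    rw [h0] at h2
    apply fpart_not_memLocalIdeal P hP hM hind hθb hθ h1.1 y₀ hy₀ T hTN hT
    rw [h2]
    simpa using memLocalIdeal_zero (M := M) hMp.ne_top
  have hsplit : ∀ {N : Type} [AddCommMonoid N] (f : IrrCharacter G → N),
      (∀ χ, χ ∉ B → f χ = 0) →
      ∑ χ ∈ Finset.univ.filter (· ∉ Y), f χ = ∑ χ ∈ X, f χ := by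
    intro N _ f hf
    rw [hXdef]
    symm
    apply Finset.sum_subset
    · intro χ hχ
      simp only [Finset.mem_filter, Finset.mem_univ, true_and] at hχ ⊢
      exact hχ.2
    · intro χ hχ hχ'
      simp only [Finset.mem_filter, Finset.mem_univ, true_and] at hχ hχ'
      apply hf
      intro hB
      exact hχ' ⟨hB, hχ⟩
  have hSX : ∑ χ ∈ Finset.univ.filter (· ∉ Y), a χ ^ 2 = ∑ χ ∈ X, a χ ^ 2 :=
    hsplit (fun χ => a χ ^ 2) (fun χ hχ => by
      show a χ ^ 2 = 0
      rw [haout χ hχ]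
      norm_num)
  rw [hSX] at hnorm
  have hge1 : ∀ χ ∈ X, 1 ≤ a χ ^ 2 := by
    intro χ hχ
    rw [one_le_sq_iff_one_le_abs]
    exact Int.one_le_abs (haX0 χ hχ)
  have hSge : (X.card : ℤ) ≤ ∑ χ ∈ X, a χ ^ 2 := by
    have h1 : ∑ χ ∈ X, (1 : ℤ) ≤ ∑ χ ∈ X, a χ ^ 2 := Finset.sum_le_sum hge1
    rw [Finset.sum_const, nsmul_eq_mul, mul_one] at h1
    exact h1
  -- the upper bound
  have hk1 : (1 : ℤ) ≤ (Y.card : ℤ) - 1 := by
    have : (2 : ℤ) ≤ (Y.card : ℤ) := by exact_mod_cast hY2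
    linarith
  have hpos : 1 ≤ (d - δ) ^ 2 + ((Y.card : ℤ) - 1) * d ^ 2 := by
    by_cases hd : d = 0
    · rw [hd]
      rcases hδ with h | h <;> rw [h] <;> norm_num
    · have h1 : 1 ≤ d ^ 2 := by
        rw [one_le_sq_iff_one_le_abs]
        exact Int.one_le_abs hd
      have h2 : 1 * 1 ≤ ((Y.card : ℤ) - 1) * d ^ 2 :=
        mul_le_mul hk1 h1 (by norm_num) (by linarith)
      linarith [sq_nonneg (d - δ)]
  have hXle : X.card ≤ e := by
    have h1 : (X.card : ℤ) ≤ (e : ℤ) := by linarith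
    exact_mod_cast h1
  refine ⟨by rw [hcardB, ← hYdiv]; omega, ?_⟩
  intro hk
  have hXge : e ≤ X.card := by omega
  have hSe : (e : ℤ) ≤ ∑ χ ∈ X, a χ ^ 2 := by
    have : (e : ℤ) ≤ (X.card : ℤ) := by exact_mod_cast hXge
    linarith
  obtain ⟨hS, hd⟩ := norm_cases_general hδ hY2 hSe hnorm
  have hXcard : X.card = e := by omega
  have haX1 : ∀ χ ∈ X, a χ ^ 2 = 1 := by
    have h1 : ∑ χ ∈ X, (a χ ^ 2 - 1) = 0 := by
      rw [Finset.sum_sub_distrib, hS, Finset.sum_const, nsmul_eq_mul, mul_one, hXcard]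
      ring
    intro χ hχ
    have h2 := (Finset.sum_eq_zero_iff_of_nonneg (fun χ hχ => by
      have := hge1 χ hχ
      linarith)).mp h1 χ hχ
    linarith
  have haXpm : ∀ χ ∈ X, a χ = 1 ∨ a χ = -1 := by
    intro χ hχ
    have h1 := haX1 χ hχ
    have h3 : a χ ≤ 1 ∧ -1 ≤ a χ := by constructor <;> nlinarith
    obtain ⟨h4, h5⟩ := h3
    have h6 : a χ = -1 ∨ a χ = 0 ∨ a χ = 1 := by omega
    rcases h6 with h6 | h6 | h6
    · exact Or.inr h6
    · rw [h6] at h1
      norm_num at h1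
    · exact Or.inl h6
  -- the sign
  obtain ⟨ε, hεdef⟩ : ∃ ε : ℤ, ε = δ - (Y.card : ℤ) * d := ⟨_, rfl⟩
  have hεpm : ε = 1 ∨ ε = -1 := by
    rcases hd with hd | ⟨hd, hY⟩
    · rw [hεdef, hd, mul_zero, sub_zero]
      exact hδ
    · rw [hεdef, hd, hY]
      rcases hδ with h | h <;> rw [h] <;> norm_num
  refine ⟨ε, a, X, Y, hεpm, ?_, hdisj, hXcard, hYdiv, haXpm, ?_, ?_, ?_⟩
  · intro χ
    have h1 : χ ∈ Finset.univ.filter (fun χ : IrrCharacter G => χ ∈ B) ↔
        χ ∈ X ∪ Y := by rw [hunion]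
    simpa using h1
  · intro χ hχ y hy hy1
    have h1 := (hmemX χ).mp hχ
    exact hX χ h1.1 h1.2 ⟨y, hy⟩ (fun h => hy1 (congrArg Subtype.val h))
  · intro g hg
    exact (hreg g hg).1
  · intro g hg η hη
    have h1 := (hreg g hg).2 η hη
    rw [hsplit (fun χ => (a χ : ℂ) * (χ : G → ℂ) g) (fun χ hχ => by
      show (a χ : ℂ) * (χ : G → ℂ) g = 0
      rw [haout χ hχ]
      simp)] at h1
    rw [hεdef]
    push_cast
    linear_combination -h1

end DataLt

section DataTop

variable {G : Type*} [Group G] [Fintype G] {p : ℕ} [hp : Fact p.Prime] (P : Sylow p G)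
  (hP : Nat.card P = p)
variable [Fintype ↥(Subgroup.centralizer ((P : Subgroup G) : Set G))] [Fintype ↥(P : Subgroup G)]
  [IsMulCommutative ↥(P : Subgroup G)] [Fintype (↥(P : Subgroup G) →* ℂˣ)]
  [Fintype ↥(Subgroup.normalizer ((P : Subgroup G) : Set G))]
variable {M : Ideal AlgInt}

include hP in
/-- A function on `P` which is constant `= α` off the identity has `gco = α`. -/
theorem gco_eq_of_const (f : ↥(P : Subgroup G) → ℂ) (α : ℂ)
    (hf : ∀ y : ↥(P : Subgroup G), y ≠ 1 → f y = α) (ψ : ↥(P : Subgroup G) →* ℂˣ) (hψ : ψ ≠ 1) :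
    gco f ψ = α := by
  unfold gco
  have h1 : ∀ y : ↥(P : Subgroup G), f y * (1 - conj ((ψ y : ℂˣ) : ℂ)) =
      α * (1 - conj ((ψ y : ℂˣ) : ℂ)) := by
    intro y
    by_cases hy : y = 1
    · rw [hy, one_sub_conj_apply_one, mul_zero, mul_zero]
    · rw [hf y hy]
  rw [Finset.sum_congr rfl (fun y _ => h1 y), ← Finset.mul_sum, Finset.sum_sub_distrib]
  have h2 : ∑ y : ↥(P : Subgroup G), conj ((ψ y : ℂˣ) : ℂ) = 0 := by
    have h3 := dual_sum_mul_conj (1 : ↥(P : Subgroup G) →* ℂˣ) ψ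
    rw [if_neg (fun h => hψ h.symm)] at h3
    rw [← h3]
    apply Finset.sum_congr rfl
    intro y _
    simp
  have hcard : (Fintype.card ↥(P : Subgroup G) : ℂ) ≠ 0 := by
    exact_mod_cast Fintype.card_ne_zero
  rw [h2, sub_zero, Finset.sum_const, Finset.card_univ, nsmul_eq_mul, mul_one]
  field_simp

include hP in
open scoped Classical in
/-- **The case `e = p - 1`.** -/
theorem defect_one_gen_top (hM : IsPModular p M) {B : Set (IrrCharacter G)} (hB : IsPBlock M B)
    (θ : IrrCharacter ↥(Subgroup.centralizer ((P : Subgroup G) : Set G)))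
    (hθ : InKer (Subgroup.inclusion (le_centralizer_of_card_prime hP))
      (θ : ↥(Subgroup.centralizer ((P : Subgroup G) : Set G)) → ℂ))
    (hind : IsInducedBlock M (Subgroup.centralizer ((P : Subgroup G) : Set G))
      (blockOf M (θ : ↥(Subgroup.centralizer ((P : Subgroup G) : Set G)) → ℂ)) B)
    (T : Subgroup G) (hTN : T ≤ Subgroup.normalizer ((P : Subgroup G) : Set G))
    (hT : ∀ (n : G) (hn : n ∈ Subgroup.normalizer ((P : Subgroup G) : Set G)),
      n ∈ T ↔ thetaConj P n hn θ = θ)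
    (e : ℕ) (hCT : (Subgroup.centralizer ((P : Subgroup G) : Set G)).relIndex T = e)
    (hep : e = p - 1) :
    Nat.card B ≤ e + (p - 1) / e ∧
      (e + (p - 1) / e ≤ Nat.card B →
        ∃ (ε : ℤ) (a : IrrCharacter G → ℤ) (X Y : Finset (IrrCharacter G)),
          DefOneGenData P B θ e ε a X Y) := by
  have hpp : p.Prime := hp.out
  have hp2 := hpp.two_le
  have hMp : M.IsPrime := isPModular_isPrime hM
  have hθb : θ ∈ blockOf M (θ : ↥(Subgroup.centralizer ((P : Subgroup G) : Set G)) → ℂ) :=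
    self_mem_blockOf hMp.ne_top θ
  have hdiv1 : (p - 1) / e = 1 := by
    rw [hep]
    exact Nat.div_self (by omega)
  obtain ⟨y₀, hy₀⟩ := exists_ne_one_of_card P hP
  have hy₀1 : (y₀ : G) ≠ 1 := fun h => hy₀ (Subtype.ext h)
  -- constancy on `P ∖ 1`
  have hconj : ∀ χ : IrrCharacter G, ∀ y : G, y ∈ (P : Subgroup G) → y ≠ 1 →
      fpart p (Subgroup.centralizer ((P : Subgroup G) : Set G)) (χ : G → ℂ)
        (θ : ↥(Subgroup.centralizer ((P : Subgroup G) : Set G)) → ℂ) y =
      fpart p (Subgroup.centralizer ((P : Subgroup G) : Set G)) (χ : G → ℂ)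
        (θ : ↥(Subgroup.centralizer ((P : Subgroup G) : Set G)) → ℂ) (y₀ : G) := by
    intro χ y hy hy1
    obtain ⟨n, hn, hval⟩ := exists_conj_of_relIndex_eq P hP T hTN (by rw [hCT, hep]) y₀ ⟨y, hy⟩
      hy₀ (fun h => hy1 (congrArg Subtype.val h))
    have hval' : y = n * (y₀ : G) * n⁻¹ := hval.symm
    rw [hval', fpart_conj_of_mem P hP (isClassFunction_irr χ) θ T hTN hT hn]
  -- a nontrivial linear character of `P`
  obtain ⟨ψ₀, hψ₀⟩ : ∃ ψ₀ : ↥(P : Subgroup G) →* ℂˣ, ψ₀ ≠ 1 := by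
    have h1 : 1 < Fintype.card (↥(P : Subgroup G) →* ℂˣ) := by
      rw [dual_card, ← Nat.card_eq_fintype_card]
      have hP' : Nat.card (P : Subgroup G) = p := hP
      omega
    haveI := Fintype.one_lt_card_iff_nontrivial.mp h1
    exact exists_ne 1
  -- the values are integers
  have hint : ∀ χ : IrrCharacter G, ∃ c : ℤ,
      fpart p (Subgroup.centralizer ((P : Subgroup G) : Set G)) (χ : G → ℂ)
        (θ : ↥(Subgroup.centralizer ((P : Subgroup G) : Set G)) → ℂ) (y₀ : G) = (c : ℂ) := by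
    intro χ
    obtain ⟨k, hk⟩ := exists_int_gco_fpart P hP (IsIrrCharacter.isCharacter χ.2) θ hθ ψ₀
    refine ⟨k, ?_⟩
    rw [← hk]
    symm
    apply gco_eq_of_const P hP _ _ _ ψ₀ hψ₀
    intro y hy
    exact hconj χ (y : G) y.2 (fun h => hy (Subtype.ext h))
  choose a ha using hint
  -- the block as a finset
  obtain ⟨Bf, hBdef⟩ : ∃ Bf : Finset (IrrCharacter G),
      Bf = Finset.univ.filter (fun χ : IrrCharacter G => χ ∈ B) := ⟨_, rfl⟩
  have hmemB : ∀ χ, χ ∈ Bf ↔ χ ∈ B := by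
    intro χ
    rw [hBdef]
    simp
  have hcardB : Nat.card B = Bf.card := by rw [card_block_eq_card_filter, hBdef]
  -- the norm relation
  have hnorm : ∑ χ ∈ Bf, a χ ^ 2 = (p : ℤ) := by
    have h1 := sum_block_fpart_normSq P hP hM y₀.2 hy₀1 hB θ hθ hind
    rw [← hBdef] at h1
    have h2 : ((∑ χ ∈ Bf, a χ ^ 2 : ℤ) : ℂ) = ((p : ℤ) : ℂ) := by
      push_cast
      rw [← h1]
      apply Finset.sum_congr rfl
      intro χ _
      rw [ha χ, map_intCast]
      ring
    exact_mod_cast h2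
  have haB0 : ∀ χ ∈ Bf, a χ ≠ 0 := by
    intro χ hχ h0
    have h1 := ha χ
    rw [h0] at h1
    apply fpart_not_memLocalIdeal P hP hM hind hθb hθ ((hmemB χ).mp hχ) y₀ hy₀ T hTN hT
    rw [h1]
    simpa using memLocalIdeal_zero (M := M) hMp.ne_top
  have hge1 : ∀ χ ∈ Bf, 1 ≤ a χ ^ 2 := by
    intro χ hχ
    rw [one_le_sq_iff_one_le_abs]
    exact Int.one_le_abs (haB0 χ hχ)
  have hSge : (Bf.card : ℤ) ≤ ∑ χ ∈ Bf, a χ ^ 2 := by
    have h1 : ∑ χ ∈ Bf, (1 : ℤ) ≤ ∑ χ ∈ Bf, a χ ^ 2 := Finset.sum_le_sum hge1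
    rw [Finset.sum_const, nsmul_eq_mul, mul_one] at h1
    exact h1
  have hBle : Bf.card ≤ p := by
    have h1 : (Bf.card : ℤ) ≤ (p : ℤ) := by linarith
    exact_mod_cast h1
  refine ⟨by rw [hcardB, hdiv1, hep]; omega, ?_⟩
  intro hk
  rw [hcardB, hdiv1, hep] at hk
  have hBcard' : Bf.card = p := by omega
  have haB1 : ∀ χ ∈ Bf, a χ ^ 2 = 1 := by
    have h1 : ∑ χ ∈ Bf, (a χ ^ 2 - 1) = 0 := by
      rw [Finset.sum_sub_distrib, hnorm, Finset.sum_const, nsmul_eq_mul, mul_one, hBcard']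
      ring
    intro χ hχ
    have h2 := (Finset.sum_eq_zero_iff_of_nonneg (fun χ hχ => by
      have := hge1 χ hχ
      linarith)).mp h1 χ hχ
    linarith
  have haBpm : ∀ χ ∈ Bf, a χ = 1 ∨ a χ = -1 := by
    intro χ hχ
    have h1 := haB1 χ hχ
    have h3 : a χ ≤ 1 ∧ -1 ≤ a χ := by constructor <;> nlinarith
    obtain ⟨h4, h5⟩ := h3
    have h6 : a χ = -1 ∨ a χ = 0 ∨ a χ = 1 := by omega
    rcases h6 with h6 | h6 | h6
    · exact Or.inr h6
    · rw [h6] at h1
      norm_num at h1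
    · exact Or.inl h6
  obtain ⟨η₀, hη₀⟩ : Bf.Nonempty := by
    rw [← Finset.card_pos, hBcard']
    omega
  refine ⟨-a η₀, a, Bf.erase η₀, {η₀}, ?_, ?_, ?_, ?_, ?_, ?_, ?_, ?_, ?_⟩
  · rcases haBpm η₀ hη₀ with h | h <;> rw [h]
    · exact Or.inr rfl
    · exact Or.inl (by norm_num)
  · intro χ
    rw [← hmemB, Finset.mem_erase, Finset.mem_singleton]
    constructor
    · intro h
      by_cases h1 : χ = η₀
      · exact Or.inr h1
      · exact Or.inl ⟨h1, h⟩
    · rintro (h | h)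
      · exact h.2
      · rw [h]
        exact hη₀
  · rw [Finset.disjoint_singleton_right]
    exact Finset.notMem_erase η₀ Bf
  · rw [Finset.card_erase_of_mem hη₀, hBcard', hep]
  · rw [Finset.card_singleton, hdiv1]
  · intro χ hχ
    exact haBpm χ (Finset.mem_of_mem_erase hχ)
  · intro χ _ y hy hy1
    rw [hconj χ y hy hy1, ha χ]
  · intro g _ η hη η' hη'
    rw [Finset.mem_singleton.mp hη, Finset.mem_singleton.mp hη']
  · intro g hg η hη
    rw [Finset.mem_singleton.mp hη]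
    have h1 := sum_block_fpart_mul_pRegular P hP hM y₀.2 hy₀1 hB
      (θ : ↥(Subgroup.centralizer ((P : Subgroup G) : Set G)) → ℂ) hg
    rw [← hBdef, ← Finset.add_sum_erase Bf _ hη₀, ha η₀] at h1
    have h2 : ∑ χ ∈ Bf.erase η₀,
        fpart p (Subgroup.centralizer ((P : Subgroup G) : Set G)) (χ : G → ℂ)
          (θ : ↥(Subgroup.centralizer ((P : Subgroup G) : Set G)) → ℂ) (y₀ : G) *
          (χ : G → ℂ) g =
        ∑ χ ∈ Bf.erase η₀, (a χ : ℂ) * (χ : G → ℂ) g := by
      apply Finset.sum_congr rfl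
      intro χ _
      rw [ha χ]
    rw [h2] at h1
    push_cast
    linear_combination -h1

include hP in
open scoped Classical in
/-- **The normalized data for a block with defect group of order `p`**, and the upper bound
for `k(B)`. -/
theorem defect_one_gen (hM : IsPModular p M) {B : Set (IrrCharacter G)} (hB : IsPBlock M B)
    (θ : IrrCharacter ↥(Subgroup.centralizer ((P : Subgroup G) : Set G)))
    (hθ : InKer (Subgroup.inclusion (le_centralizer_of_card_prime hP))
      (θ : ↥(Subgroup.centralizer ((P : Subgroup G) : Set G)) → ℂ))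
    (hind : IsInducedBlock M (Subgroup.centralizer ((P : Subgroup G) : Set G))
      (blockOf M (θ : ↥(Subgroup.centralizer ((P : Subgroup G) : Set G)) → ℂ)) B)
    (T : Subgroup G) (hTN : T ≤ Subgroup.normalizer ((P : Subgroup G) : Set G))
    (hT : ∀ (n : G) (hn : n ∈ Subgroup.normalizer ((P : Subgroup G) : Set G)),
      n ∈ T ↔ thetaConj P n hn θ = θ)
    (e : ℕ) (hCT : (Subgroup.centralizer ((P : Subgroup G) : Set G)).relIndex T = e) :
    e ∣ p - 1 ∧ Nat.card B ≤ e + (p - 1) / e ∧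
      (e + (p - 1) / e ≤ Nat.card B →
        ∃ (ε : ℤ) (a : IrrCharacter G → ℤ) (X Y : Finset (IrrCharacter G)),
          DefOneGenData P B θ e ε a X Y) := by
  have hpp : p.Prime := hp.out
  have hp2 := hpp.two_le
  have hdvd : e ∣ p - 1 := by
    rw [← hCT]
    exact relIndex_dvd_pred P hP θ T hTN hT
  have hle : e ≤ p - 1 := Nat.le_of_dvd (by omega) hdvd
  refine ⟨hdvd, ?_⟩
  by_cases h : e = p - 1
  · exact defect_one_gen_top P hP hM hB θ hθ hind T hTN hT e hCT h
  · exact defect_one_gen_lt P hP hM hB θ hθ hind T hTN hT e hCT (by omega)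

end DataTop

end Cfsg.Agent.Lib.Helper3.DefOneGen
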