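import Mathlib
import Cfsg.Agent.Lib.Helper3.DefOneGenData

set_option autoImplicit false
set_option linter.unusedSectionVars false

/-!
# General defect-one blocks: the endgame (helper3)

From the lower bound `hk : e + (p - 1) / e ≤ k(B)` we derive the conclusion of S4442 verbatim
(`s4442_of_card_le`); unconditionally `e ∣ p - 1` and `k(B) ≤ e + (p - 1) / e`
(`s4442_upper`).
-/

namespace Cfsg.Agent.Lib.Helper3.DefOneGen

open Cfsg Cfsg.Agent.Lib.Helper78 Cfsg.Agent.Lib.Helper16
open scoped ComplexConjugate IsMulCommutative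

section Bridge

variable {G : Type*} [Group G] [Fintype G] {p : ℕ} [hp : Fact p.Prime] (P : Sylow p G)
  (hP : Nat.card P = p)
variable [Fintype ↥(Subgroup.centralizer ((P : Subgroup G) : Set G))] [Fintype ↥(P : Subgroup G)]
  [IsMulCommutative ↥(P : Subgroup G)]

include hP in
/-- `P ≤ ker θ` in the form used by this library. -/
theorem inKer_of_apply_eq
    (θ : IrrCharacter ↥(Subgroup.centralizer ((P : Subgroup G) : Set G)))
    (hθP : ∀ x : ↥(Subgroup.centralizer ((P : Subgroup G) : Set G)), (x : G) ∈ (P : Subgroup G) →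
      (θ : ↥(Subgroup.centralizer ((P : Subgroup G) : Set G)) → ℂ) x =
        (θ : ↥(Subgroup.centralizer ((P : Subgroup G) : Set G)) → ℂ) 1) :
    InKer (Subgroup.inclusion (le_centralizer_of_card_prime hP))
      (θ : ↥(Subgroup.centralizer ((P : Subgroup G) : Set G)) → ℂ) := by
  intro a k
  have hθc := IsIrrCharacter.isCharacter θ.2
  apply Cfsg.Agent.Lib.Helper80.char_mul_of_mem_charKer hθc
  rw [Cfsg.Agent.Lib.Helper80.mem_charKer]
  exact hθP _ a.2

/-- The inertia group in the form used by this library. -/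
theorem stab_iff_of_literal
    (θ : IrrCharacter ↥(Subgroup.centralizer ((P : Subgroup G) : Set G))) (T : Subgroup G)
    (hT : ∀ g : G, g ∈ T ↔ (g ∈ Subgroup.normalizer ((P : Subgroup G) : Set G) ∧
      ∀ c c' : ↥(Subgroup.centralizer ((P : Subgroup G) : Set G)), (c' : G) = g * c * g⁻¹ →
        (θ : ↥(Subgroup.centralizer ((P : Subgroup G) : Set G)) → ℂ) c' =
          (θ : ↥(Subgroup.centralizer ((P : Subgroup G) : Set G)) → ℂ) c)) :
    T ≤ Subgroup.normalizer ((P : Subgroup G) : Set G) ∧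
      ∀ (n : G) (hn : n ∈ Subgroup.normalizer ((P : Subgroup G) : Set G)),
        n ∈ T ↔ thetaConj P n hn θ = θ := by
  refine ⟨fun g hg => ((hT g).mp hg).1, ?_⟩
  intro n hn
  rw [hT n]
  constructor
  · rintro ⟨-, h⟩
    apply Subtype.ext
    funext c
    rw [thetaConj_apply]
    exact h c _ (coe_normalizerMonoidHom_toNC P n hn c)
  · intro h
    refine ⟨hn, ?_⟩
    intro c c' hc
    rw [← thetaConj_eq_of_eq P n hn θ c c' hc, h]

end Bridge

section Consequences

variable {G : Type*} [Group G] [Fintype G] {p : ℕ} [hp : Fact p.Prime] (P : Sylow p G)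
  (hP : Nat.card P = p)
variable [Fintype ↥(Subgroup.centralizer ((P : Subgroup G) : Set G))] [Fintype ↥(P : Subgroup G)]
  [IsMulCommutative ↥(P : Subgroup G)] [Fintype (↥(P : Subgroup G) →* ℂˣ)]
  [Fintype ↥(Subgroup.normalizer ((P : Subgroup G) : Set G))]
variable {M : Ideal AlgInt}

include hP in
open scoped Classical in
/-- The degree congruence for a character with an integral value of `a_χ`. -/
theorem degree_congr_int (hM : IsPModular p M) {B : Set (IrrCharacter G)}
    (θ : IrrCharacter ↥(Subgroup.centralizer ((P : Subgroup G) : Set G)))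
    (hθ : InKer (Subgroup.inclusion (le_centralizer_of_card_prime hP))
      (θ : ↥(Subgroup.centralizer ((P : Subgroup G) : Set G)) → ℂ))
    (hind : IsInducedBlock M (Subgroup.centralizer ((P : Subgroup G) : Set G))
      (blockOf M (θ : ↥(Subgroup.centralizer ((P : Subgroup G) : Set G)) → ℂ)) B)
    (T : Subgroup G) (hTN : T ≤ Subgroup.normalizer ((P : Subgroup G) : Set G))
    (hT : ∀ (n : G) (hn : n ∈ Subgroup.normalizer ((P : Subgroup G) : Set G)),
      n ∈ T ↔ thetaConj P n hn θ = θ)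
    {χ : IrrCharacter G} (hχ : χ ∈ B) (y₀ : ↥(P : Subgroup G)) (hy₀ : y₀ ≠ 1) {c : ℤ}
    (hval : fpart p (Subgroup.centralizer ((P : Subgroup G) : Set G)) (χ : G → ℂ)
      (θ : ↥(Subgroup.centralizer ((P : Subgroup G) : Set G)) → ℂ) (y₀ : G) = (c : ℂ)) :
    (p : ℤ) ∣ ((Subgroup.centralizer ((P : Subgroup G) : Set G)).relIndex T : ℤ) *
        (charDegree (χ : G → ℂ) : ℤ) -
      ((Subgroup.centralizer ((P : Subgroup G) : Set G)).relIndex
        (Subgroup.normalizer ((P : Subgroup G) : Set G)) : ℤ) *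
        (charDegree (θ : ↥(Subgroup.centralizer ((P : Subgroup G) : Set G)) → ℂ) : ℤ) * c := by
  have hMp : M.IsPrime := isPModular_isPrime hM
  have hθb : θ ∈ blockOf M (θ : ↥(Subgroup.centralizer ((P : Subgroup G) : Set G)) → ℂ) :=
    self_mem_blockOf hMp.ne_top θ
  have h := deg_congr P hP hM hind hθb hθ hχ y₀ hy₀ T hTN hT
  rw [hval] at h
  rw [← memLocalIdeal_intCast_iff hM]
  push_cast
  exact h

end Consequences

section Final

open scoped Classical in
/-- **S4442 from the lower bound for `k(B)`**, together with the unconditional facts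
`e ∣ p - 1` and `k(B) ≤ e + (p - 1) / e`. -/
theorem s4442_core {G : Type*} [Group G] [Finite G] (p : ℕ) [Fact p.Prime]
    (M : Ideal Cfsg.AlgInt) (hM : Cfsg.IsPModular p M) (P : Sylow p G) (hP : Nat.card P = p)
    (B : Set (Cfsg.IrrCharacter G))
    (b : Set (Cfsg.IrrCharacter (Subgroup.centralizer ((P : Subgroup G) : Set G))))
    (hind : Cfsg.IsInducedBlock M (Subgroup.centralizer ((P : Subgroup G) : Set G)) b B)
    (θ : Cfsg.IrrCharacter (Subgroup.centralizer ((P : Subgroup G) : Set G))) (hθ : θ ∈ b)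
    (hθP : ∀ x : Subgroup.centralizer ((P : Subgroup G) : Set G), (x : G) ∈ (P : Subgroup G) →
      (θ : Subgroup.centralizer ((P : Subgroup G) : Set G) → ℂ) x =
        (θ : Subgroup.centralizer ((P : Subgroup G) : Set G) → ℂ) 1)
    (T : Subgroup G)
    (hT : ∀ g : G, g ∈ T ↔ (g ∈ Subgroup.normalizer ((P : Subgroup G) : Set G) ∧
      ∀ c c' : Subgroup.centralizer ((P : Subgroup G) : Set G), (c' : G) = g * c * g⁻¹ →
        (θ : Subgroup.centralizer ((P : Subgroup G) : Set G) → ℂ) c' =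
          (θ : Subgroup.centralizer ((P : Subgroup G) : Set G) → ℂ) c))
    (e f : ℕ) (he : (Subgroup.centralizer ((P : Subgroup G) : Set G)).relIndex T = e)
    (hf : (Subgroup.centralizer ((P : Subgroup G) : Set G)).relIndex
      (Subgroup.normalizer ((P : Subgroup G) : Set G)) = f) :
    e ∣ p - 1 ∧ Nat.card B ≤ e + (p - 1) / e ∧
    (e + (p - 1) / e ≤ Nat.card B →
      Nat.card B = e + (p - 1) / e ∧ ∃ X Y : Set (Cfsg.IrrCharacter G), B = X ∪ Y ∧
        Disjoint X Y ∧ Nat.card X = e ∧ Nat.card Y = (p - 1) / e ∧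
        (∀ χ ∈ X, (Cfsg.charDegree (χ : G → ℂ) : ℤ) ≡
            ((f / e * Cfsg.charDegree
              (θ : Subgroup.centralizer ((P : Subgroup G) : Set G) → ℂ) : ℕ) : ℤ) [ZMOD p] ∨
          (Cfsg.charDegree (χ : G → ℂ) : ℤ) ≡
            -((f / e * Cfsg.charDegree
              (θ : Subgroup.centralizer ((P : Subgroup G) : Set G) → ℂ) : ℕ) : ℤ) [ZMOD p]) ∧
        (∃ ε : ℤ, (ε = 1 ∨ ε = -1) ∧ ∀ ψ ∈ Y, (Cfsg.charDegree (ψ : G → ℂ) : ℤ) ≡
          ε * ((f * Cfsg.charDegree
            (θ : Subgroup.centralizer ((P : Subgroup G) : Set G) → ℂ) : ℕ) : ℤ) [ZMOD p]) ∧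
        ∀ ψ ∈ Y, ∀ ψ' ∈ Y, ∀ g : G, ¬ p ∣ orderOf g → (ψ : G → ℂ) g = (ψ' : G → ℂ) g) := by
  have hpp : p.Prime := Fact.out
  have hfinG : Fintype G := Fintype.ofFinite G
  have hfinC : Fintype ↥(Subgroup.centralizer ((P : Subgroup G) : Set G)) := Fintype.ofFinite _
  have hfinP : Fintype ↥(P : Subgroup G) := Fintype.ofFinite _
  have hfinN : Fintype ↥(Subgroup.normalizer ((P : Subgroup G) : Set G)) := Fintype.ofFinite _
  have hcyc : IsCyclic ↥(P : Subgroup G) := isCyclic_of_prime_card hP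
  have hab : IsMulCommutative ↥(P : Subgroup G) := IsCyclic.isMulCommutative
  have hfinD : Fintype (↥(P : Subgroup G) →* ℂˣ) := Fintype.ofFinite _
  have hMp : M.IsPrime := isPModular_isPrime hM
  have hB : IsPBlock M B := hind.2.1
  have hbeq : b = blockOf M (θ : ↥(Subgroup.centralizer ((P : Subgroup G) : Set G)) → ℂ) :=
    IsPBlock_eq_blockOf hind.1 hθ
  rw [hbeq] at hind
  have hθK := inKer_of_apply_eq P hP θ hθP
  obtain ⟨hTN, hT'⟩ := stab_iff_of_literal P θ T hT
  have hCT := centralizer_le_of_stab P hP θ T hT'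
  obtain ⟨hdvd, hle, hdata⟩ := defect_one_gen P hP hM hB θ hθK hind T hTN hT' e he
  refine ⟨hdvd, hle, ?_⟩
  intro hk
  obtain ⟨ε, a, X, Y, D⟩ := hdata hk
  obtain ⟨k, hk0, -, -, hpe⟩ := exists_card_data P hP T hCT hTN
  rw [he] at hpe
  obtain ⟨y₀, hy₀⟩ := exists_ne_one_of_card P hP
  have hy₀1 : (y₀ : G) ≠ 1 := fun h => hy₀ (Subtype.ext h)
  -- `f = e * (f / e)`
  have hef : e ∣ f := by
    rw [← he, ← hf, ← Subgroup.relIndex_mul_relIndex _ _ _ hCT hTN]
    exact dvd_mul_right _ _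
  obtain ⟨q, hq⟩ := hef
  have he0 : 0 < e := by
    rcases Nat.eq_zero_or_pos e with h | h
    · exfalso; apply hpe; rw [h]; exact dvd_zero p
    · exact h
  have hfe : f / e = q := by rw [hq, Nat.mul_div_cancel_left _ he0]
  have hpe' : ¬ (p : ℤ) ∣ (e : ℤ) := fun h => hpe (Int.natCast_dvd_natCast.mp h)
  have hXB : ∀ χ ∈ X, χ ∈ B := fun χ hχ => (D.hmem χ).mpr (Or.inl hχ)
  have hYB : ∀ χ ∈ Y, χ ∈ B := fun χ hχ => (D.hmem χ).mpr (Or.inr hχ)
  -- degree congruences on `X`
  have hdegX : ∀ χ ∈ X, (p : ℤ) ∣ (e : ℤ) * (charDegree (χ : G → ℂ) : ℤ) -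
      (f : ℤ) * (charDegree (θ : ↥(Subgroup.centralizer ((P : Subgroup G) : Set G)) → ℂ) : ℤ) *
        a χ := by
    intro χ hχ
    have h := degree_congr_int P hP hM θ hθK hind T hTN hT' (hXB χ hχ) y₀ hy₀
      (D.hX χ hχ (y₀ : G) y₀.2 hy₀1)
    rw [he, hf] at h
    exact h
  have hunion : Finset.univ.filter (fun χ : IrrCharacter G => χ ∈ B) = X ∪ Y := by
    ext χ
    simp only [Finset.mem_filter, Finset.mem_univ, true_and, Finset.mem_union]
    exact D.hmem χ
  have hcard : Nat.card B = e + (p - 1) / e := by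
    rw [card_block_eq_card_filter, hunion, Finset.card_union_of_disjoint D.hdisj, D.hXcard,
      D.hYcard]
  refine ⟨hcard, (X : Set (IrrCharacter G)), (Y : Set (IrrCharacter G)), ?_, ?_, ?_, ?_, ?_,
    ⟨ε, D.hε, ?_⟩, ?_⟩
  · ext χ
    rw [Set.mem_union, Finset.mem_coe, Finset.mem_coe]
    exact D.hmem χ
  · exact Finset.disjoint_coe.mpr D.hdisj
  · rw [Nat.card_coe_set_eq, Set.ncard_coe_finset, D.hXcard]
  · rw [Nat.card_coe_set_eq, Set.ncard_coe_finset, D.hYcard]
  · intro χ hχ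
    have hχX : χ ∈ X := Finset.mem_coe.mp hχ
    have h1 := hdegX χ hχX
    rw [hfe]
    have h2 : (e : ℤ) * (charDegree (χ : G → ℂ) : ℤ) - (f : ℤ) *
        (charDegree (θ : ↥(Subgroup.centralizer ((P : Subgroup G) : Set G)) → ℂ) : ℤ) * a χ =
        (e : ℤ) * ((charDegree (χ : G → ℂ) : ℤ) - ((q *
          charDegree (θ : ↥(Subgroup.centralizer ((P : Subgroup G) : Set G)) → ℂ) : ℕ) : ℤ) *
            a χ) := by
      rw [hq]
      push_cast
      ring
    rw [h2] at h1
    rcases Int.Prime.dvd_mul' hpp h1 with h3 | h3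
    · exact absurd h3 hpe'
    · rcases D.haX χ hχX with h | h
      · rw [h, mul_one] at h3
        exact Or.inl (Int.modEq_iff_dvd.mpr h3).symm
      · rw [h] at h3
        refine Or.inr (Int.modEq_iff_dvd.mpr ?_).symm
        have : (charDegree (χ : G → ℂ) : ℤ) - -((q * charDegree
            (θ : ↥(Subgroup.centralizer ((P : Subgroup G) : Set G)) → ℂ) : ℕ) : ℤ) =
            (charDegree (χ : G → ℂ) : ℤ) - ((q * charDegree
            (θ : ↥(Subgroup.centralizer ((P : Subgroup G) : Set G)) → ℂ) : ℕ) : ℤ) * -1 := by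
          ring
        rw [this]
        exact h3
  · intro η hη
    have hηY : η ∈ Y := Finset.mem_coe.mp hη
    have hone : ¬ p ∣ orderOf (1 : G) := by
      rw [orderOf_one]
      exact hpp.one_lt.ne' ∘ Nat.dvd_one.mp
    have h1 := D.hrel 1 hone η hηY
    rw [IsCharacter.apply_one_eq_charDegree (IsIrrCharacter.isCharacter η.2)] at h1
    have h2 : ε * (charDegree (η : G → ℂ) : ℤ) =
        ∑ χ ∈ X, a χ * (charDegree (χ : G → ℂ) : ℤ) := by
      have h3 : ((ε * (charDegree (η : G → ℂ) : ℤ) : ℤ) : ℂ) =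
          ((∑ χ ∈ X, a χ * (charDegree (χ : G → ℂ) : ℤ) : ℤ) : ℂ) := by
        push_cast
        rw [h1]
        apply Finset.sum_congr rfl
        intro χ _
        rw [IsCharacter.apply_one_eq_charDegree (IsIrrCharacter.isCharacter χ.2)]
      exact_mod_cast h3
    have h4 : (p : ℤ) ∣ ∑ χ ∈ X, a χ * ((e : ℤ) * (charDegree (χ : G → ℂ) : ℤ) -
        (f : ℤ) * (charDegree
          (θ : ↥(Subgroup.centralizer ((P : Subgroup G) : Set G)) → ℂ) : ℤ) * a χ) := by
      apply Finset.dvd_sum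
      intro χ hχ
      exact Dvd.dvd.mul_left (hdegX χ hχ) _
    have h6 : ∑ χ ∈ X, a χ * a χ = (e : ℤ) := by
      have h7 : ∑ χ ∈ X, a χ * a χ = ∑ χ ∈ X, (1 : ℤ) := by
        apply Finset.sum_congr rfl
        intro χ hχ
        rcases D.haX χ hχ with h | h <;> rw [h] <;> norm_num
      rw [h7, Finset.sum_const, nsmul_eq_mul, mul_one, D.hXcard]
    have h5 : ∑ χ ∈ X, a χ * ((e : ℤ) * (charDegree (χ : G → ℂ) : ℤ) -
        (f : ℤ) * (charDegree
          (θ : ↥(Subgroup.centralizer ((P : Subgroup G) : Set G)) → ℂ) : ℤ) * a χ) =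
        (e : ℤ) * (ε * (charDegree (η : G → ℂ) : ℤ) - (f : ℤ) * (charDegree
          (θ : ↥(Subgroup.centralizer ((P : Subgroup G) : Set G)) → ℂ) : ℤ)) := by
      rw [h2, mul_sub, Finset.mul_sum]
      have h8 : (e : ℤ) * ((f : ℤ) * (charDegree
          (θ : ↥(Subgroup.centralizer ((P : Subgroup G) : Set G)) → ℂ) : ℤ)) =
          ∑ χ ∈ X, (f : ℤ) * (charDegree
          (θ : ↥(Subgroup.centralizer ((P : Subgroup G) : Set G)) → ℂ) : ℤ) * (a χ * a χ) := by
        rw [← Finset.mul_sum, h6]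
        ring
      rw [h8, ← Finset.sum_sub_distrib]
      apply Finset.sum_congr rfl
      intro χ _
      ring
    rw [h5] at h4
    rcases Int.Prime.dvd_mul' hpp h4 with h3 | h3
    · exact absurd h3 hpe'
    · have hεsq : ε * ε = 1 := by rcases D.hε with h | h <;> rw [h] <;> norm_num
      apply (Int.modEq_iff_dvd.mpr _).symm
      have h9 : (charDegree (η : G → ℂ) : ℤ) - ε * ((f * charDegree
          (θ : ↥(Subgroup.centralizer ((P : Subgroup G) : Set G)) → ℂ) : ℕ) : ℤ) =
          ε * (ε * (charDegree (η : G → ℂ) : ℤ) - (f : ℤ) * (charDegree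
          (θ : ↥(Subgroup.centralizer ((P : Subgroup G) : Set G)) → ℂ) : ℤ)) := by
        push_cast
        linear_combination (-(charDegree (η : G → ℂ) : ℤ)) * hεsq
      rw [h9]
      exact Dvd.dvd.mul_left h3 _
  · intro η hη η' hη' g hg
    exact D.hregY g hg η (Finset.mem_coe.mp hη) η' (Finset.mem_coe.mp hη')

end Final

end Cfsg.Agent.Lib.Helper3.DefOneGen
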