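import Mathlib
import Cfsg.Agent.Lib.Helper3.DefOneGenEnd
import Cfsg.Agent.Lib.Helper39.BlockArith
import Cfsg.Agent.Lib.Helper78.SMTMain
import Cfsg.Agent.Lib.Helper82.ExtFirstMain
import Cfsg.Agent.Lib.Helper78.DefOneUniq

set_option autoImplicit false
set_option linter.unusedSectionVars false

/-!
# General defect-one blocks: expansion of character values on `p`-singular elements (helper3)
-/

namespace Cfsg.Agent.Lib.Helper3.DefOneGen

open Cfsg Cfsg.Agent.Lib.Helper78 Cfsg.Agent.Lib.Helper16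
open scoped ComplexConjugate IsMulCommutative

section TwistSurj

variable {K A : Type*} [Group K] [Fintype K] [CommGroup A] [Fintype A] {p : ℕ}
  {π : K →* A} {ι : A →* K}

/-- Every irreducible character of `K` is a twist of one with `A` in its kernel. -/
theorem exists_twist_eq (h : IsCentralSplit p π ι) (ξ : IrrCharacter K) :
    ∃ (ψ : A →* ℂˣ) (ϑ : IrrCharacter K), InKer ι (ϑ : K → ℂ) ∧ twist π ψ ϑ = ξ := by
  obtain ⟨n, ρ, hρ, hξ⟩ := ξ.2
  have hcen : ∀ a : A, ι a ∈ Subgroup.center K := by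
    intro a
    rw [Subgroup.mem_center_iff]
    intro k
    exact (h.central a k).symm
  have hex : ∀ a : A, ∃ c : ℂ, ∀ g : K, (ξ : K → ℂ) (ι a * g) = c * (ξ : K → ℂ) g := by
    intro a
    obtain ⟨c, -, hc⟩ := Cfsg.Agent.Lib.Helper39.exists_central_scalar ρ hρ (ι a) (hcen a)
    refine ⟨c, fun g => ?_⟩
    rw [← hξ]
    exact hc g
  choose c hc using hex
  have hξ1 : (ξ : K → ℂ) 1 ≠ 0 := Cfsg.Agent.Lib.Helper79.irr_apply_one_ne_zero ξ
  have hc1 : c 1 = 1 := by
    have h1 := hc 1 1
    rw [map_one, one_mul] at h1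
    have h2 : (c 1 - 1) * (ξ : K → ℂ) 1 = 0 := by linear_combination -h1
    rcases mul_eq_zero.mp h2 with h3 | h3
    · linear_combination h3
    · exact absurd h3 hξ1
  have hcmul : ∀ a b : A, c (a * b) = c a * c b := by
    intro a b
    have h1 := hc (a * b) 1
    rw [map_mul, mul_assoc, hc a, hc b] at h1
    have h2 : (c (a * b) - c a * c b) * (ξ : K → ℂ) 1 = 0 := by linear_combination -h1
    rcases mul_eq_zero.mp h2 with h3 | h3
    · linear_combination h3
    · exact absurd h3 hξ1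
  let l₀ : A →* ℂ := { toFun := c, map_one' := hc1, map_mul' := hcmul }
  let l : A →* ℂˣ := l₀.toHomUnits
  have hl : ∀ a : A, ((l a : ℂˣ) : ℂ) = c a := fun a => rfl
  have hlinv : ∀ a : A, ((l⁻¹ a : ℂˣ) : ℂ) * c a = 1 := by
    intro a
    rw [← hl a, MonoidHom.inv_apply, ← Units.val_mul, inv_mul_cancel, Units.val_one]
  refine ⟨l, twist π l⁻¹ ξ, ?_, ?_⟩
  · intro a k
    rw [twist_apply, twist_apply, map_mul, h.right_inv, map_mul, Units.val_mul, hc a k]
    linear_combination ((l⁻¹ (π k) : ℂˣ) : ℂ) * (ξ : K → ℂ) k * hlinv a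
  · apply Subtype.ext
    funext k
    rw [twist_apply, twist_apply, ← mul_assoc, ← Units.val_mul, MonoidHom.inv_apply,
      mul_inv_cancel, Units.val_one, one_mul]

end TwistSurj

section Expansion

variable {G : Type*} [Group G] [Fintype G] {p : ℕ} [hp : Fact p.Prime] (P : Sylow p G)
  (hP : Nat.card P = p)
variable [Fintype ↥(Subgroup.centralizer ((P : Subgroup G) : Set G))] [Fintype ↥(P : Subgroup G)]
  [IsMulCommutative ↥(P : Subgroup G)] [Fintype (↥(P : Subgroup G) →* ℂˣ)]

open scoped Classical in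
/-- Reindexing `Irr(C_G(P))` by pairs (character trivial on `P`, linear character of `P`). -/
theorem sum_irr_eq_sum_twist
    (g : IrrCharacter ↥(Subgroup.centralizer ((P : Subgroup G) : Set G)) → ℂ) :
    ∑ ξ : IrrCharacter ↥(Subgroup.centralizer ((P : Subgroup G) : Set G)), g ξ =
      ∑ ϑ ∈ Finset.univ.filter
          (fun ϑ : IrrCharacter ↥(Subgroup.centralizer ((P : Subgroup G) : Set G)) =>
            InKer (Subgroup.inclusion (le_centralizer_of_card_prime hP))
              (ϑ : ↥(Subgroup.centralizer ((P : Subgroup G) : Set G)) → ℂ)),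
        ∑ ψ : ↥(P : Subgroup G) →* ℂˣ, g (twist (ppart P hP) ψ ϑ) := by
  have hsp := ppart_spec P hP
  rw [← Finset.sum_product']
  symm
  apply Finset.sum_bij (fun x _ => twist (ppart P hP) x.2 x.1)
  · intro x _
    exact Finset.mem_univ _
  · intro x hx x' hx' heq
    simp only [Finset.mem_product, Finset.mem_filter, Finset.mem_univ, true_and, and_true]
      at hx hx'
    obtain ⟨h1, h2⟩ := twist_injective hsp hx hx' heq
    exact Prod.ext h2 h1
  · intro ξ _
    obtain ⟨ψ, ϑ, hϑ, heq⟩ := exists_twist_eq hsp ξ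
    refine ⟨(ϑ, ψ), ?_, heq⟩
    simp only [Finset.mem_product, Finset.mem_filter, Finset.mem_univ, true_and, and_true]
    exact hϑ
  · intro x _
    rfl

open scoped Classical in
/-- **Expansion of a class function on the `p`-section of `y ∈ P`.** -/
theorem apply_eq_sum_fpart {F : G → ℂ} (hF : IsClassFunction G F) (y : ↥(P : Subgroup G))
    (s : ↥(Subgroup.centralizer ((P : Subgroup G) : Set G))) (hs : ¬ p ∣ orderOf s) :
    F ((y : G) * (s : G)) =
      ∑ ϑ ∈ Finset.univ.filter
          (fun ϑ : IrrCharacter ↥(Subgroup.centralizer ((P : Subgroup G) : Set G)) =>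
            InKer (Subgroup.inclusion (le_centralizer_of_card_prime hP))
              (ϑ : ↥(Subgroup.centralizer ((P : Subgroup G) : Set G)) → ℂ)),
        fpart p (Subgroup.centralizer ((P : Subgroup G) : Set G)) F
          (ϑ : ↥(Subgroup.centralizer ((P : Subgroup G) : Set G)) → ℂ) (y : G) *
          (ϑ : ↥(Subgroup.centralizer ((P : Subgroup G) : Set G)) → ℂ) s := by
  have hsp := ppart_spec P hP
  have hf : IsClassFunction ↥(Subgroup.centralizer ((P : Subgroup G) : Set G))
      (fun c : ↥(Subgroup.centralizer ((P : Subgroup G) : Set G)) => F (c : G)) := by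
    intro c a
    exact hF (c : G) (a : G)
  have h1 := congrFun (classFunction_eq_sum_irr hf)
    (Subgroup.inclusion (le_centralizer_of_card_prime hP) y * s)
  simp only [Subgroup.coe_mul, Subgroup.coe_inclusion, Finset.sum_apply, Pi.smul_apply,
    smul_eq_mul] at h1
  rw [h1, sum_irr_eq_sum_twist P hP]
  apply Finset.sum_congr rfl
  intro ϑ hϑ
  simp only [Finset.mem_filter, Finset.mem_univ, true_and] at hϑ
  rw [fpart_eq_sum_dual P hP F ϑ hϑ y, Finset.sum_mul]
  apply Finset.sum_congr rfl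
  intro ψ _
  rw [twist_apply_mul hsp ψ hϑ y hs]
  ring

end Expansion

section Vanish

variable {G : Type*} [Group G] [Fintype G] {p : ℕ} [hp : Fact p.Prime] (P : Sylow p G)
  (hP : Nat.card P = p)
variable [Fintype ↥(Subgroup.centralizer ((P : Subgroup G) : Set G))] [Fintype ↥(P : Subgroup G)]
  [IsMulCommutative ↥(P : Subgroup G)] [Fintype (↥(P : Subgroup G) →* ℂˣ)]
variable {M : Ideal AlgInt}

include hP in
open scoped Classical in
/-- Brauer's second main theorem in the present setting: the `ϑ`-part of `χ ∈ B` vanishes unless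
the block of `ϑ` induces `B`. -/
theorem fpart_eq_zero_of_not_induced (hM : IsPModular p M) {y : G}
    (hyP : y ∈ (P : Subgroup G)) (hy1 : y ≠ 1) {B : Set (IrrCharacter G)} (hB : IsPBlock M B)
    (ϑ : IrrCharacter ↥(Subgroup.centralizer ((P : Subgroup G) : Set G)))
    (hnot : ¬ IsInducedBlock M (Subgroup.centralizer ((P : Subgroup G) : Set G))
      (blockOf M (ϑ : ↥(Subgroup.centralizer ((P : Subgroup G) : Set G)) → ℂ)) B)
    {χ : IrrCharacter G} (hχ : χ ∈ B) :
    fpart p (Subgroup.centralizer ((P : Subgroup G) : Set G)) (χ : G → ℂ)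
      (ϑ : ↥(Subgroup.centralizer ((P : Subgroup G) : Set G)) → ℂ) y = 0 := by
  have hMp : M.IsPrime := isPModular_isPrime hM
  have h := sum_block_fpart_mul_conj P hP hM hyP hy1 hB ϑ ϑ
  have hk : Fintype.card ↥(P : Subgroup G) = p ^ 1 := by
    rw [← Nat.card_eq_fintype_card, pow_one]; exact hP
  have hzero : ∀ ξ ∈ Finset.univ.filter (fun ξ : IrrCharacter ↥(Subgroup.centralizer
        ((P : Subgroup G) : Set G)) =>
        ξ ∈ inducingSet M (Subgroup.centralizer ((P : Subgroup G) : Set G)) B),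
      ((Finset.univ.filter (fun ψ : ↥(P : Subgroup G) →* ℂˣ =>
        twist (ppart P hP) ψ ϑ = ξ)).card : ℂ) *
      ((Finset.univ.filter (fun ψ : ↥(P : Subgroup G) →* ℂˣ =>
        twist (ppart P hP) ψ ϑ = ξ)).card : ℂ) = 0 := by
    intro ξ hξ
    simp only [Finset.mem_filter, Finset.mem_univ, true_and] at hξ
    have h0 : (Finset.univ.filter (fun ψ : ↥(P : Subgroup G) →* ℂˣ =>
        twist (ppart P hP) ψ ϑ = ξ)).card = 0 := by
      rw [Finset.card_eq_zero, Finset.filter_eq_empty_iff]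
      intro ψ _ heq
      apply hnot
      unfold inducingSet at hξ
      simp only [Set.mem_ofPred_eq] at hξ
      rw [blockOf_eq_of_sameBlock (sameBlock_twist (π := ppart P hP) hM hk ψ ϑ), heq]
      exact hξ
    rw [h0]
    simp
  rw [Finset.sum_eq_zero hzero] at h
  -- sum of norm squares
  have h2 : ∀ χ : IrrCharacter G,
      fpart p (Subgroup.centralizer ((P : Subgroup G) : Set G)) (χ : G → ℂ)
        (ϑ : ↥(Subgroup.centralizer ((P : Subgroup G) : Set G)) → ℂ) y *
      conj (fpart p (Subgroup.centralizer ((P : Subgroup G) : Set G)) (χ : G → ℂ)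
        (ϑ : ↥(Subgroup.centralizer ((P : Subgroup G) : Set G)) → ℂ) y) =
      ((Complex.normSq (fpart p (Subgroup.centralizer ((P : Subgroup G) : Set G)) (χ : G → ℂ)
        (ϑ : ↥(Subgroup.centralizer ((P : Subgroup G) : Set G)) → ℂ) y) : ℝ) : ℂ) := by
    intro χ
    exact Complex.mul_conj _
  rw [Finset.sum_congr rfl (fun χ _ => h2 χ), ← Complex.ofReal_sum, Complex.ofReal_eq_zero] at h
  have h3 := (Finset.sum_eq_zero_iff_of_nonneg (fun χ _ => Complex.normSq_nonneg _)).mp h χ
    (by simp [hχ])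
  exact Complex.normSq_eq_zero.mp h3

end Vanish

section Roots

variable {G : Type*} [Group G] [Fintype G] {p : ℕ} [hp : Fact p.Prime] (P : Sylow p G)
  (hP : Nat.card P = p)
variable [Fintype ↥(Subgroup.centralizer ((P : Subgroup G) : Set G))] [Fintype ↥(P : Subgroup G)]
  [IsMulCommutative ↥(P : Subgroup G)] [Fintype (↥(P : Subgroup G) →* ℂˣ)]
variable {M : Ideal AlgInt}

include hP in
/-- `InKer` in the literal form. -/
theorem apply_eq_of_inKer
    (ϑ : IrrCharacter ↥(Subgroup.centralizer ((P : Subgroup G) : Set G)))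
    (hϑ : InKer (Subgroup.inclusion (le_centralizer_of_card_prime hP))
      (ϑ : ↥(Subgroup.centralizer ((P : Subgroup G) : Set G)) → ℂ))
    (x : ↥(Subgroup.centralizer ((P : Subgroup G) : Set G))) (hx : (x : G) ∈ (P : Subgroup G)) :
    (ϑ : ↥(Subgroup.centralizer ((P : Subgroup G) : Set G)) → ℂ) x =
      (ϑ : ↥(Subgroup.centralizer ((P : Subgroup G) : Set G)) → ℂ) 1 := by
  have h := hϑ ⟨(x : G), hx⟩ 1
  rw [mul_one] at h
  rw [← h]
  congr 1

include hP in
/-- The canonical characters of the roots of `B` in `C_G(P)` are conjugate under `N_G(P)`. -/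
theorem exists_thetaConj_eq (hM : IsPModular p M) {B : Set (IrrCharacter G)}
    (hB : IsPBlock M B) (hBP : IsDefectGroup p M B (P : Subgroup G))
    (θ ϑ : IrrCharacter ↥(Subgroup.centralizer ((P : Subgroup G) : Set G)))
    (hθ : InKer (Subgroup.inclusion (le_centralizer_of_card_prime hP))
      (θ : ↥(Subgroup.centralizer ((P : Subgroup G) : Set G)) → ℂ))
    (hϑ : InKer (Subgroup.inclusion (le_centralizer_of_card_prime hP))
      (ϑ : ↥(Subgroup.centralizer ((P : Subgroup G) : Set G)) → ℂ))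
    (hind : IsInducedBlock M (Subgroup.centralizer ((P : Subgroup G) : Set G))
      (blockOf M (θ : ↥(Subgroup.centralizer ((P : Subgroup G) : Set G)) → ℂ)) B)
    (hind' : IsInducedBlock M (Subgroup.centralizer ((P : Subgroup G) : Set G))
      (blockOf M (ϑ : ↥(Subgroup.centralizer ((P : Subgroup G) : Set G)) → ℂ)) B) :
    ∃ (n : G) (hn : n ∈ Subgroup.normalizer ((P : Subgroup G) : Set G)),
      ϑ = thetaConj P n hn θ := by
  have hMp : M.IsPrime := isPModular_isPrime hM
  have hPC : (P : Subgroup G) ≤ Subgroup.centralizer ((P : Subgroup G) : Set G) :=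
    le_centralizer_of_card_prime hP
  haveI hCnorm : ((Subgroup.centralizer ((P : Subgroup G) : Set G)).subgroupOf
      (Subgroup.normalizer ((P : Subgroup G) : Set G))).Normal :=
    Subgroup.normal_subgroupOf_centralizer_normalizer _
  obtain ⟨n, hn, hconj⟩ := Cfsg.Agent.Lib.Helper82.exists_conj_of_isInducedBlock hM
    (P : Subgroup G) (Subgroup.centralizer ((P : Subgroup G) : Set G)) hPC le_rfl
    (Subgroup.centralizer_le_normalizer _) hB hBP hind hind'
  obtain ⟨θ', hθ', hval⟩ := hconj θ (self_mem_blockOf hMp.ne_top θ)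
  have heq : θ' = thetaConj P n hn θ := by
    apply Subtype.ext
    funext x
    have hx : n * (x : G) * n⁻¹ ∈ Subgroup.centralizer ((P : Subgroup G) : Set G) :=
      ((normalizer_le_normalizer_centralizer _ hn) (x : G)).mp x.2
    rw [hval x hx, thetaConj_eq_of_eq P n hn θ x ⟨n * (x : G) * n⁻¹, hx⟩ rfl]
  refine ⟨n, hn, ?_⟩
  rw [← heq]
  symm
  apply Cfsg.Agent.Lib.Helper78.UNIQ p M hM P hP ϑ θ'
    (apply_eq_of_inKer P hP ϑ hϑ)
  · rw [heq]
    exact apply_eq_of_inKer P hP _ (inKer_thetaConj P hP n hn θ hθ)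
  · exact hθ'

end Roots

section Determination

variable {G : Type*} [Group G] [Fintype G] {p : ℕ} [hp : Fact p.Prime] (P : Sylow p G)
  (hP : Nat.card P = p)
variable [Fintype ↥(Subgroup.centralizer ((P : Subgroup G) : Set G))] [Fintype ↥(P : Subgroup G)]
  [IsMulCommutative ↥(P : Subgroup G)] [Fintype (↥(P : Subgroup G) →* ℂˣ)]
variable {M : Ideal AlgInt}

include hP in
/-- Every `p`-singular element is conjugate to `y s` with `1 ≠ y ∈ P` and `s ∈ C_G(P)`
`p`-regular. -/
theorem exists_conj_eq_mul_of_dvd {g : G} (hg : p ∣ orderOf g) :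
    ∃ (h : G) (y : ↥(P : Subgroup G)) (s : ↥(Subgroup.centralizer ((P : Subgroup G) : Set G))),
      y ≠ 1 ∧ ¬ p ∣ orderOf s ∧ h * g * h⁻¹ = (y : G) * (s : G) := by
  obtain ⟨x, r, hxr, hcomm, ⟨k, hk⟩, hr⟩ := Cfsg.Agent.Lib.Helper78.exists_isPPart p g
  have hx1 : x ≠ 1 := by
    rintro rfl
    rw [one_mul] at hxr
    rw [hxr] at hr
    exact hr hg
  -- `x` lies in a Sylow subgroup
  have hxp : IsPGroup p (Subgroup.zpowers x) := by
    apply IsPGroup.of_card (n := k)
    rw [Nat.card_zpowers, hk]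
  obtain ⟨Q, hQ⟩ := hxp.exists_le_sylow
  obtain ⟨h, hh⟩ := MulAction.exists_smul_eq G Q P
  have hxQ : x ∈ (Q : Subgroup G) := hQ (Subgroup.mem_zpowers x)
  have hyP : h * x * h⁻¹ ∈ (P : Subgroup G) := by
    rw [← hh, Sylow.coe_subgroup_smul, Subgroup.mem_smul_pointwise_iff_exists]
    exact ⟨x, hxQ, by simp [MulAut.smul_def]⟩
  have hy1 : h * x * h⁻¹ ≠ 1 := by
    intro h1
    apply hx1
    have h2 : x = h⁻¹ * (h * x * h⁻¹) * h := by group
    rw [h2, h1]
    group
  have hcomm' : Commute (h * x * h⁻¹) (h * r * h⁻¹) := by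
    have h1 : (h * x * h⁻¹) * (h * r * h⁻¹) = h * (x * r) * h⁻¹ := by group
    have h2 : (h * r * h⁻¹) * (h * x * h⁻¹) = h * (r * x) * h⁻¹ := by group
    show (h * x * h⁻¹) * (h * r * h⁻¹) = (h * r * h⁻¹) * (h * x * h⁻¹)
    rw [h1, h2, hcomm.eq]
  have hsC : h * r * h⁻¹ ∈ Subgroup.centralizer ((P : Subgroup G) : Set G) :=
    (mem_centralizer_iff_commute hP hyP hy1 _).mpr hcomm'
  refine ⟨h, ⟨h * x * h⁻¹, hyP⟩, ⟨h * r * h⁻¹, hsC⟩, ?_, ?_, ?_⟩
  · intro h1
    exact hy1 (congrArg Subtype.val h1)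
  · rw [← Subgroup.orderOf_coe]
    show ¬ p ∣ orderOf (h * r * h⁻¹)
    have e : h * r * h⁻¹ = MulAut.conj h r := by simp
    rw [e, MulEquiv.orderOf_eq]
    exact hr
  · show h * g * h⁻¹ = (h * x * h⁻¹) * (h * r * h⁻¹)
    rw [← hxr]
    group

include hP in
open scoped Classical in
/-- **Determination**: a character of `B` is determined by its values on `p`-regular elements
and its `θ`-part on `P ∖ 1`. -/
theorem eq_of_pRegular_of_fpart (hM : IsPModular p M) {B : Set (IrrCharacter G)}
    (hB : IsPBlock M B) (hBP : IsDefectGroup p M B (P : Subgroup G))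
    (θ : IrrCharacter ↥(Subgroup.centralizer ((P : Subgroup G) : Set G)))
    (hθ : InKer (Subgroup.inclusion (le_centralizer_of_card_prime hP))
      (θ : ↥(Subgroup.centralizer ((P : Subgroup G) : Set G)) → ℂ))
    (hind : IsInducedBlock M (Subgroup.centralizer ((P : Subgroup G) : Set G))
      (blockOf M (θ : ↥(Subgroup.centralizer ((P : Subgroup G) : Set G)) → ℂ)) B)
    {χ χ' : IrrCharacter G} (hχ : χ ∈ B) (hχ' : χ' ∈ B)
    (hreg : ∀ g : G, ¬ p ∣ orderOf g → (χ : G → ℂ) g = (χ' : G → ℂ) g)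
    (hfp : ∀ y : G, y ∈ (P : Subgroup G) → y ≠ 1 →
      fpart p (Subgroup.centralizer ((P : Subgroup G) : Set G)) (χ : G → ℂ)
        (θ : ↥(Subgroup.centralizer ((P : Subgroup G) : Set G)) → ℂ) y =
      fpart p (Subgroup.centralizer ((P : Subgroup G) : Set G)) (χ' : G → ℂ)
        (θ : ↥(Subgroup.centralizer ((P : Subgroup G) : Set G)) → ℂ) y) : χ = χ' := by
  apply Subtype.ext
  funext g
  by_cases hg : p ∣ orderOf g
  · obtain ⟨h, y, s, hy, hs, hconj⟩ := exists_conj_eq_mul_of_dvd P hP hg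
    have hy1 : (y : G) ≠ 1 := fun h1 => hy (Subtype.ext h1)
    rw [← isClassFunction_irr χ g h, ← isClassFunction_irr χ' g h, hconj,
      apply_eq_sum_fpart P hP (isClassFunction_irr χ) y s hs,
      apply_eq_sum_fpart P hP (isClassFunction_irr χ') y s hs]
    apply Finset.sum_congr rfl
    intro ϑ hϑ
    simp only [Finset.mem_filter, Finset.mem_univ, true_and] at hϑ
    congr 1
    by_cases hind' : IsInducedBlock M (Subgroup.centralizer ((P : Subgroup G) : Set G))
        (blockOf M (ϑ : ↥(Subgroup.centralizer ((P : Subgroup G) : Set G)) → ℂ)) B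
    · obtain ⟨n, hn, rfl⟩ := exists_thetaConj_eq P hP hM hB hBP θ ϑ hθ hϑ hind hind'
      rw [← fpart_conj P (isClassFunction_irr χ) n hn θ (y : G),
        ← fpart_conj P (isClassFunction_irr χ') n hn θ (y : G)]
      apply hfp
      · exact (Subgroup.mem_normalizer_iff.mp hn (y : G)).mp y.2
      · intro h1
        apply hy1
        have h2 : (y : G) = n⁻¹ * (n * (y : G) * n⁻¹) * n := by group
        rw [h2, h1]
        group
    · rw [fpart_eq_zero_of_not_induced P hP hM y.2 hy1 hB ϑ hind' hχ,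
        fpart_eq_zero_of_not_induced P hP hM y.2 hy1 hB ϑ hind' hχ']
  · exact hreg g hg

end Determination

end Cfsg.Agent.Lib.Helper3.DefOneGen
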