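import Mathlib
import Cfsg.Agent.Lib.Helper3.DefOneGenExp
import Cfsg.Agent.Lib.Helper75.GaloisPow
import Cfsg.Agent.Lib.Helper76.PConj
import Cfsg.Agent.Lib.Helper81.IrrTwist
import Cfsg.Agent.Lib.Helper82.BlockInflation

set_option autoImplicit false
set_option linter.unusedSectionVars false

/-!
# General defect-one blocks: Galois action (helper3)
-/

namespace Cfsg.Agent.Lib.Helper3.DefOneGen

open Cfsg Cfsg.Agent.Lib.Helper78 Cfsg.Agent.Lib.Helper16
open scoped ComplexConjugate IsMulCommutative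

section GalBasic

variable {G : Type*} [Group G]

/-- The Galois conjugate of an irreducible character. -/
noncomputable def galConj (σ : ℂ ≃+* ℂ) (χ : IrrCharacter G) : IrrCharacter G :=
  ⟨fun g => σ ((χ : G → ℂ) g), Cfsg.Agent.Lib.Helper81.isIrrCharacter_galois χ.2 σ⟩

theorem galConj_apply (σ : ℂ ≃+* ℂ) (χ : IrrCharacter G) (g : G) :
    (galConj σ χ : G → ℂ) g = σ ((χ : G → ℂ) g) := rfl

theorem galConj_symm (σ : ℂ ≃+* ℂ) (χ : IrrCharacter G) : galConj σ.symm (galConj σ χ) = χ := by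
  apply Subtype.ext
  funext g
  rw [galConj_apply, galConj_apply, RingEquiv.symm_apply_apply]

/-- A field automorphism fixing `exp(2πi/n)` fixes the character values at elements of order
dividing `n`. -/
theorem galois_fix [Finite G] {χ : G → ℂ} (hχ : IsCharacter G χ) (n : ℕ) (hn : 0 < n)
    (σ : ℂ ≃+* ℂ)
    (hσ : σ (Complex.exp (2 * Real.pi * Complex.I / (n : ℕ))) =
      Complex.exp (2 * Real.pi * Complex.I / (n : ℕ)))
    (x : G) (hx : x ^ n = 1) : σ (χ x) = χ x := by
  obtain ⟨d, ρ, rfl⟩ := hχ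
  exact Cfsg.Agent.Lib.Helper76.ringEquiv_apply_character_eq ρ n hn σ hσ x hx

end GalBasic

section GalRegular

variable {G : Type*} [Group G] [Fintype G] {p : ℕ} [hp : Fact p.Prime]

/-- `p`-regular elements have order dividing the `p'`-part `n` of `|G| = p n`. -/
theorem pow_eq_one_of_pRegular {n : ℕ} (hG : Nat.card G = p * n) {g : G}
    (hg : ¬ p ∣ orderOf g) : g ^ n = 1 := by
  apply orderOf_dvd_iff_pow_eq_one.mp
  have h1 : orderOf g ∣ p * n := by rw [← hG]; exact orderOf_dvd_natCard g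
  have hcop : Nat.Coprime (orderOf g) p :=
    (Nat.Coprime.symm ((Nat.Prime.coprime_iff_not_dvd hp.out).mpr hg))
  exact hcop.dvd_of_dvd_mul_left h1

variable {M : Ideal AlgInt}

/-- The Galois conjugates under automorphisms fixing the `p'`-roots of unity stay in the block. -/
theorem galConj_mem_block (hM : IsPModular p M) {n : ℕ} (hn : 0 < n) (hG : Nat.card G = p * n)
    (σ : ℂ ≃+* ℂ)
    (hσ : σ (Complex.exp (2 * Real.pi * Complex.I / (n : ℕ))) =
      Complex.exp (2 * Real.pi * Complex.I / (n : ℕ)))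
    {B : Set (IrrCharacter G)} (hB : IsPBlock M B) {χ : IrrCharacter G} (hχ : χ ∈ B) :
    galConj σ χ ∈ B := by
  have hMp : M.IsPrime := isPModular_isPrime hM
  rw [IsPBlock_eq_blockOf hB hχ]
  show SameBlock M (χ : G → ℂ) (galConj σ χ : G → ℂ)
  rw [Cfsg.Agent.Lib.Helper82.sameBlock_iff_pRegular hM]
  intro g hg
  have hχc := IsIrrCharacter.isCharacter χ.2
  have h1 : (galConj σ χ : G → ℂ) g = (χ : G → ℂ) g := by
    rw [galConj_apply]
    exact galois_fix hχc n hn σ hσ g (pow_eq_one_of_pRegular hG hg)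
  have h2 : (galConj σ χ : G → ℂ) 1 = (χ : G → ℂ) 1 := by
    rw [galConj_apply]
    exact galois_fix hχc n hn σ hσ 1 (one_pow n)
  unfold centralChar
  rw [h1, h2, sub_self]
  exact memLocalIdeal_zero hMp.ne_top

end GalRegular

section GalFpart

variable {G : Type*} [Group G] [Fintype G] {p : ℕ} [hp : Fact p.Prime] (P : Sylow p G)
  (hP : Nat.card P = p)
variable [Fintype ↥(Subgroup.centralizer ((P : Subgroup G) : Set G))] [Fintype ↥(P : Subgroup G)]
  [IsMulCommutative ↥(P : Subgroup G)] [Fintype (↥(P : Subgroup G) →* ℂˣ)]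

open scoped Classical in
/-- The `θ`-part of a Galois conjugate. -/
theorem fpart_galConj {n : ℕ} (hn : 0 < n) (hG : Nat.card G = p * n) (σ : ℂ ≃+* ℂ)
    (hσ : σ (Complex.exp (2 * Real.pi * Complex.I / (n : ℕ))) =
      Complex.exp (2 * Real.pi * Complex.I / (n : ℕ)))
    (χ : IrrCharacter G)
    (θ : IrrCharacter ↥(Subgroup.centralizer ((P : Subgroup G) : Set G))) (y : G) :
    fpart p (Subgroup.centralizer ((P : Subgroup G) : Set G)) (galConj σ χ : G → ℂ)
      (θ : ↥(Subgroup.centralizer ((P : Subgroup G) : Set G)) → ℂ) y =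
    σ (fpart p (Subgroup.centralizer ((P : Subgroup G) : Set G)) (χ : G → ℂ)
      (θ : ↥(Subgroup.centralizer ((P : Subgroup G) : Set G)) → ℂ) y) := by
  unfold fpart
  rw [map_mul, map_div₀, map_natCast, map_natCast, map_sum]
  congr 1
  apply Finset.sum_congr rfl
  intro s _
  split_ifs with hs
  · rw [map_zero]
  · rw [map_mul, galConj_apply]
    congr 1
    -- `conj θ(s) = θ(s⁻¹)` is fixed by `σ`
    have hθc := IsIrrCharacter.isCharacter θ.2
    rw [← IsCharacter.inv hθc]
    symm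
    apply galois_fix hθc n hn σ hσ
    have hs' : ¬ p ∣ orderOf (s : G) := by rwa [Subgroup.orderOf_coe]
    have h1 := pow_eq_one_of_pRegular hG hs'
    rw [inv_pow]
    apply Subtype.ext
    rw [Subgroup.coe_inv, Subgroup.coe_pow, h1]
    simp

/-- An automorphism raising the `p`-th roots of unity to the `k`-th power moves the argument of
the `θ`-part of a character to its `k`-th power. -/
theorem map_fpart_eq_fpart_pow {χ : G → ℂ} (hχ : IsCharacter G χ)
    (θ : IrrCharacter ↥(Subgroup.centralizer ((P : Subgroup G) : Set G)))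
    (hθ : InKer (Subgroup.inclusion (le_centralizer_of_card_prime hP))
      (θ : ↥(Subgroup.centralizer ((P : Subgroup G) : Set G)) → ℂ))
    (σ : ℂ ≃+* ℂ) (k : ℕ) (hσk : ∀ z : ℂ, z ^ p = 1 → σ z = z ^ k) (y : ↥(P : Subgroup G)) :
    σ (fpart p (Subgroup.centralizer ((P : Subgroup G) : Set G)) χ
      (θ : ↥(Subgroup.centralizer ((P : Subgroup G) : Set G)) → ℂ) (y : G)) =
    fpart p (Subgroup.centralizer ((P : Subgroup G) : Set G)) χ
      (θ : ↥(Subgroup.centralizer ((P : Subgroup G) : Set G)) → ℂ) ((y ^ k : ↥(P : Subgroup G)) : G)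
      := by
  rw [fpart_eq_sum_dual P hP χ θ hθ y, fpart_eq_sum_dual P hP χ θ hθ (y ^ k), map_sum]
  apply Finset.sum_congr rfl
  intro ψ _
  have hres : IsCharacter ↥(Subgroup.centralizer ((P : Subgroup G) : Set G))
      (fun c : ↥(Subgroup.centralizer ((P : Subgroup G) : Set G)) => χ (c : G)) :=
    Cfsg.Agent.Lib.Helper80.isCharacter_restrict _ hχ
  obtain ⟨m, hm⟩ := IsCharacter.exists_nat_classInner hres (twist (ppart P hP) ψ θ)
  rw [hm, map_mul, map_natCast]
  congr 1
  have hpow : ((ψ y : ℂˣ) : ℂ) ^ p = 1 := by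
    rw [← Units.val_pow_eq_pow_val, ← map_pow]
    have h1 : y ^ p = 1 := by
      have h2 : y ^ Nat.card ↥(P : Subgroup G) = 1 := pow_card_eq_one'
      have hP' : Nat.card ↥(P : Subgroup G) = p := hP
      rwa [hP'] at h2
    rw [h1, map_one, Units.val_one]
  rw [hσk _ hpow, map_pow, Units.val_pow_eq_pow_val]

end GalFpart

section GalDetermine

variable {G : Type*} [Group G] [Fintype G] {p : ℕ} [hp : Fact p.Prime] (P : Sylow p G)
  (hP : Nat.card P = p)
variable [Fintype ↥(Subgroup.centralizer ((P : Subgroup G) : Set G))] [Fintype ↥(P : Subgroup G)]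
  [IsMulCommutative ↥(P : Subgroup G)] [Fintype (↥(P : Subgroup G) →* ℂˣ)]
  [Fintype ↥(Subgroup.normalizer ((P : Subgroup G) : Set G))]
variable {M : Ideal AlgInt}

include hP in
open scoped Classical in
/-- Identification of a Galois conjugate inside the block. -/
theorem galConj_eq_of_fpart (hM : IsPModular p M) {B : Set (IrrCharacter G)}
    (hB : IsPBlock M B) (hBP : IsDefectGroup p M B (P : Subgroup G))
    (θ : IrrCharacter ↥(Subgroup.centralizer ((P : Subgroup G) : Set G)))
    (hθ : InKer (Subgroup.inclusion (le_centralizer_of_card_prime hP))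
      (θ : ↥(Subgroup.centralizer ((P : Subgroup G) : Set G)) → ℂ))
    (hind : IsInducedBlock M (Subgroup.centralizer ((P : Subgroup G) : Set G))
      (blockOf M (θ : ↥(Subgroup.centralizer ((P : Subgroup G) : Set G)) → ℂ)) B)
    {n : ℕ} (hn : 0 < n) (hG : Nat.card G = p * n) (σ : ℂ ≃+* ℂ)
    (hσ : σ (Complex.exp (2 * Real.pi * Complex.I / (n : ℕ))) =
      Complex.exp (2 * Real.pi * Complex.I / (n : ℕ)))
    {η η' : IrrCharacter G} (hη : η ∈ B) (hη' : η' ∈ B)
    (hreg : ∀ g : G, ¬ p ∣ orderOf g → (η : G → ℂ) g = (η' : G → ℂ) g)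
    (hfp : ∀ y : G, y ∈ (P : Subgroup G) → y ≠ 1 →
      fpart p (Subgroup.centralizer ((P : Subgroup G) : Set G)) (η' : G → ℂ)
        (θ : ↥(Subgroup.centralizer ((P : Subgroup G) : Set G)) → ℂ) y =
      σ (fpart p (Subgroup.centralizer ((P : Subgroup G) : Set G)) (η : G → ℂ)
        (θ : ↥(Subgroup.centralizer ((P : Subgroup G) : Set G)) → ℂ) y)) :
    galConj σ η = η' := by
  apply eq_of_pRegular_of_fpart P hP hM hB hBP θ hθ hind
    (galConj_mem_block hM hn hG σ hσ hB hη) hη'
  · intro g hg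
    rw [galConj_apply, galois_fix (IsIrrCharacter.isCharacter η.2) n hn σ hσ g
      (pow_eq_one_of_pRegular hG hg)]
    exact hreg g hg
  · intro y hy hy1
    rw [fpart_galConj P hn hG σ hσ η θ y, hfp y hy hy1]

end GalDetermine

section GalExists

/-- For `k` prime to `p` and `n` prime to `p` there is a field automorphism of `ℂ` fixing
`exp(2πi/n)` and raising every `p`-th root of unity to its `k`-th power. -/
theorem exists_ringEquiv_fix_pow (n p : ℕ) (hp : p.Prime) (hn0 : 0 < n) (hn : ¬ p ∣ n) (k : ℕ)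
    (hk : ¬ p ∣ k) :
    ∃ σ : ℂ ≃+* ℂ, σ (Complex.exp (2 * Real.pi * Complex.I / (n : ℕ))) =
        Complex.exp (2 * Real.pi * Complex.I / (n : ℕ)) ∧
      ∀ z : ℂ, z ^ p = 1 → σ z = z ^ k := by
  have hcop : Nat.Coprime p n := (Nat.Prime.coprime_iff_not_dvd hp).mpr hn
  obtain ⟨k', hk'p, hk'n⟩ := Nat.chineseRemainder hcop k 1
  have hcopk : Nat.Coprime k' (p * n) := by
    apply Nat.Coprime.mul_right
    · -- gcd(k', p) = 1
      rw [Nat.coprime_comm, Nat.Prime.coprime_iff_not_dvd hp]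
      intro hdvd
      apply hk
      have h1 : k' % p = 0 := Nat.mod_eq_zero_of_dvd hdvd
      have h2 : k % p = 0 := by rw [← hk'p, h1]
      exact Nat.dvd_of_mod_eq_zero h2
    · -- gcd(k', n) = 1
      have h1 : Nat.gcd k' n = Nat.gcd 1 n := Nat.ModEq.gcd_eq hk'n
      rw [Nat.Coprime, h1, Nat.gcd_one_left]
  have hN : 0 < p * n := Nat.mul_pos hp.pos hn0
  obtain ⟨σ, hσ⟩ := Cfsg.Agent.Lib.Helper75.exists_ringEquiv_pow (p * n) hN k' hcopk
  refine ⟨σ, ?_, ?_⟩
  · have hω : Complex.exp (2 * Real.pi * Complex.I / (n : ℕ)) ^ n = 1 :=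
      (Complex.isPrimitiveRoot_exp n hn0.ne').pow_eq_one
    have hωN : Complex.exp (2 * Real.pi * Complex.I / (n : ℕ)) ^ (p * n) = 1 := by
      rw [show p * n = n * p from mul_comm p n, pow_mul, hω, one_pow]
    rw [hσ _ hωN, pow_eq_pow_mod k' hω, hk'n, ← pow_eq_pow_mod 1 hω, pow_one]
  · intro z hz
    have hzN : z ^ (p * n) = 1 := by rw [pow_mul, hz, one_pow]
    rw [hσ z hzN, pow_eq_pow_mod k' hz, hk'p, ← pow_eq_pow_mod k hz]

end GalExists

end Cfsg.Agent.Lib.Helper3.DefOneGen
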