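import Mathlib
import Cfsg.Agent.Lib.Helper3.DefOneGenData

set_option autoImplicit false
set_option linter.unusedSectionVars false

/-!
# General defect-one blocks: normalized data with the Galois relation on the exceptional
family (helper3)
-/

namespace Cfsg.Agent.Lib.Helper3.DefOneGen

open Cfsg Cfsg.Agent.Lib.Helper78 Cfsg.Agent.Lib.Helper16
open scoped ComplexConjugate IsMulCommutative

section OrbitPow

variable {G : Type*} [Group G] [Fintype G] {p : ℕ} [hp : Fact p.Prime] (P : Sylow p G)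
  (hP : Nat.card P = p)
variable [Fintype ↥(P : Subgroup G)] [IsMulCommutative ↥(P : Subgroup G)]
  [Fintype (↥(P : Subgroup G) →* ℂˣ)]

include hP in
theorem dual_pow_card_apply (φ : ↥(P : Subgroup G) →* ℂˣ) (y : ↥(P : Subgroup G)) :
    (φ y) ^ p = 1 := by
  rw [← map_pow]
  have h1 : y ^ p = 1 := by
    have h2 : y ^ Nat.card ↥(P : Subgroup G) = 1 := pow_card_eq_one'
    have hP' : Nat.card ↥(P : Subgroup G) = p := hP
    rwa [hP'] at h2
  rw [h1, map_one]

include hP in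
/-- Two nontrivial linear characters of `P` are powers of each other. -/
theorem exists_pow_eq_of_ne_one (ψ ψ' : ↥(P : Subgroup G) →* ℂˣ) (hψ : ψ ≠ 1) (hψ' : ψ' ≠ 1) :
    ∃ k : ℕ, ¬ p ∣ k ∧ ψ' = ψ ^ k := by
  have hcard : Nat.card (↥(P : Subgroup G) →* ℂˣ) = p := by
    rw [Nat.card_eq_fintype_card, dual_card, ← Nat.card_eq_fintype_card]
    exact hP
  have htop := zpowers_eq_top_of_prime_card hcard hψ
  have hmem : ψ' ∈ Subgroup.zpowers ψ := by rw [htop]; exact Subgroup.mem_top _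
  rw [← mem_powers_iff_mem_zpowers] at hmem
  obtain ⟨k, hk⟩ := (Submonoid.mem_powers_iff _ _).mp hmem
  have hk' : ψ' = ψ ^ k := by
    ext y
    rw [← hk]
  refine ⟨k, ?_, hk'⟩
  rintro ⟨j, rfl⟩
  apply hψ'
  ext y
  rw [hk', MonoidHom.pow_apply, pow_mul, dual_pow_card_apply P hP, one_pow]
  rfl

include hP in
/-- Reindexing the orbit sum of a power. -/
theorem finsum_orbit_pow (T : Subgroup G) (ψ : ↥(P : Subgroup G) →* ℂˣ) (k : ℕ) (hk : ¬ p ∣ k)
    (y : ↥(P : Subgroup G)) :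
    ∑ᶠ φ ∈ {φ : ↥(P : Subgroup G) →* ℂˣ | ∃ n : G, n ∈ T ∧
        ∀ w w' : ↥(P : Subgroup G), (w' : G) = n * w * n⁻¹ → φ w' = (ψ ^ k) w},
      ((φ y : ℂˣ) : ℂ) =
    ∑ᶠ φ ∈ {φ : ↥(P : Subgroup G) →* ℂˣ | ∃ n : G, n ∈ T ∧
        ∀ w w' : ↥(P : Subgroup G), (w' : G) = n * w * n⁻¹ → φ w' = ψ w},
      ((φ (y ^ k) : ℂˣ) : ℂ) := by
  have hpp : p.Prime := hp.out
  have hcop : Nat.Coprime k p :=
    (Nat.Coprime.symm ((Nat.Prime.coprime_iff_not_dvd hpp).mpr hk))
  obtain ⟨l, -, hl⟩ := Nat.exists_mul_mod_eq_one_of_coprime hcop hpp.one_lt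
  have hkl : ∀ φ : ↥(P : Subgroup G) →* ℂˣ, (φ ^ k) ^ l = φ := by
    intro φ
    ext y
    rw [MonoidHom.pow_apply, MonoidHom.pow_apply, ← pow_mul,
      pow_eq_pow_mod (k * l) (dual_pow_card_apply P hP φ y), hl, pow_one]
  symm
  apply finsum_mem_eq_of_bijOn (fun φ : ↥(P : Subgroup G) →* ℂˣ => φ ^ k)
  · refine ⟨?_, ?_, ?_⟩
    · rintro φ ⟨n, hn, h⟩
      refine ⟨n, hn, ?_⟩
      intro w w' hw
      rw [MonoidHom.pow_apply, MonoidHom.pow_apply, h w w' hw]
    · intro φ₁ _ φ₂ _ heq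
      have := congrArg (fun φ : ↥(P : Subgroup G) →* ℂˣ => φ ^ l) heq
      simp only at this
      rwa [hkl, hkl] at this
    · rintro χ ⟨n, hn, h⟩
      refine ⟨χ ^ l, ⟨n, hn, ?_⟩, ?_⟩
      · intro w w' hw
        rw [MonoidHom.pow_apply, h w w' hw, ← MonoidHom.pow_apply, hkl]
      · show (χ ^ l) ^ k = χ
        have h2 := hkl χ
        ext y
        have h3 := congrArg (fun φ : ↥(P : Subgroup G) →* ℂˣ => ((φ y : ℂˣ) : ℂ)) h2
        simp only [MonoidHom.pow_apply] at h3 ⊢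
        rw [← h3]
        push_cast
        rw [← pow_mul, ← pow_mul, mul_comm]
  · intro φ _
    rw [MonoidHom.pow_apply, map_pow]

end OrbitPow

section DataLt2

variable {G : Type*} [Group G] [Fintype G] {p : ℕ} [hp : Fact p.Prime] (P : Sylow p G)
  (hP : Nat.card P = p)
variable [Fintype ↥(Subgroup.centralizer ((P : Subgroup G) : Set G))] [Fintype ↥(P : Subgroup G)]
  [IsMulCommutative ↥(P : Subgroup G)] [Fintype (↥(P : Subgroup G) →* ℂˣ)]
  [Fintype ↥(Subgroup.normalizer ((P : Subgroup G) : Set G))]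
variable {M : Ideal AlgInt}

include hP in
open scoped Classical in
/-- **The case `e + 1 < p`.** -/
theorem defect_one_gen_lt' (hM : IsPModular p M) {B : Set (IrrCharacter G)} (hB : IsPBlock M B)
    (θ : IrrCharacter ↥(Subgroup.centralizer ((P : Subgroup G) : Set G)))
    (hθ : InKer (Subgroup.inclusion (le_centralizer_of_card_prime hP))
      (θ : ↥(Subgroup.centralizer ((P : Subgroup G) : Set G)) → ℂ))
    (hind : IsInducedBlock M (Subgroup.centralizer ((P : Subgroup G) : Set G))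
      (blockOf M (θ : ↥(Subgroup.centralizer ((P : Subgroup G) : Set G)) → ℂ)) B)
    (T : Subgroup G) (hTN : T ≤ Subgroup.normalizer ((P : Subgroup G) : Set G))
    (hT : ∀ (n : G) (hn : n ∈ Subgroup.normalizer ((P : Subgroup G) : Set G)),
      n ∈ T ↔ thetaConj P n hn θ = θ)
    (e : ℕ) (hCT : (Subgroup.centralizer ((P : Subgroup G) : Set G)).relIndex T = e)
    (hlt : e + 1 < p) :
    Nat.card B ≤ e + (p - 1) / e ∧
      (e + (p - 1) / e ≤ Nat.card B →
        ∃ (ε : ℤ) (a : IrrCharacter G → ℤ) (X Y : Finset (IrrCharacter G)),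
          DefOneGenData P B θ e ε a X Y ∧
            ∀ η ∈ Y, ∀ η' ∈ Y, ∃ k : ℕ, ¬ p ∣ k ∧ ∀ y : ↥(P : Subgroup G), y ≠ 1 →
              fpart p (Subgroup.centralizer ((P : Subgroup G) : Set G)) (η' : G → ℂ)
                (θ : ↥(Subgroup.centralizer ((P : Subgroup G) : Set G)) → ℂ) (y : G) =
              fpart p (Subgroup.centralizer ((P : Subgroup G) : Set G)) (η : G → ℂ)
                (θ : ↥(Subgroup.centralizer ((P : Subgroup G) : Set G)) → ℂ)
                ((y ^ k : ↥(P : Subgroup G)) : G)) := by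
  have hpp : p.Prime := hp.out
  have hMp : M.IsPrime := isPModular_isPrime hM
  have hθb : θ ∈ blockOf M (θ : ↥(Subgroup.centralizer ((P : Subgroup G) : Set G)) → ℂ) :=
    self_mem_blockOf hMp.ne_top θ
  obtain ⟨δ, d, ζ, a, Y, hδ, hYB, hζY, hYsurj, hζR, hYcard, haout, hX, hval, hnorm,
    hreg⟩ := main_aux_gen P hP hM hB θ hθ hind T hTN hT e hCT hlt
  -- `e` is positive and `|Y| = (p - 1) / e ≥ 2`
  have he0 : 0 < e := by
    rcases Nat.eq_zero_or_pos e with h | h
    · rw [h, mul_zero] at hYcard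
      have := hpp.two_le
      omega
    · exact h
  have hYdiv : Y.card = (p - 1) / e := (Nat.div_eq_of_eq_mul_left he0 hYcard.symm).symm
  have hY2 : 2 ≤ Y.card := by
    by_contra hc
    push Not at hc
    have h1 : Y.card * e ≤ 1 * e := Nat.mul_le_mul_right e (by omega)
    omega
  obtain ⟨y₀, hy₀⟩ := exists_ne_one_of_card P hP
  -- the nonexceptional characters
  obtain ⟨X, hXdef⟩ : ∃ X : Finset (IrrCharacter G),
      X = Finset.univ.filter (fun χ => χ ∈ B ∧ χ ∉ Y) := ⟨_, rfl⟩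
  have hmemX : ∀ χ, χ ∈ X ↔ χ ∈ B ∧ χ ∉ Y := by
    intro χ
    rw [hXdef]
    simp
  have hdisj : Disjoint X Y := by
    rw [Finset.disjoint_left]
    intro χ hχ
    exact ((hmemX χ).mp hχ).2
  have hunion : Finset.univ.filter (fun χ : IrrCharacter G => χ ∈ B) = X ∪ Y := by
    ext χ
    simp only [Finset.mem_filter, Finset.mem_univ, true_and, Finset.mem_union, hmemX]
    constructor
    · intro h
      by_cases hY : χ ∈ Y
      · exact Or.inr hY
      · exact Or.inl ⟨h, hY⟩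
    · rintro (h | h)
      · exact h.1
      · exact hYB χ h
  have hcardB : Nat.card B = X.card + Y.card := by
    rw [card_block_eq_card_filter, hunion, Finset.card_union_of_disjoint hdisj]
  -- the values `a χ` are nonzero on `X`
  have haX0 : ∀ χ ∈ X, a χ ≠ 0 := by
    intro χ hχ h0
    have h1 := (hmemX χ).mp hχ
    have h2 := hX χ h1.1 h1.2 y₀ hy₀
    rw [h0] at h2
    apply fpart_not_memLocalIdeal P hP hM hind hθb hθ h1.1 y₀ hy₀ T hTN hT
    rw [h2]
    simpa using memLocalIdeal_zero (M := M) hMp.ne_top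
  have hsplit : ∀ {N : Type} [AddCommMonoid N] (f : IrrCharacter G → N),
      (∀ χ, χ ∉ B → f χ = 0) →
      ∑ χ ∈ Finset.univ.filter (· ∉ Y), f χ = ∑ χ ∈ X, f χ := by
    intro N _ f hf
    rw [hXdef]
    symm
    apply Finset.sum_subset
    · intro χ hχ
      simp only [Finset.mem_filter, Finset.mem_univ, true_and] at hχ ⊢
      exact hχ.2
    · intro χ hχ hχ'
      simp only [Finset.mem_filter, Finset.mem_univ, true_and] at hχ hχ'
      apply hf
      intro hB
      exact hχ' ⟨hB, hχ⟩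
  have hSX : ∑ χ ∈ Finset.univ.filter (· ∉ Y), a χ ^ 2 = ∑ χ ∈ X, a χ ^ 2 :=
    hsplit (fun χ => a χ ^ 2) (fun χ hχ => by
      show a χ ^ 2 = 0
      rw [haout χ hχ]
      norm_num)
  rw [hSX] at hnorm
  have hge1 : ∀ χ ∈ X, 1 ≤ a χ ^ 2 := by
    intro χ hχ
    rw [one_le_sq_iff_one_le_abs]
    exact Int.one_le_abs (haX0 χ hχ)
  have hSge : (X.card : ℤ) ≤ ∑ χ ∈ X, a χ ^ 2 := by
    have h1 : ∑ χ ∈ X, (1 : ℤ) ≤ ∑ χ ∈ X, a χ ^ 2 := Finset.sum_le_sum hge1
    rw [Finset.sum_const, nsmul_eq_mul, mul_one] at h1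
    exact h1
  -- the upper bound
  have hk1 : (1 : ℤ) ≤ (Y.card : ℤ) - 1 := by
    have : (2 : ℤ) ≤ (Y.card : ℤ) := by exact_mod_cast hY2
    linarith
  have hpos : 1 ≤ (d - δ) ^ 2 + ((Y.card : ℤ) - 1) * d ^ 2 := by
    by_cases hd : d = 0
    · rw [hd]
      rcases hδ with h | h <;> rw [h] <;> norm_num
    · have h1 : 1 ≤ d ^ 2 := by
        rw [one_le_sq_iff_one_le_abs]
        exact Int.one_le_abs hd
      have h2 : 1 * 1 ≤ ((Y.card : ℤ) - 1) * d ^ 2 :=
        mul_le_mul hk1 h1 (by norm_num) (by linarith)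
      linarith [sq_nonneg (d - δ)]
  have hXle : X.card ≤ e := by
    have h1 : (X.card : ℤ) ≤ (e : ℤ) := by linarith
    exact_mod_cast h1
  refine ⟨by rw [hcardB, ← hYdiv]; omega, ?_⟩
  intro hk
  have hXge : e ≤ X.card := by omega
  have hSe : (e : ℤ) ≤ ∑ χ ∈ X, a χ ^ 2 := by
    have : (e : ℤ) ≤ (X.card : ℤ) := by exact_mod_cast hXge
    linarith
  obtain ⟨hS, hd⟩ := norm_cases_general hδ hY2 hSe hnorm
  have hXcard : X.card = e := by omega
  have haX1 : ∀ χ ∈ X, a χ ^ 2 = 1 := by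
    have h1 : ∑ χ ∈ X, (a χ ^ 2 - 1) = 0 := by
      rw [Finset.sum_sub_distrib, hS, Finset.sum_const, nsmul_eq_mul, mul_one, hXcard]
      ring
    intro χ hχ
    have h2 := (Finset.sum_eq_zero_iff_of_nonneg (fun χ hχ => by
      have := hge1 χ hχ
      linarith)).mp h1 χ hχ
    linarith
  have haXpm : ∀ χ ∈ X, a χ = 1 ∨ a χ = -1 := by
    intro χ hχ
    have h1 := haX1 χ hχ
    have h3 : a χ ≤ 1 ∧ -1 ≤ a χ := by constructor <;> nlinarith
    obtain ⟨h4, h5⟩ := h3
    have h6 : a χ = -1 ∨ a χ = 0 ∨ a χ = 1 := by omega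
    rcases h6 with h6 | h6 | h6
    · exact Or.inr h6
    · rw [h6] at h1
      norm_num at h1
    · exact Or.inl h6
  -- the sign
  obtain ⟨ε, hεdef⟩ : ∃ ε : ℤ, ε = δ - (Y.card : ℤ) * d := ⟨_, rfl⟩
  have hεpm : ε = 1 ∨ ε = -1 := by
    rcases hd with hd | ⟨hd, hY⟩
    · rw [hεdef, hd, mul_zero, sub_zero]
      exact hδ
    · rw [hεdef, hd, hY]
      rcases hδ with h | h <;> rw [h] <;> norm_num
  refine ⟨ε, a, X, Y, ⟨hεpm, ?_, hdisj, hXcard, hYdiv, haXpm, ?_, ?_, ?_⟩, ?_⟩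
  · intro χ
    have h1 : χ ∈ Finset.univ.filter (fun χ : IrrCharacter G => χ ∈ B) ↔
        χ ∈ X ∪ Y := by rw [hunion]
    simpa using h1
  · intro χ hχ y hy hy1
    have h1 := (hmemX χ).mp hχ
    exact hX χ h1.1 h1.2 ⟨y, hy⟩ (fun h => hy1 (congrArg Subtype.val h))
  · intro g hg
    exact (hreg g hg).1
  · intro g hg η hη
    have h1 := (hreg g hg).2 η hη
    rw [hsplit (fun χ => (a χ : ℂ) * (χ : G → ℂ) g) (fun χ hχ => by
      show (a χ : ℂ) * (χ : G → ℂ) g = 0
      rw [haout χ hχ]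
      simp)] at h1
    rw [hεdef]
    push_cast
    linear_combination -h1
  · intro η hη η' hη'
    obtain ⟨ψ, hψ, rfl⟩ := hYsurj η hη
    obtain ⟨ψ', hψ', rfl⟩ := hYsurj η' hη'
    obtain ⟨k, hk, hpow⟩ := exists_pow_eq_of_ne_one P hP ψ ψ' hψ hψ'
    refine ⟨k, hk, ?_⟩
    intro y hy
    have hyk : y ^ k ≠ 1 := by
      intro h
      have h1 : orderOf y ∣ k := orderOf_dvd_of_pow_eq_one h
      have h2 : orderOf y = p := by
        have h3 : orderOf y ∣ p := by
          have h4 : orderOf y ∣ Nat.card ↥(P : Subgroup G) := orderOf_dvd_natCard y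
          have hP' : Nat.card ↥(P : Subgroup G) = p := hP
          rwa [hP'] at h4
        rcases (Nat.dvd_prime hpp).mp h3 with h5 | h5
        · exact absurd (orderOf_eq_one_iff.mp h5) hy
        · exact h5
      rw [h2] at h1
      exact hk h1
    rw [hval ψ' hψ' y hy, hval ψ hψ (y ^ k) hyk, hpow, finsum_orbit_pow P hP T ψ k hk y]

end DataLt2

section DataTop2

variable {G : Type*} [Group G] [Fintype G] {p : ℕ} [hp : Fact p.Prime] (P : Sylow p G)
  (hP : Nat.card P = p)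
variable [Fintype ↥(Subgroup.centralizer ((P : Subgroup G) : Set G))] [Fintype ↥(P : Subgroup G)]
  [IsMulCommutative ↥(P : Subgroup G)] [Fintype (↥(P : Subgroup G) →* ℂˣ)]
  [Fintype ↥(Subgroup.normalizer ((P : Subgroup G) : Set G))]
variable {M : Ideal AlgInt}

include hP in
open scoped Classical in
/-- **The case `e = p - 1`.** -/
theorem defect_one_gen_top' (hM : IsPModular p M) {B : Set (IrrCharacter G)} (hB : IsPBlock M B)
    (θ : IrrCharacter ↥(Subgroup.centralizer ((P : Subgroup G) : Set G)))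
    (hθ : InKer (Subgroup.inclusion (le_centralizer_of_card_prime hP))
      (θ : ↥(Subgroup.centralizer ((P : Subgroup G) : Set G)) → ℂ))
    (hind : IsInducedBlock M (Subgroup.centralizer ((P : Subgroup G) : Set G))
      (blockOf M (θ : ↥(Subgroup.centralizer ((P : Subgroup G) : Set G)) → ℂ)) B)
    (T : Subgroup G) (hTN : T ≤ Subgroup.normalizer ((P : Subgroup G) : Set G))
    (hT : ∀ (n : G) (hn : n ∈ Subgroup.normalizer ((P : Subgroup G) : Set G)),
      n ∈ T ↔ thetaConj P n hn θ = θ)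
    (e : ℕ) (hCT : (Subgroup.centralizer ((P : Subgroup G) : Set G)).relIndex T = e)
    (hep : e = p - 1) :
    Nat.card B ≤ e + (p - 1) / e ∧
      (e + (p - 1) / e ≤ Nat.card B →
        ∃ (ε : ℤ) (a : IrrCharacter G → ℤ) (X Y : Finset (IrrCharacter G)),
          DefOneGenData P B θ e ε a X Y ∧
            ∀ η ∈ Y, ∀ η' ∈ Y, ∃ k : ℕ, ¬ p ∣ k ∧ ∀ y : ↥(P : Subgroup G), y ≠ 1 →
              fpart p (Subgroup.centralizer ((P : Subgroup G) : Set G)) (η' : G → ℂ)
                (θ : ↥(Subgroup.centralizer ((P : Subgroup G) : Set G)) → ℂ) (y : G) =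
              fpart p (Subgroup.centralizer ((P : Subgroup G) : Set G)) (η : G → ℂ)
                (θ : ↥(Subgroup.centralizer ((P : Subgroup G) : Set G)) → ℂ)
                ((y ^ k : ↥(P : Subgroup G)) : G)) := by
  have hpp : p.Prime := hp.out
  have hp2 := hpp.two_le
  have hMp : M.IsPrime := isPModular_isPrime hM
  have hθb : θ ∈ blockOf M (θ : ↥(Subgroup.centralizer ((P : Subgroup G) : Set G)) → ℂ) :=
    self_mem_blockOf hMp.ne_top θ
  have hdiv1 : (p - 1) / e = 1 := by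
    rw [hep]
    exact Nat.div_self (by omega)
  obtain ⟨y₀, hy₀⟩ := exists_ne_one_of_card P hP
  have hy₀1 : (y₀ : G) ≠ 1 := fun h => hy₀ (Subtype.ext h)
  -- constancy on `P ∖ 1`
  have hconj : ∀ χ : IrrCharacter G, ∀ y : G, y ∈ (P : Subgroup G) → y ≠ 1 →
      fpart p (Subgroup.centralizer ((P : Subgroup G) : Set G)) (χ : G → ℂ)
        (θ : ↥(Subgroup.centralizer ((P : Subgroup G) : Set G)) → ℂ) y =
      fpart p (Subgroup.centralizer ((P : Subgroup G) : Set G)) (χ : G → ℂ)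
        (θ : ↥(Subgroup.centralizer ((P : Subgroup G) : Set G)) → ℂ) (y₀ : G) := by
    intro χ y hy hy1
    obtain ⟨n, hn, hval⟩ := exists_conj_of_relIndex_eq P hP T hTN (by rw [hCT, hep]) y₀ ⟨y, hy⟩
      hy₀ (fun h => hy1 (congrArg Subtype.val h))
    have hval' : y = n * (y₀ : G) * n⁻¹ := hval.symm
    rw [hval', fpart_conj_of_mem P hP (isClassFunction_irr χ) θ T hTN hT hn]
  -- a nontrivial linear character of `P`
  obtain ⟨ψ₀, hψ₀⟩ : ∃ ψ₀ : ↥(P : Subgroup G) →* ℂˣ, ψ₀ ≠ 1 := by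
    have h1 : 1 < Fintype.card (↥(P : Subgroup G) →* ℂˣ) := by
      rw [dual_card, ← Nat.card_eq_fintype_card]
      have hP' : Nat.card (P : Subgroup G) = p := hP
      omega
    haveI := Fintype.one_lt_card_iff_nontrivial.mp h1
    exact exists_ne 1
  -- the values are integers
  have hint : ∀ χ : IrrCharacter G, ∃ c : ℤ,
      fpart p (Subgroup.centralizer ((P : Subgroup G) : Set G)) (χ : G → ℂ)
        (θ : ↥(Subgroup.centralizer ((P : Subgroup G) : Set G)) → ℂ) (y₀ : G) = (c : ℂ) := by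
    intro χ
    obtain ⟨k, hk⟩ := exists_int_gco_fpart P hP (IsIrrCharacter.isCharacter χ.2) θ hθ ψ₀
    refine ⟨k, ?_⟩
    rw [← hk]
    symm
    apply gco_eq_of_const P hP _ _ _ ψ₀ hψ₀
    intro y hy
    exact hconj χ (y : G) y.2 (fun h => hy (Subtype.ext h))
  choose a ha using hint
  -- the block as a finset
  obtain ⟨Bf, hBdef⟩ : ∃ Bf : Finset (IrrCharacter G),
      Bf = Finset.univ.filter (fun χ : IrrCharacter G => χ ∈ B) := ⟨_, rfl⟩
  have hmemB : ∀ χ, χ ∈ Bf ↔ χ ∈ B := by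
    intro χ
    rw [hBdef]
    simp
  have hcardB : Nat.card B = Bf.card := by rw [card_block_eq_card_filter, hBdef]
  -- the norm relation
  have hnorm : ∑ χ ∈ Bf, a χ ^ 2 = (p : ℤ) := by
    have h1 := sum_block_fpart_normSq P hP hM y₀.2 hy₀1 hB θ hθ hind
    rw [← hBdef] at h1
    have h2 : ((∑ χ ∈ Bf, a χ ^ 2 : ℤ) : ℂ) = ((p : ℤ) : ℂ) := by
      push_cast
      rw [← h1]
      apply Finset.sum_congr rfl
      intro χ _
      rw [ha χ, map_intCast]
      ring
    exact_mod_cast h2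
  have haB0 : ∀ χ ∈ Bf, a χ ≠ 0 := by
    intro χ hχ h0
    have h1 := ha χ
    rw [h0] at h1
    apply fpart_not_memLocalIdeal P hP hM hind hθb hθ ((hmemB χ).mp hχ) y₀ hy₀ T hTN hT
    rw [h1]
    simpa using memLocalIdeal_zero (M := M) hMp.ne_top
  have hge1 : ∀ χ ∈ Bf, 1 ≤ a χ ^ 2 := by
    intro χ hχ
    rw [one_le_sq_iff_one_le_abs]
    exact Int.one_le_abs (haB0 χ hχ)
  have hSge : (Bf.card : ℤ) ≤ ∑ χ ∈ Bf, a χ ^ 2 := by
    have h1 : ∑ χ ∈ Bf, (1 : ℤ) ≤ ∑ χ ∈ Bf, a χ ^ 2 := Finset.sum_le_sum hge1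
    rw [Finset.sum_const, nsmul_eq_mul, mul_one] at h1
    exact h1
  have hBle : Bf.card ≤ p := by
    have h1 : (Bf.card : ℤ) ≤ (p : ℤ) := by linarith
    exact_mod_cast h1
  refine ⟨by rw [hcardB, hdiv1, hep]; omega, ?_⟩
  intro hk
  rw [hcardB, hdiv1, hep] at hk
  have hBcard' : Bf.card = p := by omega
  have haB1 : ∀ χ ∈ Bf, a χ ^ 2 = 1 := by
    have h1 : ∑ χ ∈ Bf, (a χ ^ 2 - 1) = 0 := by
      rw [Finset.sum_sub_distrib, hnorm, Finset.sum_const, nsmul_eq_mul, mul_one, hBcard']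
      ring
    intro χ hχ
    have h2 := (Finset.sum_eq_zero_iff_of_nonneg (fun χ hχ => by
      have := hge1 χ hχ
      linarith)).mp h1 χ hχ
    linarith
  have haBpm : ∀ χ ∈ Bf, a χ = 1 ∨ a χ = -1 := by
    intro χ hχ
    have h1 := haB1 χ hχ
    have h3 : a χ ≤ 1 ∧ -1 ≤ a χ := by constructor <;> nlinarith
    obtain ⟨h4, h5⟩ := h3
    have h6 : a χ = -1 ∨ a χ = 0 ∨ a χ = 1 := by omega
    rcases h6 with h6 | h6 | h6
    · exact Or.inr h6
    · rw [h6] at h1
      norm_num at h1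
    · exact Or.inl h6
  obtain ⟨η₀, hη₀⟩ : Bf.Nonempty := by
    rw [← Finset.card_pos, hBcard']
    omega
  refine ⟨-a η₀, a, Bf.erase η₀, {η₀}, ⟨?_, ?_, ?_, ?_, ?_, ?_, ?_, ?_, ?_⟩, ?_⟩
  · rcases haBpm η₀ hη₀ with h | h <;> rw [h]
    · exact Or.inr rfl
    · exact Or.inl (by norm_num)
  · intro χ
    rw [← hmemB, Finset.mem_erase, Finset.mem_singleton]
    constructor
    · intro h
      by_cases h1 : χ = η₀
      · exact Or.inr h1
      · exact Or.inl ⟨h1, h⟩
    · rintro (h | h)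
      · exact h.2
      · rw [h]
        exact hη₀
  · rw [Finset.disjoint_singleton_right]
    exact Finset.notMem_erase η₀ Bf
  · rw [Finset.card_erase_of_mem hη₀, hBcard', hep]
  · rw [Finset.card_singleton, hdiv1]
  · intro χ hχ
    exact haBpm χ (Finset.mem_of_mem_erase hχ)
  · intro χ _ y hy hy1
    rw [hconj χ y hy hy1, ha χ]
  · intro g _ η hη η' hη'
    rw [Finset.mem_singleton.mp hη, Finset.mem_singleton.mp hη']
  · intro g hg η hη
    rw [Finset.mem_singleton.mp hη]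
    have h1 := sum_block_fpart_mul_pRegular P hP hM y₀.2 hy₀1 hB
      (θ : ↥(Subgroup.centralizer ((P : Subgroup G) : Set G)) → ℂ) hg
    rw [← hBdef, ← Finset.add_sum_erase Bf _ hη₀, ha η₀] at h1
    have h2 : ∑ χ ∈ Bf.erase η₀,
        fpart p (Subgroup.centralizer ((P : Subgroup G) : Set G)) (χ : G → ℂ)
          (θ : ↥(Subgroup.centralizer ((P : Subgroup G) : Set G)) → ℂ) (y₀ : G) *
          (χ : G → ℂ) g =
        ∑ χ ∈ Bf.erase η₀, (a χ : ℂ) * (χ : G → ℂ) g := by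
      apply Finset.sum_congr rfl
      intro χ _
      rw [ha χ]
    rw [h2] at h1
    push_cast
    linear_combination -h1
  · intro η hη η' hη'
    rw [Finset.mem_singleton.mp hη, Finset.mem_singleton.mp hη']
    refine ⟨1, ?_, ?_⟩
    · intro h
      have := Nat.le_of_dvd one_pos h
      omega
    · intro y _
      rw [pow_one]

include hP in
open scoped Classical in
/-- **The normalized data for a block with defect group of order `p`**, and the upper bound
for `k(B)`. -/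
theorem defect_one_gen' (hM : IsPModular p M) {B : Set (IrrCharacter G)} (hB : IsPBlock M B)
    (θ : IrrCharacter ↥(Subgroup.centralizer ((P : Subgroup G) : Set G)))
    (hθ : InKer (Subgroup.inclusion (le_centralizer_of_card_prime hP))
      (θ : ↥(Subgroup.centralizer ((P : Subgroup G) : Set G)) → ℂ))
    (hind : IsInducedBlock M (Subgroup.centralizer ((P : Subgroup G) : Set G))
      (blockOf M (θ : ↥(Subgroup.centralizer ((P : Subgroup G) : Set G)) → ℂ)) B)
    (T : Subgroup G) (hTN : T ≤ Subgroup.normalizer ((P : Subgroup G) : Set G))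
    (hT : ∀ (n : G) (hn : n ∈ Subgroup.normalizer ((P : Subgroup G) : Set G)),
      n ∈ T ↔ thetaConj P n hn θ = θ)
    (e : ℕ) (hCT : (Subgroup.centralizer ((P : Subgroup G) : Set G)).relIndex T = e) :
    e ∣ p - 1 ∧ Nat.card B ≤ e + (p - 1) / e ∧
      (e + (p - 1) / e ≤ Nat.card B →
        ∃ (ε : ℤ) (a : IrrCharacter G → ℤ) (X Y : Finset (IrrCharacter G)),
          DefOneGenData P B θ e ε a X Y ∧
            ∀ η ∈ Y, ∀ η' ∈ Y, ∃ k : ℕ, ¬ p ∣ k ∧ ∀ y : ↥(P : Subgroup G), y ≠ 1 →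
              fpart p (Subgroup.centralizer ((P : Subgroup G) : Set G)) (η' : G → ℂ)
                (θ : ↥(Subgroup.centralizer ((P : Subgroup G) : Set G)) → ℂ) (y : G) =
              fpart p (Subgroup.centralizer ((P : Subgroup G) : Set G)) (η : G → ℂ)
                (θ : ↥(Subgroup.centralizer ((P : Subgroup G) : Set G)) → ℂ)
                ((y ^ k : ↥(P : Subgroup G)) : G)) := by
  have hpp : p.Prime := hp.out
  have hp2 := hpp.two_le
  have hdvd : e ∣ p - 1 := by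
    rw [← hCT]
    exact relIndex_dvd_pred P hP θ T hTN hT
  have hle : e ≤ p - 1 := Nat.le_of_dvd (by omega) hdvd
  refine ⟨hdvd, ?_⟩
  by_cases h : e = p - 1
  · exact defect_one_gen_top' P hP hM hB θ hθ hind T hTN hT e hCT h
  · exact defect_one_gen_lt' P hP hM hB θ hθ hind T hTN hT e hCT (by omega)

end DataTop2

end Cfsg.Agent.Lib.Helper3.DefOneGen
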