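import Mathlib
import Cfsg.Agent.Lib.Helper3.DefOneGenData2
import Cfsg.Agent.Lib.Helper3.DefOneGenGal
import Cfsg.Agent.Lib.Helper75.DefOneRoot
import Cfsg.Agent.Lib.Helper77.DefOneGenMain

set_option autoImplicit false
set_option linter.unusedSectionVars false

/-!
# General defect-one blocks: the exceptional family as a `p`-conjugacy class (helper3)
-/

namespace Cfsg.Agent.Lib.Helper3.DefOneGen

open Cfsg Cfsg.Agent.Lib.Helper78 Cfsg.Agent.Lib.Helper16
open scoped ComplexConjugate IsMulCommutative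

section Stab

variable {G : Type*} [Group G]

/-- The inertia group of a function on `C_G(Q)` in `N_G(Q)`, in the literal form of the frozen
statements. -/
theorem exists_literal_stab (Q : Subgroup G) (θ : ↥(Subgroup.centralizer (Q : Set G)) → ℂ) :
    ∃ T : Subgroup G, ∀ g : G, g ∈ T ↔ (g ∈ Subgroup.normalizer (Q : Set G) ∧
      ∀ c c' : ↥(Subgroup.centralizer (Q : Set G)), (c' : G) = g * c * g⁻¹ → θ c' = θ c) := by
  have hNC := normalizer_le_normalizer_centralizer Q
  refine ⟨{ carrier := {g | g ∈ Subgroup.normalizer (Q : Set G) ∧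
      ∀ c c' : ↥(Subgroup.centralizer (Q : Set G)), (c' : G) = g * c * g⁻¹ → θ c' = θ c}
            mul_mem' := ?_
            one_mem' := ?_
            inv_mem' := ?_ }, fun g => Iff.rfl⟩
  · rintro g h ⟨hg, hg'⟩ ⟨hh, hh'⟩
    refine ⟨mul_mem hg hh, ?_⟩
    intro c c' hc
    have hmem : h * (c : G) * h⁻¹ ∈ Subgroup.centralizer (Q : Set G) :=
      (Subgroup.mem_normalizer_iff.mp (hNC hh) (c : G)).mp c.2
    have h1 := hh' c ⟨_, hmem⟩ rfl
    have h2 := hg' ⟨_, hmem⟩ c' (by rw [hc]; show g * h * (c : G) * (g * h)⁻¹ = g * (h * (c : G) * h⁻¹) * g⁻¹; group)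
    rw [h2, h1]
  · refine ⟨one_mem _, ?_⟩
    intro c c' hc
    have : c' = c := Subtype.ext (by rw [hc]; group)
    rw [this]
  · rintro g ⟨hg, hg'⟩
    refine ⟨inv_mem hg, ?_⟩
    intro c c' hc
    have h1 := hg' c' c (by rw [hc]; group)
    exact h1.symm

end Stab

section Final2

open scoped Classical in
/-- **S4507**: the exceptional family of a block of positive defect when `p ∥ |G|` is a full
`p`-conjugacy class, the other characters are `p`-rational, and the sign relation on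
`p`-regular elements. -/
theorem s4507_core {G : Type*} [Group G] [Finite G] (p : ℕ) [Fact p.Prime]
    (M : Ideal Cfsg.AlgInt) (hM : Cfsg.IsPModular p M) (hdiv : p ∣ Nat.card G)
    (hsq : ¬ p ^ 2 ∣ Nat.card G) (B : Set (Cfsg.IrrCharacter G)) (hB : Cfsg.IsPBlock M B)
    (hd : 0 < Cfsg.blockDefect p B) :
    ∃ Y : Set (Cfsg.IrrCharacter G), Y ⊆ B ∧ Y.Nonempty ∧
      (∀ θ ∈ Y, ∀ ψ : Cfsg.IrrCharacter G,
        (∃ σ : ℂ ≃+* ℂ, σ (Complex.exp (2 * Real.pi * Complex.I /
            ((Nat.card G / p ^ (Nat.card G).factorization p) : ℕ))) =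
          Complex.exp (2 * Real.pi * Complex.I /
            ((Nat.card G / p ^ (Nat.card G).factorization p) : ℕ)) ∧
          (ψ : G → ℂ) = fun g => σ ((θ : G → ℂ) g)) ↔ ψ ∈ Y) ∧
      (∀ χ ∈ B, χ ∉ Y → ∀ ψ : Cfsg.IrrCharacter G,
        (∃ σ : ℂ ≃+* ℂ, σ (Complex.exp (2 * Real.pi * Complex.I /
            ((Nat.card G / p ^ (Nat.card G).factorization p) : ℕ))) =
          Complex.exp (2 * Real.pi * Complex.I /
            ((Nat.card G / p ^ (Nat.card G).factorization p) : ℕ)) ∧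
          (ψ : G → ℂ) = fun g => σ ((χ : G → ℂ) g)) → ψ = χ) ∧
      Nat.card Y ∣ p - 1 ∧ Nat.card B = Nat.card Y + (p - 1) / Nat.card Y ∧
      ∃ δ : Cfsg.IrrCharacter G → ℤ, (∀ χ ∈ B, δ χ = 1 ∨ δ χ = -1) ∧
        ∀ x : G, ¬ p ∣ orderOf x → ∀ θ ∈ Y,
          (∑ᶠ χ ∈ B \ Y, (δ χ : ℂ) * (χ : G → ℂ) x) + (δ θ : ℂ) * (θ : G → ℂ) x = 0 := by
  have hpp : p.Prime := Fact.out
  have hp2 := hpp.two_le
  have hfinG : Fintype G := Fintype.ofFinite G
  have hne : Nat.card G ≠ 0 := Nat.card_pos.ne'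
  -- the `p`-part of `|G|` is `p`
  have hfac : (Nat.card G).factorization p = 1 := by
    have h1 : 1 ≤ (Nat.card G).factorization p :=
      (hpp.dvd_iff_one_le_factorization hne).mp hdiv
    have h2 : ¬ 2 ≤ (Nat.card G).factorization p := by
      intro h
      exact hsq ((hpp.pow_dvd_iff_le_factorization hne).mpr h)
    omega
  obtain ⟨n, hndef⟩ : ∃ n : ℕ, n = Nat.card G / p ^ (Nat.card G).factorization p := ⟨_, rfl⟩
  rw [← hndef]
  have hG : Nat.card G = p * n := by
    have h1 := Nat.ordProj_mul_ordCompl_eq_self (Nat.card G) p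
    rw [← hndef, hfac, pow_one] at h1
    exact h1.symm
  have hpn : ¬ p ∣ n := by
    rw [hndef]
    exact Nat.not_dvd_ordCompl hpp hne
  have hn0 : 0 < n := by
    rcases Nat.eq_zero_or_pos n with h | h
    · exfalso; apply hpn; rw [h]; exact dvd_zero p
    · exact h
  -- the Sylow subgroup
  obtain ⟨P⟩ : Nonempty (Sylow p G) := inferInstance
  have hP : Nat.card P = p := by
    rw [Sylow.card_eq_multiplicity, hfac, pow_one]
  have hfinC : Fintype ↥(Subgroup.centralizer ((P : Subgroup G) : Set G)) := Fintype.ofFinite _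
  have hfinP : Fintype ↥(P : Subgroup G) := Fintype.ofFinite _
  have hfinN : Fintype ↥(Subgroup.normalizer ((P : Subgroup G) : Set G)) := Fintype.ofFinite _
  have hcyc : IsCyclic ↥(P : Subgroup G) := isCyclic_of_prime_card hP
  have hab : IsMulCommutative ↥(P : Subgroup G) := IsCyclic.isMulCommutative
  have hfinD : Fintype (↥(P : Subgroup G) →* ℂˣ) := Fintype.ofFinite _
  have hMp : M.IsPrime := isPModular_isPrime hM
  -- the root
  obtain ⟨hBP, b, θ, hind, hθ, hθP⟩ :=
    Cfsg.Agent.Lib.Helper75.DefOneGen.exists_root hM P hP hB hd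
  obtain ⟨T, hT⟩ := exists_literal_stab (P : Subgroup G)
    (θ : ↥(Subgroup.centralizer ((P : Subgroup G) : Set G)) → ℂ)
  obtain ⟨e, he⟩ : ∃ e : ℕ, (Subgroup.centralizer ((P : Subgroup G) : Set G)).relIndex T = e :=
    ⟨_, rfl⟩
  have hk := Cfsg.Agent.Lib.Helper77.DefOne.card_block_ge p M hM P hP B b hind θ hθ hθP T hT e he
  have hbeq : b = blockOf M (θ : ↥(Subgroup.centralizer ((P : Subgroup G) : Set G)) → ℂ) :=
    IsPBlock_eq_blockOf hind.1 hθ
  rw [hbeq] at hind
  have hθK := inKer_of_apply_eq P hP θ hθP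
  obtain ⟨hTN, hT'⟩ := stab_iff_of_literal P θ T hT
  obtain ⟨hdvd, hle, hdata⟩ := defect_one_gen' P hP hM hB θ hθK hind T hTN hT' e he
  obtain ⟨ε, a, X, Y, D, hYgal⟩ := hdata hk
  have hp1 : p - 1 ≠ 0 := by omega
  have he0 : 0 < e := by
    rcases Nat.eq_zero_or_pos e with h | h
    · rw [h] at hdvd
      exact absurd (Nat.eq_zero_of_zero_dvd hdvd) hp1
    · exact h
  have hYpos : 0 < Y.card := by
    rw [D.hYcard]
    exact Nat.div_pos (Nat.le_of_dvd (by omega) hdvd) he0
  have hXB : ∀ χ ∈ X, χ ∈ B := fun χ hχ => (D.hmem χ).mpr (Or.inl hχ)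
  have hYB : ∀ χ ∈ Y, χ ∈ B := fun χ hχ => (D.hmem χ).mpr (Or.inr hχ)
  have hunion : Finset.univ.filter (fun χ : IrrCharacter G => χ ∈ B) = X ∪ Y := by
    ext χ
    simp only [Finset.mem_filter, Finset.mem_univ, true_and, Finset.mem_union]
    exact D.hmem χ
  have hcard : Nat.card B = e + (p - 1) / e := by
    rw [card_block_eq_card_filter, hunion, Finset.card_union_of_disjoint D.hdisj, D.hXcard,
      D.hYcard]
  have hYncard : Nat.card ((Y : Set (IrrCharacter G))) = (p - 1) / e := by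
    rw [Nat.card_coe_set_eq, Set.ncard_coe_finset, D.hYcard]
  -- `σ⁻¹` also fixes the `p'`-roots of unity
  have hsymm : ∀ σ : ℂ ≃+* ℂ, σ (Complex.exp (2 * Real.pi * Complex.I / (n : ℕ))) =
      Complex.exp (2 * Real.pi * Complex.I / (n : ℕ)) →
      σ.symm (Complex.exp (2 * Real.pi * Complex.I / (n : ℕ))) =
        Complex.exp (2 * Real.pi * Complex.I / (n : ℕ)) := by
    intro σ hσ
    have h1 := σ.symm_apply_apply (Complex.exp (2 * Real.pi * Complex.I / (n : ℕ)))
    rw [hσ] at h1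
    exact h1
  -- the nonexceptional characters are `p`-rational
  have hfixX : ∀ χ ∈ X, ∀ σ : ℂ ≃+* ℂ, σ (Complex.exp (2 * Real.pi * Complex.I / (n : ℕ))) =
      Complex.exp (2 * Real.pi * Complex.I / (n : ℕ)) → galConj σ χ = χ := by
    intro χ hχ σ hσ
    apply galConj_eq_of_fpart P hP hM hB hBP θ hθK hind hn0 hG σ hσ (hXB χ hχ) (hXB χ hχ)
    · intro g _
      rfl
    · intro y hy hy1
      rw [D.hX χ hχ y hy hy1, map_intCast]
  have hgal_eq : ∀ (σ : ℂ ≃+* ℂ) (χ ψ : IrrCharacter G),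
      (ψ : G → ℂ) = (fun g => σ ((χ : G → ℂ) g)) → ψ = galConj σ χ := by
    intro σ χ ψ h
    exact Subtype.ext h
  refine ⟨(Y : Set (IrrCharacter G)), ?_, ?_, ?_, ?_, ?_, ?_, ?_⟩
  · intro χ hχ
    exact hYB χ (Finset.mem_coe.mp hχ)
  · exact Finset.coe_nonempty.mpr (Finset.card_pos.mp hYpos)
  · intro θ' hθ' ψ
    have hθ'Y : θ' ∈ Y := Finset.mem_coe.mp hθ'
    rw [Finset.mem_coe]
    constructor
    · rintro ⟨σ, hσ, hψ⟩
      have h1 := hgal_eq σ θ' ψ hψ
      have h2 : ψ ∈ B := by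
        rw [h1]
        exact galConj_mem_block hM hn0 hG σ hσ hB (hYB θ' hθ'Y)
      rcases (D.hmem ψ).mp h2 with h3 | h3
      · exfalso
        have h4 := hfixX ψ h3 σ.symm (hsymm σ hσ)
        rw [h1, galConj_symm] at h4
        have h5 : θ' ∈ X := by
          rw [h4, ← h1]
          exact h3
        exact (Finset.disjoint_left.mp D.hdisj h5) hθ'Y
      · exact h3
    · intro hψ
      obtain ⟨k, hk1, hk2⟩ := hYgal θ' hθ'Y ψ hψ
      obtain ⟨σ, hσ, hσk⟩ := exists_ringEquiv_fix_pow n p hpp hn0 hpn k hk1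
      refine ⟨σ, hσ, ?_⟩
      have h1 : galConj σ θ' = ψ := by
        apply galConj_eq_of_fpart P hP hM hB hBP θ hθK hind hn0 hG σ hσ (hYB θ' hθ'Y)
          (hYB ψ hψ)
        · intro g hg
          exact D.hregY g hg θ' hθ'Y ψ hψ
        · intro y hy hy1
          have h2 := hk2 ⟨y, hy⟩ (fun h => hy1 (congrArg Subtype.val h))
          rw [h2]
          exact (map_fpart_eq_fpart_pow P hP (IsIrrCharacter.isCharacter θ'.2) θ hθK σ k hσk
            ⟨y, hy⟩).symm
      rw [← h1]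
      rfl
  · intro χ hχ hχY ψ
    rintro ⟨σ, hσ, hψ⟩
    have hχX : χ ∈ X := by
      rcases (D.hmem χ).mp hχ with h | h
      · exact h
      · exact absurd (Finset.mem_coe.mpr h) hχY
    rw [hgal_eq σ χ ψ hψ]
    exact hfixX χ hχX σ hσ
  · rw [hYncard]
    exact Nat.div_dvd_of_dvd hdvd
  · rw [hYncard, hcard, Nat.div_div_self hdvd hp1]
    ring
  · refine ⟨fun χ => if χ ∈ Y then -ε else a χ, ?_, ?_⟩
    · intro χ hχ
      show (if χ ∈ Y then -ε else a χ) = 1 ∨ (if χ ∈ Y then -ε else a χ) = -1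
      split_ifs with h
      · rcases D.hε with h1 | h1 <;> rw [h1]
        · exact Or.inr rfl
        · exact Or.inl (by norm_num)
      · rcases (D.hmem χ).mp hχ with h1 | h1
        · exact D.haX χ h1
        · exact absurd h1 h
    · intro x hx η hη
      have hηY : η ∈ Y := Finset.mem_coe.mp hη
      have hset : B \ (Y : Set (IrrCharacter G)) = (X : Set (IrrCharacter G)) := by
        ext χ
        rw [Set.mem_sdiff, Finset.mem_coe, Finset.mem_coe]
        constructor
        · rintro ⟨h1, h2⟩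
          rcases (D.hmem χ).mp h1 with h | h
          · exact h
          · exact absurd h h2
        · intro h
          exact ⟨hXB χ h, Finset.disjoint_left.mp D.hdisj h⟩
      rw [hset, finsum_mem_coe_finset]
      have h1 := D.hrel x hx η hηY
      have h2 : ∑ χ ∈ X, (((if χ ∈ Y then -ε else a χ : ℤ) : ℂ)) * (χ : G → ℂ) x =
          ∑ χ ∈ X, (a χ : ℂ) * (χ : G → ℂ) x := by
        apply Finset.sum_congr rfl
        intro χ hχ
        rw [if_neg (Finset.disjoint_left.mp D.hdisj hχ)]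
      have h3 : (fun χ : IrrCharacter G => if χ ∈ Y then -ε else a χ) η = -ε := if_pos hηY
      rw [h2, h3, ← h1]
      push_cast
      ring

end Final2

end Cfsg.Agent.Lib.Helper3.DefOneGen
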