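import Mathlib
import Cfsg.Agent.Lib.Helper84.FTr.Core
import Cfsg.Agent.Lib.Helper85.FusionInduced

set_option autoImplicit false

/-!
# FTR-[FCOMP] (helper3): an isomorphism of fusion systems followed by a factor system is a factor system
-/

namespace Cfsg.Agent.Lib.Helper3.FTr

open Cfsg Cfsg.FusionSystem Cfsg.Agent.Lib.Helper84.FTr

variable {Ω : Type*} [Group Ω] {Ω' : Type*} [Group Ω'] {S : Subgroup Ω} {S' : Subgroup Ω'}

/-- Transport of a map of the system along an equality of sources. -/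
theorem exists_hom_of_eq (F : FusionSystem S) {P₁ P₂ : Subgroup Ω} (h : P₁ = P₂) {φ : P₁ →* Ω}
    (hφ : φ ∈ F.Hom P₁) :
    ∃ φ₂ : P₂ →* Ω, φ₂ ∈ F.Hom P₂ ∧
      ∀ (x : Ω) (hx₁ : x ∈ P₁) (hx₂ : x ∈ P₂), φ₂ ⟨x, hx₂⟩ = φ ⟨x, hx₁⟩ := by
  subst h
  exact ⟨φ, hφ, fun _ _ _ => rfl⟩

theorem isFactorSystem_comp_bot {Ω'' : Type*} [Group Ω''] {S'' : Subgroup Ω''} {F : FusionSystem S}
    {θ : S →* Ω'} {E : FusionSystem S'} (hE : F.IsFactorSystem ⊥ θ E) {L : Subgroup Ω'}
    {θ' : S' →* Ω''} {E'' : FusionSystem S''} (hE'' : E.IsFactorSystem L θ' E'') (θ₂ : S →* Ω'')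
    (hθ₂ : ∀ (s : S) (hs : θ s ∈ S'), θ₂ s = θ' ⟨θ s, hs⟩) :
    F.IsFactorSystem (preimageAlong θ L) θ₂ E'' := by
  obtain ⟨-, hker, hrange, hHom⟩ := hE
  obtain ⟨hLS', hker', hrange', hHom'⟩ := hE''
  have hθS' : ∀ s : S, θ s ∈ S' := fun s => by rw [← hrange]; exact ⟨s, rfl⟩
  have hθ₂' : ∀ s : S, θ₂ s = θ' ⟨θ s, hθS' s⟩ := fun s => hθ₂ s (hθS' s)
  have hθinj : Function.Injective θ := by
    rw [injective_iff_map_eq_one]
    intro s hs
    have := (hker s).1 hs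
    rw [Subgroup.mem_bot] at this
    exact Subtype.ext this
  -- the two preimages agree
  have hpre : ∀ P'' : Subgroup Ω'', preimageAlong θ (preimageAlong θ' P'') = preimageAlong θ₂ P'' := by
    intro P''
    ext x
    rw [Cfsg.Agent.Lib.Helper85.mem_preimageAlong_iff, Cfsg.Agent.Lib.Helper85.mem_preimageAlong_iff]
    constructor
    · rintro ⟨hx, hx'⟩
      rw [Cfsg.Agent.Lib.Helper85.mem_preimageAlong_iff] at hx'
      obtain ⟨hs, hP⟩ := hx'
      refine ⟨hx, ?_⟩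
      rw [hθ₂ _ hs]
      exact hP
    · rintro ⟨hx, hx'⟩
      refine ⟨hx, ?_⟩
      rw [Cfsg.Agent.Lib.Helper85.mem_preimageAlong_iff]
      refine ⟨hθS' _, ?_⟩
      rw [← hθ₂']
      exact hx'
  refine ⟨Cfsg.Agent.Lib.Helper85.preimageAlong_le θ L, ?_, ?_, ?_⟩
  · intro s
    rw [hθ₂', hker', Cfsg.Agent.Lib.Helper85.mem_preimageAlong_iff]
    constructor
    · intro h
      exact ⟨s.2, h⟩
    · rintro ⟨_, h⟩
      exact h
  · ext z
    constructor
    · rintro ⟨s, rfl⟩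
      rw [hθ₂', ← hrange']
      exact ⟨_, rfl⟩
    · intro hz
      rw [← hrange'] at hz
      obtain ⟨⟨y, hy⟩, rfl⟩ := hz
      have hy' := hy
      rw [← hrange] at hy'
      obtain ⟨s, rfl⟩ := hy'
      exact ⟨s, hθ₂ s hy⟩
  · intro P'' φ''
    rw [hHom']
    constructor
    · rintro ⟨hP'', φ', hφ', hind'⟩
      refine ⟨hP'', ?_⟩
      rw [hHom] at hφ'
      obtain ⟨hQ', φ, hφ, hind⟩ := hφ'
      obtain ⟨φ₂, hφ₂, hφ₂eq⟩ := exists_hom_of_eq F (hpre P'') hφ
      refine ⟨φ₂, hφ₂, ?_⟩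
      obtain ⟨hP1, hφ1, hP1', h1⟩ := hind
      obtain ⟨hQS', hφ'S', hQ'', h2⟩ := hind'
      have hP2 : preimageAlong θ₂ P'' ≤ S := Cfsg.Agent.Lib.Helper85.preimageAlong_le θ₂ P''
      have hmem1 : ∀ x : ↥(preimageAlong θ₂ P''), (x : Ω) ∈ preimageAlong θ (preimageAlong θ' P'') := by
        intro x
        rw [hpre]
        exact x.2
      have hφ₂S : ∀ x : ↥(preimageAlong θ₂ P''), φ₂ x ∈ S := by
        intro x
        have := hφ₂eq x.1 (hmem1 x) x.2
        rw [show φ₂ x = φ₂ ⟨x.1, x.2⟩ from rfl, this]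
        exact hφ1 _
      refine ⟨hP2, hφ₂S, ?_, ?_⟩
      · intro x
        exact ((Cfsg.Agent.Lib.Helper85.mem_preimageAlong_iff θ₂ P'' x).1 x.2).2
      · intro x
        -- x₁ : x seen in the first preimage
        set x₁ : ↥(preimageAlong θ (preimageAlong θ' P'')) := ⟨x.1, hmem1 x⟩ with hx₁
        have e1 : φ₂ x = φ x₁ := hφ₂eq x.1 (hmem1 x) x.2
        set y : ↥(preimageAlong θ' P'') := ⟨θ ⟨x₁, hP1 x₁.2⟩, hP1' x₁⟩ with hy
        have e2 := h2 y
        have e3 := h1 x₁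
        -- θ₂ x = θ' y
        have e4 : θ₂ ⟨x, hP2 x.2⟩ = θ' ⟨y, hQS' y.2⟩ := by
          rw [hθ₂']
        have e5 : θ₂ ⟨φ₂ x, hφ₂S x⟩ = θ' ⟨φ' y, hφ'S' y⟩ := by
          rw [hθ₂']
          congr 1
          apply Subtype.ext
          show θ ⟨φ₂ x, _⟩ = φ' y
          rw [e3]
          congr 1
          exact Subtype.ext e1
        rw [e5, ← e2]
        congr 1
        exact Subtype.ext e4
    · rintro ⟨hP'', φ, hφ, hind⟩
      refine ⟨hP'', ?_⟩
      obtain ⟨hP2, hφS, hP2', h0⟩ := hind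
      -- transport φ to the preimage along θ of Q' := preimageAlong θ' P''
      obtain ⟨ψ, hψ, hψeq⟩ := exists_hom_of_eq F (hpre P'').symm hφ
      have hQ'S' : preimageAlong θ' P'' ≤ S' := Cfsg.Agent.Lib.Helper85.preimageAlong_le θ' P''
      have hQ'r : preimageAlong θ' P'' ≤ θ.range := by rw [hrange]; exact hQ'S'
      have hmem2 : ∀ x : ↥(preimageAlong θ (preimageAlong θ' P'')), (x : Ω) ∈ preimageAlong θ₂ P'' := by
        intro x
        rw [← hpre]
        exact x.2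
      have hψS : ∀ x, ψ x ∈ S := by
        intro x
        have := hψeq x.1 (hmem2 x) x.2
        rw [show ψ x = ψ ⟨x.1, x.2⟩ from rfl, this]
        exact hφS _
      have hkerψ : ∀ x : ↥(preimageAlong θ (preimageAlong θ' P'')),
          θ ⟨x, Cfsg.Agent.Lib.Helper85.preimageAlong_le θ _ x.2⟩ = 1 → θ ⟨ψ x, hψS x⟩ = 1 := by
        intro x hx
        have hx1 := (hker _).1 hx
        rw [Subgroup.mem_bot] at hx1
        have hx2 : x = 1 := Subtype.ext hx1
        have : (⟨ψ x, hψS x⟩ : S) = 1 := by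
          apply Subtype.ext
          show ψ x = 1
          rw [hx2, map_one]
        rw [this, map_one]
      refine ⟨Cfsg.Agent.Lib.Helper85.inducedHom θ hQ'r ψ hψS hkerψ, ?_, ?_⟩
      · rw [hHom]
        exact ⟨hQ'S', ψ, hψ, Cfsg.Agent.Lib.Helper85.inducedAlong_inducedHom θ hQ'r ψ hψS hkerψ⟩
      · have hφ'mem : Cfsg.Agent.Lib.Helper85.inducedHom θ hQ'r ψ hψS hkerψ ∈
            E.Hom (preimageAlong θ' P'') := by
          rw [hHom]
          exact ⟨hQ'S', ψ, hψ, Cfsg.Agent.Lib.Helper85.inducedAlong_inducedHom θ hQ'r ψ hψS hkerψ⟩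
        have hφ'S' := (E.le_of_mem hφ'mem).2
        refine ⟨hQ'S', hφ'S', ?_, ?_⟩
        · intro y
          exact ((Cfsg.Agent.Lib.Helper85.mem_preimageAlong_iff θ' P'' y).1 y.2).2
        · intro y
          -- y = θ x
          have hyr : (y : Ω') ∈ θ.range := hQ'r y.2
          obtain ⟨s, hs⟩ := hyr
          have hsmem : (s : Ω) ∈ preimageAlong θ (preimageAlong θ' P'') := by
            rw [Cfsg.Agent.Lib.Helper85.mem_preimageAlong_iff]
            refine ⟨s.2, ?_⟩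
            rw [Subtype.coe_eta, hs]
            exact y.2
          set x : ↥(preimageAlong θ (preimageAlong θ' P'')) := ⟨s, hsmem⟩ with hx
          have hθx : θ ⟨x, Cfsg.Agent.Lib.Helper85.preimageAlong_le θ _ x.2⟩ = (y : Ω') := by
            rw [← hs]
          have hxP : θ ⟨x, Cfsg.Agent.Lib.Helper85.preimageAlong_le θ _ x.2⟩ ∈ preimageAlong θ' P'' := by
            rw [hθx]; exact y.2
          have hy_eq : y = ⟨θ ⟨x, Cfsg.Agent.Lib.Helper85.preimageAlong_le θ _ x.2⟩, hxP⟩ :=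
            Subtype.ext hθx.symm
          have e1 := Cfsg.Agent.Lib.Helper85.inducedHom_apply θ hQ'r ψ hψS hkerψ x hxP
          -- x in the θ₂-preimage
          set x₂ : ↥(preimageAlong θ₂ P'') := ⟨x.1, hmem2 x⟩ with hx₂
          have e2 : ψ x = φ x₂ := hψeq x.1 (hmem2 x) x.2
          have e3 := h0 x₂
          -- θ₂ x₂ = θ' y
          have e4 : θ₂ ⟨x₂, hP2 x₂.2⟩ = θ' ⟨y, hQ'S' y.2⟩ := by
            rw [hθ₂']
            congr 1
            exact Subtype.ext hθx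
          have e5 : θ' ⟨Cfsg.Agent.Lib.Helper85.inducedHom θ hQ'r ψ hψS hkerψ y, hφ'S' y⟩ =
              θ₂ ⟨φ x₂, hφS x₂⟩ := by
            rw [hθ₂']
            congr 1
            apply Subtype.ext
            show Cfsg.Agent.Lib.Helper85.inducedHom θ hQ'r ψ hψS hkerψ y = θ ⟨φ x₂, _⟩
            rw [hy_eq, e1]
            congr 1
            exact Subtype.ext e2
          rw [e5, ← e3]
          congr 1
          exact Subtype.ext e4.symm

end Cfsg.Agent.Lib.Helper3.FTr
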