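import Mathlib
import Cfsg.Agent.Lib.Helper84.FTr.Core
import Cfsg.Agent.Lib.Helper85.FusionInduced
import Cfsg.Agent.Lib.Helper3.FTrFComp

set_option autoImplicit false

/-!
# FTR-[FUNIQ] (helper3): two factor systems of `F` modulo the same subgroup are isomorphic
-/

namespace Cfsg.Agent.Lib.Helper3.FTr

open Cfsg Cfsg.FusionSystem Cfsg.Agent.Lib.Helper84.FTr

variable {Ω : Type*} [Group Ω] {S : Subgroup Ω}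

/-- The isomorphism between two images of `S` under surjections with the same kernel. -/
theorem exists_equiv_of_ker_eq {Ω₁ Ω₂ : Type*} [Group Ω₁] [Group Ω₂] {S₁ : Subgroup Ω₁}
    {S₂ : Subgroup Ω₂} {θ₁ : S →* Ω₁} {θ₂ : S →* Ω₂} (hr₁ : θ₁.range = S₁) (hr₂ : θ₂.range = S₂)
    (hk : ∀ s : S, θ₁ s = 1 ↔ θ₂ s = 1) :
    ∃ b : S₁ ≃* S₂, ∀ (s : S) (hs : θ₁ s ∈ S₁), ((b ⟨θ₁ s, hs⟩ : S₂) : Ω₂) = θ₂ s := by
  have h1 : ∀ s : S, θ₁ s ∈ S₁ := fun s => by rw [← hr₁]; exact ⟨s, rfl⟩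
  have h2 : ∀ s : S, θ₂ s ∈ S₂ := fun s => by rw [← hr₂]; exact ⟨s, rfl⟩
  set f₁ : S →* S₁ := θ₁.codRestrict S₁ h1 with hf₁
  set f₂ : S →* S₂ := θ₂.codRestrict S₂ h2 with hf₂
  have hs₁ : Function.Surjective f₁ := by
    rintro ⟨y, hy⟩
    rw [← hr₁] at hy
    obtain ⟨s, rfl⟩ := hy
    exact ⟨s, Subtype.ext rfl⟩
  have hs₂ : Function.Surjective f₂ := by
    rintro ⟨y, hy⟩
    rw [← hr₂] at hy
    obtain ⟨s, rfl⟩ := hy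
    exact ⟨s, Subtype.ext rfl⟩
  have hker : f₁.ker ≤ f₂.ker := by
    intro s hs
    rw [MonoidHom.mem_ker] at hs ⊢
    have : θ₁ s = 1 := congrArg Subtype.val hs
    exact Subtype.ext ((hk s).1 this)
  set b₀ : S₁ →* S₂ := f₁.liftOfSurjective hs₁ ⟨f₂, hker⟩ with hb₀
  have hb₀f : ∀ s : S, b₀ (f₁ s) = f₂ s := by
    intro s
    exact MonoidHom.liftOfRightInverse_comp_apply f₁ (Function.surjInv hs₁)
      (Function.rightInverse_surjInv hs₁) ⟨f₂, hker⟩ s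
  have hinj : Function.Injective b₀ := by
    rw [injective_iff_map_eq_one]
    intro y hy
    obtain ⟨s, rfl⟩ := hs₁ y
    rw [hb₀f] at hy
    have : θ₂ s = 1 := congrArg Subtype.val hy
    exact Subtype.ext ((hk s).2 this)
  have hsurj : Function.Surjective b₀ := by
    intro z
    obtain ⟨s, rfl⟩ := hs₂ z
    exact ⟨f₁ s, hb₀f s⟩
  refine ⟨MulEquiv.ofBijective b₀ ⟨hinj, hsurj⟩, ?_⟩
  intro s hs
  have : (⟨θ₁ s, hs⟩ : S₁) = f₁ s := Subtype.ext rfl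
  rw [this]
  show ((b₀ (f₁ s) : S₂) : Ω₂) = θ₂ s
  rw [hb₀f]
  rfl

/-- One direction of the correspondence, for a compatible isomorphism `b`. -/
theorem exists_of_mem_of_isFactorSystem {Ω₁ Ω₂ : Type*} [Group Ω₁] [Group Ω₂] {S₁ : Subgroup Ω₁}
    {S₂ : Subgroup Ω₂} {F : FusionSystem S} {K : Subgroup Ω} {θ₁ : S →* Ω₁} {θ₂ : S →* Ω₂}
    {E₁ : FusionSystem S₁} {E₂ : FusionSystem S₂} (h₁ : F.IsFactorSystem K θ₁ E₁)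
    (h₂ : F.IsFactorSystem K θ₂ E₂) (b : S₁ ≃* S₂)
    (hb : ∀ (s : S) (hs : θ₁ s ∈ S₁), ((b ⟨θ₁ s, hs⟩ : S₂) : Ω₂) = θ₂ s)
    {P₂ : Subgroup Ω₂} {φ₂ : P₂ →* Ω₂} (hφ₂ : φ₂ ∈ E₂.Hom P₂) :
    ∃ (P₁ : Subgroup Ω₁) (φ₁ : P₁ →* Ω₁), φ₁ ∈ E₁.Hom P₁ ∧ im b P₁ = P₂ ∧
      InducedAlong (pairHom b) φ₁ φ₂ := by
  obtain ⟨-, hker₁, hrange₁, hHom₁⟩ := h₁
  obtain ⟨-, hker₂, hrange₂, hHom₂⟩ := h₂
  have hθ₁S : ∀ s : S, θ₁ s ∈ S₁ := fun s => by rw [← hrange₁]; exact ⟨s, rfl⟩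
  have hθ₂S : ∀ s : S, θ₂ s ∈ S₂ := fun s => by rw [← hrange₂]; exact ⟨s, rfl⟩
  have hb' : ∀ s : S, ((b ⟨θ₁ s, hθ₁S s⟩ : S₂) : Ω₂) = θ₂ s := fun s => hb s (hθ₁S s)
  rw [hHom₂] at hφ₂
  obtain ⟨hP₂, φ, hφ, hind⟩ := hφ₂
  obtain ⟨hR, hφS, hR', h0⟩ := hind
  -- P₁ and the equality of preimages
  have hP₁S : im b.symm P₂ ≤ S₁ := im_le b.symm P₂
  have hpre : preimageAlong θ₂ P₂ = preimageAlong θ₁ (im b.symm P₂) := by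
    ext x
    rw [Cfsg.Agent.Lib.Helper85.mem_preimageAlong_iff, Cfsg.Agent.Lib.Helper85.mem_preimageAlong_iff]
    constructor
    · rintro ⟨hx, hx'⟩
      refine ⟨hx, ?_⟩
      rw [mem_im_iff]
      refine ⟨θ₂ ⟨x, hx⟩, hθ₂S _, hx', ?_⟩
      have : (⟨θ₂ ⟨x, hx⟩, hθ₂S _⟩ : S₂) = b ⟨θ₁ ⟨x, hx⟩, hθ₁S _⟩ := Subtype.ext (hb' _).symm
      rw [this, b.symm_apply_apply]
    · rintro ⟨hx, hx'⟩
      refine ⟨hx, ?_⟩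
      rw [mem_im_iff] at hx'
      obtain ⟨y, hy, hyP, heq⟩ := hx'
      have h3 : (⟨y, hy⟩ : S₂) = b ⟨θ₁ ⟨x, hx⟩, hθ₁S _⟩ := by
        have : b.symm ⟨y, hy⟩ = ⟨θ₁ ⟨x, hx⟩, hθ₁S _⟩ := Subtype.ext heq
        rw [← this, b.apply_symm_apply]
      have h4 : y = θ₂ ⟨x, hx⟩ := by
        have := congrArg Subtype.val h3
        rw [hb'] at this
        exact this
      rw [← h4]
      exact hyP
  obtain ⟨ψ, hψ, hψeq⟩ := exists_hom_of_eq F hpre hφ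
  have hP₁r : im b.symm P₂ ≤ θ₁.range := by rw [hrange₁]; exact hP₁S
  have hmem : ∀ x : ↥(preimageAlong θ₁ (im b.symm P₂)), (x : Ω) ∈ preimageAlong θ₂ P₂ := by
    intro x
    rw [hpre]
    exact x.2
  have hψφ : ∀ x : ↥(preimageAlong θ₁ (im b.symm P₂)), ψ x = φ ⟨x.1, hmem x⟩ :=
    fun x => hψeq x.1 (hmem x) x.2
  have hψS : ∀ x, ψ x ∈ S := by
    intro x
    rw [hψφ]
    exact hφS _
  have hR₁ : preimageAlong θ₁ (im b.symm P₂) ≤ S := Cfsg.Agent.Lib.Helper85.preimageAlong_le θ₁ _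
  have hkerψ : ∀ x : ↥(preimageAlong θ₁ (im b.symm P₂)),
      θ₁ ⟨x, hR₁ x.2⟩ = 1 → θ₁ ⟨ψ x, hψS x⟩ = 1 := by
    intro x hx
    have hxK : (x : Ω) ∈ K := (hker₁ _).1 hx
    have hx2 : θ₂ ⟨x, hR₁ x.2⟩ = 1 := (hker₂ _).2 hxK
    have e0 := h0 ⟨x.1, hmem x⟩
    have e1 : θ₂ ⟨φ ⟨x.1, hmem x⟩, hφS _⟩ = 1 := by
      rw [← e0]
      have : (⟨θ₂ ⟨(⟨x.1, hmem x⟩ : ↥(preimageAlong θ₂ P₂)), hR (hmem x)⟩, hR' ⟨x.1, hmem x⟩⟩ : P₂) = 1 :=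
        Subtype.ext hx2
      rw [this, map_one]
    have hφK : (φ ⟨x.1, hmem x⟩ : Ω) ∈ K := (hker₂ _).1 e1
    have : (⟨ψ x, hψS x⟩ : S) = ⟨φ ⟨x.1, hmem x⟩, hφS _⟩ := Subtype.ext (hψφ x)
    rw [this]
    exact (hker₁ _).2 hφK
  refine ⟨im b.symm P₂, Cfsg.Agent.Lib.Helper85.inducedHom θ₁ hP₁r ψ hψS hkerψ, ?_, ?_, ?_⟩
  · rw [hHom₁]
    exact ⟨hP₁S, ψ, hψ, Cfsg.Agent.Lib.Helper85.inducedAlong_inducedHom θ₁ hP₁r ψ hψS hkerψ⟩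
  · exact im_im_symm b hP₂
  · have hφ₁mem : Cfsg.Agent.Lib.Helper85.inducedHom θ₁ hP₁r ψ hψS hkerψ ∈ E₁.Hom (im b.symm P₂) := by
      rw [hHom₁]
      exact ⟨hP₁S, ψ, hψ, Cfsg.Agent.Lib.Helper85.inducedAlong_inducedHom θ₁ hP₁r ψ hψS hkerψ⟩
    have hφ₁S := (E₁.le_of_mem hφ₁mem).2
    have hkey : ∀ y : ↥(im b.symm P₂), ∃ (x : ↥(preimageAlong θ₁ (im b.symm P₂))),
        θ₁ ⟨x, hR₁ x.2⟩ = (y : Ω₁) := by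
      intro y
      obtain ⟨s, hs⟩ := hP₁r y.2
      refine ⟨⟨s, ?_⟩, ?_⟩
      · rw [Cfsg.Agent.Lib.Helper85.mem_preimageAlong_iff]
        refine ⟨s.2, ?_⟩
        rw [Subtype.coe_eta, hs]
        exact y.2
      · exact hs
    have hbP : ∀ y : ↥(im b.symm P₂), pairHom b ⟨y, hP₁S y.2⟩ ∈ P₂ := by
      intro y
      obtain ⟨x, hx⟩ := hkey y
      have : (⟨(y : Ω₁), hP₁S y.2⟩ : S₁) = ⟨θ₁ ⟨x, hR₁ x.2⟩, hθ₁S _⟩ := Subtype.ext hx.symm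
      rw [this, pairHom_apply, hb']
      exact ((Cfsg.Agent.Lib.Helper85.mem_preimageAlong_iff θ₂ P₂ x).1 (hmem x)).2
    refine ⟨hP₁S, hφ₁S, hbP, ?_⟩
    intro y
    obtain ⟨x, hx⟩ := hkey y
    have hxP : θ₁ ⟨x, hR₁ x.2⟩ ∈ im b.symm P₂ := by rw [hx]; exact y.2
    have hy_eq : y = ⟨θ₁ ⟨x, hR₁ x.2⟩, hxP⟩ := Subtype.ext hx.symm
    have e1 := Cfsg.Agent.Lib.Helper85.inducedHom_apply θ₁ hP₁r ψ hψS hkerψ x hxP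
    have e0 := h0 ⟨x.1, hmem x⟩
    -- left side
    have eL : (⟨pairHom b ⟨y, hP₁S y.2⟩, hbP y⟩ : P₂) =
        ⟨θ₂ ⟨(⟨x.1, hmem x⟩ : ↥(preimageAlong θ₂ P₂)), hR (hmem x)⟩, hR' ⟨x.1, hmem x⟩⟩ := by
      apply Subtype.ext
      show pairHom b ⟨y, hP₁S y.2⟩ = θ₂ ⟨x.1, _⟩
      have : (⟨(y : Ω₁), hP₁S y.2⟩ : S₁) = ⟨θ₁ ⟨x, hR₁ x.2⟩, hθ₁S _⟩ := Subtype.ext hx.symm
      rw [this, pairHom_apply, hb']
    rw [eL, e0]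
    -- right side
    have eR : (⟨Cfsg.Agent.Lib.Helper85.inducedHom θ₁ hP₁r ψ hψS hkerψ y, hφ₁S y⟩ : S₁) =
        ⟨θ₁ ⟨φ ⟨x.1, hmem x⟩, hφS _⟩, hθ₁S _⟩ := by
      apply Subtype.ext
      show Cfsg.Agent.Lib.Helper85.inducedHom θ₁ hP₁r ψ hψS hkerψ y = θ₁ ⟨φ ⟨x.1, hmem x⟩, _⟩
      rw [hy_eq, e1]
      congr 1
      exact Subtype.ext (hψφ x)
    rw [eR, pairHom_apply, hb']

theorem exists_corr_of_isFactorSystem {Ω₁ Ω₂ : Type*} [Group Ω₁] [Group Ω₂] {S₁ : Subgroup Ω₁}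
    {S₂ : Subgroup Ω₂} {F : FusionSystem S} {K : Subgroup Ω} {θ₁ : S →* Ω₁} {θ₂ : S →* Ω₂}
    {E₁ : FusionSystem S₁} {E₂ : FusionSystem S₂} (h₁ : F.IsFactorSystem K θ₁ E₁)
    (h₂ : F.IsFactorSystem K θ₂ E₂) :
    ∃ b : S₁ ≃* S₂, (∀ (s : S) (hs : θ₁ s ∈ S₁), ((b ⟨θ₁ s, hs⟩ : S₂) : Ω₂) = θ₂ s) ∧ Corr b E₁ E₂ := by
  have hk : ∀ s : S, θ₁ s = 1 ↔ θ₂ s = 1 := fun s => (h₁.2.1 s).trans (h₂.2.1 s).symm
  obtain ⟨b, hb⟩ := exists_equiv_of_ker_eq h₁.2.2.1 h₂.2.2.1 hk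
  have hθ₁S : ∀ s : S, θ₁ s ∈ S₁ := fun s => by rw [← h₁.2.2.1]; exact ⟨s, rfl⟩
  have hθ₂S : ∀ s : S, θ₂ s ∈ S₂ := fun s => by rw [← h₂.2.2.1]; exact ⟨s, rfl⟩
  -- the inverse is compatible too
  have hbs : ∀ (s : S) (hs : θ₂ s ∈ S₂), ((b.symm ⟨θ₂ s, hs⟩ : S₁) : Ω₁) = θ₁ s := by
    intro s hs
    have : (⟨θ₂ s, hs⟩ : S₂) = b ⟨θ₁ s, hθ₁S s⟩ := Subtype.ext (hb s (hθ₁S s)).symm
    rw [this, b.symm_apply_apply]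
  refine ⟨b, hb, le_rfl, (im_self b).symm, ?_⟩
  intro P₂ φ₂
  constructor
  · intro hφ₂
    exact exists_of_mem_of_isFactorSystem h₁ h₂ b hb hφ₂
  · rintro ⟨P₁, φ₁, hφ₁, hPP, hind⟩
    -- use the other direction for `b.symm` and uniqueness
    obtain ⟨P₂', φ₂', hφ₂', hPP', hind'⟩ := exists_of_mem_of_isFactorSystem h₂ h₁ b.symm hbs hφ₁
    have hP₁S : P₁ ≤ S₁ := (E₁.le_of_mem hφ₁).1
    have hP₂'S : P₂' ≤ S₂ := (E₂.le_of_mem hφ₂').1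
    have hP₂eq : P₂' = P₂ := by
      rw [← hPP, ← hPP']
      exact (im_im_symm b hP₂'S).symm
    subst hP₂eq
    have hind'' : InducedAlong (pairHom b) φ₁ φ₂' := by
      have := inducedAlong_symm b.symm hPP' hind'
      rwa [MulEquiv.symm_symm] at this
    have : φ₂' = φ₂ := inducedAlong_unique' b hPP hind'' hind
    rw [← this]
    exact hφ₂'

end Cfsg.Agent.Lib.Helper3.FTr
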