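import Cfsg.Agent.Lib.Helper3.BPL0Poly
import Cfsg.Agent.Lib.Helper77.ModResidue

/-!
# BP-[L0-ICL] + BP-[L0-SPLIT] : the local ring `localSubring M` (helper3)

`localSubring M` is integrally closed in `ℂ` (this is helper77's
`Modular.mem_localSubring_of_isIntegral`, restated in the sheet's form), hence every monic
polynomial over it splits into linear factors: `MonicSplits (localSubring M)`.
-/

set_option autoImplicit false

namespace Cfsg.Agent.Lib.Helper3.BP

open Polynomial Cfsg Cfsg.Agent.Lib.Helper16 Cfsg.Agent.Lib.Helper92.BP

/-- **BP-[L0-ICL]** : the local ring at `M` is integrally closed in `ℂ` -/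
theorem mem_localSubring_of_isIntegral (M : Ideal AlgInt) [M.IsPrime] (z : ℂ)
    (hz : IsIntegral (localSubring M) z) : z ∈ localSubring M :=
  Cfsg.Agent.Lib.Helper77.Modular.mem_localSubring_of_isIntegral M hz

/-- **BP-[L0-SPLIT]** : every monic polynomial over the local ring at `M` splits -/
theorem monicSplits_localSubring (M : Ideal AlgInt) [M.IsPrime] :
    MonicSplits (localSubring M) := by
  classical
  intro f hf
  set ι : localSubring M →+* ℂ := (localSubring M).subtype with hι
  have hinj : Function.Injective ι := Subtype.val_injective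
  have hsp : (f.map ι).Splits := IsAlgClosed.splits _
  have hprod := hsp.eq_prod_roots_of_monic (hf.map ι)
  set s := (f.map ι).roots with hs
  have hmem : ∀ z ∈ s, z ∈ localSubring M := by
    intro z hz
    apply mem_localSubring_of_isIntegral M
    refine ⟨f, hf, ?_⟩
    have h0 : (f.map ι).eval z = 0 := (mem_roots'.mp hz).2
    rw [eval_map] at h0
    exact h0
  set m : Multiset (localSubring M) := s.pmap (fun z hz => ⟨z, hz⟩) hmem with hm
  have hms : m.map ι = s := by
    rw [hm, Multiset.map_pmap]
    simp only [hι, Subring.subtype_apply]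
    rw [Multiset.pmap_eq_map, Multiset.map_id']
  refine ⟨m, ?_⟩
  apply Polynomial.map_injective ι hinj
  rw [hprod, Polynomial.map_multiset_prod, Multiset.map_map, ← hms, Multiset.map_map]
  congr 1
  apply Multiset.map_congr rfl
  intro r _
  simp

/-- idempotent lifting over the local ring at `M`, through any algebra homomorphism -/
theorem exists_idempotent_aeval_localSubring (M : Ideal AlgInt) [M.IsPrime]
    {A : Type*} [Ring A] [Algebra (localSubring M) A] {B : Type*} [Ring B]
    [Algebra (localSubring M) B] (φ : A →ₐ[localSubring M] B) (a : A)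
    (ha : IsIntegral (localSubring M) a) (hb : IsIdempotentElem (φ a)) :
    ∃ q : (localSubring M)[X], IsIdempotentElem (aeval a q) ∧ φ (aeval a q) = φ a :=
  exists_idempotent_aeval (monicSplits_localSubring M) φ a ha hb

end Cfsg.Agent.Lib.Helper3.BP
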