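import Cfsg.Agent.Lib.Helper92.BPDefs

/-!
# BP-[L0-POLY] : idempotent lifting by a polynomial (helper3)

`R` a local commutative ring over which every monic polynomial splits, `Λ` any `R`-algebra,
`a : Λ` integral over `R`.  Then there is `w ∈ R[X]` with `w(a)` idempotent, `w(0) = 0`, `w(1) = 1`,
hence `w = X + q (X² - X)`: `a + q(a)(a² - a)` is an idempotent.  No Hensel, no completion.
(The domain hypothesis of the sheet is not needed.)
-/

set_option autoImplicit false

namespace Cfsg.Agent.Lib.Helper3.BP

open Polynomial Cfsg.Agent.Lib.Helper92.BP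

section coprime

theorem isCoprime_multiset_prod_left {R : Type*} [CommSemiring R] {s : Multiset R} {x : R}
    (h : ∀ y ∈ s, IsCoprime y x) : IsCoprime s.prod x := by
  induction s using Multiset.induction_on with
  | empty => simpa using isCoprime_one_left
  | cons a s ih =>
    rw [Multiset.prod_cons]
    exact IsCoprime.mul_left (h a (Multiset.mem_cons_self a s))
      (ih fun y hy => h y (Multiset.mem_cons_of_mem hy))

theorem isCoprime_multiset_prod_right {R : Type*} [CommSemiring R] {s : Multiset R} {x : R}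
    (h : ∀ y ∈ s, IsCoprime x y) : IsCoprime x s.prod :=
  (isCoprime_multiset_prod_left fun y hy => (h y hy).symm).symm

end coprime

section aevalIdem

variable {O : Type*} [CommRing O] {B : Type*} [Ring B] [Algebra O B]

/-- a polynomial in an idempotent -/
theorem aeval_of_isIdempotentElem {b : B} (hb : IsIdempotentElem b) (q : O[X]) :
    aeval b q = (q.eval 0) • (1 - b) + (q.eval 1) • b := by
  induction q using Polynomial.induction_on' with
  | add f g hf hg =>
    rw [map_add, hf, hg, eval_add, eval_add, add_smul, add_smul]; abel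
  | monomial n c =>
    rcases Nat.eq_zero_or_pos n with rfl | hn
    · simp [← smul_add, Algebra.algebraMap_eq_smul_one]
    · obtain ⟨k, rfl⟩ : ∃ k, n = k + 1 := ⟨n - 1, by omega⟩
      have h0 : (0 : O) ^ (k + 1) = 0 := zero_pow (by omega)
      have hbn : b ^ (k + 1) = b := hb.pow_succ_eq k
      simp [eval_monomial, h0, hbn, Algebra.smul_def]

end aevalIdem

section main

variable {R : Type*} [CommRing R] [IsLocalRing R]
variable {Λ : Type*} [Ring Λ] [Algebra R Λ]

/-- core: a polynomial `w` with `w(a)` idempotent, `w(0) = 0`, `w(1) = 1` -/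
theorem exists_poly_idem (hR : MonicSplits R) (a : Λ) (ha : IsIntegral R a) :
    ∃ w : R[X], IsIdempotentElem (aeval a w) ∧ w.eval 0 = 0 ∧ w.eval 1 = 1 := by
  classical
  obtain ⟨f, hfm, hfa⟩ := ha
  have hfa' : aeval a f = 0 := by rw [aeval_def]; exact hfa
  obtain ⟨m, hm⟩ := hR f hfm
  -- split the roots by their residue, adding the roots 1 and 0
  set P : R → Prop := fun r => r - 1 ∈ IsLocalRing.maximalIdeal R with hP
  have hP1 : P 1 := by show (1 : R) - 1 ∈ IsLocalRing.maximalIdeal R; simp
  have hP0 : ¬ P 0 := by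
    show ¬ ((0 : R) - 1 ∈ IsLocalRing.maximalIdeal R)
    intro h'
    have h1 : (1 : R) ∈ IsLocalRing.maximalIdeal R := by
      have := Ideal.neg_mem_iff (IsLocalRing.maximalIdeal R) |>.mpr h'
      rw [zero_sub, neg_neg] at this
      exact this
    exact (IsLocalRing.maximalIdeal.isMaximal R).ne_top
      ((Ideal.eq_top_iff_one _).mpr h1)
  set m1 : Multiset R := 1 ::ₘ m.filter P with hm1
  set m0 : Multiset R := 0 ::ₘ m.filter (fun r => ¬ P r) with hm0
  have hm1P : ∀ r ∈ m1, P r := by
    intro r hr
    rcases Multiset.mem_cons.mp hr with rfl | hr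
    · exact hP1
    · exact (Multiset.mem_filter.mp hr).2
  have hm0P : ∀ r ∈ m0, ¬ P r := by
    intro r hr
    rcases Multiset.mem_cons.mp hr with rfl | hr
    · exact hP0
    · exact (Multiset.mem_filter.mp hr).2
  set g : R[X] := (m1.map (X - C ·)).prod with hg
  set h : R[X] := (m0.map (X - C ·)).prod with hh
  set F : R[X] := g * h with hF
  have hgh : F = (X - C 1) * (X - C 0) * f := by
    rw [hF, hg, hh, hm1, hm0, Multiset.map_cons, Multiset.map_cons, Multiset.prod_cons,
      Multiset.prod_cons]
    have : f = ((m.filter P).map (X - C ·)).prod *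
        ((m.filter (fun r => ¬ P r)).map (X - C ·)).prod := by
      rw [← Multiset.prod_add, ← Multiset.map_add, Multiset.filter_add_not]; exact hm
    rw [this]; ring
  have hFa : aeval a F = 0 := by rw [hgh, map_mul, hfa', mul_zero]
  have hcop : IsCoprime g h := by
    apply isCoprime_multiset_prod_left
    intro y hy
    obtain ⟨r, hr, rfl⟩ := Multiset.mem_map.mp hy
    apply isCoprime_multiset_prod_right
    intro z hz
    obtain ⟨r', hr', rfl⟩ := Multiset.mem_map.mp hz
    have hrP : P r := hm1P r hr
    have hr'P : ¬ P r' := hm0P r' hr'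
    apply isCoprime_X_sub_C_of_isUnit_sub
    by_contra hu
    have hmem : r - r' ∈ IsLocalRing.maximalIdeal R := (IsLocalRing.mem_maximalIdeal _).mpr hu
    apply hr'P
    have : r' - 1 = (r - 1) - (r - r') := by ring
    show r' - 1 ∈ IsLocalRing.maximalIdeal R
    rw [this]
    exact Ideal.sub_mem _ hrP hmem
  have hg1 : g.eval 1 = 0 := by
    rw [hg, hm1, Multiset.map_cons, Multiset.prod_cons, eval_mul]; simp
  have hh0 : h.eval 0 = 0 := by
    rw [hh, hm0, Multiset.map_cons, Multiset.prod_cons, eval_mul]; simp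
  obtain ⟨u, v, huv⟩ := hcop
  refine ⟨v * h, ?_, ?_, ?_⟩
  · -- idempotent
    have h1 : (v * h) * (1 - v * h) = (u * v) * F := by
      have : (1 : R[X]) - v * h = u * g := by rw [← huv]; ring
      rw [this, hF]; ring
    have h2 : aeval a ((v * h) * (1 - v * h)) = 0 := by rw [h1, map_mul, hFa, mul_zero]
    have h3 : aeval a (v * h) * (1 - aeval a (v * h)) = 0 := by
      rw [← h2, map_mul (aeval a) (v * h) (1 - v * h), map_sub, map_one]
    show aeval a (v * h) * aeval a (v * h) = aeval a (v * h)
    have := h3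
    rw [mul_sub, mul_one, sub_eq_zero] at this
    exact this.symm
  · rw [eval_mul, hh0, mul_zero]
  · have : (u * g + v * h).eval 1 = 1 := by rw [huv, eval_one]
    rw [eval_add, eval_mul, hg1, mul_zero, zero_add] at this
    exact this

/-- a polynomial with `w(0) = 0` and `w(1) = 1` is `X + q (X² - X)` -/
theorem exists_eq_X_add_mul {R : Type*} [CommRing R] (w : R[X]) (h0 : w.eval 0 = 0)
    (h1 : w.eval 1 = 1) : ∃ q : R[X], w = X + q * (X * X - X) := by
  have hd0 : (X - C (0 : R)) ∣ w - X := by
    rw [dvd_iff_isRoot]; simp [IsRoot, h0]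
  have hd1 : (X - C (1 : R)) ∣ w - X := by
    rw [dvd_iff_isRoot]; simp [IsRoot, h1]
  have hcop : IsCoprime (X - C (0 : R)) (X - C (1 : R)) := by
    apply isCoprime_X_sub_C_of_isUnit_sub
    simp
  obtain ⟨q, hq⟩ := hcop.mul_dvd hd0 hd1
  refine ⟨q, ?_⟩
  have : w = X + (X - C 0) * (X - C 1) * q := by rw [← hq]; ring
  rw [this]
  simp only [C_0, C_1, sub_zero]
  ring

/-- **BP-[L0-POLY]** -/
theorem exists_idem_poly (hR : MonicSplits R) (a : Λ) (ha : IsIntegral R a) :
    ∃ q : R[X], IsIdempotentElem (a + aeval a q * (a * a - a)) := by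
  obtain ⟨w, hw, h0, h1⟩ := exists_poly_idem hR a ha
  obtain ⟨q, hq⟩ := exists_eq_X_add_mul w h0 h1
  refine ⟨q, ?_⟩
  have : aeval a w = a + aeval a q * (a * a - a) := by
    rw [hq]; simp
  rw [← this]
  exact hw

/-- everything commuting with `a` commutes with every polynomial in `a` -/
theorem commute_aeval {R : Type*} [CommRing R] {Λ : Type*} [Ring Λ] [Algebra R Λ] (a y : Λ)
    (h : y * a = a * y) (q : R[X]) : y * aeval a q = aeval a q * y := by
  have hc : Commute y a := h
  induction q using Polynomial.induction_on' with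
  | add f g hf hg => rw [map_add, mul_add, add_mul, hf, hg]
  | monomial n c =>
    rw [aeval_monomial]
    have h1 : Commute y (algebraMap R Λ c) := (Algebra.commutes c y).symm
    exact (h1.mul_right (hc.pow_right n)).eq

/-- **BP-[L0-LIFT]** -/
theorem exists_idem_lift (hR : MonicSplits R) (I : Ideal Λ) (a : Λ) (ha : IsIntegral R a)
    (haI : a * a - a ∈ I) :
    ∃ e : Λ, IsIdempotentElem e ∧ e - a ∈ I ∧ (∀ y : Λ, y * a = a * y → y * e = e * y) ∧
      (∀ c : Λ, c * a = a → a * c = a → c * e = e ∧ e * c = e) := by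
  obtain ⟨q, hq⟩ := exists_idem_poly hR a ha
  refine ⟨a + aeval a q * (a * a - a), hq, ?_, ?_, ?_⟩
  · rw [add_sub_cancel_left]
    exact I.mul_mem_left _ haI
  · intro y hy
    have h1 := commute_aeval a y hy q
    rw [mul_add, add_mul, hy, ← mul_assoc, h1, mul_assoc, mul_assoc]
    congr 2
    rw [mul_sub, sub_mul, ← mul_assoc, hy, mul_assoc, hy, ← mul_assoc]
  · intro c hca hac
    have hcomm : c * a = a * c := by rw [hca, hac]
    have h1 := commute_aeval a c hcomm q
    have h2 : c * (a * a - a) = a * a - a := by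
      rw [mul_sub, ← mul_assoc, hca]
    have h3 : (a * a - a) * c = a * a - a := by
      rw [sub_mul, mul_assoc, hac]
    constructor
    · rw [mul_add, hca, ← mul_assoc, h1, mul_assoc, h2]
    · rw [add_mul, hac, mul_assoc, h3]

/-- lifting through an algebra homomorphism: if `φ a` is idempotent, some polynomial expression
`e = w(a)` is an idempotent of `Λ` with `φ e = φ a` (e.g. `φ` the Brauer map, or reduction modulo
an ideal). -/
theorem exists_idempotent_aeval (hR : MonicSplits R) {B : Type*} [Ring B] [Algebra R B]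
    (φ : Λ →ₐ[R] B) (a : Λ) (ha : IsIntegral R a) (hb : IsIdempotentElem (φ a)) :
    ∃ w : R[X], IsIdempotentElem (aeval a w) ∧ φ (aeval a w) = φ a := by
  obtain ⟨w, hw, h0, h1⟩ := exists_poly_idem hR a ha
  refine ⟨w, hw, ?_⟩
  rw [← aeval_algHom_apply, aeval_of_isIdempotentElem hb, h0, h1, zero_smul, one_smul, zero_add]

end main

end Cfsg.Agent.Lib.Helper3.BP
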