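import Mathlib
import Cfsg.Prelude.Def_Characters
import Cfsg.Agent.Lib.Helper78.CharOrtho
import Cfsg.Agent.Lib.Helper78.CharMore
import Cfsg.Agent.Lib.Helper79.HeightZero
import Cfsg.Agent.Lib.Helper29.BPEArith
import Cfsg.Agent.Lib.Helper3.CharValues

/-!
# BP-[L4-E-GEN] (helper3, for helper92's Broué–Puig project)

`Q` a `p`-group, `a : Q → ℂ` with algebraic-integer values, `m` prime to `p`, and `m · a` a
generalized character.  Then `a` is a generalized character.

Proof: `a` is a class function; for `ν ∈ Irr(Q)`, `m (a,ν) = (m a, ν) ∈ ℤ`, and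
`|Q| (a,ν) = Σ_u a(u) conj ν(u)` is an algebraic integer; as `m` and `|Q|` are coprime,
`(a,ν) ∈ ℤ` (`Helper29.BP.int_of_coprime_mul`); and `a = Σ_ν (a,ν) ν`.
-/

set_option autoImplicit false

namespace Cfsg.Agent.Lib.Helper3.BP

open Cfsg
open scoped ComplexConjugate

theorem isIntegral_conj_of_isIntegral {z : ℂ} (hz : IsIntegral ℤ z) : IsIntegral ℤ (conj z) := by
  obtain ⟨f, hf, hfz⟩ := hz
  refine ⟨f, hf, ?_⟩
  have h := congrArg (starRingEnd ℂ) hfz
  rw [Polynomial.eval₂_eq_sum_range] at hfz h ⊢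
  rw [map_sum, map_zero] at h
  rw [← h]
  refine Finset.sum_congr rfl fun i _ => ?_
  rw [map_mul, map_pow]
  congr 1
  simp

/-- BP-[L4-E-GEN] : a function on a `p`-group with algebraic-integer values, a `p'`-multiple of
which is a generalized character, is a generalized character -/
theorem isGeneralizedCharacter_of_natCast_mul {p : ℕ} [Fact p.Prime] {Q : Type*} [Group Q]
    [Finite Q] (hQ : IsPGroup p Q) {a : Q → ℂ} {m : ℕ} (hm : ¬ p ∣ m)
    (hma : IsGeneralizedCharacter Q (fun u => (m : ℂ) * a u))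
    (hint : ∀ u, IsIntegral ℤ (a u)) : IsGeneralizedCharacter Q a := by
  classical
  letI : Fintype Q := Fintype.ofFinite Q
  have hp : p.Prime := Fact.out
  have hm0 : m ≠ 0 := by
    rintro rfl
    exact hm (dvd_zero p)
  have hmC : (m : ℂ) ≠ 0 := by exact_mod_cast hm0
  have hfun : (fun u => (m : ℂ) * a u) = (m : ℂ) • a := rfl
  -- `a` is a class function
  have hcf : IsClassFunction Q a := by
    obtain ⟨χ₁, χ₂, h₁, h₂, h⟩ := hma
    have h' : IsClassFunction Q (fun u => (m : ℂ) * a u) := by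
      rw [h]
      exact Cfsg.Agent.Lib.Helper78.isClassFunction_sub
        (Cfsg.Agent.Lib.Helper78.IsCharacter.isClassFunction h₁)
        (Cfsg.Agent.Lib.Helper78.IsCharacter.isClassFunction h₂)
    intro g h
    exact mul_left_cancel₀ hmC (h' g h)
  -- `|Q|` is a power of `p`, prime to `m`
  obtain ⟨k, hk⟩ := hQ.exists_card_eq
  have hcop : Nat.Coprime m (Nat.card Q) := by
    rw [hk]
    exact Nat.Coprime.pow_right _ ((Nat.Prime.coprime_iff_not_dvd hp).2 hm).symm
  have hcard0 : (Nat.card Q : ℂ) ≠ 0 := by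
    have : 0 < Nat.card Q := Nat.card_pos
    exact_mod_cast this.ne'
  -- the coefficients are integers
  have hcoef : ∀ ν : IrrCharacter Q, ∃ b : ℤ, classInner a (ν : Q → ℂ) = b := by
    intro ν
    apply Cfsg.Agent.Lib.Helper29.BP.int_of_coprime_mul hm0 hcop
    · obtain ⟨χ₁, χ₂, h₁, h₂, h⟩ := hma
      obtain ⟨n₁, hn₁⟩ := Cfsg.Agent.Lib.Helper78.IsCharacter.exists_nat_classInner h₁ ν
      obtain ⟨n₂, hn₂⟩ := Cfsg.Agent.Lib.Helper78.IsCharacter.exists_nat_classInner h₂ ν
      refine ⟨(n₁ : ℤ) - n₂, ?_⟩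
      rw [← Cfsg.Agent.Lib.Helper78.classInner_smul_left, ← hfun, h]
      have hsub : χ₁ - χ₂ = χ₁ + (-1 : ℂ) • χ₂ := by
        ext g; simp [sub_eq_add_neg]
      rw [hsub, Cfsg.Agent.Lib.Helper78.classInner_add_left,
        Cfsg.Agent.Lib.Helper78.classInner_smul_left, hn₁, hn₂]
      push_cast
      ring
    · unfold classInner
      rw [← mul_assoc, mul_inv_cancel₀ hcard0, one_mul]
      refine IsIntegral.sum _ fun u _ => (hint u).mul (isIntegral_conj_of_isIntegral ?_)
      obtain ⟨n, ρ, _, hρ⟩ := ν.2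
      rw [← hρ]
      exact Cfsg.Agent.Lib.Helper3.isIntegral_character ρ u
  choose c hc using hcoef
  have hgen := Cfsg.Agent.Lib.Helper79.isGeneralizedCharacter_sum_int c
  have hexp := Cfsg.Agent.Lib.Helper78.classFunction_eq_sum_irr hcf
  have : a = fun x => ∑ ψ : IrrCharacter Q, (c ψ : ℂ) * (ψ : Q → ℂ) x := by
    funext x
    conv_lhs => rw [hexp]
    rw [Finset.sum_apply]
    refine Finset.sum_congr rfl fun ψ _ => ?_
    rw [Pi.smul_apply, smul_eq_mul, hc ψ]
  rw [this]
  exact hgen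

end Cfsg.Agent.Lib.Helper3.BP
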