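import Mathlib
import Cfsg.Prelude.Def_Characters
import Cfsg.Prelude.Def_Blocks
import Cfsg.Agent.Lib.Helper75.Ito
import Cfsg.Agent.Lib.Helper77.Deflation
import Cfsg.Agent.Lib.Helper77.Linear
import Cfsg.Agent.Lib.Helper78.CharOrtho
import Cfsg.Agent.Lib.Helper79.Integrality
import Cfsg.Agent.Lib.Helper80.CharBasic
import Cfsg.Agent.Lib.Helper80.ItoMichler

/-!
# Character-theoretic lemmas for S4931 (helper3)

`H` is a finite group with a normal subgroup `A`.

* `ito_of_linear_constituent`: if `χ ∈ Irr(H)` lies over a linear character of `A ⊴ H`, then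
  `χ(1) ∣ |H : A|`.
* `exists_irr_ne_of_not_mem`: if `x ∉ A`, there is `θ ∈ Irr(H)` with `A ≤ ker θ`, `θ(1) ∣ |H : A|`
  and `θ x ≠ θ 1`.
* `apply_commutator_eq_of_not_dvd`: if `A` is a `p`-group and `p ∤ χ(1)` then `⁅x, y⁆ ∈ ker χ` for
  `x, y ∈ A`.
* `exists_irr_ne_of_hom_ne_one`: if `μ : A →* ℂˣ` and `μ c ≠ 1`, some `χ ∈ Irr(H)` with
  `χ(1) ∣ |H : A|` has `χ c ≠ χ 1`.
-/

set_option autoImplicit false
set_option linter.unusedSectionVars false
set_option linter.style.haveILetI false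

namespace Cfsg.Agent.Lib.Helper3.NormComplChar

open Cfsg
open scoped commutatorElement ComplexConjugate

universe u

section ItoGen

open Cfsg.Agent.Lib.Helper75 Cfsg.Agent.Lib.Helper77 Cfsg.Agent.Lib.Helper78

variable {G : Type u} [Group G] [Fintype G]

/-- the values of a linear character of a finite group have norm one -/
theorem norm_hom_eq_one {A : Type*} [Group A] [Finite A] (φ : A →* ℂˣ) (a : A) :
    ‖((φ a : ℂˣ) : ℂ)‖ = 1 := by
  have h1 : ((φ a : ℂˣ) : ℂ) ^ orderOf a = 1 := by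
    rw [← Units.val_pow_eq_pow_val, ← map_pow, pow_orderOf_eq_one, map_one, Units.val_one]
  exact Helper80.norm_eq_one_of_pow_eq_one (orderOf_pos a) h1

/-- **Itô's theorem**, generalized: if `χ` lies over a linear character of the normal subgroup `A`,
then `χ(1)` divides `|G : A|`. -/
theorem ito_of_linear_constituent (A : Subgroup G) [hAn : A.Normal] [Fintype A]
    (χ : G → ℂ) (hχ : IsIrrCharacter G χ) (θ : A → ℂ) (hθirr : IsIrrCharacter A θ)
    (hθ1 : θ 1 = 1) (hθ : classInner (fun a : A => χ a) θ ≠ 0) : charDegree χ ∣ A.index := by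
  classical
  obtain ⟨φ, hφ⟩ := exists_monoidHom_of_degree_one (IsIrrCharacter.isCharacter hθirr) hθ1
  set T := inertia A θ with hTdef
  have hAT : A ≤ T :=
    le_inertia A (IsCharacter.isClassFunction (IsIrrCharacter.isCharacter hθirr))
  let _ : Fintype T := Fintype.ofFinite T
  obtain ⟨ψ, hψ, hind, hmult⟩ := exists_indFun_eq_of_over A T hAT hθirr (fun g => Iff.rfl) hχ hθ
  let _ : Fintype (A.subgroupOf T) := Fintype.ofFinite _
  have hθ' : IsIrrCharacter (A.subgroupOf T) (liftNT A T θ) :=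
    isIrrCharacter_liftNT A T hAT hθirr
  have hinv' : ∀ t : T, conjFun (A.subgroupOf T) t (liftNT A T θ) =
      liftNT A T θ :=
    conjFun_liftNT A T (fun g hg => hg)
  have hcon' : classInner (fun m : A.subgroupOf T => ψ m) (liftNT A T θ) ≠ 0 := by
    rw [res_eq_comp A T hAT ψ, liftNT_eq_comp A T hAT, classInner_comp_equiv, hmult]
    exact hθ
  obtain ⟨e, he0, -, he⟩ := res_eq_smul_of_invariant (A.subgroupOf T) hψ hθ' hcon' hinv'
  obtain ⟨n, σ, hσirr, hσ⟩ := hψ
  have hψ1 : ψ 1 = (e : ℂ) := by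
    have := congrFun he 1
    simp only [Pi.smul_apply, smul_eq_mul] at this
    have h2 : liftNT A T θ 1 = 1 := by
      unfold liftNT
      rw [← hθ1]
      congr 1
    rw [h2, mul_one] at this
    exact this
  have hn : (n : ℂ) = (e : ℂ) := by
    rw [← hψ1, ← hσ, Representation.char_one]
    simp
  have hne : n = e := by exact_mod_cast hn
  have hle : A.subgroupOf T ≤ repCenter σ := by
    intro a ha
    rw [mem_repCenter_iff_norm, hσ]
    have h1 := congrFun he ⟨a, ha⟩
    simp only [Pi.smul_apply, smul_eq_mul] at h1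
    change ψ a = _ at h1
    rw [h1, norm_mul]
    have h2 : ‖liftNT A T θ ⟨a, ha⟩‖ = 1 := by
      unfold liftNT
      rw [hφ]
      exact norm_hom_eq_one φ _
    rw [h2, mul_one]
    simp [hne]
  have hdvd1 : n ∣ (A.subgroupOf T).index := by
    have h1 := finrank_dvd_index_repCenter σ
    rw [Module.finrank_fin_fun] at h1
    exact dvd_trans h1 (Subgroup.index_dvd_of_le hle)
  have hdeg : charDegree χ = T.index * n := by
    have h1 := congrFun hind 1
    rw [indFun_one, hψ1, ← hn, IsCharacter.apply_one_eq_charDegree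
      (IsIrrCharacter.isCharacter hχ)] at h1
    exact_mod_cast h1.symm
  rw [hdeg, ← Subgroup.relIndex_mul_index hAT, mul_comm]
  exact Nat.mul_dvd_mul hdvd1 (dvd_refl _)

end ItoGen

section quotient

open Cfsg.Agent.Lib.Helper77 Cfsg.Agent.Lib.Helper78

variable {H : Type u} [Group H] [Finite H]

/-- an element outside the normal subgroup `A` is outside the kernel of some irreducible character
of `H ⧸ A`, inflated to `H` -/
theorem exists_irr_ne_of_not_mem (A : Subgroup H) [A.Normal] (x : H) (hx : x ∉ A) :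
    ∃ θ : IrrCharacter H, charDegree (θ : H → ℂ) ∣ A.index ∧
      (∀ a ∈ A, (θ : H → ℂ) a = (θ : H → ℂ) 1) ∧ (θ : H → ℂ) x ≠ (θ : H → ℂ) 1 := by
  classical
  let _ : Fintype (H ⧸ A) := Fintype.ofFinite _
  have hx1 : ((x : H ⧸ A)) ≠ 1 := by
    rw [Ne, QuotientGroup.eq_one_iff]
    exact hx
  have hnc : ¬ IsConj (x : H ⧸ A) 1 := by
    rw [isConj_one_left]
    exact hx1
  have h0 := second_orthogonality_of_not_isConj hnc
  have h1 := second_orthogonality_of_isConj (IsConj.refl (1 : H ⧸ A))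
  by_contra hcon
  push Not at hcon
  have h2 : ∀ χ' : IrrCharacter (H ⧸ A),
      (χ' : H ⧸ A → ℂ) (x : H ⧸ A) = (χ' : H ⧸ A → ℂ) 1 := by
    intro χ'
    have hdeg : charDegree ((inflate A χ' : IrrCharacter H) : H → ℂ) ∣ A.index := by
      have h3 : charDegree ((inflate A χ' : IrrCharacter H) : H → ℂ) =
          charDegree (χ' : H ⧸ A → ℂ) := by
        unfold charDegree
        rw [inflate_apply, QuotientGroup.mk_one]
      rw [h3, Subgroup.index_eq_card]
      exact Helper79.irr_charDegree_dvd_card χ'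
    have h4 := hcon (inflate A χ') hdeg (inflate_apply_of_mem A χ')
    rw [inflate_apply, inflate_apply, QuotientGroup.mk_one] at h4
    exact h4
  rw [Finset.sum_congr rfl (fun χ' _ => by rw [h2 χ'])] at h0
  rw [h0] at h1
  have h5 : (Nat.card (Subgroup.centralizer ({(1 : H ⧸ A)} : Set (H ⧸ A))) : ℂ) ≠ 0 := by
    exact_mod_cast Nat.card_pos.ne'
  exact h5 h1.symm

end quotient

section normalsub

open Cfsg.Agent.Lib.Helper75 Cfsg.Agent.Lib.Helper77 Cfsg.Agent.Lib.Helper78

variable {H : Type u} [Group H] [Fintype H] {p : ℕ} [hp : Fact p.Prime]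

/-- if `A ⊴ H` is a `p`-group and `p ∤ χ(1)` then `A' ≤ ker χ` -/
theorem apply_commutator_eq_of_not_dvd (A : Subgroup H) [hAn : A.Normal] (hA : IsPGroup p A)
    {χ : H → ℂ} (hχ : IsIrrCharacter H χ) (hpχ : ¬ p ∣ charDegree χ) (x y : H) (hx : x ∈ A)
    (hy : y ∈ A) : χ ⁅x, y⁆ = χ 1 := by
  classical
  let _ : Fintype A := Fintype.ofFinite A
  obtain ⟨θ, hθ⟩ := exists_constituent_res A hχ
  have hd1 : charDegree (θ : A → ℂ) ∣ charDegree χ := Helper80.charDegree_dvd_of_over A hχ θ.2 hθ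
  have hd2 : charDegree (θ : A → ℂ) ∣ Nat.card A := Helper79.irr_charDegree_dvd_card θ
  obtain ⟨n, hn⟩ := IsPGroup.iff_card.mp hA
  rw [hn] at hd2
  obtain ⟨i, -, hi⟩ := (Nat.dvd_prime_pow hp.out).mp hd2
  have hi0 : i = 0 := by
    by_contra h
    apply hpχ
    refine dvd_trans ?_ hd1
    rw [hi]
    exact dvd_pow_self p h
  rw [hi0, pow_zero] at hi
  have hθ1 : (θ : A → ℂ) 1 = 1 := by
    rw [Helper79.irr_apply_one_eq_charDegree θ, hi, Nat.cast_one]
  have hcl := clifford_finset A hχ θ.2 hθ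
  have hlin : ∀ φ ∈ conjOrbit A (θ : A → ℂ), ∀ a b : A, (φ : A → ℂ) ⁅a, b⁆ = (φ : A → ℂ) 1 := by
    intro φ hφ a b
    rw [mem_conjOrbit] at hφ
    obtain ⟨g, hg⟩ := hφ
    have hφ1 : (φ : A → ℂ) 1 = 1 := by
      rw [← hg, conjFun_apply, ← hθ1]
      apply congrArg
      apply Subtype.ext
      simp
    rw [hφ1]
    apply linear_character_eq_one_of_mem_commutator φ hφ1
    rw [commutator_def]
    exact Subgroup.commutator_mem_commutator (Subgroup.mem_top a) (Subgroup.mem_top b)
  have h1 := congrFun hcl ⁅(⟨x, hx⟩ : A), ⟨y, hy⟩⁆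
  have h2 := congrFun hcl 1
  simp only [Pi.smul_apply, Finset.sum_apply, smul_eq_mul] at h1 h2
  rw [Finset.sum_congr rfl (fun φ hφ => hlin φ hφ ⟨x, hx⟩ ⟨y, hy⟩), ← h2] at h1
  exact h1

/-- if a linear character `μ` of `A ⊴ H` is nontrivial at `c`, some irreducible character of `H`
of degree dividing `|H : A|` does not have `c` in its kernel -/
theorem exists_irr_ne_of_hom_ne_one (A : Subgroup H) [hAn : A.Normal] (μ : A →* ℂˣ) (c : A)
    (hc : μ c ≠ 1) :
    ∃ χ : H → ℂ, IsIrrCharacter H χ ∧ charDegree χ ∣ A.index ∧ χ c ≠ χ 1 := by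
  classical
  let _ : Fintype A := Fintype.ofFinite A
  have hθ : IsIrrCharacter A (fun a => ((μ a : ℂˣ) : ℂ)) := isIrrCharacter_of_monoidHom μ
  obtain ⟨χ, hχ, hover⟩ := Helper80.exists_irr_over' A hθ
  refine ⟨χ, hχ, ?_, ?_⟩
  · exact ito_of_linear_constituent A χ hχ _ hθ (by simp) hover
  · intro hker
    have hχc : IsCharacter H χ := IsIrrCharacter.isCharacter hχ
    have hmem : (c : H) ∈ Helper80.charKer χ hχc := (Helper80.mem_charKer hχc _).mpr hker
    have hS : ∑ a : A, χ a * conj ((μ a : ℂˣ) : ℂ) =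
        conj ((μ c : ℂˣ) : ℂ) * ∑ a : A, χ a * conj ((μ a : ℂˣ) : ℂ) := by
      rw [Finset.mul_sum]
      rw [← Equiv.sum_comp (Equiv.mulLeft c)]
      apply Finset.sum_congr rfl
      intro a _
      simp only [Equiv.coe_mulLeft, Subgroup.coe_mul]
      rw [Helper80.char_mul_of_mem_charKer hχc hmem, map_mul, Units.val_mul, map_mul]
      ring
    have hS0 : ∑ a : A, χ a * conj ((μ a : ℂˣ) : ℂ) ≠ 0 := by
      intro h0
      apply hover
      unfold classInner
      rw [h0, mul_zero]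
    have h1 : conj ((μ c : ℂˣ) : ℂ) = 1 := by
      have h2 : (conj ((μ c : ℂˣ) : ℂ) - 1) * ∑ a : A, χ a * conj ((μ a : ℂˣ) : ℂ) = 0 := by
        rw [sub_mul, one_mul, ← hS, sub_self]
      rcases mul_eq_zero.mp h2 with h3 | h3
      · exact sub_eq_zero.mp h3
      · exact absurd h3 hS0
    apply hc
    apply Units.ext
    have h4 := congrArg conj h1
    rw [Complex.conj_conj, map_one] at h4
    rw [h4, Units.val_one]

end normalsub

end Cfsg.Agent.Lib.Helper3.NormComplChar
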