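import Cfsg.Agent.Lib.Helper92.BPGAlg
import Cfsg.Agent.Lib.Helper9.BPTr2
import Cfsg.Agent.Lib.Helper9.BPGiPrim
import Cfsg.Agent.Lib.Helper23.BPMackey
import Cfsg.Agent.Lib.Helper23.BPFixedFin
import Cfsg.Agent.Lib.Helper11.BPLocalFinal

/-!
# BP-[U-BCP] : Burry–Carlson–Puig, idempotent form (helper3)

`A = R[G]`, `P` a `p`-subgroup, `Q ≤ N ≤ P` with `N_P(Q) ≤ N`, `i` a primitive idempotent of `A^P`,
`l ≤ i` a primitive idempotent of `A^N` with `l ∈ Tr_Q^N(A^Q)` and `l ∉ Tr_T^N(A^T)` for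
`|T| < |Q|`.  Then `i ∈ Tr_Q^P(A^Q)`.

Proof (elementwise, no corner types).  `small m Y` is the additive span of the `Tr_T^Y(A^T)`,
`T ≤ Y`, `|T| < m`; it is a two-sided ideal of `A^Y`, `Tr_N^P` maps `small m N` into `small m P`,
and `small m P ⊆ small m N` (Mackey).  Put `m = |Q|`, `l = Tr_Q^N(a)`, `c = Tr_N^P(l) = Tr_Q^P(a)`.
* `l (c - l) ∈ small m N` : Mackey for `N \ P / Q` and the product formula; the subgroups that occur
  are inside `yQy⁻¹ ∩ wQw⁻¹`, `y ∈ P ∖ N`, `w ∈ N`, of order `< |Q|` because `N_P(Q) ≤ N`.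
* elements `l x l`, `x ∈ small m N`, are non-units of the local corner `l A^N l` (as `l` is not a
  trace from a subgroup of order `< |Q|`); hence `l c l = l + l (c - l) l` is a unit of it.
* `c² - c = Tr_N^P(l (c - l)) ∈ small m P`.  In the local corner `i A^P i`, either `c` is a unit, and
  then `i = c y = Tr_Q^P(a y)`, or `i - c` is a unit, then `c ∈ small m P ⊆ small m N` and `l c l`
  is a non-unit: contradiction.
-/

set_option autoImplicit false

namespace Cfsg.Agent.Lib.Helper3.BP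

open Cfsg.Agent.Lib.Helper92.BP

namespace BCP

open Cfsg.Agent.Lib.Helper9.BP Cfsg.Agent.Lib.Helper23.BP

section grp

variable {G : Type*} [Group G]

/-- `yQy⁻¹ ∩ wQw⁻¹` has order `< |Q|` when `y ∈ P ∖ N`, `w ∈ N`, `N_P(Q) ≤ N ≤ P`. -/
theorem card_inf_conj_lt [Finite G] {Q N P : Subgroup G} (hNP : N ≤ P)
    (hnorm : P ⊓ Subgroup.normalizer (Q : Set G) ≤ N) {y w : G} (hy : y ∈ P) (hyN : y ∉ N)
    (hw : w ∈ N) (X : Subgroup G) :
    Nat.card ((X ⊓ Q.map (MulAut.conj y).toMonoidHom) ⊓ Q.map (MulAut.conj w).toMonoidHom :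
      Subgroup G) < Nat.card Q := by
  by_contra hlt
  rw [not_lt] at hlt
  have hcw : Nat.card (Q.map (MulAut.conj w).toMonoidHom) = Nat.card Q :=
    Subgroup.card_map_of_injective (MulAut.conj w).injective
  have hcy : Nat.card (Q.map (MulAut.conj y).toMonoidHom) = Nat.card Q :=
    Subgroup.card_map_of_injective (MulAut.conj y).injective
  have e1 := Subgroup.eq_of_le_of_card_ge
    (inf_le_right : (X ⊓ Q.map (MulAut.conj y).toMonoidHom) ⊓ Q.map (MulAut.conj w).toMonoidHom ≤ _)
    (hcw.le.trans hlt)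
  have e2 := Subgroup.eq_of_le_of_card_ge
    ((inf_le_left.trans inf_le_right) :
      (X ⊓ Q.map (MulAut.conj y).toMonoidHom) ⊓ Q.map (MulAut.conj w).toMonoidHom ≤
        Q.map (MulAut.conj y).toMonoidHom)
    (hcy.le.trans hlt)
  have e : Q.map (MulAut.conj w).toMonoidHom = Q.map (MulAut.conj y).toMonoidHom := by
    rw [← e1, e2]
  have hg : w⁻¹ * y ∈ Subgroup.normalizer (Q : Set G) := by
    rw [Subgroup.mem_normalizer_iff]
    intro h
    constructor
    · intro hh
      have h1 : y * h * y⁻¹ ∈ Q.map (MulAut.conj w).toMonoidHom := by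
        rw [e]; exact (mem_map_conj_iff y h Q).2 hh
      have h2 : y * h * y⁻¹ = w * (w⁻¹ * y * h * (w⁻¹ * y)⁻¹) * w⁻¹ := by group
      rw [h2, mem_map_conj_iff] at h1
      exact h1
    · intro hh
      have h1 : w * (w⁻¹ * y * h * (w⁻¹ * y)⁻¹) * w⁻¹ ∈ Q.map (MulAut.conj w).toMonoidHom :=
        (mem_map_conj_iff w _ Q).2 hh
      have h2 : w * (w⁻¹ * y * h * (w⁻¹ * y)⁻¹) * w⁻¹ = y * h * y⁻¹ := by group
      rw [h2, e, mem_map_conj_iff] at h1
      exact h1
  have hgP : w⁻¹ * y ∈ P := P.mul_mem (P.inv_mem (hNP hw)) hy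
  have hgN : w⁻¹ * y ∈ N := hnorm ⟨hgP, hg⟩
  apply hyN
  have : y = w * (w⁻¹ * y) := by group
  rw [this]
  exact N.mul_mem hw hgN

end grp

section small

variable (R : Type*) [CommRing R] {G : Type*} [Group G]

/-- the generators of `small` -/
def smallGen (m : ℕ) (Y : Subgroup G) : Set (MonoidAlgebra R G) :=
  {x | ∃ T : Subgroup G, T ≤ Y ∧ Nat.card T < m ∧ x ∈ trSet R T Y}

/-- the additive span of the `Tr_T^Y(A^T)`, `T ≤ Y`, `|T| < m` -/
noncomputable def small (m : ℕ) (Y : Subgroup G) : AddSubmonoid (MonoidAlgebra R G) :=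
  AddSubmonoid.closure (smallGen R m Y)

variable {R}

theorem relTr_mem_small [Finite G] {m : ℕ} {T Y : Subgroup G} (hT : T ≤ Y) (hc : Nat.card T < m)
    {b : MonoidAlgebra R G} (hb : b ∈ fixedAlg R T) : relTr R T Y b ∈ small R m Y :=
  AddSubmonoid.subset_closure ⟨T, hT, hc, b, hb, rfl⟩

theorem relTr_sum' [Finite G] (S Q : Subgroup G) {ι : Type*} (s : Finset ι)
    (f : ι → MonoidAlgebra R G) : relTr R S Q (∑ k ∈ s, f k) = ∑ k ∈ s, relTr R S Q (f k) := by
  classical
  induction s using Finset.induction_on with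
  | empty => simp [relTr_zero']
  | insert k s hk ih => rw [Finset.sum_insert hk, Finset.sum_insert hk, relTr_add', ih]

theorem small_le_fixedAlg [Finite G] {m : ℕ} {Y : Subgroup G} {x : MonoidAlgebra R G}
    (hx : x ∈ small R m Y) : x ∈ fixedAlg R Y := by
  induction hx using AddSubmonoid.closure_induction with
  | mem x hx =>
    obtain ⟨T, hT, hc, b, hb, rfl⟩ := hx
    exact relTr_mem_fixedAlg' hb
  | zero => exact zero_mem _
  | add x y _ _ hx hy => exact add_mem hx hy

theorem mul_mem_small [Finite G] {m : ℕ} {Y : Subgroup G} {c x : MonoidAlgebra R G}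
    (hc : c ∈ fixedAlg R Y) (hx : x ∈ small R m Y) : c * x ∈ small R m Y := by
  induction hx using AddSubmonoid.closure_induction with
  | mem x hx =>
    obtain ⟨T, hT, hcard, b, hb, rfl⟩ := hx
    rw [mul_relTr' T Y hc b]
    exact relTr_mem_small hT hcard ((fixedAlg R T).mul_mem (fixedAlg_anti' hT hc) hb)
  | zero => rw [mul_zero]; exact zero_mem _
  | add x y _ _ hx hy => rw [mul_add]; exact add_mem hx hy

theorem small_mul_mem [Finite G] {m : ℕ} {Y : Subgroup G} {c x : MonoidAlgebra R G}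
    (hc : c ∈ fixedAlg R Y) (hx : x ∈ small R m Y) : x * c ∈ small R m Y := by
  induction hx using AddSubmonoid.closure_induction with
  | mem x hx =>
    obtain ⟨T, hT, hcard, b, hb, rfl⟩ := hx
    rw [relTr_mul' T Y hc b]
    exact relTr_mem_small hT hcard ((fixedAlg R T).mul_mem hb (fixedAlg_anti' hT hc))
  | zero => rw [zero_mul]; exact zero_mem _
  | add x y _ _ hx hy => rw [add_mul]; exact add_mem hx hy

theorem relTr_small [Finite G] {m : ℕ} {N P : Subgroup G} (hNP : N ≤ P) {x : MonoidAlgebra R G}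
    (hx : x ∈ small R m N) : relTr R N P x ∈ small R m P := by
  induction hx using AddSubmonoid.closure_induction with
  | mem x hx =>
    obtain ⟨T, hT, hcard, b, hb, rfl⟩ := hx
    rw [relTr_trans hT hNP hb]
    exact relTr_mem_small (hT.trans hNP) hcard hb
  | zero => rw [relTr_zero']; exact zero_mem _
  | add x y _ _ hx hy => rw [relTr_add']; exact add_mem hx hy

/-- Mackey: `small m P ⊆ small m N` for `N ≤ P` -/
theorem small_restrict [Finite G] {m : ℕ} {N P : Subgroup G} (hNP : N ≤ P) {x : MonoidAlgebra R G}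
    (hx : x ∈ small R m P) : x ∈ small R m N := by
  induction hx using AddSubmonoid.closure_induction with
  | mem x hx =>
    obtain ⟨T, hT, hcard, b, hb, rfl⟩ := hx
    obtain ⟨D, hDY, hD⟩ := exists_doubleCoset_reps T N P hT hNP
    rw [mackey hT hNP hb D hDY hD]
    refine AddSubmonoid.sum_mem _ fun y _ => ?_
    refine relTr_mem_small inf_le_left ?_ (fixedAlg_anti' inf_le_right (conj_mem_fixedAlg' y T hb))
    refine lt_of_le_of_lt (Subgroup.card_le_of_le inf_le_right) ?_
    rw [Subgroup.card_map_of_injective (MulAut.conj y).injective]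
    exact hcard
  | zero => exact zero_mem _
  | add x y _ _ hx hy => exact add_mem hx hy

/-- product formula, as a membership: `Tr_Q^N(a) · Tr_X^N(b) ∈ small m N` when all
`X ∩ wQw⁻¹` (`w ∈ N`) have order `< m` -/
theorem relTr_mul_relTr_mem_small [Finite G] {m : ℕ} {Q X N : Subgroup G} (hQN : Q ≤ N)
    (hXN : X ≤ N) {a b : MonoidAlgebra R G} (ha : a ∈ fixedAlg R Q) (hb : b ∈ fixedAlg R X)
    (hcard : ∀ w ∈ N, Nat.card (X ⊓ Q.map (MulAut.conj w).toMonoidHom : Subgroup G) < m) :
    relTr R Q N a * relTr R X N b ∈ small R m N := by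
  obtain ⟨D, hDY, hD⟩ := exists_doubleCoset_reps Q X N hQN hXN
  have hl : relTr R Q N a ∈ fixedAlg R N := relTr_mem_fixedAlg' ha
  rw [mul_relTr' X N hl b, mackey hQN hXN ha D hDY hD, Finset.sum_mul, relTr_sum']
  refine AddSubmonoid.sum_mem _ fun w hw => ?_
  have hwa : conj R w a ∈ fixedAlg R (X ⊓ Q.map (MulAut.conj w).toMonoidHom) :=
    fixedAlg_anti' inf_le_right (conj_mem_fixedAlg' w Q ha)
  rw [relTr_mul' _ X hb, relTr_trans inf_le_left hXN
    ((fixedAlg R _).mul_mem hwa (fixedAlg_anti' inf_le_left hb))]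
  exact relTr_mem_small (inf_le_left.trans hXN) (hcard w (hDY w hw))
    ((fixedAlg R _).mul_mem hwa (fixedAlg_anti' inf_le_left hb))

end small

section corner

theorem cornerUnit_neg {Λ : Type*} [Ring Λ] {e x : Λ} (h : CornerUnit e (-x)) :
    CornerUnit e x := by
  obtain ⟨⟨h1, h2⟩, y, ⟨hy1, hy2⟩, h3, h4⟩ := h
  refine ⟨⟨?_, ?_⟩, -y, ⟨?_, ?_⟩, ?_, ?_⟩
  · rw [mul_neg] at h1; exact neg_injective h1
  · rw [neg_mul] at h2; exact neg_injective h2
  · rw [mul_neg, hy1]
  · rw [neg_mul, hy2]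
  · rw [mul_neg, ← neg_mul]; exact h3
  · rw [neg_mul, ← mul_neg]; exact h4

variable {R : Type*} [CommRing R] [IsDomain R] [IsLocalRing R] {G : Type*} [Group G]

/-- the elements `l x l`, `x ∈ small m N`, are non-units of the corner `l A^N l` if `l` is not a
trace from a subgroup of order `< m` -/
theorem not_cornerUnit_of_small [Finite G] (hR : MonicSplits R) {m : ℕ} {N : Subgroup G}
    {l : MonoidAlgebra R G} (hlN : l ∈ fixedAlg R N)
    (hprim : IsPrimIdem (⟨l, hlN⟩ : fixedAlg R N))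
    (hmin : ∀ T : Subgroup G, T ≤ N → Nat.card T < m → l ∉ trSet R T N)
    {x : MonoidAlgebra R G} (hx : x ∈ small R m N) :
    ∀ h : l * x * l ∈ fixedAlg R N, ¬ CornerUnit (⟨l, hlN⟩ : fixedAlg R N) ⟨l * x * l, h⟩ := by
  have : Module.Finite R (fixedAlg R N) := finite_fixedAlg N
  have hli : l * l = l := congrArg Subtype.val hprim.1.eq
  induction hx using AddSubmonoid.closure_induction with
  | mem x hx =>
    obtain ⟨T, hT, hcard, b, hb, rfl⟩ := hx
    rintro h ⟨-, y, -, h3, -⟩
    apply hmin T hT hcard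
    have h3' : l * relTr R T N b * l * (y : MonoidAlgebra R G) = l := congrArg Subtype.val h3
    refine ⟨l * b * l * (y : MonoidAlgebra R G), ?_, ?_⟩
    · have hlT : l ∈ fixedAlg R T := fixedAlg_anti' hT hlN
      exact (fixedAlg R T).mul_mem ((fixedAlg R T).mul_mem ((fixedAlg R T).mul_mem hlT hb) hlT)
        (fixedAlg_anti' hT y.2)
    · rw [← relTr_mul' T N y.2, ← relTr_mul' T N hlN, ← mul_relTr' T N hlN]
      exact h3'
  | zero =>
    rintro h ⟨-, y, -, h3, -⟩
    apply hprim.2.1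
    apply Subtype.ext
    have h3' : l * 0 * l * (y : MonoidAlgebra R G) = l := congrArg Subtype.val h3
    show l = 0
    rw [← h3']
    simp
  | add x y hx hy ihx ihy =>
    intro h
    have hxN : l * x * l ∈ fixedAlg R N :=
      (fixedAlg R N).mul_mem ((fixedAlg R N).mul_mem hlN (small_le_fixedAlg hx)) hlN
    have hyN : l * y * l ∈ fixedAlg R N :=
      (fixedAlg R N).mul_mem ((fixedAlg R N).mul_mem hlN (small_le_fixedAlg hy)) hlN
    have e : (⟨l * (x + y) * l, h⟩ : fixedAlg R N) = ⟨l * x * l, hxN⟩ + ⟨l * y * l, hyN⟩ := by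
      apply Subtype.ext
      show l * (x + y) * l = l * x * l + l * y * l
      rw [mul_add, add_mul]
    rw [e]
    have hcx : InCorner (⟨l, hlN⟩ : fixedAlg R N) ⟨l * x * l, hxN⟩ := by
      constructor
      · apply Subtype.ext
        show l * (l * x * l) = l * x * l
        rw [← mul_assoc, ← mul_assoc, hli]
      · apply Subtype.ext
        show l * x * l * l = l * x * l
        rw [mul_assoc, hli]
    have hcy : InCorner (⟨l, hlN⟩ : fixedAlg R N) ⟨l * y * l, hyN⟩ := by
      constructor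
      · apply Subtype.ext
        show l * (l * y * l) = l * y * l
        rw [← mul_assoc, ← mul_assoc, hli]
      · apply Subtype.ext
        show l * y * l * l = l * y * l
        rw [mul_assoc, hli]
    exact Cfsg.Agent.Lib.Helper11.BP.not_cornerUnit_add hR hprim _ _ hcx hcy (ihx hxN) (ihy hyN)

omit [IsDomain R] [IsLocalRing R] in
/-- `l (c - l) ∈ small |Q| N` for `l = Tr_Q^N(a)`, `c = Tr_Q^P(a)`, `N_P(Q) ≤ N ≤ P` -/
theorem key [Finite G] {Q N P : Subgroup G} (hQN : Q ≤ N) (hNP : N ≤ P)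
    (hnorm : P ⊓ Subgroup.normalizer (Q : Set G) ≤ N) {a : MonoidAlgebra R G}
    (ha : a ∈ fixedAlg R Q) :
    relTr R Q N a * (relTr R Q P a - relTr R Q N a) ∈ small R (Nat.card Q) N := by
  classical
  obtain ⟨D, hDY, hD⟩ := exists_doubleCoset_reps Q N P (hQN.trans hNP) hNP
  obtain ⟨y₀, ⟨hy₀D, z, hz, x, hx, h1⟩, huniq⟩ := hD 1 (one_mem P)
  have hy₀N : y₀ ∈ N := by
    have : y₀ = z⁻¹ * x⁻¹ := by
      have h2 : z⁻¹ * 1 * x⁻¹ = z⁻¹ * (z * y₀ * x) * x⁻¹ := by rw [← h1]
      rw [mul_one] at h2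
      rw [h2]; group
    rw [this]
    exact N.mul_mem (N.inv_mem hz) (N.inv_mem (hQN hx))
  have hl : relTr R Q N a =
      ∑ y ∈ ({y₀} : Finset G), relTr R (N ⊓ Q.map (MulAut.conj y).toMonoidHom) N (conj R y a) := by
    refine mackey hQN le_rfl ha {y₀} ?_ ?_
    · intro y hy
      rw [Finset.mem_singleton] at hy
      rw [hy]; exact hy₀N
    · intro q hq
      refine ⟨y₀, ⟨Finset.mem_singleton_self _, q * y₀⁻¹, N.mul_mem hq (N.inv_mem hy₀N), 1,
        one_mem Q, by group⟩, fun y hy => Finset.mem_singleton.1 hy.1⟩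
  have hc : relTr R Q P a =
      ∑ y ∈ D, relTr R (N ⊓ Q.map (MulAut.conj y).toMonoidHom) N (conj R y a) :=
    mackey (hQN.trans hNP) hNP ha D hDY hD
  have hsub : relTr R Q P a - relTr R Q N a =
      ∑ y ∈ D.erase y₀, relTr R (N ⊓ Q.map (MulAut.conj y).toMonoidHom) N (conj R y a) := by
    rw [hc, hl, Finset.sum_singleton, ← Finset.add_sum_erase D _ hy₀D, add_sub_cancel_left]
  rw [hsub, Finset.mul_sum]
  refine AddSubmonoid.sum_mem _ fun y hy => ?_
  obtain ⟨hyne, hyD⟩ := Finset.mem_erase.1 hy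
  have hyP : y ∈ P := hDY y hyD
  have hyN : y ∉ N := by
    intro hyN
    apply hyne
    exact huniq y ⟨hyD, y⁻¹, N.inv_mem hyN, 1, one_mem Q, by group⟩
  exact relTr_mul_relTr_mem_small hQN inf_le_left ha
    (fixedAlg_anti' inf_le_right (conj_mem_fixedAlg' y Q ha))
    (fun w hw => card_inf_conj_lt hNP hnorm hyP hyN hw N)

end corner

end BCP

section main

variable {R : Type*} [CommRing R] [IsDomain R] [IsLocalRing R] {G : Type*} [Group G]

open Cfsg.Agent.Lib.Helper9.BP Cfsg.Agent.Lib.Helper23.BP BCP in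
/-- BP-[U-BCP] : Burry–Carlson–Puig, idempotent form -/
theorem bcp [Finite G] (hR : MonicSplits R) {p : ℕ} [Fact p.Prime]
    [CharP (IsLocalRing.ResidueField R) p] {Q N P : Subgroup G} (hP : IsPGroup p P)
    (hQN : Q ≤ N) (hNP : N ≤ P) (hnorm : P ⊓ Subgroup.normalizer (Q : Set G) ≤ N)
    {i l : MonoidAlgebra R G} (hi : IsPrimIn R (fixedAlg R P) i)
    (hl : IsPrimIn R (fixedAlg R N) l) (hli : IdemLE l i) (hlQ : l ∈ trSet R Q N)
    (hmin : ∀ T : Subgroup G, T ≤ N → Nat.card T < Nat.card Q → l ∉ trSet R T N) :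
    i ∈ trSet R Q P := by
  obtain ⟨hiP, hiprim⟩ := hi
  obtain ⟨hlN, hlprim⟩ := hl
  obtain ⟨hlid, hil, hli'⟩ := hli
  obtain ⟨a, haQ, hal⟩ := hlQ
  have : Module.Finite R (fixedAlg R N) := finite_fixedAlg N
  have : Module.Finite R (fixedAlg R P) := finite_fixedAlg P
  have hll : l * l = l := hlid
  have hcP : relTr R N P l ∈ fixedAlg R P := relTr_mem_fixedAlg' hlN
  have hcQ : relTr R N P l = relTr R Q P a := by rw [← hal, relTr_trans hQN hNP haQ]
  have hic : i * relTr R N P l = relTr R N P l := by rw [mul_relTr' N P hiP l, hil]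
  have hci : relTr R N P l * i = relTr R N P l := by rw [relTr_mul' N P hiP l, hli']
  have hkey : l * (relTr R N P l - l) ∈ small R (Nat.card Q) N := by
    have := key hQN hNP hnorm haQ
    rwa [hal, ← hcQ] at this
  have hcN : relTr R N P l ∈ fixedAlg R N := fixedAlg_anti' hNP hcP
  have hlclN : l * relTr R N P l * l ∈ fixedAlg R N :=
    (fixedAlg R N).mul_mem ((fixedAlg R N).mul_mem hlN hcN) hlN
  -- Claim 2 : `l c l` is a unit of the corner `l A^N l`
  have claim2 : CornerUnit (⟨l, hlN⟩ : fixedAlg R N) ⟨l * relTr R N P l * l, hlclN⟩ := by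
    have hcorner : InCorner (⟨l, hlN⟩ : fixedAlg R N) ⟨l * relTr R N P l * l, hlclN⟩ := by
      constructor
      · apply Subtype.ext
        show l * (l * relTr R N P l * l) = l * relTr R N P l * l
        rw [← mul_assoc, ← mul_assoc, hll]
      · apply Subtype.ext
        show l * relTr R N P l * l * l = l * relTr R N P l * l
        rw [mul_assoc, hll]
    rcases Cfsg.Agent.Lib.Helper11.BP.cornerUnit_or hR hlprim _ hcorner with h | h
    · exact h
    · exfalso
      have hmem : l * (l * (relTr R N P l - l)) * l ∈ fixedAlg R N :=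
        (fixedAlg R N).mul_mem ((fixedAlg R N).mul_mem hlN (small_le_fixedAlg hkey)) hlN
      have e : (⟨l, hlN⟩ : fixedAlg R N) - ⟨l * relTr R N P l * l, hlclN⟩ =
          -⟨l * (l * (relTr R N P l - l)) * l, hmem⟩ := by
        apply Subtype.ext
        show l - l * relTr R N P l * l = -(l * (l * (relTr R N P l - l)) * l)
        rw [← mul_assoc, hll, mul_sub, sub_mul, hll, neg_sub, hll]
      rw [e] at h
      exact not_cornerUnit_of_small hR hlN hlprim hmin hkey hmem (cornerUnit_neg h)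
  -- the local corner `i A^P i`
  have hcorner : InCorner (⟨i, hiP⟩ : fixedAlg R P) ⟨relTr R N P l, hcP⟩ :=
    ⟨Subtype.ext hic, Subtype.ext hci⟩
  rcases Cfsg.Agent.Lib.Helper11.BP.cornerUnit_or hR hiprim _ hcorner with h | h
  · obtain ⟨-, y, -, hcy, -⟩ := h
    have hcy' : relTr R N P l * (y : MonoidAlgebra R G) = i := congrArg Subtype.val hcy
    refine ⟨a * (y : MonoidAlgebra R G),
      (fixedAlg R Q).mul_mem haQ (fixedAlg_anti' (hQN.trans hNP) y.2), ?_⟩
    rw [← relTr_mul' Q P y.2 a, ← hcQ]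
    exact hcy'
  · exfalso
    obtain ⟨-, y, -, -, h2⟩ := h
    have h2' : (y : MonoidAlgebra R G) * (i - relTr R N P l) = i := congrArg Subtype.val h2
    have hcc : relTr R N P l * relTr R N P l - relTr R N P l ∈ small R (Nat.card Q) P := by
      have e : relTr R N P l * relTr R N P l - relTr R N P l =
          relTr R N P (l * (relTr R N P l - l)) := by
        rw [mul_sub, relTr_sub', ← relTr_mul' N P hcP l, hll]
      rw [e]
      exact relTr_small hNP hkey
    have hcs : relTr R N P l ∈ small R (Nat.card Q) P := by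
      have e : relTr R N P l =
          (-(y : MonoidAlgebra R G)) * (relTr R N P l * relTr R N P l - relTr R N P l) := by
        calc relTr R N P l = i * relTr R N P l := hic.symm
          _ = (y : MonoidAlgebra R G) * (i - relTr R N P l) * relTr R N P l := by rw [h2']
          _ = (-(y : MonoidAlgebra R G)) *
              (relTr R N P l * relTr R N P l - relTr R N P l) := by
            rw [mul_assoc, sub_mul, hic, neg_mul, ← mul_neg, neg_sub]
      rw [e]
      exact mul_mem_small ((fixedAlg R P).neg_mem y.2) hcc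
    have hcsN : relTr R N P l ∈ small R (Nat.card Q) N := small_restrict hNP hcs
    exact not_cornerUnit_of_small hR hlN hlprim hmin hcsN hlclN claim2

end main

end Cfsg.Agent.Lib.Helper3.BP
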