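import Mathlib

/-!
# The corner ring `c Γ c` as a module-finite algebra with restricted automorphisms (helper3)

Mathlib's `IsIdempotentElem.Corner` is a ring.  For an `R`-algebra `Γ` we add the `R`-algebra
structure, finiteness, and the restriction of an `R`-algebra automorphism fixing `c`.
-/

set_option autoImplicit false

namespace Cfsg.Agent.Lib.Helper3.BP

namespace Corner

variable {R : Type*} [CommRing R] {Γ : Type*} [Ring Γ] [Algebra R Γ] {c : Γ}
  (hc : IsIdempotentElem c)

include hc in
theorem mem_iff {x : Γ} : x ∈ Subsemigroup.corner c ↔ c * x = x ∧ x * c = x :=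
  Subsemigroup.mem_corner_iff hc

/-- the underlying element -/
def val (x : hc.Corner) : Γ := x.1

theorem val_injective : Function.Injective (val hc) := Subtype.val_injective

@[simp] theorem val_mul (x y : hc.Corner) : val hc (x * y) = val hc x * val hc y := rfl
@[simp] theorem val_add (x y : hc.Corner) : val hc (x + y) = val hc x + val hc y := rfl
@[simp] theorem val_zero : val hc (0 : hc.Corner) = 0 := rfl
@[simp] theorem val_one : val hc (1 : hc.Corner) = c := rfl
@[simp] theorem val_neg (x : hc.Corner) : val hc (-x) = - val hc x := rfl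

theorem val_mem (x : hc.Corner) : c * val hc x = val hc x ∧ val hc x * c = val hc x :=
  (mem_iff hc).mp x.2

/-- an element of the corner from its two equations -/
def mk (x : Γ) (h1 : c * x = x) (h2 : x * c = x) : hc.Corner :=
  ⟨x, (mem_iff hc).mpr ⟨h1, h2⟩⟩

@[simp] theorem val_mk (x : Γ) (h1 : c * x = x) (h2 : x * c = x) : val hc (mk hc x h1 h2) = x :=
  rfl

instance instSMul : SMul R hc.Corner :=
  ⟨fun r x => ⟨r • x.1, by
    obtain ⟨h1, h2⟩ := (mem_iff hc).mp x.2
    exact (mem_iff hc).mpr ⟨by rw [mul_smul_comm, h1], by rw [smul_mul_assoc, h2]⟩⟩⟩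

@[simp] theorem val_smul (r : R) (x : hc.Corner) : val hc (r • x) = r • val hc x := rfl

/-- `val` as an additive monoid homomorphism -/
def valHom : hc.Corner →+ Γ where
  toFun := val hc
  map_zero' := rfl
  map_add' _ _ := rfl

instance instModule : Module R hc.Corner :=
  Function.Injective.module R (valHom hc) (val_injective hc) (fun _ _ => rfl)

instance instAlgebra : Algebra R hc.Corner :=
  Algebra.ofModule
    (fun r x y => val_injective hc (by
      show (r • val hc x) * val hc y = r • (val hc x * val hc y)
      exact smul_mul_assoc r _ _))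
    (fun r x y => val_injective hc (by
      show val hc x * (r • val hc y) = r • (val hc x * val hc y)
      exact mul_smul_comm r _ _))

/-- `val` as a linear map -/
def valLin : hc.Corner →ₗ[R] Γ where
  toFun := val hc
  map_add' _ _ := rfl
  map_smul' _ _ := rfl

@[simp] theorem valLin_apply (x : hc.Corner) : valLin (R := R) hc x = val hc x := rfl

theorem val_sum {ι : Type*} (s : Finset ι) (f : ι → hc.Corner) :
    val hc (∑ i ∈ s, f i) = ∑ i ∈ s, val hc (f i) :=
  map_sum (valHom hc) f s

/-- the projection `Γ → c Γ c` -/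
def proj : Γ →ₗ[R] hc.Corner where
  toFun y := ⟨c * y * c, ⟨y, rfl⟩⟩
  map_add' x y := val_injective hc (by
    show c * (x + y) * c = c * x * c + c * y * c
    rw [mul_add, add_mul])
  map_smul' r x := val_injective hc (by
    show c * (r • x) * c = r • (c * x * c)
    rw [mul_smul_comm, smul_mul_assoc])

theorem proj_surjective : Function.Surjective (proj (R := R) hc) := by
  intro x
  obtain ⟨y, hy⟩ := x.2
  exact ⟨y, Subtype.ext hy⟩

instance instFinite [Module.Finite R Γ] : Module.Finite R hc.Corner :=
  Module.Finite.of_surjective (proj (R := R) hc) (proj_surjective hc)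

theorem algebraMap_val (r : R) : val hc (algebraMap R hc.Corner r) = r • c := by
  rw [Algebra.algebraMap_eq_smul_one]
  rfl

theorem mul_map_eq {F : Type*} [FunLike F Γ Γ] [MulHomClass F Γ Γ] (σ : F) (hσc : σ c = c) {y : Γ}
    (h1 : c * y = y) : c * σ y = σ y := by
  calc c * σ y = σ c * σ y := by rw [hσc]
    _ = σ (c * y) := (map_mul σ c y).symm
    _ = σ y := by rw [h1]

theorem map_mul_eq {F : Type*} [FunLike F Γ Γ] [MulHomClass F Γ Γ] (σ : F) (hσc : σ c = c) {y : Γ}
    (h1 : y * c = y) : σ y * c = σ y := by
  calc σ y * c = σ y * σ c := by rw [hσc]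
    _ = σ (y * c) := (map_mul σ y c).symm
    _ = σ y := by rw [h1]

/-- restriction of an algebra automorphism fixing `c` to the corner -/
def equiv (σ : Γ ≃ₐ[R] Γ) (hσc : σ c = c) : hc.Corner ≃ₐ[R] hc.Corner where
  toFun x := mk hc (σ (val hc x))
    (mul_map_eq σ hσc (val_mem hc x).1) (map_mul_eq σ hσc (val_mem hc x).2)
  invFun x := mk hc (σ.symm (val hc x))
    (mul_map_eq σ.symm (σ.symm_apply_eq.mpr hσc.symm) (val_mem hc x).1)
    (map_mul_eq σ.symm (σ.symm_apply_eq.mpr hσc.symm) (val_mem hc x).2)
  left_inv x := val_injective hc (by simp [val_mk])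
  right_inv x := val_injective hc (by simp [val_mk])
  map_mul' x y := val_injective hc (by simp [val_mk])
  map_add' x y := val_injective hc (by simp [val_mk])
  commutes' r := val_injective hc (by
    rw [val_mk, algebraMap_val, map_smul, hσc])

@[simp] theorem val_equiv (σ : Γ ≃ₐ[R] Γ) (hσc : σ c = c) (x : hc.Corner) :
    val hc (equiv hc σ hσc x) = σ (val hc x) := rfl

theorem val_equiv_pow (σ : Γ ≃ₐ[R] Γ) (hσc : σ c = c) (i : ℕ) (x : hc.Corner) :
    val hc ((equiv hc σ hσc ^ i) x) = (σ ^ i) (val hc x) := by
  induction i generalizing x with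
  | zero => simp
  | succ n ih =>
    rw [pow_succ, AlgEquiv.mul_apply, ih, val_equiv, pow_succ, AlgEquiv.mul_apply]

end Corner

end Cfsg.Agent.Lib.Helper3.BP
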