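import Cfsg.Agent.Lib.Helper3.BPGreenAbs
import Cfsg.Agent.Lib.Helper3.BPCorner
import Cfsg.Agent.Lib.Helper40.BPConj
import Cfsg.Agent.Lib.Helper9.BPTr2
import Cfsg.Agent.Lib.Helper23.BPFixedFin

/-!
# BP-[L2-GI] : Green's indecomposability theorem, index `p`, idempotent form (helper3)

`A = R[G]`, `S ⊴ Q` of index `p`, `c` an idempotent of `A^Q` lying in `Tr_S^Q(A^S)`.  Then
`c = Tr_S^Q(c')` for an idempotent `c'` of `A^S` whose `Q/S`-conjugates are pairwise orthogonal.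
No primitivity is needed (`green_index_p'`); the sheet's statement `green_index_p` is the special
case of a primitive `c`.

Proof: `Γ = A^S`, `σ = ` conjugation by `t ∈ Q \ S` (order `p` on `Γ`), the corner ring `c Γ c`
(`BPCorner`), and the abstract theorem `green_abs` (`BPGreenAbs`: reduction mod `𝔪`, helper74's
Artin–Schreier idempotents, lifting, orthogonalisation).
-/

set_option autoImplicit false

namespace Cfsg.Agent.Lib.Helper3.BP

open Cfsg.Agent.Lib.Helper92.BP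

namespace GI

section conj

variable {R : Type*} [CommRing R] {G : Type*} [Group G]

theorem conj_mem_of_normalizes (S : Subgroup G) (t : G) (h : ∀ s ∈ S, t⁻¹ * s * t ∈ S)
    {x : MonoidAlgebra R G} (hx : x ∈ fixedAlg R S) : conj R t x ∈ fixedAlg R S := by
  rw [Cfsg.Agent.Lib.Helper40.BP.mem_fixedAlg_iff]
  intro s hs
  rw [Cfsg.Agent.Lib.Helper40.BP.conj_conj]
  have h1 : s * t = t * (t⁻¹ * s * t) := by group
  rw [h1, ← Cfsg.Agent.Lib.Helper40.BP.conj_conj,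
    Cfsg.Agent.Lib.Helper9.BP.conj_eq_of_mem hx (h s hs)]

/-- conjugation by an element normalising `S`, as an algebra automorphism of `A^S` -/
noncomputable def conjEquiv (S : Subgroup G) (t : G) (h : ∀ s ∈ S, t⁻¹ * s * t ∈ S)
    (h' : ∀ s ∈ S, t * s * t⁻¹ ∈ S) : fixedAlg R S ≃ₐ[R] fixedAlg R S where
  toFun x := ⟨conj R t x.1, conj_mem_of_normalizes S t h x.2⟩
  invFun x := ⟨conj R t⁻¹ x.1, conj_mem_of_normalizes S t⁻¹ (by simpa using h') x.2⟩
  left_inv x := Subtype.ext (by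
    show conj R t⁻¹ (conj R t x.1) = x.1
    rw [Cfsg.Agent.Lib.Helper40.BP.conj_conj, inv_mul_cancel,
      Cfsg.Agent.Lib.Helper40.BP.conj_one_left])
  right_inv x := Subtype.ext (by
    show conj R t (conj R t⁻¹ x.1) = x.1
    rw [Cfsg.Agent.Lib.Helper40.BP.conj_conj, mul_inv_cancel,
      Cfsg.Agent.Lib.Helper40.BP.conj_one_left])
  map_mul' x y := Subtype.ext (Cfsg.Agent.Lib.Helper40.BP.conj_mul t x.1 y.1)
  map_add' x y := Subtype.ext (Cfsg.Agent.Lib.Helper40.BP.conj_add t x.1 y.1)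
  commutes' r := Subtype.ext (by
    show conj R t (algebraMap R (MonoidAlgebra R G) r) = algebraMap R (MonoidAlgebra R G) r
    rw [Algebra.algebraMap_eq_smul_one, Cfsg.Agent.Lib.Helper40.BP.conj_smul,
      Cfsg.Agent.Lib.Helper40.BP.conj_one])

theorem conjEquiv_apply (S : Subgroup G) (t : G) (h : ∀ s ∈ S, t⁻¹ * s * t ∈ S)
    (h' : ∀ s ∈ S, t * s * t⁻¹ ∈ S) (x : fixedAlg R S) :
    ((conjEquiv (R := R) S t h h' x : fixedAlg R S) : MonoidAlgebra R G) = conj R t x.1 := rfl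

theorem conjEquiv_pow_apply (S : Subgroup G) (t : G) (h : ∀ s ∈ S, t⁻¹ * s * t ∈ S)
    (h' : ∀ s ∈ S, t * s * t⁻¹ ∈ S) (i : ℕ) (x : fixedAlg R S) :
    (((conjEquiv (R := R) S t h h' ^ i) x : fixedAlg R S) : MonoidAlgebra R G) =
      conj R (t ^ i) x.1 := by
  induction i generalizing x with
  | zero => simp [Cfsg.Agent.Lib.Helper40.BP.conj_one_left]
  | succ n ih =>
    rw [pow_succ, AlgEquiv.mul_apply, ih, conjEquiv_apply,
      Cfsg.Agent.Lib.Helper40.BP.conj_conj, pow_succ]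

end conj

section group

variable {G : Type*} [Group G]

theorem normal_conj_mem {S Q : Subgroup G} (hSQ : S ≤ Q) (hn : (S.subgroupOf Q).Normal)
    {q s : G} (hq : q ∈ Q) (hs : s ∈ S) : q * s * q⁻¹ ∈ S := by
  have := hn.conj_mem (⟨s, hSQ hs⟩ : Q) (Subgroup.mem_subgroupOf.mpr hs) ⟨q, hq⟩
  rw [Subgroup.mem_subgroupOf] at this
  simpa using this

/-- `Q / S` of prime order `p`, `t ∈ Q \ S`: every `q ∈ Q` is `t^i s` with `i < p`, `s ∈ S`;
and `t^p ∈ S`. -/
theorem exists_pow_coset [Finite G] {S Q : Subgroup G}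
    (hn : (S.subgroupOf Q).Normal) {p : ℕ} (hp : p.Prime) (hidx : S.relIndex Q = p)
    {t : G} (ht : t ∈ Q) (htS : t ∉ S) :
    t ^ p ∈ S ∧ ∀ q ∈ Q, ∃ i, i < p ∧ (t ^ i)⁻¹ * q ∈ S := by
  classical
  have := hn
  have : Fact p.Prime := ⟨hp⟩
  have hcard : Nat.card (Q ⧸ S.subgroupOf Q) = p := hidx
  set τ : Q ⧸ S.subgroupOf Q := QuotientGroup.mk ⟨t, ht⟩ with hτ
  have hτ1 : τ ≠ 1 := by
    intro h1
    rw [hτ, QuotientGroup.eq_one_iff, Subgroup.mem_subgroupOf] at h1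
    exact htS h1
  have hord : orderOf τ = p := by
    apply orderOf_eq_prime
    · rw [← hcard]; exact pow_card_eq_one'
    · exact hτ1
  have htop : Subgroup.zpowers τ = ⊤ := zpowers_eq_top_of_prime_card hcard hτ1
  constructor
  · have h1 : τ ^ p = 1 := by rw [← hord]; exact pow_orderOf_eq_one τ
    rw [hτ, ← QuotientGroup.mk_pow, QuotientGroup.eq_one_iff, Subgroup.mem_subgroupOf] at h1
    exact h1
  · intro q hq
    have hmem : (QuotientGroup.mk ⟨q, hq⟩ : Q ⧸ S.subgroupOf Q) ∈ Subgroup.zpowers τ := by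
      rw [htop]; exact Subgroup.mem_top _
    rw [mem_zpowers_iff_mem_range_orderOf, Finset.mem_image] at hmem
    obtain ⟨i, hi, hiq⟩ := hmem
    rw [Finset.mem_range, hord] at hi
    refine ⟨i, hi, ?_⟩
    have key : (t ^ i)⁻¹ * q ∈ S ↔ τ ^ i = QuotientGroup.mk ⟨q, hq⟩ := by
      rw [hτ, ← QuotientGroup.mk_pow, QuotientGroup.eq, Subgroup.mem_subgroupOf]
      rfl
    exact key.2 hiq

end group

end GI

section main

variable {R : Type*} [CommRing R] [IsLocalRing R] {G : Type*} [Group G]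

/-- **BP-[L2-GI], strong form**: any idempotent `c` of `A^Q` in `Tr_S^Q(A^S)`, `S ⊴ Q` of index
`p`, is `Tr_S^Q(c')` with `c'` an idempotent of `A^S` with pairwise orthogonal `Q/S`-conjugates
(and `c c' = c' = c' c`). -/
theorem green_index_p' [Finite G] (hR : MonicSplits R) {p : ℕ} [Fact p.Prime]
    [CharP (IsLocalRing.ResidueField R) p] {S Q : Subgroup G} (hSQ : S ≤ Q)
    (hn : (S.subgroupOf Q).Normal) (hidx : S.relIndex Q = p) {c : MonoidAlgebra R G}
    (hcQ : c ∈ fixedAlg R Q) (hci : IsIdempotentElem c) (hcS : c ∈ trSet R S Q) :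
    ∃ c' : MonoidAlgebra R G, c' ∈ fixedAlg R S ∧ IsIdempotentElem c' ∧ relTr R S Q c' = c ∧
      c * c' = c' ∧ c' * c = c' ∧
      (∀ t ∈ Q, t ∉ S → c' * conj R t c' = 0) := by
  classical
  have hpp : p.Prime := Fact.out
  -- an element of `Q \ S`
  obtain ⟨t₀, ht₀Q, ht₀S⟩ : ∃ t ∈ Q, t ∉ S := by
    apply SetLike.not_le_iff_exists.mp
    intro hle
    have : S.relIndex Q = 1 := Subgroup.relIndex_eq_one.mpr hle
    rw [hidx] at this
    exact hpp.one_lt.ne' this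
  obtain ⟨htp, hcos⟩ := GI.exists_pow_coset hn hpp hidx ht₀Q ht₀S
  have hnorm : ∀ s ∈ S, t₀⁻¹ * s * t₀ ∈ S := by
    intro s hs
    have := GI.normal_conj_mem hSQ hn (Q.inv_mem ht₀Q) hs
    simpa using this
  have hnorm' : ∀ s ∈ S, t₀ * s * t₀⁻¹ ∈ S := fun s hs => GI.normal_conj_mem hSQ hn ht₀Q hs
  -- the algebra `Γ = A^S` with `σ = conj t₀`
  have hFin : Module.Finite R (fixedAlg R S) := Cfsg.Agent.Lib.Helper23.BP.finite_fixedAlg S
  set σ : fixedAlg R S ≃ₐ[R] fixedAlg R S := GI.conjEquiv (R := R) S t₀ hnorm hnorm' with hσdef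
  have hσpow : ∀ (i : ℕ) (x : fixedAlg R S),
      (((σ ^ i) x : fixedAlg R S) : MonoidAlgebra R G) = conj R (t₀ ^ i) x.1 :=
    fun i x => GI.conjEquiv_pow_apply S t₀ hnorm hnorm' i x
  have hσp : ∀ x : fixedAlg R S, (σ ^ p) x = x := by
    intro x
    apply Subtype.ext
    rw [hσpow, Cfsg.Agent.Lib.Helper9.BP.conj_eq_of_mem x.2 htp]
  -- the idempotent
  have hcS' : c ∈ fixedAlg R S := Cfsg.Agent.Lib.Helper40.BP.fixedAlg_anti hSQ hcQ
  set cΓ : fixedAlg R S := ⟨c, hcS'⟩ with hcΓdef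
  have hcΓ : IsIdempotentElem cΓ := Subtype.ext hci
  have hσc : σ cΓ = cΓ := Subtype.ext (by
    show conj R t₀ c = c
    exact Cfsg.Agent.Lib.Helper9.BP.conj_eq_of_mem hcQ ht₀Q)
  have hσic : ∀ i : ℕ, (σ ^ i) cΓ = cΓ := fun i => algEquiv_pow_fixed σ hσc i
  -- the trace
  obtain ⟨a, haS, hac⟩ := hcS
  have hac' : ∑ i ∈ Finset.range p, conj R (t₀ ^ i) a = c := by
    rw [← Cfsg.Agent.Lib.Helper9.BP.relTr_eq_sum_pow hSQ hn hpp hidx ht₀Q ht₀S haS]; exact hac
  set aΓ : fixedAlg R S := ⟨a, haS⟩ with haΓdef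
  have hsumΓ : ∑ i ∈ Finset.range p, (σ ^ i) aΓ = cΓ := by
    apply Subtype.ext
    rw [← Subalgebra.coe_val, map_sum]
    simp only [Subalgebra.coe_val]
    refine Eq.trans ?_ hac'
    exact Finset.sum_congr rfl fun i _ => hσpow i aΓ
  -- pass to the corner
  set τ := Corner.equiv hcΓ σ hσc with hτdef
  have hτp : ∀ y : hcΓ.Corner, (τ ^ p) y = y := by
    intro y
    apply Corner.val_injective hcΓ
    rw [Corner.val_equiv_pow, hσp]
  set â : hcΓ.Corner := Corner.proj (R := R) hcΓ aΓ with hâdef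
  have hâval : Corner.val hcΓ â = cΓ * aΓ * cΓ := rfl
  have hâsum : ∑ i ∈ Finset.range p, (τ ^ i) â = 1 := by
    apply Corner.val_injective hcΓ
    rw [Corner.val_sum, Corner.val_one]
    have h1 : ∀ i ∈ Finset.range p, Corner.val hcΓ ((τ ^ i) â) = cΓ * (σ ^ i) aΓ * cΓ := by
      intro i _
      rw [Corner.val_equiv_pow, hâval, map_mul, map_mul, hσic]
    rw [Finset.sum_congr rfl h1, ← Finset.sum_mul, ← Finset.mul_sum, hsumΓ, hcΓ.eq, hcΓ.eq]
  obtain ⟨j, hj, hjorth, hjsum⟩ := green_abs hR τ hτp â hâsum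
  -- back to `A`
  set jΓ : fixedAlg R S := Corner.val hcΓ j with hjΓdef
  have hjΓpow : ∀ i : ℕ, ((Corner.val hcΓ ((τ ^ i) j) : fixedAlg R S) : MonoidAlgebra R G) =
      conj R (t₀ ^ i) jΓ.1 := by
    intro i
    rw [Corner.val_equiv_pow, hσpow]
  refine ⟨jΓ.1, jΓ.2, ?_, ?_, ?_, ?_, ?_⟩
  · exact congrArg Subtype.val (congrArg (Corner.val hcΓ) hj.eq)
  · rw [Cfsg.Agent.Lib.Helper9.BP.relTr_eq_sum_pow hSQ hn hpp hidx ht₀Q ht₀S jΓ.2]
    have h1 := congrArg (fun y => ((Corner.val hcΓ y : fixedAlg R S) : MonoidAlgebra R G)) hjsum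
    simp only [Corner.val_sum, Corner.val_one] at h1
    rw [← Subalgebra.coe_val, map_sum] at h1
    simp only [Subalgebra.coe_val] at h1
    refine Eq.trans ?_ h1
    exact Finset.sum_congr rfl fun i _ => (hjΓpow i).symm
  · have := congrArg (fun y : fixedAlg R S => (y : MonoidAlgebra R G)) (Corner.val_mem hcΓ j).1
    simpa using this
  · have := congrArg (fun y : fixedAlg R S => (y : MonoidAlgebra R G)) (Corner.val_mem hcΓ j).2
    simpa using this
  · intro t htQ htS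
    obtain ⟨i, hip, his⟩ := hcos t htQ
    have hi0 : 0 < i := by
      rcases Nat.eq_zero_or_pos i with rfl | h
      · exfalso; apply htS; simpa using his
      · exact h
    have ht : t = t₀ ^ i * ((t₀ ^ i)⁻¹ * t) := by group
    rw [ht, Cfsg.Agent.Lib.Helper9.BP.conj_mul_of_mem jΓ.2 (t₀ ^ i) his, ← hjΓpow i]
    have := congrArg (fun y => ((Corner.val hcΓ y : fixedAlg R S) : MonoidAlgebra R G))
      (hjorth i hi0 hip).1
    simpa using this

/-- **BP-[L2-GI]** (sheet statement) -/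
theorem green_index_p [IsDomain R] [Finite G] (hR : MonicSplits R) {p : ℕ} [Fact p.Prime]
    [CharP (IsLocalRing.ResidueField R) p] {S Q : Subgroup G} (hQ : IsPGroup p Q) (hSQ : S ≤ Q)
    (hn : (S.subgroupOf Q).Normal) (hidx : S.relIndex Q = p) {c : MonoidAlgebra R G}
    (hc : IsPrimIn R (fixedAlg R Q) c) (hcS : c ∈ trSet R S Q) :
    ∃ c' : MonoidAlgebra R G, c' ∈ fixedAlg R S ∧ IsIdempotentElem c' ∧ relTr R S Q c' = c ∧
      ∀ t ∈ Q, t ∉ S → c' * conj R t c' = 0 := by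
  obtain ⟨hcQ, hprim⟩ := hc
  have hci : IsIdempotentElem c := congrArg Subtype.val hprim.1.eq
  obtain ⟨c', h1, h2, h3, _, _, h4⟩ := green_index_p' hR hSQ hn hidx hcQ hci hcS
  exact ⟨c', h1, h2, h3, h4⟩

end main

end Cfsg.Agent.Lib.Helper3.BP
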