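import Cfsg.Agent.Lib.Helper3.BPOrthLift
import Cfsg.Agent.Lib.Helper3.BPL0Poly
import Cfsg.Agent.Lib.Helper11.BPResK
import Cfsg.Agent.Lib.Helper74.BPGreenAS

/-!
# Green's indecomposability theorem, index `p`, abstract algebra form (helper3)

`R` local with `MonicSplits R`, residue field of characteristic `p`; `Λ` a module-finite
`R`-algebra, `σ` an `R`-algebra automorphism with `σ^p = 1`, and `1 = Σ_{i<p} σ^i(a)` a trace.
Then there is an idempotent `j` with `j σ^i(j) = 0 = σ^i(j) j` (`0 < i < p`) and `Σ σ^i(j) = 1`.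

Route: reduce modulo `𝔪` (`Λ̄ = k ⊗[R] Λ`), helper74's Artin–Schreier theorem `as_orthogonal` there,
lift the idempotent through `Λ → Λ̄` (`exists_idempotent_aeval`), and orthogonalise (`orth_lift`).
-/

set_option autoImplicit false

namespace Cfsg.Agent.Lib.Helper3.BP

open Cfsg.Agent.Lib.Helper92.BP TensorProduct

section

variable {R : Type*} [CommRing R] [IsLocalRing R]
variable {Λ : Type*} [Ring Λ] [Algebra R Λ]

local notation "𝕜" => IsLocalRing.ResidueField R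

/-- the reduction map `Λ → k ⊗[R] Λ` -/
noncomputable def redMap (R : Type*) [CommRing R] [IsLocalRing R] (Λ : Type*) [Ring Λ]
    [Algebra R Λ] : Λ →ₐ[R] (IsLocalRing.ResidueField R) ⊗[R] Λ :=
  Algebra.TensorProduct.includeRight

theorem redMap_apply (x : Λ) : redMap R Λ x = (1 : 𝕜) ⊗ₜ[R] x := rfl

theorem redMap_surjective : Function.Surjective (redMap R Λ) := by
  intro y
  induction y using TensorProduct.induction_on with
  | zero => exact ⟨0, map_zero _⟩
  | tmul r x =>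
    obtain ⟨r', rfl⟩ := IsLocalRing.residue_surjective r
    refine ⟨r' • x, ?_⟩
    rw [redMap_apply, TensorProduct.tmul_smul, TensorProduct.smul_tmul']
    congr 1
    rw [Algebra.smul_def, mul_one]
    rfl
  | add a b ha hb =>
    obtain ⟨x, rfl⟩ := ha
    obtain ⟨y, rfl⟩ := hb
    exact ⟨x + y, map_add _ _ _⟩

theorem mem_of_redMap_eq_zero {y : Λ} (hy : redMap R Λ y = 0) :
    y ∈ (IsLocalRing.maximalIdeal R • ⊤ : Submodule R Λ) := by
  have e := TensorProduct.quotTensorEquivQuotSMul Λ (IsLocalRing.maximalIdeal R)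
  have h1 : TensorProduct.quotTensorEquivQuotSMul Λ (IsLocalRing.maximalIdeal R)
      ((1 : R ⧸ IsLocalRing.maximalIdeal R) ⊗ₜ[R] y) = Submodule.Quotient.mk y :=
    TensorProduct.quotTensorEquivQuotSMul_mk_one_tmul _ y
  have h2 : ((1 : R ⧸ IsLocalRing.maximalIdeal R) ⊗ₜ[R] y) = 0 := hy
  rw [h2, map_zero] at h1
  exact (Submodule.Quotient.mk_eq_zero _).mp h1.symm

/-- the automorphism induced on `k ⊗[R] Λ` -/
noncomputable def redEquiv (σ : Λ ≃ₐ[R] Λ) : (𝕜 ⊗[R] Λ) ≃ₐ[𝕜] (𝕜 ⊗[R] Λ) :=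
  Algebra.TensorProduct.congr AlgEquiv.refl σ

theorem redEquiv_tmul (σ : Λ ≃ₐ[R] Λ) (r : 𝕜) (x : Λ) :
    redEquiv σ (r ⊗ₜ[R] x) = r ⊗ₜ[R] σ x := by
  simp [redEquiv]

theorem redEquiv_pow_tmul (σ : Λ ≃ₐ[R] Λ) (i : ℕ) (r : 𝕜) (x : Λ) :
    (redEquiv σ ^ i) (r ⊗ₜ[R] x) = r ⊗ₜ[R] (σ ^ i) x := by
  induction i generalizing x with
  | zero => simp
  | succ n ih =>
    rw [pow_succ, AlgEquiv.mul_apply, redEquiv_tmul, ih, pow_succ, AlgEquiv.mul_apply]

theorem redEquiv_pow_redMap (σ : Λ ≃ₐ[R] Λ) (i : ℕ) (x : Λ) :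
    (redEquiv σ ^ i) (redMap R Λ x) = redMap R Λ ((σ ^ i) x) := by
  rw [redMap_apply, redEquiv_pow_tmul, redMap_apply]

theorem redEquiv_pow_eq_self (σ : Λ ≃ₐ[R] Λ) {p : ℕ} (hσ : ∀ x : Λ, (σ ^ p) x = x)
    (y : 𝕜 ⊗[R] Λ) : (redEquiv σ ^ p) y = y := by
  induction y using TensorProduct.induction_on with
  | zero => exact map_zero _
  | tmul r x => rw [redEquiv_pow_tmul, hσ]
  | add a b ha hb => rw [map_add, ha, hb]

end

section main

variable {R : Type*} [CommRing R] [IsLocalRing R]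
variable {Λ : Type*} [Ring Λ] [Algebra R Λ] [Module.Finite R Λ]

/-- **Green's indecomposability theorem, index `p`, algebra form** (no primitivity, no locality
needed). -/
theorem green_abs (hR : MonicSplits R) {p : ℕ} [Fact p.Prime]
    [CharP (IsLocalRing.ResidueField R) p] (σ : Λ ≃ₐ[R] Λ) (hσ : ∀ x : Λ, (σ ^ p) x = x)
    (a : Λ) (hsum : ∑ i ∈ Finset.range p, (σ ^ i) a = 1) :
    ∃ j : Λ, IsIdempotentElem j ∧
      (∀ i, 0 < i → i < p → j * (σ ^ i) j = 0 ∧ (σ ^ i) j * j = 0) ∧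
      ∑ i ∈ Finset.range p, (σ ^ i) j = 1 := by
  classical
  have hpp : p.Prime := Fact.out
  have : IsAlgClosed (IsLocalRing.ResidueField R) :=
    Cfsg.Agent.Lib.Helper11.BP.isAlgClosed_residueField hR
  have : FiniteDimensional (IsLocalRing.ResidueField R) ((IsLocalRing.ResidueField R) ⊗[R] Λ) :=
    Module.Finite.base_change R (IsLocalRing.ResidueField R) Λ
  set ι := redMap R Λ with hι
  set τ := redEquiv (R := R) σ with hτ
  have hτp : ∀ y, (τ ^ p) y = y := redEquiv_pow_eq_self σ hσ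
  have hτsum : ∑ i ∈ Finset.range p, (τ ^ i) (ι a) = 1 := by
    have : ∑ i ∈ Finset.range p, (τ ^ i) (ι a) = ι (∑ i ∈ Finset.range p, (σ ^ i) a) := by
      rw [map_sum]
      exact Finset.sum_congr rfl fun i _ => redEquiv_pow_redMap σ i a
    rw [this, hsum, map_one]
  obtain ⟨jb, hjb, hjorth, hjsum⟩ :=
    Cfsg.Agent.Lib.Helper74.BP.as_orthogonal p τ hτp (ι a) hτsum
  -- lift
  obtain ⟨x, hx⟩ := redMap_surjective (R := R) (Λ := Λ) jb
  have hxint : IsIntegral R x := IsIntegral.of_finite R x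
  have hxi : IsIdempotentElem (ι x) := by rw [hι, hx]; exact hjb
  obtain ⟨w, hw, hwι⟩ := exists_idempotent_aeval hR ι x hxint hxi
  set j₀ : Λ := Polynomial.aeval x w with hj₀
  have hιj₀ : ι j₀ = jb := by rw [hwι, hι, hx]
  have hιpow : ∀ i, ι ((σ ^ i) j₀) = (τ ^ i) jb := by
    intro i
    rw [← hιj₀]
    exact (redEquiv_pow_redMap σ i j₀).symm
  -- orthogonality of all pairs downstairs
  have hpair : ∀ s t, s < p → t < p → s ≠ t → (τ ^ s) jb * (τ ^ t) jb = 0 := by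
    intro s t hs ht hst
    rcases Nat.lt_or_gt_of_ne hst with h | h
    · have h1 : (τ ^ t) jb = (τ ^ s) ((τ ^ (t - s)) jb) := by
        rw [← AlgEquiv.mul_apply, ← pow_add, Nat.add_sub_cancel' h.le]
      rw [h1, ← map_mul, (hjorth (t - s) (by omega) (by omega)).1, map_zero]
    · have h1 : (τ ^ s) jb = (τ ^ t) ((τ ^ (s - t)) jb) := by
        rw [← AlgEquiv.mul_apply, ← pow_add, Nat.add_sub_cancel' h.le]
      rw [h1, ← map_mul, (hjorth (s - t) (by omega) (by omega)).2, map_zero]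
  have horth : ∀ s t, s < p → t < p → s ≠ t →
      (σ ^ s) j₀ * (σ ^ t) j₀ ∈ (IsLocalRing.maximalIdeal R • ⊤ : Submodule R Λ) := by
    intro s t hs ht hst
    apply mem_of_redMap_eq_zero
    show ι ((σ ^ s) j₀ * (σ ^ t) j₀) = 0
    rw [map_mul, hιpow, hιpow, hpair s t hs ht hst]
  have hsum' : ∑ t ∈ Finset.range p, (σ ^ t) j₀ - 1 ∈
      (IsLocalRing.maximalIdeal R • ⊤ : Submodule R Λ) := by
    apply mem_of_redMap_eq_zero
    show ι (∑ t ∈ Finset.range p, (σ ^ t) j₀ - 1) = 0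
    rw [map_sub, map_sum, map_one]
    have : ∑ t ∈ Finset.range p, ι ((σ ^ t) j₀) = ∑ t ∈ Finset.range p, (τ ^ t) jb :=
      Finset.sum_congr rfl fun t _ => hιpow t
    rw [this, hjsum, sub_self]
  exact orth_lift hpp.pos σ hσ j₀ hw horth hsum'

end main

end Cfsg.Agent.Lib.Helper3.BP
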