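import Cfsg.Agent.Lib.Helper3.BPGreen
import Cfsg.Agent.Lib.Helper9.BPNonlocal
import Cfsg.Agent.Lib.Helper9.BPGiPrim
import Cfsg.Agent.Lib.Helper9.BPTr2

/-!
# BP-[U-F8] : Puig's lemma — a primitive idempotent of `A^N` has a local source (helper3)

`A = R[G]`, `N` a `p`-subgroup, `l` a primitive idempotent of `A^N`.  Then `l = Tr_T^N(l₁)` for
some `T ≤ N` and a LOCAL primitive idempotent `l₁` of `A^T` (`Br_T(l₁) ≠ 0`) whose `N/T`-conjugates
are pairwise orthogonal.

Proof: strong induction on `|N|`.  If `Br_N(l) ≠ 0` take `T = N`.  Otherwise ([L2-NONLOCAL])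
`l ∈ Tr_S^N(A^S)` for a normal `S` of index `p`, Green's theorem ([L2-GI]) gives an idempotent
`l' ≤ l` of `A^S` with `Tr_S^N(l') = l` and orthogonal conjugates, primitive by [L2-GI-PRIM]; recurse
on `(S, l')` and use transitivity of the trace.  The induction carries `l₁ ≤ l` (`IdemLE`).
-/

set_option autoImplicit false

namespace Cfsg.Agent.Lib.Helper3.BP

open Cfsg.Agent.Lib.Helper92.BP

section

variable {R : Type*} [CommRing R] [IsDomain R] [IsLocalRing R] {G : Type*} [Group G]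

/-- Strong form of [U-F8]: also `l₁ ≤ l`. -/
theorem exists_local_source' [Finite G] (hR : MonicSplits R) {p : ℕ} [Fact p.Prime]
    [CharP (IsLocalRing.ResidueField R) p] :
    ∀ (n : ℕ) {N : Subgroup G}, Nat.card N = n → IsPGroup p N →
    ∀ {l : MonoidAlgebra R G}, IsPrimIn R (fixedAlg R N) l →
    ∃ (T : Subgroup G) (l₁ : MonoidAlgebra R G), T ≤ N ∧ IsLocalPrim R T l₁ ∧
      relTr R T N l₁ = l ∧ l * l₁ = l₁ ∧ l₁ * l = l₁ ∧
      ∀ y ∈ N, y ∉ T → l₁ * conj R y l₁ = 0 := by
  intro n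
  induction n using Nat.strong_induction_on with
  | _ n ih =>
  intro N hcard hN l hl
  have hpp : p.Prime := Fact.out
  by_cases hbr : br R N l = 0
  · -- nonlocal: descend to a normal subgroup of index `p`
    obtain ⟨S, hSN, hn, hidx, hlS⟩ :=
      Cfsg.Agent.Lib.Helper9.BP.exists_mem_trSet_of_br_eq_zero hR hN hl hbr
    obtain ⟨hlN, hprim⟩ := hl
    have hli : IsIdempotentElem l := congrArg Subtype.val hprim.1.eq
    obtain ⟨l', hl'S, hl'i, htr, hll', hl'l, horth⟩ :=
      green_index_p' hR hSN hn hidx hlN hli hlS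
    have hl'prim : IsPrimIn R (fixedAlg R S) l' :=
      Cfsg.Agent.Lib.Helper9.BP.isPrimIn_of_green hR hSN hn hidx ⟨hlN, hprim⟩ hl'S hl'i htr horth
    have hSp : IsPGroup p S := hN.to_le hSN
    have hlt : Nat.card S < n := by
      have hmul := Subgroup.relIndex_mul_relIndex (⊥ : Subgroup G) S N bot_le hSN
      rw [Subgroup.relIndex_bot_left, Subgroup.relIndex_bot_left, hidx, hcard] at hmul
      have hpos : 0 < Nat.card S := Nat.card_pos
      have := hpp.one_lt
      nlinarith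
    obtain ⟨T, l₁, hTS, hloc, htr₁, h1, h2, horth₁⟩ := ih (Nat.card S) hlt rfl hSp hl'prim
    have hl₁T : l₁ ∈ fixedAlg R T := hloc.1.1
    refine ⟨T, l₁, hTS.trans hSN, hloc, ?_, ?_, ?_, ?_⟩
    · rw [← Cfsg.Agent.Lib.Helper9.BP.relTr_trans hTS hSN hl₁T, htr₁, htr]
    · rw [← h1, ← mul_assoc, hll']
    · rw [← h2, mul_assoc, hl'l]
    · intro y hyN hyT
      by_cases hyS : y ∈ S
      · exact horth₁ y hyS hyT
      · have e1 : l₁ * conj R y l₁ = l₁ * (l' * conj R y l') * conj R y l₁ := by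
          have : conj R y l₁ = conj R y l' * conj R y l₁ := by
            rw [← Cfsg.Agent.Lib.Helper9.BP.conj_mul', h1]
          calc l₁ * conj R y l₁ = (l₁ * l') * (conj R y l' * conj R y l₁) := by rw [h2, ← this]
            _ = l₁ * (l' * conj R y l') * conj R y l₁ := by simp only [mul_assoc]
        rw [e1, horth y hyN hyS, mul_zero, zero_mul]
  · -- local: `T = N`
    obtain ⟨hlN, hprim⟩ := hl
    have hli : IsIdempotentElem l := congrArg Subtype.val hprim.1.eq
    refine ⟨N, l, le_rfl, ⟨⟨hlN, hprim⟩, hbr⟩, ?_, hli, hli, ?_⟩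
    · rw [Cfsg.Agent.Lib.Helper9.BP.relTr_of_mem_fixedAlg le_rfl hlN, Subgroup.relIndex_self,
        Nat.cast_one, one_smul]
    · intro y hy hy'
      exact absurd hy hy'

/-- BP-[U-F8] : Puig's lemma (iterated `green_index_p` + `isPrimIn_of_green` + NONLOCAL):
a primitive idempotent of `A^N` is the relative trace of a LOCAL primitive idempotent of some
`A^T`, `T ≤ N`, whose `N/T`-conjugates are pairwise orthogonal -/
theorem exists_local_source [Finite G] (hR : MonicSplits R) {p : ℕ} [Fact p.Prime]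
    [CharP (IsLocalRing.ResidueField R) p] {N : Subgroup G} (hN : IsPGroup p N)
    {l : MonoidAlgebra R G} (hl : IsPrimIn R (fixedAlg R N) l) :
    ∃ (T : Subgroup G) (l₁ : MonoidAlgebra R G), T ≤ N ∧ IsLocalPrim R T l₁ ∧
      relTr R T N l₁ = l ∧ ∀ y ∈ N, y ∉ T → l₁ * conj R y l₁ = 0 := by
  obtain ⟨T, l₁, h1, h2, h3, _, _, h4⟩ := exists_local_source' hR (Nat.card N) rfl hN hl
  exact ⟨T, l₁, h1, h2, h3, h4⟩

end

end Cfsg.Agent.Lib.Helper3.BP
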