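import Cfsg.Agent.Lib.Helper80.BPUnit

/-!
# BP-[PG-ORTH] : equivariant orthogonalisation (helper3)

`Λ` a module-finite algebra over the local ring `R`, `σ` an automorphism with `σ^p = 1`, `j₀` an
idempotent whose conjugates `σ^t(j₀)` (`t < p`) are pairwise orthogonal and sum to `1` MODULO `𝔪Λ`.
Then `j = j₀ u⁻¹`, `u = Σ σ^t(j₀)`, is an idempotent whose conjugates are pairwise orthogonal and
sum to `1` exactly.  (The lifting step of Green's indecomposability theorem, index `p`.)
-/

set_option autoImplicit false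

namespace Cfsg.Agent.Lib.Helper3.BP

open Cfsg.Agent.Lib.Helper92.BP Cfsg.Agent.Lib.Helper80.BP

section direct

variable {R : Type*} [CommRing R] [IsLocalRing R]
variable {Λ : Type*} [Ring Λ] [Algebra R Λ] [Module.Finite R Λ]

/-- idempotents that are pairwise orthogonal modulo `𝔪Λ` generate an (internal) direct sum of
right ideals: a relation `Σ y i = 0` with `y i ∈ e i Λ` is trivial. -/
theorem eq_zero_of_sum_eq_zero_of_orth_mod {ι : Type*} [Fintype ι] [DecidableEq ι] (e : ι → Λ)
    (horth : ∀ i j, i ≠ j → e i * e j ∈ (IsLocalRing.maximalIdeal R • ⊤ : Submodule R Λ))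
    (y : ι → Λ) (hy : ∀ i, e i * y i = y i) (hsum : ∑ i, y i = 0) : ∀ i, y i = 0 := by
  classical
  -- the left ideal generated by the `y i`, as an `R`-submodule
  let Φ : (ι → Λ) →ₗ[R] Λ := ∑ i, (LinearMap.mulRight R (y i)).comp (LinearMap.proj i)
  have hΦ : ∀ v : ι → Λ, Φ v = ∑ i, v i * y i := by
    intro v
    simp [Φ, LinearMap.sum_apply]
  set X : Submodule R Λ := LinearMap.range Φ with hX
  have hXfg : X.FG := by
    rw [hX, LinearMap.range_eq_map]
    exact (Module.Finite.fg_top).map Φ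
  have hmemX : ∀ (l : Λ) (i : ι), l * y i ∈ X := by
    intro l i
    refine ⟨Pi.single i l, ?_⟩
    rw [hΦ, Finset.sum_eq_single i]
    · simp
    · intro j _ hji
      simp [Pi.single_eq_of_ne hji]
    · intro h; exact absurd (Finset.mem_univ i) h
  have hXmul : ∀ (l : Λ) (x : Λ), x ∈ X → l * x ∈ X := by
    rintro l _ ⟨v, rfl⟩
    refine ⟨fun i => l * v i, ?_⟩
    rw [hΦ, hΦ, Finset.mul_sum]
    exact Finset.sum_congr rfl fun i _ => by rw [mul_assoc]
  have hmXmul : ∀ (l : Λ) (x : Λ), x ∈ IsLocalRing.maximalIdeal R • X →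
      l * x ∈ IsLocalRing.maximalIdeal R • X := by
    intro l x hx
    refine Submodule.smul_induction_on hx ?_ ?_
    · intro r hr n hn
      rw [mul_smul_comm]
      exact Submodule.smul_mem_smul hr (hXmul l n hn)
    · intro a b ha hb
      rw [mul_add]; exact add_mem ha hb
  have hmΛX : ∀ (a : Λ), a ∈ (IsLocalRing.maximalIdeal R • ⊤ : Submodule R Λ) → ∀ x ∈ X,
      a * x ∈ IsLocalRing.maximalIdeal R • X := by
    intro a ha x hx
    refine Submodule.smul_induction_on ha ?_ ?_
    · intro r hr n _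
      rw [smul_mul_assoc]
      exact Submodule.smul_mem_smul hr (hXmul n x hx)
    · intro a b ha hb
      rw [add_mul]; exact add_mem ha hb
  have hyX : ∀ s, y s ∈ IsLocalRing.maximalIdeal R • X := by
    intro s
    have h1 : y s = - ∑ t ∈ Finset.univ.erase s, y t := by
      have := Finset.add_sum_erase Finset.univ y (Finset.mem_univ s)
      rw [hsum] at this
      exact eq_neg_of_add_eq_zero_left this
    have h2 : y s = - ∑ t ∈ Finset.univ.erase s, (e s * e t) * y t := by
      calc y s = e s * y s := (hy s).symm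
        _ = e s * (- ∑ t ∈ Finset.univ.erase s, y t) := by rw [← h1]
        _ = - ∑ t ∈ Finset.univ.erase s, e s * y t := by rw [mul_neg, Finset.mul_sum]
        _ = - ∑ t ∈ Finset.univ.erase s, (e s * e t) * y t := by
          congr 1
          exact Finset.sum_congr rfl fun t _ => by rw [mul_assoc, hy t]
    rw [h2]
    apply neg_mem
    apply Submodule.sum_mem
    intro t ht
    have hts : s ≠ t := (Finset.ne_of_mem_erase ht).symm
    have hyt : y t ∈ X := by simpa using hmemX 1 t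
    exact hmΛX _ (horth s t hts) _ hyt
  have hle : X ≤ IsLocalRing.maximalIdeal R • X := by
    rintro _ ⟨v, rfl⟩
    rw [hΦ]
    apply Submodule.sum_mem
    intro i _
    exact hmXmul (v i) (y i) (hyX i)
  have hbot : X = ⊥ := by
    apply Submodule.eq_bot_of_le_smul_of_le_jacobson_bot (IsLocalRing.maximalIdeal R) X hXfg hle
    rw [IsLocalRing.jacobson_eq_maximalIdeal ⊥ bot_ne_top]
  intro i
  have : y i ∈ X := by simpa using hmemX 1 i
  rw [hbot] at this
  simpa using this

end direct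

section main

variable {R : Type*} [CommRing R] [IsLocalRing R]
variable {Λ : Type*} [Ring Λ] [Algebra R Λ] [Module.Finite R Λ]

omit [IsLocalRing R] [Module.Finite R Λ] in
theorem algEquiv_pow_mul (σ : Λ ≃ₐ[R] Λ) (i : ℕ) (x y : Λ) :
    (σ ^ i) (x * y) = (σ ^ i) x * (σ ^ i) y := map_mul _ _ _

omit [IsLocalRing R] [Module.Finite R Λ] in
theorem algEquiv_pow_fixed (σ : Λ ≃ₐ[R] Λ) {v : Λ} (hv : σ v = v) (i : ℕ) : (σ ^ i) v = v := by
  induction i with
  | zero => simp
  | succ n ih => rw [pow_succ, AlgEquiv.mul_apply, hv, ih]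

/-- **BP-[PG-ORTH]** -/
theorem orth_lift {p : ℕ} (hp : 0 < p) (σ : Λ ≃ₐ[R] Λ) (hσ : ∀ x : Λ, (σ ^ p) x = x) (j₀ : Λ)
    (hj₀ : IsIdempotentElem j₀)
    (horth : ∀ s t, s < p → t < p → s ≠ t →
      (σ ^ s) j₀ * (σ ^ t) j₀ ∈ (IsLocalRing.maximalIdeal R • ⊤ : Submodule R Λ))
    (hsum : ∑ t ∈ Finset.range p, (σ ^ t) j₀ - 1 ∈
      (IsLocalRing.maximalIdeal R • ⊤ : Submodule R Λ)) :
    ∃ j : Λ, IsIdempotentElem j ∧
      (∀ i, 0 < i → i < p → j * (σ ^ i) j = 0 ∧ (σ ^ i) j * j = 0) ∧
      ∑ i ∈ Finset.range p, (σ ^ i) j = 1 := by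
  classical
  set u : Λ := ∑ t ∈ Finset.range p, (σ ^ t) j₀ with hu
  have huU : IsUnit u := isUnit_of_sub_one_mem u hsum
  have hσu : σ u = u := by
    have h1 : σ u = ∑ t ∈ Finset.range p, (σ ^ (t + 1)) j₀ := by
      rw [hu, map_sum]
      exact Finset.sum_congr rfl fun t _ => by rw [pow_succ', AlgEquiv.mul_apply]
    have h2 := Finset.sum_range_succ (fun t => (σ ^ t) j₀) p
    have h3 := Finset.sum_range_succ' (fun t => (σ ^ t) j₀) p
    rw [h2] at h3
    simp only [pow_zero, AlgEquiv.one_apply] at h3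
    rw [hσ j₀] at h3
    rw [h1]
    exact (add_right_cancel h3).symm
  obtain ⟨v, huv, hvu⟩ : ∃ v : Λ, u * v = 1 ∧ v * u = 1 :=
    ⟨↑huU.unit⁻¹, huU.mul_val_inv, huU.val_inv_mul⟩
  have hσv : σ v = v := by
    calc σ v = σ v * (u * v) := by rw [huv, mul_one]
      _ = (σ v * σ u) * v := by rw [hσu, mul_assoc]
      _ = σ (v * u) * v := by rw [map_mul]
      _ = v := by rw [hvu, map_one, one_mul]
  -- the family
  let e : Fin p → Λ := fun i => (σ ^ (i : ℕ)) j₀
  let f : Fin p → Λ := fun i => e i * v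
  have he : ∀ i, IsIdempotentElem (e i) := fun i => hj₀.map (σ ^ (i : ℕ))
  have hef : ∀ i, e i * f i = f i := fun i => by
    show e i * (e i * v) = e i * v
    rw [← mul_assoc, (he i).eq]
  have hfsum : ∑ i, f i = 1 := by
    show ∑ i : Fin p, e i * v = 1
    rw [← Finset.sum_mul, Fin.sum_univ_eq_sum_range (fun t => (σ ^ t) j₀) p, ← hu, huv]
  have horth' : ∀ i j : Fin p, i ≠ j →
      e i * e j ∈ (IsLocalRing.maximalIdeal R • ⊤ : Submodule R Λ) := by
    intro i j hij
    exact horth i j i.2 j.2 (fun h => hij (Fin.ext h))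
  have hmul : ∀ s t : Fin p, f s * f t = if s = t then f t else 0 := by
    intro s t
    let y : Fin p → Λ := fun i => f i * f t - (if i = t then f t else 0)
    have hy : ∀ i, e i * y i = y i := by
      intro i
      show e i * (f i * f t - (if i = t then f t else 0)) = f i * f t - (if i = t then f t else 0)
      rw [mul_sub, ← mul_assoc, hef i]
      by_cases hit : i = t
      · rw [if_pos hit, hit, hef t]
      · rw [if_neg hit, mul_zero]
    have hys : ∑ i, y i = 0 := by
      show ∑ i, (f i * f t - (if i = t then f t else 0)) = 0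
      rw [Finset.sum_sub_distrib, ← Finset.sum_mul, hfsum, one_mul,
        Finset.sum_ite_eq' Finset.univ t, if_pos (Finset.mem_univ t), sub_self]
    have := eq_zero_of_sum_eq_zero_of_orth_mod e horth' y hy hys s
    exact sub_eq_zero.mp this
  have hpow : ∀ i : ℕ, (σ ^ i) (j₀ * v) = (σ ^ i) j₀ * v := by
    intro i
    rw [algEquiv_pow_mul, algEquiv_pow_fixed σ hσv]
  refine ⟨j₀ * v, ?_, ?_, ?_⟩
  · have := hmul ⟨0, hp⟩ ⟨0, hp⟩
    simp only [if_true] at this
    have h0 : f ⟨0, hp⟩ = j₀ * v := by simp [f, e]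
    rw [h0] at this
    exact this
  · intro i hi0 hip
    have h0 : f ⟨0, hp⟩ = j₀ * v := by simp [f, e]
    have hi : f ⟨i, hip⟩ = (σ ^ i) (j₀ * v) := by rw [hpow]
    have hne : (⟨0, hp⟩ : Fin p) ≠ ⟨i, hip⟩ := by
      intro h; exact hi0.ne (Fin.mk.inj_iff.mp h)
    constructor
    · have := hmul ⟨0, hp⟩ ⟨i, hip⟩
      rw [if_neg hne, h0, hi] at this
      exact this
    · have := hmul ⟨i, hip⟩ ⟨0, hp⟩
      rw [if_neg hne.symm, h0, hi] at this
      exact this
  · have : ∑ i ∈ Finset.range p, (σ ^ i) (j₀ * v) = ∑ i ∈ Finset.range p, (σ ^ i) j₀ * v :=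
      Finset.sum_congr rfl fun i _ => hpow i
    rw [this, ← Finset.sum_mul, ← hu, huv]

end main

end Cfsg.Agent.Lib.Helper3.BP
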