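import Mathlib
import Cfsg.Prelude.Def_Characters
import Cfsg.Agent.Lib.Helper3.BrElem

/-!
# The `π`-part power map on elementary groups (helper3)

If `n`, `m` are coprime, `|E|` divides `n * m`, `e ≡ 1 (mod n)` and `m ∣ e`, then on an
elementary group `E` the map `u ↦ u ^ e` (the `π`-part, `π` the primes of `n`) is a
homomorphism.
-/

set_option autoImplicit false

namespace Cfsg.Agent.Lib.Helper3

open Cfsg

theorem pow_eq_self_of_pow_eq_one {E : Type*} [Group E] {n e : ℕ} (he1 : e ≡ 1 [MOD n]) {s : E}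
    (hs : s ^ n = 1) : s ^ e = s := by
  have h1 : orderOf s ∣ n := orderOf_dvd_of_pow_eq_one hs
  have h2 : e ≡ 1 [MOD orderOf s] := he1.of_dvd h1
  have := (pow_eq_pow_iff_modEq (x := s)).mpr h2
  rwa [pow_one] at this

theorem pow_eq_one_of_dvd_of_pow_eq_one {E : Type*} [Group E] {m e : ℕ} (hem : m ∣ e) {s : E}
    (hs : s ^ m = 1) : s ^ e = 1 := by
  obtain ⟨k, rfl⟩ := hem
  rw [pow_mul, hs, one_pow]

theorem pow_mul_of_isElementary {E : Type*} [Group E] [Finite E] {p : ℕ} (hp : p.Prime)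
    (hE : IsElementary p E) {n m e : ℕ} (hnm : n.Coprime m) (hcard : Nat.card E ∣ n * m)
    (he1 : e ≡ 1 [MOD n]) (hem : m ∣ e) (u v : E) : (u * v) ^ e = u ^ e * v ^ e := by
  haveI : Fact p.Prime := ⟨hp⟩
  obtain ⟨x₀, hx₀c, hx₀p, k, hk⟩ := hE
  set C := Subgroup.zpowers x₀ with hC
  have hCcenter : ∀ c ∈ C, c ∈ Subgroup.center E := by
    intro c hc
    exact (Subgroup.zpowers_le.mpr hx₀c) hc
  have hCcard : Nat.card C = orderOf x₀ := Nat.card_zpowers x₀
  have hEcard : Nat.card C * p ^ k = Nat.card E := by rw [← hk]; exact C.card_mul_index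
  let P : Sylow p E := default
  have hPcard : Nat.card P = p ^ k := by
    rw [Sylow.card_eq_multiplicity, ← hEcard]
    congr 1
    have h0 : Nat.card C ≠ 0 := Nat.card_pos.ne'
    rw [Nat.factorization_mul h0 (pow_ne_zero _ hp.ne_zero)]
    simp only [Finsupp.coe_add, Pi.add_apply, Nat.factorization_pow, Finsupp.coe_smul,
      Pi.smul_apply, smul_eq_mul]
    rw [hp.factorization_self, mul_one]
    have : (Nat.card C).factorization p = 0 := by
      apply Nat.factorization_eq_zero_of_not_dvd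
      intro hdvd
      rw [hCcard] at hdvd
      have := Nat.Coprime.eq_one_of_dvd hx₀p.symm hdvd
      exact hp.one_lt.ne' this
    rw [this, zero_add]
  have hcop : (Nat.card C).Coprime (Nat.card (P : Subgroup E)) := by
    rw [hPcard, hCcard]
    exact Nat.Coprime.pow_right _ hx₀p
  have hcompl : C.IsComplement' (P : Subgroup E) := by
    apply Subgroup.isComplement'_of_coprime _ hcop
    rw [hPcard]; exact hEcard
  have hdecomp : ∀ w : E, ∃ c ∈ C, ∃ s ∈ (P : Subgroup E), w = c * s := by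
    intro w
    obtain ⟨⟨c, s⟩, hcs⟩ := hcompl.2 w
    exact ⟨c.1, c.2, s.1, s.2, hcs.symm⟩
  -- the two cases for `P`
  have hPk : p ^ k ∣ n ∨ p ^ k ∣ m := by
    have h1 : p ^ k ∣ n * m := Dvd.dvd.trans (Dvd.intro_left _ hEcard) hcard
    by_cases hpn : p ∣ n
    · left
      have hpm : ¬ p ∣ m := fun h =>
        hp.one_lt.ne' (Nat.Coprime.eq_one_of_dvd (Nat.Coprime.coprime_dvd_left hpn hnm) h)
      exact (Nat.Prime.prime hp).pow_dvd_of_dvd_mul_right k hpm h1
    · right
      exact (Nat.Prime.prime hp).pow_dvd_of_dvd_mul_left k hpn h1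
  have hPpow : ∀ s ∈ (P : Subgroup E), s ^ p ^ k = 1 := by
    intro s hs
    have : (⟨s, hs⟩ : (P : Subgroup E)) ^ Nat.card (P : Subgroup E) = 1 := pow_card_eq_one'
    rw [hPcard] at this
    exact congrArg Subtype.val this
  have hP : (∀ s ∈ (P : Subgroup E), s ^ e = s) ∨ (∀ s ∈ (P : Subgroup E), s ^ e = 1) := by
    rcases hPk with h | h
    · left
      intro s hs
      apply pow_eq_self_of_pow_eq_one he1
      obtain ⟨j, rfl⟩ := h
      rw [pow_mul, hPpow s hs, one_pow]
    · right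
      intro s hs
      apply pow_eq_one_of_dvd_of_pow_eq_one hem
      obtain ⟨j, rfl⟩ := h
      rw [pow_mul, hPpow s hs, one_pow]
  obtain ⟨c, hc, s, hs, rfl⟩ := hdecomp u
  obtain ⟨c', hc', s', hs', rfl⟩ := hdecomp v
  have hcc : ∀ w : E, Commute c w := fun w => (Subgroup.mem_center_iff.mp (hCcenter c hc) w).symm
  have hcc' : ∀ w : E, Commute c' w := fun w =>
    (Subgroup.mem_center_iff.mp (hCcenter c' hc') w).symm
  have h1 : c * s * (c' * s') = (c * c') * (s * s') := by
    have := (hcc' s).eq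
    calc c * s * (c' * s') = c * (s * c') * s' := by group
      _ = c * (c' * s) * s' := by rw [this]
      _ = (c * c') * (s * s') := by group
  have hss : (s * s') ^ e = s ^ e * s' ^ e := by
    rcases hP with h | h
    · rw [h s hs, h s' hs', h _ ((P : Subgroup E).mul_mem hs hs')]
    · rw [h s hs, h s' hs', h _ ((P : Subgroup E).mul_mem hs hs'), one_mul]
  have hcomm1 : Commute (c * c') (s * s') := by
    apply Commute.mul_left (hcc _) (hcc' _)
  rw [h1, hcomm1.mul_pow, (hcc c').mul_pow, (hcc s).mul_pow, (hcc' s').mul_pow, hss]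
  have h2 : Commute (c' ^ e) (s ^ e) := ((hcc' s).pow_left e).pow_right e
  calc c ^ e * c' ^ e * (s ^ e * s' ^ e) = c ^ e * (c' ^ e * s ^ e) * s' ^ e := by group
    _ = c ^ e * (s ^ e * c' ^ e) * s' ^ e := by rw [h2.eq]
    _ = c ^ e * s ^ e * (c' ^ e * s' ^ e) := by group

end Cfsg.Agent.Lib.Helper3
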