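import Mathlib
import Cfsg.Prelude.Def_Characters
import Cfsg.Agent.Lib.Helper3.BSPow
import Cfsg.Agent.Lib.Helper3.BrArtin
import Cfsg.Agent.Lib.Helper3.ColOrth
import Cfsg.Agent.Lib.Helper74.GenIrr
import Cfsg.Agent.S0164

/-!
# The Brauer–Suzuki transfer theorem for Hall subgroups (helper3)

`H ≤ G` a Hall subgroup controlling its own fusion such that every elementary subgroup of order
dividing `|H|` is conjugate into `H`.  We construct the map `θ ↦ θ*` from class functions of `H`
to class functions of `G` (`θ*(x) = θ(h)`, `h ∈ H` conjugate to the `π`-part of `x`), show by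
Brauer's characterisation that it sends characters to generalized characters, that it is an
isometry, and deduce the normal complement.
-/

set_option autoImplicit false

namespace Cfsg.Agent.Lib.Helper3.BS

open Cfsg Cfsg.Agent.Lib.Helper3
open scoped ComplexConjugate

universe u

variable {G : Type u} [Group G]

/-- the hypotheses of the Brauer–Suzuki theorem -/
structure Hyp (H : Subgroup G) : Prop where
  hall : Nat.Coprime (Nat.card H) H.index
  fus : ∀ x ∈ H, ∀ y ∈ H, IsConj x y → ∃ h ∈ H, h * x * h⁻¹ = y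
  elem : ∀ (E : Subgroup G) (p : ℕ), p.Prime → IsElementary p E → Nat.card E ∣ Nat.card H →
    ∃ g : G, E.map (MulAut.conj g).toMonoidHom ≤ H

variable {H : Subgroup G}

/-- the exponent giving the `π`-part -/
noncomputable def piExp (hy : Hyp H) : ℕ := (Nat.chineseRemainder hy.hall 1 0 : ℕ)

theorem piExp_modEq (hy : Hyp H) : piExp hy ≡ 1 [MOD Nat.card H] :=
  (Nat.chineseRemainder hy.hall 1 0).2.1

theorem index_dvd_piExp (hy : Hyp H) : H.index ∣ piExp hy :=
  (Nat.modEq_zero_iff_dvd).mp (Nat.chineseRemainder hy.hall 1 0).2.2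

section fin

variable [Finite G]

theorem pow_piExp_pow_card (hy : Hyp H) (x : G) : (x ^ piExp hy) ^ Nat.card H = 1 := by
  obtain ⟨k, hk⟩ := index_dvd_piExp hy
  rw [← pow_mul, hk, mul_comm, ← mul_assoc, H.card_mul_index, pow_mul, pow_card_eq_one', one_pow]

theorem pow_piExp_of_mem (hy : Hyp H) {h : G} (hh : h ∈ H) : h ^ piExp hy = h := by
  apply pow_eq_self_of_pow_eq_one (piExp_modEq hy)
  have : (⟨h, hh⟩ : H) ^ Nat.card H = 1 := pow_card_eq_one'
  exact congrArg Subtype.val this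

theorem exists_conj_mem (hy : Hyp H) (x : G) : ∃ g : G, g * x ^ piExp hy * g⁻¹ ∈ H := by
  have h1 : IsElementary 2 (Subgroup.zpowers (x ^ piExp hy)) :=
    isElementary_zpowers Nat.prime_two _
  have h2 : Nat.card (Subgroup.zpowers (x ^ piExp hy)) ∣ Nat.card H := by
    rw [Nat.card_zpowers]
    exact orderOf_dvd_of_pow_eq_one (pow_piExp_pow_card hy x)
  obtain ⟨g, hg⟩ := hy.elem _ 2 Nat.prime_two h1 h2
  refine ⟨g, hg ?_⟩
  rw [Subgroup.mem_map]
  exact ⟨x ^ piExp hy, Subgroup.mem_zpowers _, by simp [MulAut.conj_apply]⟩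

/-- a representative in `H` of the class of the `π`-part of `x` -/
noncomputable def rep (hy : Hyp H) (x : G) : H :=
  ⟨Classical.choose (exists_conj_mem hy x) * x ^ piExp hy *
    (Classical.choose (exists_conj_mem hy x))⁻¹, Classical.choose_spec (exists_conj_mem hy x)⟩

theorem rep_spec (hy : Hyp H) (x : G) : ∃ g : G, g * x ^ piExp hy * g⁻¹ = (rep hy x : G) :=
  ⟨_, rfl⟩

theorem isConj_rep (hy : Hyp H) (x : G) (y : H) (hxy : ∃ g : G, g * x ^ piExp hy * g⁻¹ = (y : G)) :
    IsConj (rep hy x) y := by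
  obtain ⟨g1, h1⟩ := rep_spec hy x
  obtain ⟨g2, h2⟩ := hxy
  have h3 : IsConj (rep hy x : G) (y : G) := by
    rw [isConj_iff]
    refine ⟨g2 * g1⁻¹, ?_⟩
    rw [← h1, ← h2]
    group
  obtain ⟨h, hh, h4⟩ := hy.fus _ (rep hy x).2 _ y.2 h3
  rw [isConj_iff]
  exact ⟨⟨h, hh⟩, Subtype.ext h4⟩

/-- the map `θ ↦ θ*` -/
noncomputable def star (hy : Hyp H) (F : H → ℂ) : G → ℂ := fun x => F (rep hy x)

theorem star_eq (hy : Hyp H) {F : H → ℂ} (hF : IsClassFunction H F) (x : G) (y : H)
    (hxy : ∃ g : G, g * x ^ piExp hy * g⁻¹ = (y : G)) : star hy F x = F y :=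
  isClassFunction_iff_isConj.mp hF _ _ (isConj_rep hy x y hxy)

theorem star_isClassFunction (hy : Hyp H) {F : H → ℂ} (hF : IsClassFunction H F) :
    IsClassFunction G (star hy F) := by
  intro g h
  apply star_eq hy hF
  obtain ⟨g1, h1⟩ := rep_spec hy g
  refine ⟨g1 * h⁻¹, ?_⟩
  rw [← h1, conj_pow]
  group

theorem star_coe (hy : Hyp H) {F : H → ℂ} (hF : IsClassFunction H F) (h : H) :
    star hy F (h : G) = F h := by
  apply star_eq hy hF
  exact ⟨1, by rw [pow_piExp_of_mem hy h.2]; group⟩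

theorem star_one_eq (hy : Hyp H) {F : H → ℂ} (hF : IsClassFunction H F) :
    star hy F 1 = F 1 := star_coe hy hF 1

theorem rep_eq_one_iff (hy : Hyp H) (x : G) : rep hy x = 1 ↔ x ^ piExp hy = 1 := by
  obtain ⟨g1, h1⟩ := rep_spec hy x
  constructor
  · intro h
    rw [h] at h1
    have : g1 * x ^ piExp hy * g1⁻¹ = 1 := h1
    have h2 : x ^ piExp hy = g1⁻¹ * (g1 * x ^ piExp hy * g1⁻¹) * g1 := by group
    rw [h2, this]; group
  · intro h
    apply Subtype.ext
    rw [← h1, h]
    simp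

/-- the key homomorphism from an elementary subgroup to `H` -/
theorem exists_hom_of_isElementary (hy : Hyp H) (E : Subgroup G) (p : ℕ) (hp : p.Prime)
    (hE : IsElementary p E) :
    ∃ ψ : E →* H, ∀ u : E, ∃ g : G, g * (u : G) ^ piExp hy * g⁻¹ = (ψ u : G) := by
  have hcardE : Nat.card E ∣ Nat.card H * H.index := by
    rw [H.card_mul_index]; exact Subgroup.card_subgroup_dvd_card E
  have hmul : ∀ u v : E, (u * v) ^ piExp hy = u ^ piExp hy * v ^ piExp hy :=
    pow_mul_of_isElementary hp hE hy.hall hcardE (piExp_modEq hy) (index_dvd_piExp hy)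
  let powE : E →* E :=
    { toFun := fun u => u ^ piExp hy
      map_one' := one_pow _
      map_mul' := hmul }
  let R' : Subgroup E := powE.range
  have hR' : IsElementary p R' := isElementary_subgroup hp hE R'
  let R : Subgroup G := R'.map E.subtype
  have hR : IsElementary p R :=
    isElementary_of_mulEquiv (R'.equivMapOfInjective E.subtype E.subtype_injective) hR'
  have hRmem : ∀ r ∈ R, ∃ u : E, r = (u : G) ^ piExp hy := by
    intro r hr
    obtain ⟨r', hr', rfl⟩ := Subgroup.mem_map.mp hr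
    obtain ⟨u, rfl⟩ := MonoidHom.mem_range.mp hr'
    exact ⟨u, rfl⟩
  have hRpow : ∀ r : R, r ^ Nat.card H = 1 := by
    intro r
    obtain ⟨u, hu⟩ := hRmem r r.2
    apply Subtype.ext
    rw [Subgroup.coe_pow, hu, pow_piExp_pow_card, Subgroup.coe_one]
  have hRcop : (Nat.card R).Coprime H.index := by
    apply Nat.coprime_of_dvd
    intro q hq hqR hqm
    haveI : Fact q.Prime := ⟨hq⟩
    obtain ⟨r, hr⟩ := exists_prime_orderOf_dvd_card' q hqR
    have h1 : q ∣ Nat.card H := by
      rw [← hr]; exact orderOf_dvd_of_pow_eq_one (hRpow r)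
    have := Nat.Coprime.eq_one_of_dvd (Nat.Coprime.coprime_dvd_left h1 hy.hall) hqm
    exact hq.one_lt.ne' this
  have hRcard : Nat.card R ∣ Nat.card H := by
    apply hRcop.dvd_of_dvd_mul_right
    rw [H.card_mul_index]; exact Subgroup.card_subgroup_dvd_card R
  obtain ⟨g, hg⟩ := hy.elem R p hp hR hRcard
  have hmemH : ∀ u : E, g * (u : G) ^ piExp hy * g⁻¹ ∈ H := by
    intro u
    apply hg
    rw [Subgroup.mem_map]
    refine ⟨(u : G) ^ piExp hy, ?_, by simp [MulAut.conj_apply]⟩
    rw [Subgroup.mem_map]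
    exact ⟨u ^ piExp hy, MonoidHom.mem_range.mpr ⟨u, rfl⟩, rfl⟩
  let ψ0 : E →* G := (MulAut.conj g).toMonoidHom.comp (E.subtype.comp powE)
  have hψ0 : ∀ u : E, ψ0 u = g * (u : G) ^ piExp hy * g⁻¹ := by
    intro u
    simp [ψ0, powE, MulAut.conj_apply]
  refine ⟨ψ0.codRestrict H (fun u => by rw [hψ0]; exact hmemH u), fun u => ⟨g, ?_⟩⟩
  rw [MonoidHom.codRestrict_apply]
  exact (hψ0 u).symm

theorem star_isGeneralizedCharacter (hy : Hyp H) {θ : H → ℂ} (hθ : IsCharacter H θ) :
    IsGeneralizedCharacter G (star hy θ) := by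
  have hcl : IsClassFunction H θ := IsCharacter.isClassFunction hθ
  apply Cfsg.Agent.S0164.result _ (star_isClassFunction hy hcl)
  intro E p hp hE
  obtain ⟨ψ, hψ⟩ := exists_hom_of_isElementary hy E p hp hE
  have h1 : (fun e : E => star hy θ e) = fun e : E => θ (ψ e) := by
    funext e
    exact star_eq hy hcl _ _ (hψ e)
  rw [h1]
  exact ⟨_, 0, Cfsg.Agent.Lib.Helper80.isCharacter_comp ψ hθ,
    Cfsg.Agent.Lib.Helper80.isCharacter_zero, (sub_zero _).symm⟩

end fin

end Cfsg.Agent.Lib.Helper3.BS
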