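import Mathlib
import Cfsg.Prelude.Def_Characters
import Cfsg.Agent.Lib.Helper3.BSMain
import Cfsg.Agent.Lib.Helper3.Integrality
import Cfsg.Agent.Lib.Helper26.IrrFactsInst

/-!
# Brauer–Suzuki for Hall subgroups: the isometry (helper3)
-/

set_option autoImplicit false

namespace Cfsg.Agent.Lib.Helper3.BS

open Cfsg Cfsg.Agent.Lib.Helper3
open scoped ComplexConjugate

universe u

variable {G : Type u} [Group G] [Fintype G] {H : Subgroup G} [Fintype H]

theorem isGeneralizedCharacter_classInner_int {K : Type u} [Group K] [Fintype K] {ψ : K → ℂ}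
    (hψ : IsGeneralizedCharacter K ψ) (χ : IrrCharacter K) :
    ∃ n : ℤ, classInner ψ (χ : K → ℂ) = n := by
  obtain ⟨χ1, χ2, h1, h2, rfl⟩ := hψ
  obtain ⟨n1, hn1⟩ := Cfsg.Agent.Lib.Helper78.IsCharacter.exists_nat_classInner h1 χ
  obtain ⟨n2, hn2⟩ := Cfsg.Agent.Lib.Helper78.IsCharacter.exists_nat_classInner h2 χ
  refine ⟨(n1 : ℤ) - n2, ?_⟩
  rw [classInner_sub_left, hn1, hn2]
  push_cast
  rfl

theorem isIntegral_irrCharacter {K : Type u} [Group K] [Finite K] (χ : IrrCharacter K) (g : K) :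
    IsIntegral ℤ ((χ : K → ℂ) g) := by
  obtain ⟨n, ρ, _, hρ⟩ := χ.2
  rw [← hρ]
  exact isIntegral_character ρ g

/-- the trivial character as an element of `IrrCharacter` -/
noncomputable def triv (K : Type u) [Group K] : IrrCharacter K :=
  ⟨fun _ => 1, Cfsg.Agent.Lib.Helper78.isIrrCharacter_one⟩

/-- the multiplicity of the trivial character in `θ*` -/
noncomputable def aC (hy : Hyp H) (θ : IrrCharacter H) : ℂ :=
  classInner (star hy (θ : H → ℂ)) (fun _ => 1)

theorem aC_int (hy : Hyp H) (θ : IrrCharacter H) : ∃ n : ℤ, aC hy θ = n :=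
  isGeneralizedCharacter_classInner_int
    (star_isGeneralizedCharacter hy (IsIrrCharacter.isCharacter θ.2)) (triv G)

theorem aC_eq (hy : Hyp H) (θ : IrrCharacter H) :
    aC hy θ = (Nat.card G : ℂ)⁻¹ * ∑ x : G, (θ : H → ℂ) (rep hy x) := by
  unfold aC classInner star
  simp

theorem aC_eq_conj (hy : Hyp H) (θ : IrrCharacter H) :
    aC hy θ = (Nat.card G : ℂ)⁻¹ * ∑ x : G, conj ((θ : H → ℂ) (rep hy x)) := by
  obtain ⟨n, hn⟩ := aC_int hy θ
  have h1 : conj (aC hy θ) = aC hy θ := by rw [hn]; simp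
  rw [← h1, aC_eq, map_mul, map_inv₀, Complex.conj_natCast, map_sum]

theorem aC_triv (hy : Hyp H) : aC hy (triv H) = 1 := by
  rw [aC_eq]
  simp only [triv, Finset.sum_const, Finset.card_univ, nsmul_eq_mul, mul_one]
  rw [← Nat.card_eq_fintype_card]
  exact inv_mul_cancel₀ card_ne_zero_complex

variable [Fintype (IrrCharacter H)]

/-- the generalized character `∑ a_θ θ` of `H` -/
noncomputable def qfun (hy : Hyp H) : H → ℂ := fun h => ∑ θ : IrrCharacter H, aC hy θ * (θ : H → ℂ) h

open scoped Classical in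
theorem qfun_eq (hy : Hyp H) (h : H) :
    qfun hy h = (Nat.card G : ℂ)⁻¹ *
      ∑ x : G, (if IsConj h (rep hy x) then
        (Nat.card (Subgroup.centralizer ({h} : Set H)) : ℂ) else 0) := by
  unfold qfun
  have h1 : ∀ θ : IrrCharacter H, aC hy θ * (θ : H → ℂ) h =
      (Nat.card G : ℂ)⁻¹ * ∑ x : G, (θ : H → ℂ) h * conj ((θ : H → ℂ) (rep hy x)) := by
    intro θ
    rw [aC_eq_conj, Finset.mul_sum, Finset.mul_sum, Finset.sum_mul]
    refine Finset.sum_congr rfl fun x _ => ?_
    ring
  rw [Finset.sum_congr rfl fun θ _ => h1 θ, ← Finset.mul_sum, Finset.sum_comm]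
  congr 1
  refine Finset.sum_congr rfl fun x _ => ?_
  have := column_orthogonality h (rep hy x)
  convert this

theorem isIntegral_qfun (hy : Hyp H) (h : H) : IsIntegral ℤ (qfun hy h) := by
  unfold qfun
  apply IsIntegral.sum
  intro θ _
  obtain ⟨n, hn⟩ := aC_int hy θ
  rw [hn]
  exact IsIntegral.mul isIntegral_algebraMap (isIntegral_irrCharacter θ h)

theorem isConj_rep_self (hy : Hyp H) (h : H) : IsConj h (rep hy (h : G)) := by
  apply IsConj.symm
  apply isConj_rep
  exact ⟨1, by rw [pow_piExp_of_mem hy h.2]; group⟩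

open scoped Classical in
theorem qfun_eq_int (hy : Hyp H) (h : H) : ∃ k : ℤ, 1 ≤ k ∧ qfun hy h = k := by
  set N : ℕ := (Finset.univ.filter fun x : G => IsConj h (rep hy x)).card with hN
  set c : ℕ := Nat.card (Subgroup.centralizer ({h} : Set H)) with hc
  have h1 : qfun hy h = (((c * N : ℕ) : ℚ) / (Nat.card G : ℚ) : ℚ) := by
    rw [qfun_eq, ← Finset.sum_filter, Finset.sum_const, nsmul_eq_mul]
    push_cast
    rw [← hN, ← hc]
    ring
  have hNpos : 0 < N := by
    rw [hN, Finset.card_pos]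
    exact ⟨(h : G), Finset.mem_filter.mpr ⟨Finset.mem_univ _, isConj_rep_self hy h⟩⟩
  have hcpos : 0 < c := Nat.card_pos
  have hint := isIntegral_qfun hy h
  rw [h1] at hint
  obtain ⟨k, hk⟩ := exists_int_of_isIntegral_ratCast _ hint
  refine ⟨k, ?_, ?_⟩
  · have hpos : (0 : ℚ) < ((c * N : ℕ) : ℚ) / (Nat.card G : ℚ) := by
      apply div_pos
      · exact_mod_cast Nat.mul_pos hcpos hNpos
      · exact_mod_cast Nat.card_pos
    rw [← hk] at hpos
    have : (0 : ℤ) < k := by exact_mod_cast hpos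
    omega
  · rw [h1, ← hk]
    simp

theorem classInner_qfun_triv (hy : Hyp H) : classInner (qfun hy) (fun _ => 1) = 1 := by
  classical
  have h1 : qfun hy = ∑ θ : IrrCharacter H, aC hy θ • (θ : H → ℂ) := by
    funext h
    simp [qfun, Finset.sum_apply]
  rw [h1, classInner_sum_left]
  simp only [classInner_smul_left]
  rw [Finset.sum_eq_single (triv H)]
  · rw [aC_triv]
    have := classInner_irrCharacter (triv H).2 (triv H).2
    rw [if_pos rfl] at this
    rw [one_mul]
    exact this
  · intro θ _ hne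
    have := classInner_irrCharacter θ.2 (triv H).2
    rw [if_neg (fun h => hne (Subtype.ext h))] at this
    have h2 : classInner (θ : H → ℂ) (fun _ => 1) = 0 := this
    rw [h2, mul_zero]
  · intro h; exact absurd (Finset.mem_univ _) h

theorem qfun_eq_one (hy : Hyp H) (h : H) : qfun hy h = 1 := by
  classical
  choose k hk1 hk using qfun_eq_int hy
  have hsum : ∑ h : H, qfun hy h = (Nat.card H : ℂ) := by
    have h1 := classInner_qfun_triv hy
    unfold classInner at h1
    simp only [map_one, mul_one] at h1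
    have h2 : (Nat.card H : ℂ) ≠ 0 := card_ne_zero_complex
    field_simp at h1
    exact h1
  have hsumk : ∑ h : H, k h = ∑ _h : H, (1 : ℤ) := by
    have : ((∑ h : H, k h : ℤ) : ℂ) = ((∑ _h : H, (1 : ℤ) : ℤ) : ℂ) := by
      push_cast
      rw [← Finset.sum_congr rfl fun h _ => hk h, hsum]
      simp [Nat.card_eq_fintype_card]
    exact_mod_cast this
  have hall : ∀ h ∈ Finset.univ, (1 : ℤ) = k h := by
    rw [← Finset.sum_eq_sum_iff_of_le (fun h _ => hk1 h)]
    exact hsumk.symm
  rw [hk h, ← hall h (Finset.mem_univ _)]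
  simp

theorem aC_eq_classInner (hy : Hyp H) (θ : IrrCharacter H) :
    aC hy θ = classInner (θ : H → ℂ) (fun _ => 1) := by
  classical
  have h1 : (fun _ : H => (1 : ℂ)) = ∑ θ : IrrCharacter H, aC hy θ • (θ : H → ℂ) := by
    funext h
    rw [← qfun_eq_one hy h]
    simp [qfun, Finset.sum_apply]
  have h2 : classInner (fun _ : H => (1 : ℂ)) (θ : H → ℂ) = aC hy θ := by
    conv_lhs => rw [h1]
    rw [classInner_sum_left]
    simp only [classInner_smul_left]
    rw [Finset.sum_eq_single θ]
    · rw [classInner_irrCharacter θ.2 θ.2, if_pos rfl, mul_one]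
    · intro θ' _ hne
      rw [classInner_irrCharacter θ'.2 θ.2, if_neg (fun h => hne (Subtype.ext h)), mul_zero]
    · intro h; exact absurd (Finset.mem_univ _) h
  rw [← h2]
  have h3 := classInner_irrCharacter (triv H).2 θ.2
  have h4 := classInner_irrCharacter θ.2 (triv H).2
  have h3' : classInner (fun _ : H => (1 : ℂ)) (θ : H → ℂ) =
      if ((triv H : IrrCharacter H) : H → ℂ) = θ then 1 else 0 := h3
  have h4' : classInner (θ : H → ℂ) (fun _ : H => (1 : ℂ)) =
      if (θ : H → ℂ) = ((triv H : IrrCharacter H) : H → ℂ) then 1 else 0 := h4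
  rw [h3', h4']
  by_cases h : (θ : H → ℂ) = ((triv H : IrrCharacter H) : H → ℂ)
  · rw [if_pos h, if_pos h.symm]
  · rw [if_neg h, if_neg (fun h' => h h'.symm)]

/-- mean value transfer -/
theorem mean_star (hy : Hyp H) {F : H → ℂ} (hF : IsClassFunction H F) :
    (Nat.card G : ℂ)⁻¹ * ∑ x : G, F (rep hy x) = (Nat.card H : ℂ)⁻¹ * ∑ h : H, F h := by
  classical
  have hexp := classFunction_expansion F hF
  have h1 : ∀ z : H, F z = ∑ θ : IrrCharacter H, classInner F (θ : H → ℂ) * (θ : H → ℂ) z := by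
    intro z
    conv_lhs => rw [hexp]
    simp [Finset.sum_apply]
  have hL : (Nat.card G : ℂ)⁻¹ * ∑ x : G, F (rep hy x) =
      ∑ θ : IrrCharacter H, classInner F (θ : H → ℂ) * aC hy θ := by
    simp only [aC_eq]
    rw [Finset.sum_congr rfl fun x _ => h1 (rep hy x), Finset.sum_comm, Finset.mul_sum]
    refine Finset.sum_congr rfl fun θ _ => ?_
    rw [← Finset.mul_sum]
    ring
  have hR : (Nat.card H : ℂ)⁻¹ * ∑ h : H, F h =
      ∑ θ : IrrCharacter H, classInner F (θ : H → ℂ) * classInner (θ : H → ℂ) (fun _ => 1) := by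
    have : ∀ θ : IrrCharacter H, classInner (θ : H → ℂ) (fun _ => 1) =
        (Nat.card H : ℂ)⁻¹ * ∑ h : H, (θ : H → ℂ) h := by
      intro θ
      unfold classInner
      simp
    simp only [this]
    rw [Finset.sum_congr rfl fun x _ => h1 x, Finset.sum_comm, Finset.mul_sum]
    refine Finset.sum_congr rfl fun θ _ => ?_
    rw [← Finset.mul_sum]
    ring
  rw [hL, hR]
  refine Finset.sum_congr rfl fun θ _ => ?_
  rw [aC_eq_classInner]

theorem classInner_star (hy : Hyp H) {F₁ F₂ : H → ℂ} (h₁ : IsClassFunction H F₁)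
    (h₂ : IsClassFunction H F₂) :
    classInner (star hy F₁) (star hy F₂) = classInner F₁ F₂ := by
  unfold classInner star
  have hcl : IsClassFunction H (fun h => F₁ h * conj (F₂ h)) := by
    intro g h
    simp only
    rw [h₁ g h, h₂ g h]
  exact mean_star hy hcl

end Cfsg.Agent.Lib.Helper3.BS
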