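import Mathlib
import Cfsg.Prelude.Def_Characters
import Cfsg.Prelude.Def_Blocks
import Cfsg.Agent.Lib.Helper3.BrFinal

/-!
# Brauer's characterization of characters with coefficients in a ring of algebraic integers
(helper3)

* `mem_GC_iff` : `f ∈ GC A G ↔ f` is a class function with all `classInner f χ ∈ A`;
* `mem_GC_of_forall_elementary` : a class function whose restriction to every elementary subgroup
  is an `A`-generalized character is an `A`-generalized character;
* `brauer_characterization_algInt` : the same for `A =` all algebraic integers (`Cfsg.AlgInt`),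
  in coefficient form.
-/

set_option autoImplicit false

namespace Cfsg.Agent.Lib.Helper3

open Cfsg
open scoped ComplexConjugate

universe u

section

variable {A : Subring ℂ} {G : Type u} [Group G] [Fintype G]

theorem mem_GC_of_classInner [Fintype (IrrCharacter G)] {f : G → ℂ} (hcl : IsClassFunction G f)
    (h : ∀ χ : IrrCharacter G, classInner f χ ∈ A) : f ∈ GC A G := by
  rw [classFunction_expansion f hcl]
  apply Submodule.sum_mem
  intro χ _
  have : classInner f (χ : G → ℂ) • (χ : G → ℂ) = (⟨_, h χ⟩ : A) • (χ : G → ℂ) := rfl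
  rw [this]
  exact Submodule.smul_mem _ _
    (mem_GC_of_isCharacter (Cfsg.Agent.Lib.Helper80.isCharacter_of_isIrr χ.2))

theorem mem_GC_iff [Fintype (IrrCharacter G)] {f : G → ℂ} :
    f ∈ GC A G ↔ IsClassFunction G f ∧ ∀ χ : IrrCharacter G, classInner f χ ∈ A :=
  ⟨fun h => ⟨isClassFunction_of_mem_GC h, fun χ =>
    classInner_mem_of_mem_GC h (Cfsg.Agent.Lib.Helper80.isCharacter_of_isIrr χ.2)⟩,
   fun h => mem_GC_of_classInner h.1 h.2⟩

/-- **Brauer's characterization of characters**, with coefficients in `A` -/
theorem mem_GC_of_forall_elementary (hint : ∀ a ∈ A, IsIntegral ℤ a)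
    (hA : ∀ z : ℂ, z ^ Nat.card G = 1 → z ∈ A) {θ : G → ℂ} (hθ : IsClassFunction G θ)
    (h : ∀ (E : Subgroup G) (p : ℕ), p.Prime → IsElementary p E → (fun e : E => θ e) ∈ GC A E) :
    θ ∈ GC A G := by
  have key : ∀ v : G → ℂ, v ∈ VE A G → θ * v ∈ GC A G := by
    intro v hv
    induction hv using Submodule.span_induction with
    | mem w hw =>
      obtain ⟨E, ψ, ⟨p, hp, hE⟩, hψ, rfl⟩ := hw
      rw [mul_indFun_eq hθ]
      apply VE_le_GC
      apply indFun_mem_VE_of_mem_GC E hp hE
      exact mul_mem_GC (h E p hp hE) (mem_GC_of_isCharacter hψ)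
    | zero => rw [mul_zero]; exact Submodule.zero_mem _
    | add x y _ _ hx hy => rw [mul_add]; exact Submodule.add_mem _ hx hy
    | smul a x _ hx => rw [mul_smul_fun]; exact Submodule.smul_mem _ a hx
  have := key 1 (one_mem_VE hint hA)
  rwa [mul_one] at this

end

section algint

variable {G : Type u} [Group G] [Fintype G]

/-- the subring of all algebraic integers -/
def algIntSubring : Subring ℂ := (Cfsg.AlgInt).toSubring

theorem mem_algIntSubring {z : ℂ} : z ∈ algIntSubring ↔ z ∈ Cfsg.AlgInt := Iff.rfl

theorem algIntSubring_isIntegral : ∀ a ∈ algIntSubring, IsIntegral ℤ a := fun _ ha => ha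

theorem algIntSubring_root (n : ℕ) (hn : 0 < n) : ∀ z : ℂ, z ^ n = 1 → z ∈ algIntSubring := by
  intro z hz
  exact IsIntegral.of_pow hn (by rw [hz]; exact isIntegral_one)

/-- **Brauer's characterization**, algebraic-integer coefficients, coefficient form: if the
restriction of the class function `θ` to every elementary subgroup `E` has algebraic-integer
inner products with all irreducible characters of `E`, then `θ` is a combination of irreducible
characters of `G` with algebraic-integer coefficients. -/
theorem brauer_characterization_algInt [Fintype (IrrCharacter G)] {θ : G → ℂ}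
    (hθ : IsClassFunction G θ)
    (h : ∀ (E : Subgroup G) [Fintype E] (p : ℕ), p.Prime → IsElementary p E →
      ∀ ψ : E → ℂ, IsIrrCharacter E ψ → classInner (fun e : E => θ e) ψ ∈ Cfsg.AlgInt) :
    (∀ χ : IrrCharacter G, classInner θ χ ∈ Cfsg.AlgInt) ∧
      θ = ∑ χ : IrrCharacter G, classInner θ (χ : G → ℂ) • (χ : G → ℂ) := by
  classical
  have h1 : θ ∈ GC algIntSubring G := by
    apply mem_GC_of_forall_elementary algIntSubring_isIntegral
      (algIntSubring_root _ Nat.card_pos) hθ
    intro E p hp hE
    haveI : Fintype E := Fintype.ofFinite E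
    haveI : Fintype (IrrCharacter E) := Fintype.ofFinite _
    apply mem_GC_of_classInner
    · intro a b
      exact hθ a b
    · intro ψ
      exact h E p hp hE ψ ψ.2
  exact ⟨fun χ => classInner_mem_of_mem_GC h1
    (Cfsg.Agent.Lib.Helper80.isCharacter_of_isIrr χ.2), classFunction_expansion θ hθ⟩

end algint

end Cfsg.Agent.Lib.Helper3
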