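import Mathlib

set_option autoImplicit false

/-!
# Coordinates on an elementary abelian group of order `p^2` (helper3, for helper70's ES3 project)

`M p = Multiplicative (ZMod p × ZMod p)`; upper / lower transvections `uM t`, `loM s` of `M p`; every automorphism
of `M p` is given by a 2x2 matrix; the determinant `detM`; automorphisms of determinant one are products of
transvections; the coordinate isomorphism `A ≃* M p` attached to a basis `z, x` of `A`.
-/

namespace Cfsg.Agent.Lib.Helper3.ES3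

open Multiplicative

variable {p : ℕ} [Fact p.Prime]

/-- The additive model. -/
abbrev V (p : ℕ) : Type := ZMod p × ZMod p

/-- The multiplicative model. -/
abbrev M (p : ℕ) : Type := Multiplicative (V p)

/-- Upper transvection, additive. -/
def uAdd (t : ZMod p) : V p ≃+ V p where
  toFun v := (v.1 + t * v.2, v.2)
  invFun v := (v.1 - t * v.2, v.2)
  left_inv v := by simp
  right_inv v := by simp
  map_add' v w := by
    ext
    · simp only [Prod.fst_add, Prod.snd_add]; ring
    · simp only [Prod.snd_add]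

/-- Lower transvection, additive. -/
def loAdd (s : ZMod p) : V p ≃+ V p where
  toFun v := (v.1, v.2 + s * v.1)
  invFun v := (v.1, v.2 - s * v.1)
  left_inv v := by simp
  right_inv v := by simp
  map_add' v w := by
    ext
    · simp only [Prod.fst_add]
    · simp only [Prod.fst_add, Prod.snd_add]; ring

/-- Upper transvection of `M p`. -/
def uM (t : ZMod p) : MulAut (M p) := AddEquiv.toMultiplicative (uAdd t)

/-- Lower transvection of `M p`. -/
def loM (s : ZMod p) : MulAut (M p) := AddEquiv.toMultiplicative (loAdd s)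

@[simp] theorem uM_apply (t i j : ZMod p) : uM t (ofAdd ((i, j) : V p)) = ofAdd ((i + t * j, j) : V p) := rfl

@[simp] theorem loM_apply (s i j : ZMod p) : loM s (ofAdd ((i, j) : V p)) = ofAdd ((i, j + s * i) : V p) :=
  rfl

theorem ofAdd_eq (m : M p) : m = ofAdd (((toAdd m).1, (toAdd m).2) : V p) := rfl

theorem uM_mul (s t : ZMod p) : uM s * uM t = uM (s + t) := by
  apply MulEquiv.ext
  intro m
  rw [ofAdd_eq m, MulAut.mul_apply, uM_apply, uM_apply, uM_apply]
  congr 2
  ring

theorem loM_mul (s t : ZMod p) : loM s * loM t = loM (s + t) := by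
  apply MulEquiv.ext
  intro m
  rw [ofAdd_eq m, MulAut.mul_apply, loM_apply, loM_apply, loM_apply]
  congr 2
  ring

theorem uM_zero : uM (0 : ZMod p) = 1 := by
  apply MulEquiv.ext
  intro m
  rw [ofAdd_eq m, uM_apply, MulAut.one_apply]
  congr 2
  ring

theorem loM_zero : loM (0 : ZMod p) = 1 := by
  apply MulEquiv.ext
  intro m
  rw [ofAdd_eq m, loM_apply, MulAut.one_apply]
  congr 2
  ring

theorem uM_pow (t : ZMod p) (n : ℕ) : uM t ^ n = uM ((n : ZMod p) * t) := by
  induction n with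
  | zero => simp [uM_zero]
  | succ n ih => rw [pow_succ, ih, uM_mul]; congr 1; push_cast; ring

theorem loM_pow (t : ZMod p) (n : ℕ) : loM t ^ n = loM ((n : ZMod p) * t) := by
  induction n with
  | zero => simp [loM_zero]
  | succ n ih => rw [pow_succ, ih, loM_mul]; congr 1; push_cast; ring

theorem uM_ne_one {t : ZMod p} (ht : t ≠ 0) : uM t ≠ 1 := by
  intro h
  have := congrArg (fun φ : MulAut (M p) => φ (ofAdd ((0, 1) : V p))) h
  simp only [uM_apply, MulAut.one_apply] at this
  have h2 := congrArg (fun m : M p => (toAdd m).1) this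
  simp at h2
  exact ht h2

theorem loM_ne_one {t : ZMod p} (ht : t ≠ 0) : loM t ≠ 1 := by
  intro h
  have := congrArg (fun φ : MulAut (M p) => φ (ofAdd ((1, 0) : V p))) h
  simp only [loM_apply, MulAut.one_apply] at this
  have h2 := congrArg (fun m : M p => (toAdd m).2) this
  simp at h2
  exact ht h2

theorem orderOf_uM {t : ZMod p} (ht : t ≠ 0) : orderOf (uM t) = p := by
  apply orderOf_eq_prime
  · rw [uM_pow]; simp [uM_zero]
  · exact uM_ne_one ht

theorem orderOf_loM {t : ZMod p} (ht : t ≠ 0) : orderOf (loM t) = p := by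
  apply orderOf_eq_prime
  · rw [loM_pow]; simp [loM_zero]
  · exact loM_ne_one ht

/-- The two basis vectors. -/
def e₁ : M p := ofAdd ((1, 0) : V p)
def e₂ : M p := ofAdd ((0, 1) : V p)

theorem ofAdd_eq_pow (i j : ZMod p) : (ofAdd ((i, j) : V p) : M p) = e₁ ^ i.val * e₂ ^ j.val := by
  apply toAdd.injective
  rw [toAdd_mul, toAdd_pow, toAdd_pow]
  show ((i, j) : V p) = i.val • ((1, 0) : V p) + j.val • ((0, 1) : V p)
  ext
  · simp
  · simp

/-- The matrix entries of an automorphism of `M p`. -/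
def ent (Φ : MulAut (M p)) : V p × V p := (toAdd (Φ e₁), toAdd (Φ e₂))

theorem apply_eq (Φ : MulAut (M p)) (i j : ZMod p) :
    Φ (ofAdd ((i, j) : V p)) =
      ofAdd (((ent Φ).1.1 * i + (ent Φ).2.1 * j, (ent Φ).1.2 * i + (ent Φ).2.2 * j) : V p) := by
  rw [ofAdd_eq_pow, map_mul, map_pow, map_pow]
  apply toAdd.injective
  rw [toAdd_mul, toAdd_pow, toAdd_pow, toAdd_ofAdd]
  show i.val • (ent Φ).1 + j.val • (ent Φ).2 = _
  ext
  · simp [mul_comm]
  · simp [mul_comm]

theorem mulAut_ext {Φ Ψ : MulAut (M p)} (h₁ : Φ e₁ = Ψ e₁) (h₂ : Φ e₂ = Ψ e₂) : Φ = Ψ := by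
  apply MulEquiv.ext
  intro m
  rw [ofAdd_eq m, apply_eq, apply_eq]
  have : ent Φ = ent Ψ := by unfold ent; rw [h₁, h₂]
  rw [this]

/-- The determinant. -/
def detFun (Φ : MulAut (M p)) : ZMod p :=
  (ent Φ).1.1 * (ent Φ).2.2 - (ent Φ).2.1 * (ent Φ).1.2

theorem ent_mul (Φ Ψ : MulAut (M p)) :
    ent (Φ * Ψ) =
      (((ent Φ).1.1 * (ent Ψ).1.1 + (ent Φ).2.1 * (ent Ψ).1.2,
        (ent Φ).1.2 * (ent Ψ).1.1 + (ent Φ).2.2 * (ent Ψ).1.2),
       ((ent Φ).1.1 * (ent Ψ).2.1 + (ent Φ).2.1 * (ent Ψ).2.2,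
        (ent Φ).1.2 * (ent Ψ).2.1 + (ent Φ).2.2 * (ent Ψ).2.2)) := by
  have h1 : (Φ * Ψ) e₁ = Φ (ofAdd (((ent Ψ).1.1, (ent Ψ).1.2) : V p)) := rfl
  have h2 : (Φ * Ψ) e₂ = Φ (ofAdd (((ent Ψ).2.1, (ent Ψ).2.2) : V p)) := rfl
  unfold ent at h1 h2 ⊢
  rw [h1, h2, apply_eq, apply_eq]
  rfl

theorem ent_one : ent (1 : MulAut (M p)) = (((1, 0) : V p), ((0, 1) : V p)) := rfl

theorem detFun_mul (Φ Ψ : MulAut (M p)) : detFun (Φ * Ψ) = detFun Φ * detFun Ψ := by
  unfold detFun
  rw [ent_mul]
  ring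

theorem detFun_one : detFun (1 : MulAut (M p)) = 1 := by
  unfold detFun
  rw [ent_one]
  simp

/-- The determinant as a monoid homomorphism. -/
def detM : MulAut (M p) →* ZMod p where
  toFun := detFun
  map_one' := detFun_one
  map_mul' := detFun_mul

theorem detM_eq_one_of_pow {Φ : MulAut (M p)} (h : Φ ^ p = 1) : detM Φ = 1 := by
  have h1 : detM Φ ^ p = 1 := by rw [← map_pow, h, map_one]
  rwa [ZMod.pow_card] at h1

theorem ent_uM (t : ZMod p) : ent (uM t) = (((1, 0) : V p), ((t, 1) : V p)) := by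
  unfold ent e₁ e₂
  rw [uM_apply, uM_apply]
  simp

theorem ent_loM (s : ZMod p) : ent (loM s) = (((1, s) : V p), ((0, 1) : V p)) := by
  unfold ent e₁ e₂
  rw [loM_apply, loM_apply]
  simp

theorem detM_uM (t : ZMod p) : detM (uM t) = 1 := by
  show detFun (uM t) = 1
  unfold detFun
  rw [ent_uM]
  simp

theorem detM_loM (s : ZMod p) : detM (loM s) = 1 := by
  show detFun (loM s) = 1
  unfold detFun
  rw [ent_loM]
  simp

theorem ent_injective {Φ Ψ : MulAut (M p)} (h : ent Φ = ent Ψ) : Φ = Ψ := by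
  apply mulAut_ext
  · have := congrArg Prod.fst h
    exact toAdd.injective this
  · have := congrArg Prod.snd h
    exact toAdd.injective this

/-- Decomposition when the lower left entry is nonzero. -/
theorem eq_uM_loM_uM {Φ : MulAut (M p)} (hdet : detM Φ = 1) (hc : (ent Φ).1.2 ≠ 0) :
    Φ = uM (((ent Φ).1.1 - 1) / (ent Φ).1.2) * loM ((ent Φ).1.2) * uM (((ent Φ).2.2 - 1) / (ent Φ).1.2) := by
  apply ent_injective
  rw [ent_mul, ent_mul, ent_uM, ent_uM, ent_loM]
  have hdet' : (ent Φ).1.1 * (ent Φ).2.2 - (ent Φ).2.1 * (ent Φ).1.2 = 1 := hdet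
  generalize ent Φ = E at *
  obtain ⟨⟨a, c⟩, ⟨b, d⟩⟩ := E
  simp only at hdet' hc ⊢
  have hb : b = (a * d - 1) / c := by
    field_simp
    linear_combination -hdet'
  refine Prod.ext (Prod.ext ?_ ?_) (Prod.ext ?_ ?_)
  · simp only; field_simp; ring
  · simp only; ring
  · simp only; rw [hb]; field_simp; ring
  · simp only; field_simp; ring

/-- Every automorphism of determinant one lies in any subgroup containing all transvections. -/
theorem mem_of_detM_eq_one (S : Subgroup (MulAut (M p))) (hU : ∀ t : ZMod p, uM t ∈ S)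
    (hL : ∀ s : ZMod p, loM s ∈ S) {Φ : MulAut (M p)} (hdet : detM Φ = 1) : Φ ∈ S := by
  by_cases hc : (ent Φ).1.2 = 0
  · -- multiply by `loM 1`
    have hdet' : (ent Φ).1.1 * (ent Φ).2.2 - (ent Φ).2.1 * (ent Φ).1.2 = 1 := hdet
    have ha : (ent Φ).1.1 ≠ 0 := by
      intro ha
      rw [ha, hc] at hdet'
      simp at hdet'
    set Ψ := loM 1 * Φ with hΨ
    have hΨdet : detM Ψ = 1 := by rw [hΨ, map_mul, detM_loM, hdet, one_mul]
    have hΨc : (ent Ψ).1.2 ≠ 0 := by
      rw [hΨ, ent_mul, ent_loM]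
      simp only
      rw [hc]
      simpa using ha
    have hΨS : Ψ ∈ S := by
      rw [eq_uM_loM_uM hΨdet hΨc]
      exact S.mul_mem (S.mul_mem (hU _) (hL _)) (hU _)
    have : Φ = (loM 1)⁻¹ * Ψ := by rw [hΨ, inv_mul_cancel_left]
    rw [this]
    exact S.mul_mem (S.inv_mem (hL 1)) hΨS
  · rw [eq_uM_loM_uM hdet hc]
    exact S.mul_mem (S.mul_mem (hU _) (hL _)) (hU _)

/-! ### Coordinates on `A` -/

section coord

variable {A : Type*} [CommGroup A] [Finite A]

theorem pow_val_add {a : A} (ha : a ^ p = 1) (i j : ZMod p) :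
    a ^ (i + j).val = a ^ i.val * a ^ j.val := by
  rw [ZMod.val_add, ← pow_eq_pow_mod _ ha, pow_add]

/-- The parametrisation `(i, j) ↦ z^i x^j`. -/
def param (hexp : ∀ a : A, a ^ p = 1) (z x : A) : M p →* A where
  toFun m := z ^ (toAdd m).1.val * x ^ (toAdd m).2.val
  map_one' := by simp
  map_mul' m m' := by
    show z ^ ((toAdd m).1 + (toAdd m').1).val * x ^ ((toAdd m).2 + (toAdd m').2).val = _
    rw [pow_val_add (hexp z), pow_val_add (hexp x)]
    exact mul_mul_mul_comm _ _ _ _

theorem param_apply (hexp : ∀ a : A, a ^ p = 1) (z x : A) (i j : ZMod p) :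
    param hexp z x (ofAdd ((i, j) : V p)) = z ^ i.val * x ^ j.val := rfl

theorem param_injective (hexp : ∀ a : A, a ^ p = 1) (z x : A) (hz : z ≠ 1)
    (hx : x ∉ Subgroup.zpowers z) : Function.Injective (param (p := p) hexp z x) := by
  have hp : p.Prime := Fact.out
  rw [injective_iff_map_eq_one]
  intro m hm
  rw [ofAdd_eq m, param_apply] at hm
  set i := (toAdd m).1
  set j := (toAdd m).2
  have hj : j = 0 := by
    by_contra hj
    apply hx
    have h1 : x ^ j.val = (z ^ i.val)⁻¹ := eq_inv_of_mul_eq_one_right hm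
    have h2 : x ^ j.val ∈ Subgroup.zpowers z := by
      rw [h1]
      exact Subgroup.inv_mem _ (Subgroup.pow_mem _ (Subgroup.mem_zpowers z) _)
    have h3 : (x ^ j.val) ^ (j⁻¹).val = x := by
      rw [← pow_mul, pow_eq_pow_mod _ (hexp x)]
      have : (j.val * (j⁻¹).val) % p = 1 := by
        have h4 : ((j.val * (j⁻¹).val : ℕ) : ZMod p) = ((1 : ℕ) : ZMod p) := by
          push_cast
          rw [ZMod.natCast_zmod_val, ZMod.natCast_zmod_val, mul_inv_cancel₀ hj]
        have h5 := (ZMod.natCast_eq_natCast_iff' _ _ _).1 h4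
        rw [h5, Nat.mod_eq_of_lt hp.one_lt]
      rw [this, pow_one]
    rw [← h3]
    exact Subgroup.pow_mem _ h2 _
  have hi : i = 0 := by
    rw [hj] at hm
    simp only [ZMod.val_zero, pow_zero, mul_one] at hm
    have hord : orderOf z = p := orderOf_eq_prime (hexp z) hz
    have hdvd : p ∣ i.val := by
      have := orderOf_dvd_of_pow_eq_one hm
      rwa [hord] at this
    have hlt : i.val < p := ZMod.val_lt i
    have : i.val = 0 := Nat.eq_zero_of_dvd_of_lt hdvd hlt
    exact (ZMod.val_eq_zero i).1 this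
  rw [ofAdd_eq m]
  show (ofAdd ((i, j) : V p) : M p) = 1
  rw [hi, hj]
  rfl

theorem card_M : Nat.card (M p) = p ^ 2 := by
  show Nat.card (Multiplicative (ZMod p × ZMod p)) = p ^ 2
  rw [Nat.card_congr (Multiplicative.toAdd (α := ZMod p × ZMod p)), Nat.card_prod, Nat.card_zmod, sq]

/-- The coordinate isomorphism attached to a basis. -/
theorem exists_coord (hA : Nat.card A = p ^ 2) (hexp : ∀ a : A, a ^ p = 1) (z x : A) (hz : z ≠ 1)
    (hx : x ∉ Subgroup.zpowers z) :
    ∃ e : A ≃* M p, ∀ i j : ZMod p, e.symm (ofAdd ((i, j) : V p)) = z ^ i.val * x ^ j.val := by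
  have hinj := param_injective (p := p) hexp z x hz hx
  have hbij : Function.Bijective (param (p := p) hexp z x) := by
    have : Finite (M p) := Nat.finite_of_card_ne_zero (by
      rw [card_M]; exact pow_ne_zero _ (Fact.out : p.Prime).ne_zero)
    rw [Nat.bijective_iff_injective_and_card]
    exact ⟨hinj, by rw [card_M, hA]⟩
  refine ⟨(MulEquiv.ofBijective (param hexp z x) hbij).symm, fun i j => ?_⟩
  rw [MulEquiv.symm_symm]
  rfl

theorem coord_z {e : A ≃* M p} {z x : A}
    (he : ∀ i j : ZMod p, e.symm (ofAdd ((i, j) : V p)) = z ^ i.val * x ^ j.val) : e z = e₁ := by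
  have := he 1 0
  rw [ZMod.val_one, ZMod.val_zero, pow_one, pow_zero, mul_one] at this
  rw [← this, e.apply_symm_apply]
  rfl

theorem coord_x {e : A ≃* M p} {z x : A}
    (he : ∀ i j : ZMod p, e.symm (ofAdd ((i, j) : V p)) = z ^ i.val * x ^ j.val) : e x = e₂ := by
  have := he 0 1
  rw [ZMod.val_one, ZMod.val_zero, pow_one, pow_zero, one_mul] at this
  rw [← this, e.apply_symm_apply]
  rfl

end coord

end Cfsg.Agent.Lib.Helper3.ES3
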