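import Mathlib

set_option autoImplicit false

/-!
# Klein / Dickson counting for the ES3 project (helper3)

`W` a finite group, `Z` a central subgroup, centralizers of elements outside `Z` commutative ("tori"),
`|N(T) : T| ≤ 2`.  Orbits of tori under conjugation, the class equation in the form of a sequential
exhaustion of `W \ Z` by orbits, and the consequences used in [ABSK6] and [ABSK4].
-/

namespace Cfsg.Agent.Lib.Helper3.ES3K

open Finset
open scoped Classical

variable {W : Type*} [Group W] [Fintype W]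

theorem commute_conj {a b : W} (h : Commute a b) (u : W) : Commute (u * a * u⁻¹) (u * b * u⁻¹) := by
  show u * a * u⁻¹ * (u * b * u⁻¹) = u * b * u⁻¹ * (u * a * u⁻¹)
  have e1 : u * a * u⁻¹ * (u * b * u⁻¹) = u * (a * b) * u⁻¹ := by group
  have e2 : u * b * u⁻¹ * (u * a * u⁻¹) = u * (b * a) * u⁻¹ := by group
  rw [e1, e2, h.eq]

/-- The hypotheses of the Klein counting. -/
structure Hyp (Z : Subgroup W) : Prop where
  hZ : Z ≤ Subgroup.center W
  hab : ∀ g : W, g ∉ Z → ∀ a b : W, Commute a g → Commute b g → Commute a b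
  hnorm : ∀ g : W, g ∉ Z → ∀ u v : W, ¬ Commute u g → ¬ Commute v g →
      Commute (u * g * u⁻¹) g → Commute (v * g * v⁻¹) g → Commute (u⁻¹ * v) g

variable {Z : Subgroup W}

theorem Hyp.central (H : Hyp Z) {t : W} (ht : t ∈ Z) (a : W) : Commute t a := by
  have := Subgroup.mem_center_iff.1 (H.hZ ht) a
  exact this.symm

theorem Hyp.conj_notMem (H : Hyp Z) {g : W} (hg : g ∉ Z) (u : W) : u * g * u⁻¹ ∉ Z := by
  intro h
  apply hg
  have h1 : u * g * u⁻¹ = g := by
    have := (H.central h u).eq
    -- (u g u⁻¹) u = u (u g u⁻¹)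
    have h2 : u * g = u * (u * g * u⁻¹) := by
      rw [← this]; group
    have h3 := mul_left_cancel h2
    exact h3.symm
  rw [← h1]
  exact h

/-- Commuting is transitive through an element outside `Z`. -/
theorem Hyp.trans (H : Hyp Z) {a g b : W} (hg : g ∉ Z) (h1 : Commute a g) (h2 : Commute g b) :
    Commute a b :=
  H.hab g hg a b h1 h2.symm

/-- The torus of `g` as a finset. -/
noncomputable def cen (g : W) : Finset W := univ.filter (fun a => Commute a g)

/-- The normalizer of the torus of `g` as a finset. -/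
noncomputable def nor (g : W) : Finset W := univ.filter (fun u => Commute (u * g * u⁻¹) g)

/-- The part of the torus outside `Z`. -/
noncomputable def cenX (Z : Subgroup W) (g : W) : Finset W := univ.filter (fun a => a ∉ Z ∧ Commute a g)

/-- The union of the conjugates of the torus of `g`, outside `Z`. -/
noncomputable def orb (Z : Subgroup W) (g : W) : Finset W :=
  univ.filter (fun h => h ∉ Z ∧ ∃ u : W, Commute (u * g * u⁻¹) h)

/-- Everything outside `Z`. -/
noncomputable def X (Z : Subgroup W) : Finset W := univ.filter (fun a => a ∉ Z)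

theorem mem_cen {g a : W} : a ∈ cen g ↔ Commute a g := by simp [cen]

theorem mem_nor {g u : W} : u ∈ nor g ↔ Commute (u * g * u⁻¹) g := by simp [nor]

theorem mem_cenX {g a : W} : a ∈ cenX Z g ↔ a ∉ Z ∧ Commute a g := by simp [cenX]

theorem mem_orb {g h : W} : h ∈ orb Z g ↔ h ∉ Z ∧ ∃ u : W, Commute (u * g * u⁻¹) h := by simp [orb]

theorem mem_X {a : W} : a ∈ X Z ↔ a ∉ Z := by simp [X]

theorem orb_subset_X (g : W) : orb Z g ⊆ X Z := fun h hh => mem_X.2 (mem_orb.1 hh).1

theorem self_mem_orb {g : W} (hg : g ∉ Z) : g ∈ orb Z g :=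
  mem_orb.2 ⟨hg, 1, by simp⟩

/-- The relation defining orbits is symmetric. -/
theorem Hyp.orb_symm (_H : Hyp Z) {g h : W} (hg : g ∉ Z) (hh : h ∈ orb Z g) : g ∈ orb Z h := by
  obtain ⟨_, u, hu⟩ := mem_orb.1 hh
  refine mem_orb.2 ⟨hg, u⁻¹, ?_⟩
  have := commute_conj hu u⁻¹
  have e1 : u⁻¹ * (u * g * u⁻¹) * u⁻¹⁻¹ = g := by group
  rw [e1] at this
  exact this.symm

/-- The relation defining orbits is transitive. -/
theorem Hyp.orb_trans (H : Hyp Z) {g h k : W} (hh : h ∈ orb Z g) (hk : k ∈ orb Z h) : k ∈ orb Z g := by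
  obtain ⟨hhZ, u, hu⟩ := mem_orb.1 hh
  obtain ⟨hkZ, v, hv⟩ := mem_orb.1 hk
  refine mem_orb.2 ⟨hkZ, v * u, ?_⟩
  have h1 := commute_conj hu v
  have e1 : v * (u * g * u⁻¹) * v⁻¹ = v * u * g * (v * u)⁻¹ := by group
  rw [e1] at h1
  exact H.trans (H.conj_notMem hhZ v) h1 hv

theorem Hyp.orb_eq (H : Hyp Z) {g h : W} (hg : g ∉ Z) (hh : h ∈ orb Z g) : orb Z h = orb Z g := by
  ext k
  constructor
  · intro hk
    exact H.orb_trans hh hk
  · intro hk
    exact H.orb_trans (H.orb_symm hg hh) hk

/-! ### Saturated sets -/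

/-- A union of orbits. -/
def Sat (Z : Subgroup W) (R : Finset W) : Prop := R ⊆ X Z ∧ ∀ h ∈ R, orb Z h ⊆ R

theorem sat_X : Sat Z (X Z) := ⟨subset_rfl, fun h _ => orb_subset_X h⟩

theorem Hyp.sat_sdiff (H : Hyp Z) {R : Finset W} (hR : Sat Z R) {h : W} (hh : h ∈ R) :
    Sat Z (R \ orb Z h) ∧ (R \ orb Z h).card + (orb Z h).card = R.card := by
  have hhZ : h ∉ Z := mem_X.1 (hR.1 hh)
  refine ⟨⟨fun k hk => hR.1 (mem_sdiff.1 hk).1, ?_⟩, ?_⟩
  · intro k hk
    obtain ⟨hkR, hkO⟩ := mem_sdiff.1 hk
    have hkZ : k ∉ Z := mem_X.1 (hR.1 hkR)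
    intro l hl
    refine mem_sdiff.2 ⟨hR.2 k hkR hl, ?_⟩
    intro hlO
    -- l ∈ orb k and l ∈ orb h ⇒ k ∈ orb h
    apply hkO
    have h1 : k ∈ orb Z l := H.orb_symm hkZ hl
    exact H.orb_trans hlO h1
  · exact card_sdiff_add_card_eq_card (hR.2 h hh)

/-! ### The counting -/

theorem card_cenX_add (H : Hyp Z) (g : W) :
    (cenX Z g).card + Fintype.card Z = (cen g).card := by
  have h1 : cenX Z g = (cen g).filter (fun a => a ∉ Z) := by
    ext a
    simp only [mem_cenX, mem_filter, mem_cen]
    tauto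
  have h2 : (cen g).filter (fun a => ¬ a ∉ Z) = univ.filter (fun a => a ∈ Z) := by
    ext a
    simp only [mem_filter, mem_cen, mem_univ, true_and, not_not]
    constructor
    · exact fun h => h.2
    · exact fun h => ⟨H.central h g, h⟩
  have h3 := Finset.card_filter_add_card_filter_not (s := cen g) (fun a => a ∉ Z)
  rw [h2, ← h1] at h3
  rw [← h3]
  congr 1
  rw [Fintype.card_subtype]

/-- The double counting `|orb g| · |N(T_g)| = |W| · |T_g \ Z|`. -/
theorem Hyp.card_orb_mul (H : Hyp Z) {g : W} (hg : g ∉ Z) :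
    (orb Z g).card * (nor g).card = Fintype.card W * (cenX Z g).card := by
  -- P u h := h ∉ Z ∧ Commute (u g u⁻¹) h
  have hL : ∀ u : W, (univ.filter (fun h : W => h ∉ Z ∧ Commute (u * g * u⁻¹) h)).card =
      (cenX Z g).card := by
    intro u
    have : univ.filter (fun h : W => h ∉ Z ∧ Commute (u * g * u⁻¹) h) =
        (cenX Z g).image (fun t => u * t * u⁻¹) := by
      ext h
      simp only [mem_filter, mem_univ, true_and, mem_image, mem_cenX]
      constructor
      · rintro ⟨hhZ, hc⟩
        refine ⟨u⁻¹ * h * u, ⟨?_, ?_⟩, by group⟩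
        · have := H.conj_notMem hhZ u⁻¹
          rwa [inv_inv] at this
        · have := commute_conj hc.symm u⁻¹
          have e1 : u⁻¹ * (u * g * u⁻¹) * u⁻¹⁻¹ = g := by group
          rw [e1, inv_inv] at this
          exact this
      · rintro ⟨t, ⟨htZ, htc⟩, rfl⟩
        exact ⟨H.conj_notMem htZ u, (commute_conj htc u).symm⟩
    rw [this, card_image_of_injective]
    intro a b hab
    have h1 : u * a * u⁻¹ = u * b * u⁻¹ := hab
    have h2 := mul_right_cancel h1
    exact mul_left_cancel h2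
  have hR : ∀ h : W, (univ.filter (fun u : W => h ∉ Z ∧ Commute (u * g * u⁻¹) h)).card =
      if h ∈ orb Z g then (nor g).card else 0 := by
    intro h
    split_ifs with hh
    · obtain ⟨hhZ, u₀, hu₀⟩ := mem_orb.1 hh
      have : univ.filter (fun u : W => h ∉ Z ∧ Commute (u * g * u⁻¹) h) =
          (nor g).image (fun v => u₀ * v) := by
        ext u
        simp only [mem_filter, mem_univ, true_and, mem_image, mem_nor]
        constructor
        · rintro ⟨_, hc⟩
          refine ⟨u₀⁻¹ * u, ?_, by group⟩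
          -- u g u⁻¹ ~ h ~ u₀ g u₀⁻¹, conjugate back by u₀⁻¹
          have h1 : Commute (u * g * u⁻¹) (u₀ * g * u₀⁻¹) := H.trans hhZ hc hu₀.symm
          have h2 := commute_conj h1 u₀⁻¹
          have e1 : u₀⁻¹ * (u * g * u⁻¹) * u₀⁻¹⁻¹ = u₀⁻¹ * u * g * (u₀⁻¹ * u)⁻¹ := by group
          have e2 : u₀⁻¹ * (u₀ * g * u₀⁻¹) * u₀⁻¹⁻¹ = g := by group
          rw [e1, e2] at h2
          exact h2
        · rintro ⟨v, hv, rfl⟩
          refine ⟨hhZ, ?_⟩
          have h2 := commute_conj hv u₀
          have e1 : u₀ * (v * g * v⁻¹) * u₀⁻¹ = u₀ * v * g * (u₀ * v)⁻¹ := by group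
          rw [e1] at h2
          exact H.trans (H.conj_notMem hg u₀) h2 hu₀
      rw [this, card_image_of_injective _ (mul_right_injective u₀)]
    · rw [card_eq_zero, filter_eq_empty_iff]
      intro u _ hc
      exact hh (mem_orb.2 ⟨hc.1, u, hc.2⟩)
  have hsum : ∑ u : W, (univ.filter (fun h : W => h ∉ Z ∧ Commute (u * g * u⁻¹) h)).card =
      ∑ h : W, (univ.filter (fun u : W => h ∉ Z ∧ Commute (u * g * u⁻¹) h)).card := by
    simp only [card_filter]
    exact sum_comm
  simp only [hL, hR] at hsum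
  rw [sum_const, card_univ, smul_eq_mul, sum_ite_mem, univ_inter, sum_const, smul_eq_mul] at hsum
  exact hsum.symm

theorem Hyp.cen_subset_nor (g : W) : cen g ⊆ nor g := by
  intro a ha
  have ha' := mem_cen.1 ha
  refine mem_nor.2 ?_
  have : a * g * a⁻¹ = g := by
    rw [ha'.eq]; group
  rw [this]

/-- `|N(T) : T| ≤ 2`. -/
theorem Hyp.card_nor (H : Hyp Z) {g : W} (hg : g ∉ Z) :
    (nor g).card = (cen g).card ∨ (nor g).card = 2 * (cen g).card := by
  have hsub : cen g ⊆ nor g := Hyp.cen_subset_nor g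
  have hcard := card_sdiff_add_card_eq_card hsub
  by_cases hemp : nor g \ cen g = ∅
  · left
    rw [hemp, card_empty, zero_add] at hcard
    exact hcard.symm
  · right
    obtain ⟨u, hu⟩ := nonempty_iff_ne_empty.2 hemp
    obtain ⟨huN, huC⟩ := mem_sdiff.1 hu
    have huN' := mem_nor.1 huN
    have huC' : ¬ Commute u g := fun h => huC (mem_cen.2 h)
    have : nor g \ cen g = (cen g).image (fun t => u * t) := by
      ext v
      simp only [mem_sdiff, mem_image, mem_nor, mem_cen]
      constructor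
      · rintro ⟨hvN, hvC⟩
        exact ⟨u⁻¹ * v, H.hnorm g hg u v huC' hvC huN' hvN, by group⟩
      · rintro ⟨t, ht, rfl⟩
        constructor
        · have e1 : u * t * g * (u * t)⁻¹ = u * (t * g * t⁻¹) * u⁻¹ := by group
          have e2 : t * g * t⁻¹ = g := by rw [ht.eq]; group
          rw [e1, e2]
          exact huN'
        · intro hc
          apply huC'
          have h1 : Commute (u * t * t⁻¹) g := hc.mul_left ht.inv_left
          have e1 : u * t * t⁻¹ = u := by group
          rwa [e1] at h1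
    rw [this, card_image_of_injective _ (mul_right_injective u)] at hcard
    omega

theorem card_cen_eq (g : W) : (cen g).card = Nat.card (Subgroup.centralizer ({g} : Set W)) := by
  rw [Nat.card_eq_fintype_card, Fintype.card_subtype]
  congr 1
  ext a
  simp only [cen, mem_filter, mem_univ, true_and, Subgroup.mem_centralizer_iff, Set.mem_singleton_iff,
    forall_eq]
  constructor
  · intro h; exact h.eq.symm
  · intro h; exact h.symm

theorem Hyp.Z_le_centralizer (H : Hyp Z) (g : W) : Z ≤ Subgroup.centralizer ({g} : Set W) := by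
  intro t ht
  rw [Subgroup.mem_centralizer_iff]
  intro h hh
  rw [Set.mem_singleton_iff] at hh
  rw [hh]
  exact ((H.central ht g).eq).symm

/-- `|Z|` divides `|T_g|` and the quotient is at least 2. -/
theorem Hyp.exists_e (H : Hyp Z) {g : W} (hg : g ∉ Z) :
    ∃ e : ℕ, 2 ≤ e ∧ (cen g).card = Fintype.card Z * e := by
  have hle := H.Z_le_centralizer g
  obtain ⟨e, he⟩ := Subgroup.card_dvd_of_le hle
  rw [← card_cen_eq, Nat.card_eq_fintype_card] at he
  refine ⟨e, ?_, he⟩
  have hzpos : 0 < Fintype.card Z := Fintype.card_pos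
  have hcpos : 0 < (cen g).card := card_pos.2 ⟨g, mem_cen.2 (Commute.refl g)⟩
  rcases Nat.lt_or_ge e 2 with hlt | hge
  · exfalso
    interval_cases e
    · rw [mul_zero] at he; omega
    · rw [mul_one] at he
      -- then Z = centralizer, so g ∈ Z
      have h1 : Nat.card Z = Nat.card (Subgroup.centralizer ({g} : Set W)) := by
        rw [← card_cen_eq, he, Nat.card_eq_fintype_card]
      have h2 : Z = Subgroup.centralizer ({g} : Set W) :=
        Subgroup.eq_of_le_of_card_ge hle h1.ge
      apply hg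
      rw [h2, Subgroup.mem_centralizer_iff]
      intro h hh
      rw [Set.mem_singleton_iff] at hh
      rw [hh]
  · exact hge

/-- The rational data of an orbit. `y = |Z|/|W|`, `x = |Z|/|T|`, `a = |orb|/|W|`. -/
theorem Hyp.orbit_data (H : Hyp Z) {g : W} (hg : g ∉ Z) :
    ∃ (δ x : ℚ), (δ = 1 ∨ δ = 2) ∧ (x = 1 / 2 ∨ x = 1 / 3 ∨ x ≤ 1 / 4) ∧ 0 < x ∧
      x = (Fintype.card Z : ℚ) / (cen g).card ∧
      ((orb Z g).card : ℚ) / Fintype.card W * δ = 1 - x ∧
      (Fintype.card Z : ℚ) / Fintype.card W * δ ≤ x ∧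
      ((Fintype.card Z : ℚ) / Fintype.card W * δ = x → ∀ u : W, Commute (u * g * u⁻¹) g) ∧
      ((nor g).card : ℚ) = δ * (cen g).card := by
  obtain ⟨e, he2, hce⟩ := H.exists_e hg
  have hzpos : 0 < Fintype.card Z := Fintype.card_pos
  have hnpos : 0 < Fintype.card W := Fintype.card_pos
  have hcpos : 0 < (cen g).card := card_pos.2 ⟨g, mem_cen.2 (Commute.refl g)⟩
  have hzq : (0 : ℚ) < Fintype.card Z := by exact_mod_cast hzpos
  have hnq : (0 : ℚ) < Fintype.card W := by exact_mod_cast hnpos
  have hcq : (0 : ℚ) < (cen g).card := by exact_mod_cast hcpos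
  have heq : (0 : ℚ) < e := by
    have : 0 < e := by omega
    exact_mod_cast this
  have hmul := H.card_orb_mul hg
  have hadd := card_cenX_add H g
  have hnorle : (nor g).card ≤ Fintype.card W := by
    rw [← card_univ]; exact card_le_card (subset_univ _)
  have hx : (Fintype.card Z : ℚ) / (cen g).card = 1 / e := by
    rw [hce]; push_cast; field_simp
  have hxcases : (1 / (e : ℚ) = 1 / 2 ∨ 1 / (e : ℚ) = 1 / 3 ∨ 1 / (e : ℚ) ≤ 1 / 4) := by
    rcases Nat.lt_or_ge e 4 with hlt | hge
    · interval_cases e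
      · left; norm_num
      · right; left; norm_num
    · right; right
      have : (4 : ℚ) ≤ e := by exact_mod_cast hge
      rw [div_le_div_iff₀ heq (by norm_num)]
      linarith
  -- the common part, for ν = δ c
  have key : ∀ d : ℕ, (d = 1 ∨ d = 2) → (nor g).card = d * (cen g).card →
      ((orb Z g).card : ℚ) / Fintype.card W * d = 1 - (Fintype.card Z : ℚ) / (cen g).card ∧
      (Fintype.card Z : ℚ) / Fintype.card W * d ≤ (Fintype.card Z : ℚ) / (cen g).card ∧
      ((Fintype.card Z : ℚ) / Fintype.card W * d = (Fintype.card Z : ℚ) / (cen g).card →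
        (nor g).card = Fintype.card W) := by
    intro d hd hν
    have hdpos : (0 : ℚ) < d := by rcases hd with rfl | rfl <;> norm_num
    have h1 : ((orb Z g).card : ℚ) * (d * (cen g).card) =
        Fintype.card W * ((cen g).card - Fintype.card Z) := by
      have h2 : ((cenX Z g).card : ℚ) = (cen g).card - Fintype.card Z := by
        rw [← hadd]; push_cast; ring
      rw [← h2]
      rw [hν] at hmul
      exact_mod_cast hmul
    have h3 : ((d * (cen g).card : ℕ) : ℚ) ≤ Fintype.card W := by
      rw [← hν]; exact_mod_cast hnorle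
    push_cast at h3
    refine ⟨?_, ?_, ?_⟩
    · field_simp
      linarith
    · rw [div_mul_eq_mul_div, div_le_div_iff₀ hnq hcq]
      nlinarith
    · intro heq'
      rw [div_mul_eq_mul_div, div_eq_div_iff hnq.ne' hcq.ne'] at heq'
      have h4 : (d : ℚ) * (cen g).card = Fintype.card W := by
        have : (Fintype.card Z : ℚ) * (d * (cen g).card) = Fintype.card Z * Fintype.card W := by
          linarith
        exact mul_left_cancel₀ hzq.ne' this
      rw [hν]
      exact_mod_cast h4
  have hall : (nor g).card = Fintype.card W → ∀ u : W, Commute (u * g * u⁻¹) g := by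
    intro hcard u
    have : nor g = univ := by
      apply eq_univ_of_card
      exact hcard
    have hu : u ∈ nor g := by rw [this]; exact mem_univ u
    exact mem_nor.1 hu
  rcases H.card_nor hg with hν | hν
  · obtain ⟨k1, k2, k3⟩ := key 1 (Or.inl rfl) (by rw [hν, one_mul])
    refine ⟨1, 1 / e, Or.inl rfl, hxcases, by positivity, hx.symm, ?_, ?_, ?_, ?_⟩
    · rw [← hx]; exact_mod_cast k1
    · rw [← hx]; exact_mod_cast k2
    · intro h
      apply hall
      apply k3
      rw [← hx] at h
      exact_mod_cast h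
    · rw [hν, one_mul]
  · obtain ⟨k1, k2, k3⟩ := key 2 (Or.inr rfl) hν
    refine ⟨2, 1 / e, Or.inr rfl, hxcases, by positivity, hx.symm, ?_, ?_, ?_, ?_⟩
    · rw [← hx]; exact_mod_cast k1
    · rw [← hx]; exact_mod_cast k2
    · intro h
      apply hall
      apply k3
      rw [← hx] at h
      exact_mod_cast h
    · rw [hν]; push_cast; ring

/-- Any orbit takes at least a quarter. -/
theorem quarter {δ x a : ℚ} (hδ : δ = 1 ∨ δ = 2) (hx : x = 1 / 2 ∨ x = 1 / 3 ∨ x ≤ 1 / 4)
    (ha : a * δ = 1 - x) : 1 / 4 ≤ a := by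
  rcases hδ with rfl | rfl <;> rcases hx with rfl | rfl | hx <;> linarith

/-- The sequential exhaustion: a saturated nonempty set contains an orbit, with its data. -/
theorem Hyp.pick (H : Hyp Z) {R : Finset W} (hR : Sat Z R) (hne : R ≠ ∅) :
    ∃ h ∈ R, h ∉ Z ∧ Sat Z (R \ orb Z h) ∧
      ((R \ orb Z h).card : ℚ) / Fintype.card W =
        (R.card : ℚ) / Fintype.card W - ((orb Z h).card : ℚ) / Fintype.card W := by
  obtain ⟨h, hh⟩ := nonempty_iff_ne_empty.2 hne
  obtain ⟨hsat, hcard⟩ := H.sat_sdiff hR hh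
  refine ⟨h, hh, mem_X.1 (hR.1 hh), hsat, ?_⟩
  rw [← hcard]
  push_cast
  ring

theorem Hyp.remove (H : Hyp Z) {R : Finset W} (hR : Sat Z R) {h : W} (hh : h ∈ R) :
    Sat Z (R \ orb Z h) ∧
      ((R \ orb Z h).card : ℚ) / Fintype.card W =
        (R.card : ℚ) / Fintype.card W - ((orb Z h).card : ℚ) / Fintype.card W := by
  obtain ⟨hsat, hcard⟩ := H.sat_sdiff hR hh
  refine ⟨hsat, ?_⟩
  rw [← hcard]
  push_cast
  ring

theorem card_X_div : ((X Z).card : ℚ) / Fintype.card W = 1 - (Fintype.card Z : ℚ) / Fintype.card W := by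
  have hnpos : 0 < Fintype.card W := Fintype.card_pos
  have hnq : (0 : ℚ) < Fintype.card W := by exact_mod_cast hnpos
  have h1 : (X Z).card + Fintype.card Z = Fintype.card W := by
    have h3 := Finset.card_filter_add_card_filter_not (s := (univ : Finset W)) (fun a => a ∉ Z)
    rw [card_univ] at h3
    rw [← h3]
    congr 1
    rw [Fintype.card_subtype]
    congr 1
    ext a
    simp
  have h2 : ((X Z).card : ℚ) = Fintype.card W - Fintype.card Z := by
    rw [← h1]; push_cast; ring
  rw [h2]
  field_simp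

theorem empty_card_div {R : Finset W} (h : R = ∅) : (R.card : ℚ) / Fintype.card W = 0 := by
  rw [h, card_empty, Nat.cast_zero, zero_div]

theorem card_div_nonneg (R : Finset W) : (0 : ℚ) ≤ (R.card : ℚ) / Fintype.card W := by positivity

end Cfsg.Agent.Lib.Helper3.ES3K
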