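import Mathlib
import Cfsg.Agent.Lib.Helper3.ES3Klein

set_option autoImplicit false

/-!
# Klein / Dickson counting: the two consequences (helper3, ES3 project)

* `Hyp.uniq`: a torus with `e ≥ 6` is the only torus with `e ≥ 3`;
* `Hyp.card_le_three`: at most three tori with `4 ∣ e`.
-/

namespace Cfsg.Agent.Lib.Helper3.ES3K

open Finset
open scoped Classical

variable {W : Type*} [Group W] [Fintype W] {Z : Subgroup W}

theorem x_le_of_le (g : W) {k : ℕ} (hk : 0 < k) (hbig : k * Fintype.card Z ≤ (cen g).card) :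
    (Fintype.card Z : ℚ) / (cen g).card ≤ 1 / k := by
  have hcpos : 0 < (cen g).card := card_pos.2 ⟨g, mem_cen.2 (Commute.refl g)⟩
  have hcq : (0 : ℚ) < (cen g).card := by exact_mod_cast hcpos
  have hkq : (0 : ℚ) < k := by exact_mod_cast hk
  rw [div_le_div_iff₀ hcq hkq]
  have : ((k * Fintype.card Z : ℕ) : ℚ) ≤ (cen g).card := by exact_mod_cast hbig
  push_cast at this
  linarith

theorem y_pos : (0 : ℚ) < (Fintype.card Z : ℚ) / Fintype.card W := by
  have hzpos : 0 < Fintype.card Z := Fintype.card_pos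
  have hnpos : 0 < Fintype.card W := Fintype.card_pos
  have hzq : (0 : ℚ) < Fintype.card Z := by exact_mod_cast hzpos
  have hnq : (0 : ℚ) < Fintype.card W := by exact_mod_cast hnpos
  positivity

/-- A torus with `e ≥ 6` is the only torus with `e ≥ 3`. -/
theorem Hyp.uniq (H : Hyp Z) {g₁ g₂ : W} (h₁ : g₁ ∉ Z) (h₂ : g₂ ∉ Z)
    (hbig₁ : 6 * Fintype.card Z ≤ (cen g₁).card) (hbig₂ : 3 * Fintype.card Z ≤ (cen g₂).card) :
    Commute g₁ g₂ := by
  obtain ⟨δ₁, x₁, hδ₁, hx₁c, hx₁pos, hx₁eq, ha₁, hy₁, hall₁, -⟩ := H.orbit_data h₁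
  have hx₁6 : x₁ ≤ 1 / 6 := by
    rw [hx₁eq]; exact_mod_cast x_le_of_le g₁ (by norm_num) hbig₁
  have hy := y_pos (Z := Z)
  set y : ℚ := (Fintype.card Z : ℚ) / Fintype.card W with hydef
  set a₁ : ℚ := ((orb Z g₁).card : ℚ) / Fintype.card W with ha₁def
  -- remove the first orbit
  have hg₁X : g₁ ∈ X Z := mem_X.2 h₁
  obtain ⟨hsat₁, hρ₁⟩ := H.remove sat_X hg₁X
  rw [card_X_div] at hρ₁
  have hρ₁nn := card_div_nonneg (X Z \ orb Z g₁)
  by_cases hg₂ : g₂ ∈ orb Z g₁
  · -- same orbit: show that the torus of g₁ is normal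
    obtain ⟨_, u, hu⟩ := mem_orb.1 hg₂
    suffices hall : ∀ u : W, Commute (u * g₁ * u⁻¹) g₁ from
      H.trans (H.conj_notMem h₁ u) (hall u).symm hu
    apply hall₁
    by_cases hR₁ : X Z \ orb Z g₁ = ∅
    · rw [empty_card_div hR₁] at hρ₁
      rcases hδ₁ with rfl | rfl
      · linarith
      · exfalso; linarith
    · obtain ⟨k₂, hk₂R, hk₂Z, hsat₂, hρ₂⟩ := H.pick hsat₁ hR₁
      obtain ⟨δ₂, x₂, hδ₂, hx₂c, hx₂pos, -, ha₂, -, -, -⟩ := H.orbit_data hk₂Z
      have hq₂ := quarter hδ₂ hx₂c ha₂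
      set a₂ : ℚ := ((orb Z k₂).card : ℚ) / Fintype.card W with ha₂def
      have hρ₂nn := card_div_nonneg ((X Z \ orb Z g₁) \ orb Z k₂)
      rw [hρ₁] at hρ₂
      by_cases hR₂ : (X Z \ orb Z g₁) \ orb Z k₂ = ∅
      · rw [empty_card_div hR₂] at hρ₂
        rcases hδ₁ with rfl | rfl
        · exfalso; linarith
        · rcases hδ₂ with rfl | rfl
          · rcases hx₂c with rfl | rfl | hx₂
            · linarith
            · exfalso; linarith
            · exfalso; linarith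
          · exfalso; linarith
      · obtain ⟨k₃, hk₃R, hk₃Z, hsat₃, hρ₃⟩ := H.pick hsat₂ hR₂
        obtain ⟨δ₃, x₃, hδ₃, hx₃c, hx₃pos, -, ha₃, -, -, -⟩ := H.orbit_data hk₃Z
        have hq₃ := quarter hδ₃ hx₃c ha₃
        set a₃ : ℚ := ((orb Z k₃).card : ℚ) / Fintype.card W with ha₃def
        have hρ₃nn := card_div_nonneg (((X Z \ orb Z g₁) \ orb Z k₂) \ orb Z k₃)
        rw [hρ₂] at hρ₃
        by_cases hR₃ : ((X Z \ orb Z g₁) \ orb Z k₂) \ orb Z k₃ = ∅
        · rw [empty_card_div hR₃] at hρ₃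
          rcases hδ₁ with rfl | rfl
          · exfalso; linarith
          · rcases hδ₂ with rfl | rfl
            · exfalso
              rcases hx₂c with rfl | rfl | hx₂ <;> linarith
            · rcases hδ₃ with rfl | rfl
              · exfalso
                rcases hx₃c with rfl | rfl | hx₃ <;> linarith
              · rcases hx₂c with rfl | rfl | hx₂ <;> rcases hx₃c with rfl | rfl | hx₃ <;>
                  first
                  | linarith
                  | (exfalso; linarith)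
        · obtain ⟨k₄, hk₄R, hk₄Z, hsat₄, hρ₄⟩ := H.pick hsat₃ hR₃
          obtain ⟨δ₄, x₄, hδ₄, hx₄c, hx₄pos, -, ha₄, -, -, -⟩ := H.orbit_data hk₄Z
          have hq₄ := quarter hδ₄ hx₄c ha₄
          have hρ₄nn := card_div_nonneg ((((X Z \ orb Z g₁) \ orb Z k₂) \ orb Z k₃) \ orb Z k₄)
          rw [hρ₃] at hρ₄
          exfalso
          rcases hδ₁ with rfl | rfl <;> linarith
  · -- different orbits: contradiction
    exfalso
    obtain ⟨δ₂, x₂, hδ₂, hx₂c, hx₂pos, hx₂eq, ha₂, hy₂, -, -⟩ := H.orbit_data h₂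
    have hx₂3 : x₂ ≤ 1 / 3 := by
      rw [hx₂eq]; exact_mod_cast x_le_of_le g₂ (by norm_num) hbig₂
    have hg₂R : g₂ ∈ X Z \ orb Z g₁ := mem_sdiff.2 ⟨mem_X.2 h₂, hg₂⟩
    obtain ⟨hsat₂, hρ₂⟩ := H.remove hsat₁ hg₂R
    set a₂ : ℚ := ((orb Z g₂).card : ℚ) / Fintype.card W with ha₂def
    have hρ₂nn := card_div_nonneg ((X Z \ orb Z g₁) \ orb Z g₂)
    rw [hρ₁] at hρ₂
    rcases hδ₁ with rfl | rfl
    · rcases hδ₂ with rfl | rfl <;> linarith
    · rcases hδ₂ with rfl | rfl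
      · linarith
      · by_cases hR₂ : (X Z \ orb Z g₁) \ orb Z g₂ = ∅
        · rw [empty_card_div hR₂] at hρ₂
          linarith
        · obtain ⟨k₃, hk₃R, hk₃Z, hsat₃, hρ₃⟩ := H.pick hsat₂ hR₂
          obtain ⟨δ₃, x₃, hδ₃, hx₃c, hx₃pos, -, ha₃, -, -, -⟩ := H.orbit_data hk₃Z
          have hq₃ := quarter hδ₃ hx₃c ha₃
          have hρ₃nn := card_div_nonneg (((X Z \ orb Z g₁) \ orb Z g₂) \ orb Z k₃)
          rw [hρ₂] at hρ₃
          linarith

/-- Four pairwise non-commuting elements in one orbit give four cosets of the normalizer. -/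
theorem Hyp.four_cosets (H : Hyp Z) {s : W} (hs : s ∉ Z) (t : Fin 4 → W) (ht : ∀ i, t i ∈ orb Z s)
    (hnc : ∀ i j, i ≠ j → ¬ Commute (t i) (t j)) : 4 * (nor s).card ≤ Fintype.card W := by
  have hex : ∀ i, ∃ u : W, Commute (u * s * u⁻¹) (t i) := fun i => (mem_orb.1 (ht i)).2
  choose u hu using hex
  have htZ : ∀ i, t i ∉ Z := fun i => (mem_orb.1 (ht i)).1
  have hdisj : ∀ i ∈ (univ : Finset (Fin 4)), ∀ j ∈ (univ : Finset (Fin 4)), i ≠ j →
      Disjoint ((nor s).image (fun v => u i * v)) ((nor s).image (fun v => u j * v)) := by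
    intro i _ j _ hij
    rw [Finset.disjoint_left]
    intro w hwi hwj
    obtain ⟨v, hv, rfl⟩ := mem_image.1 hwi
    obtain ⟨v', hv', hvv'⟩ := mem_image.1 hwj
    have hvv'' : u j * v' = u i * v := hvv'
    apply hnc i j hij
    -- w := u i * v; both t i and t j commute with w s w⁻¹
    have key : ∀ (k : Fin 4) (vk : W), vk ∈ nor s →
        Commute (t k) (u k * vk * s * (u k * vk)⁻¹) := by
      intro k vk hvk
      have h1 := commute_conj (mem_nor.1 hvk) (u k)
      have e1 : u k * (vk * s * vk⁻¹) * (u k)⁻¹ = u k * vk * s * (u k * vk)⁻¹ := by group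
      rw [e1] at h1
      -- t k ~ u k s u k⁻¹ ~ w s w⁻¹
      exact H.trans (H.conj_notMem hs (u k)) (hu k).symm h1.symm
    have h1 := key i v hv
    have h2 := key j v' hv'
    rw [hvv''] at h2
    exact H.trans (H.conj_notMem hs (u i * v)) h1 h2.symm
  have hcard := Finset.card_biUnion hdisj
  have hle : ((univ : Finset (Fin 4)).biUnion (fun i => (nor s).image (fun v => u i * v))).card ≤
      Fintype.card W := by
    rw [← card_univ]; exact card_le_card (subset_univ _)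
  rw [hcard] at hle
  have : ∀ i : Fin 4, ((nor s).image (fun v => u i * v)).card = (nor s).card := fun i =>
    card_image_of_injective _ (mul_right_injective (u i))
  simp only [this, sum_const, card_univ, Fintype.card_fin, smul_eq_mul] at hle
  exact hle

/-- At most three tori with `4 ∣ e`. -/
theorem Hyp.card_le_three (H : Hyp Z) (S : Finset W)
    (hS : ∀ g ∈ S, g ∉ Z ∧ (4 * Fintype.card Z) ∣ (cen g).card)
    (hnc : ∀ g ∈ S, ∀ h ∈ S, g ≠ h → ¬ Commute g h) : S.card ≤ 3 := by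
  by_contra hcon
  push Not at hcon
  have hzpos : 0 < Fintype.card Z := Fintype.card_pos
  -- four distinct elements
  obtain ⟨S', hS'sub, hS'card⟩ := Finset.exists_subset_card_eq (show 4 ≤ S.card by omega)
  obtain ⟨f⟩ : Nonempty (Fin 4 ≃ ↥S') := by
    have : Fintype.card (Fin 4) = Fintype.card ↥S' := by
      rw [Fintype.card_fin, Fintype.card_coe, hS'card]
    exact ⟨Fintype.equivOfCardEq this⟩
  set t : Fin 4 → W := fun i => (f i : W) with htdef
  have htS : ∀ i, t i ∈ S := fun i => hS'sub (f i).2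
  have htinj : ∀ i j, i ≠ j → t i ≠ t j := by
    intro i j hij h
    apply hij
    exact f.injective (Subtype.ext h)
  have htnc : ∀ i j, i ≠ j → ¬ Commute (t i) (t j) := fun i j hij =>
    hnc _ (htS i) _ (htS j) (htinj i j hij)
  -- Step 1: every torus in S has e = 4
  have hfour : ∀ g ∈ S, (cen g).card = 4 * Fintype.card Z := by
    intro g hg
    obtain ⟨hgZ, k, hk⟩ := hS g hg
    have hcpos : 0 < (cen g).card := card_pos.2 ⟨g, mem_cen.2 (Commute.refl g)⟩
    rcases Nat.lt_or_ge k 2 with hlt | hge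
    · interval_cases k
      · rw [mul_zero] at hk; omega
      · rw [mul_one] at hk; exact hk
    · exfalso
      -- another element of S
      obtain ⟨i, hi⟩ : ∃ i, t i ≠ g := by
        by_contra hall
        push Not at hall
        exact htinj 0 1 (by decide) ((hall 0).trans (hall 1).symm)
      obtain ⟨htZ, k', hk'⟩ := hS _ (htS i)
      have hcpos' : 0 < (cen (t i)).card := card_pos.2 ⟨t i, mem_cen.2 (Commute.refl _)⟩
      have hk'pos : 0 < k' := by
        rcases Nat.eq_zero_or_pos k' with h0 | hpos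
        · rw [h0, mul_zero] at hk'; omega
        · exact hpos
      have hb1 : 6 * Fintype.card Z ≤ (cen g).card := by rw [hk]; nlinarith
      have hb2 : 3 * Fintype.card Z ≤ (cen (t i)).card := by rw [hk']; nlinarith
      exact hnc g hg _ (htS i) hi.symm (H.uniq hgZ htZ hb1 hb2)
  have hx4 : ∀ g ∈ S, (Fintype.card Z : ℚ) / (cen g).card = 1 / 4 := by
    intro g hg
    rw [hfour g hg]
    have hzq : (0 : ℚ) < Fintype.card Z := by exact_mod_cast hzpos
    push_cast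
    field_simp
  have hy := y_pos (Z := Z)
  set y : ℚ := (Fintype.card Z : ℚ) / Fintype.card W with hydef
  -- the first orbit
  set s := t 0 with hsdef
  have hsS : s ∈ S := htS 0
  have hsZ : s ∉ Z := (hS s hsS).1
  obtain ⟨δ₁, x₁, hδ₁, -, -, hx₁eq, ha₁, hy₁, -, hν₁⟩ := H.orbit_data hsZ
  have hx₁ : x₁ = 1 / 4 := by rw [hx₁eq]; exact hx4 s hsS
  subst hx₁
  set a₁ : ℚ := ((orb Z s).card : ℚ) / Fintype.card W with ha₁def
  obtain ⟨hsat₁, hρ₁⟩ := H.remove sat_X (mem_X.2 hsZ)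
  rw [card_X_div] at hρ₁
  have hρ₁nn := card_div_nonneg (X Z \ orb Z s)
  -- Step 2: all of S lies in the first orbit
  have hall : ∀ g ∈ S, g ∈ orb Z s := by
    intro g hg
    by_contra hgo
    have hgZ : g ∉ Z := (hS g hg).1
    obtain ⟨δ₂, x₂, hδ₂, -, -, hx₂eq, ha₂, -, -, -⟩ := H.orbit_data hgZ
    have hx₂ : x₂ = 1 / 4 := by rw [hx₂eq]; exact hx4 g hg
    subst hx₂
    have hgR : g ∈ X Z \ orb Z s := mem_sdiff.2 ⟨mem_X.2 hgZ, hgo⟩
    obtain ⟨hsat₂, hρ₂⟩ := H.remove hsat₁ hgR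
    have hρ₂nn := card_div_nonneg ((X Z \ orb Z s) \ orb Z g)
    rw [hρ₁] at hρ₂
    rcases hδ₁ with rfl | rfl
    · rcases hδ₂ with rfl | rfl <;> linarith
    · rcases hδ₂ with rfl | rfl
      · linarith
      · by_cases hR₂ : (X Z \ orb Z s) \ orb Z g = ∅
        · rw [empty_card_div hR₂] at hρ₂
          linarith
        · obtain ⟨k₃, hk₃R, hk₃Z, hsat₃, hρ₃⟩ := H.pick hsat₂ hR₂
          obtain ⟨δ₃, x₃, hδ₃, hx₃c, hx₃pos, -, ha₃, -, -, -⟩ := H.orbit_data hk₃Z
          have hq₃ := quarter hδ₃ hx₃c ha₃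
          have hρ₃nn := card_div_nonneg (((X Z \ orb Z s) \ orb Z g) \ orb Z k₃)
          rw [hρ₂] at hρ₃
          linarith
  -- Step 3: four cosets of the normalizer
  have hcos := H.four_cosets hsZ t (fun i => hall _ (htS i)) htnc
  have hy16 : y * δ₁ * 4 ≤ 1 / 4 := by
    have hnpos : 0 < Fintype.card W := Fintype.card_pos
    have hnq : (0 : ℚ) < Fintype.card W := by exact_mod_cast hnpos
    have hzq : (0 : ℚ) < Fintype.card Z := by exact_mod_cast hzpos
    have hcq : ((cen s).card : ℚ) = 4 * Fintype.card Z := by rw [hfour s hsS]; push_cast; ring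
    have h1 : (4 : ℚ) * (nor s).card ≤ Fintype.card W := by exact_mod_cast hcos
    rw [hν₁, hcq] at h1
    rw [hydef, div_mul_eq_mul_div, div_mul_eq_mul_div, div_le_iff₀ hnq]
    nlinarith
  -- Step 4: the final count
  rcases hδ₁ with rfl | rfl
  · -- δ₁ = 1
    have hR₁ : X Z \ orb Z s ≠ ∅ := by
      intro h
      rw [empty_card_div h] at hρ₁
      linarith
    obtain ⟨k₂, hk₂R, hk₂Z, hsat₂, hρ₂⟩ := H.pick hsat₁ hR₁
    obtain ⟨δ₂, x₂, hδ₂, hx₂c, hx₂pos, -, ha₂, -, -, -⟩ := H.orbit_data hk₂Z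
    have hq₂ := quarter hδ₂ hx₂c ha₂
    have hρ₂nn := card_div_nonneg ((X Z \ orb Z s) \ orb Z k₂)
    rw [hρ₁] at hρ₂
    linarith
  · -- δ₁ = 2
    have hR₁ : X Z \ orb Z s ≠ ∅ := by
      intro h
      rw [empty_card_div h] at hρ₁
      linarith
    obtain ⟨k₂, hk₂R, hk₂Z, hsat₂, hρ₂⟩ := H.pick hsat₁ hR₁
    obtain ⟨δ₂, x₂, hδ₂, hx₂c, hx₂pos, -, ha₂, -, -, -⟩ := H.orbit_data hk₂Z
    have hq₂ := quarter hδ₂ hx₂c ha₂
    set a₂ : ℚ := ((orb Z k₂).card : ℚ) / Fintype.card W with ha₂def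
    have hρ₂nn := card_div_nonneg ((X Z \ orb Z s) \ orb Z k₂)
    rw [hρ₁] at hρ₂
    by_cases hR₂ : (X Z \ orb Z s) \ orb Z k₂ = ∅
    · rw [empty_card_div hR₂] at hρ₂
      rcases hδ₂ with rfl | rfl
      · rcases hx₂c with rfl | rfl | hx₂ <;> linarith
      · linarith
    · obtain ⟨k₃, hk₃R, hk₃Z, hsat₃, hρ₃⟩ := H.pick hsat₂ hR₂
      obtain ⟨δ₃, x₃, hδ₃, hx₃c, hx₃pos, -, ha₃, -, -, -⟩ := H.orbit_data hk₃Z
      have hq₃ := quarter hδ₃ hx₃c ha₃
      set a₃ : ℚ := ((orb Z k₃).card : ℚ) / Fintype.card W with ha₃def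
      have hρ₃nn := card_div_nonneg (((X Z \ orb Z s) \ orb Z k₂) \ orb Z k₃)
      rw [hρ₂] at hρ₃
      by_cases hR₃ : ((X Z \ orb Z s) \ orb Z k₂) \ orb Z k₃ = ∅
      · rw [empty_card_div hR₃] at hρ₃
        rcases hδ₂ with rfl | rfl
        · rcases hx₂c with rfl | rfl | hx₂ <;> linarith
        · rcases hδ₃ with rfl | rfl
          · rcases hx₃c with rfl | rfl | hx₃ <;> linarith
          · rcases hx₂c with rfl | rfl | hx₂ <;> rcases hx₃c with rfl | rfl | hx₃ <;> linarith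
      · obtain ⟨k₄, hk₄R, hk₄Z, hsat₄, hρ₄⟩ := H.pick hsat₃ hR₃
        obtain ⟨δ₄, x₄, hδ₄, hx₄c, hx₄pos, -, ha₄, -, -, -⟩ := H.orbit_data hk₄Z
        have hq₄ := quarter hδ₄ hx₄c ha₄
        have hρ₄nn := card_div_nonneg ((((X Z \ orb Z s) \ orb Z k₂) \ orb Z k₃) \ orb Z k₄)
        rw [hρ₃] at hρ₄
        linarith

end Cfsg.Agent.Lib.Helper3.ES3K
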