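import Mathlib

set_option autoImplicit false

/-!
helper3, S3084, part 2: over `F_2` every alternating bilinear form is the polar form of a
quadratic map (`exists_quadratic_refinement`).
-/

namespace Cfsg.Agent.Lib.Helper3.ES

/-- Over `F_2`, every alternating bilinear form is the polar form of a quadratic map. -/
theorem exists_quadratic_refinement {M : Type*} [AddCommGroup M] [Module (ZMod 2) M]
    [Module.Finite (ZMod 2) M] (δ : M →ₗ[ZMod 2] M →ₗ[ZMod 2] ZMod 2) (hδ : ∀ u, δ u u = 0) :
    ∃ γ : M → ZMod 2, ∀ u v, γ (u + v) = γ u + γ v + δ u v := by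
  classical
  have hsymm : ∀ u v, δ u v = δ v u := by
    intro u v
    have h := hδ (u + v)
    simp only [map_add, LinearMap.add_apply, hδ, zero_add, add_zero] at h
    have h2 : ∀ x y : ZMod 2, x + y = 0 → x = y := by decide
    exact (h2 _ _ h).symm
  set m := Module.finrank (ZMod 2) M
  let b : Module.Basis (Fin m) (ZMod 2) M := Module.finBasis (ZMod 2) M
  let D : Fin m → Fin m → ZMod 2 := fun i j => δ (b i) (b j)
  let c : M → Fin m → ZMod 2 := fun u i => b.repr u i
  have hc_add : ∀ u v i, c (u + v) i = c u i + c v i := by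
    intro u v i; simp [c]
  have hδ_expand : ∀ u v, δ u v = ∑ i, ∑ j, D i j * c u i * c v j := by
    intro u v
    conv_lhs => rw [← b.sum_repr u, ← b.sum_repr v]
    rw [LinearMap.map_sum₂]
    refine Finset.sum_congr rfl fun i _ => ?_
    rw [LinearMap.map_smul₂, map_sum, Finset.smul_sum]
    refine Finset.sum_congr rfl fun j _ => ?_
    rw [map_smul, smul_eq_mul, smul_eq_mul]
    simp only [D, c]; ring
  refine ⟨fun u => ∑ i, ∑ j, if i < j then D i j * c u i * c u j else 0, fun u v => ?_⟩
  have hDsymm : ∀ i j, D i j = D j i := fun i j => hsymm _ _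
  have hDdiag : ∀ i, D i i = 0 := fun i => hδ _
  -- split the full double sum
  have hsplit : ∑ i, ∑ j, D i j * c u i * c v j =
      ∑ i, ∑ j, (if i < j then D i j * c u i * c v j + D i j * c v i * c u j else 0) := by
    have h1 : ∀ i j : Fin m, D i j * c u i * c v j =
        (if i < j then D i j * c u i * c v j else 0) + (if j < i then D i j * c u i * c v j else 0) := by
      intro i j
      rcases lt_trichotomy i j with h | h | h
      · rw [if_pos h, if_neg (not_lt.mpr h.le), add_zero]
      · subst h; simp [hDdiag]
      · rw [if_neg (not_lt.mpr h.le), if_pos h, zero_add]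
    rw [Finset.sum_congr rfl (fun i _ => Finset.sum_congr rfl (fun j _ => h1 i j))]
    simp_rw [Finset.sum_add_distrib]
    have h2 : ∑ i : Fin m, ∑ j : Fin m, (if j < i then D i j * c u i * c v j else 0) =
        ∑ i : Fin m, ∑ j : Fin m, (if i < j then D i j * c v i * c u j else 0) := by
      rw [Finset.sum_comm]
      refine Finset.sum_congr rfl fun i _ => ?_
      refine Finset.sum_congr rfl fun j _ => ?_
      split_ifs
      · rw [hDsymm j i]; ring
      · rfl
    rw [h2, ← Finset.sum_add_distrib]
    refine Finset.sum_congr rfl fun i _ => ?_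
    rw [← Finset.sum_add_distrib]
    refine Finset.sum_congr rfl fun j _ => ?_
    split_ifs <;> simp
  rw [hδ_expand, hsplit]
  simp only [hc_add]
  rw [← Finset.sum_add_distrib, ← Finset.sum_add_distrib]
  refine Finset.sum_congr rfl fun i _ => ?_
  rw [← Finset.sum_add_distrib, ← Finset.sum_add_distrib]
  refine Finset.sum_congr rfl fun j _ => ?_
  split_ifs
  · ring
  · simp

end Cfsg.Agent.Lib.Helper3.ES
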