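import Cfsg.Agent.Lib.Helper3.ESKer

set_option autoImplicit false

/-!
helper3, S3084, part 5: the group `R = RR κ` of units of `End V` of determinant `±1`
implementing some `κ k`, the projection `piHom : R →* K` (surjective by `exists_implementer`),
and its kernel `{± X u}`.
-/

namespace Cfsg.Agent.Lib.Helper3.ES
open Matrix
variable {n : ℕ}

theorem det_inv_pm {g : GG n}
    (h : LinearMap.det (g : EE n) = 1 ∨ LinearMap.det (g : EE n) = -1) :
    LinearMap.det ((g⁻¹ : GG n) : EE n) = 1 ∨ LinearMap.det ((g⁻¹ : GG n) : EE n) = -1 := by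
  have h1 : LinearMap.det (g : EE n) * LinearMap.det ((g⁻¹ : GG n) : EE n) = 1 := by
    rw [← map_mul, Units.mul_inv, map_one]
  rcases h with h | h
  · left; rw [h, one_mul] at h1; exact h1
  · right; rw [h] at h1; linarith

theorem det_mul_pm {g g' : EE n}
    (h : LinearMap.det g = 1 ∨ LinearMap.det g = -1)
    (h' : LinearMap.det g' = 1 ∨ LinearMap.det g' = -1) :
    LinearMap.det (g * g') = 1 ∨ LinearMap.det (g * g') = -1 := by
  rw [map_mul]
  rcases h with h | h <;> rcases h' with h' | h' <;> rw [h, h'] <;> norm_num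

section group

variable {K : Type*} [Group K] (κ : K →* (II n ≃ₗ[ZMod 2] II n))

/-- the group `R`: units of determinant `±1` implementing some `κ k` -/
noncomputable def RR : Subgroup (GG n) where
  carrier := {g | (LinearMap.det (g : EE n) = 1 ∨ LinearMap.det (g : EE n) = -1) ∧
    ∃ k : K, Impl g (κ k)}
  mul_mem' := by
    rintro g g' ⟨hd, k, hk⟩ ⟨hd', k', hk'⟩
    refine ⟨?_, k * k', ?_⟩
    · rw [Units.val_mul]; exact det_mul_pm hd hd'
    · rw [map_mul]; exact hk.mul hk'
  one_mem' := by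
    refine ⟨Or.inl (by simp), 1, ?_⟩
    rw [map_one, ← sX_zero_zero]; exact impl_sX 0 0
  inv_mem' := by
    rintro g ⟨hd, k, hk⟩
    refine ⟨det_inv_pm hd, k⁻¹, ?_⟩
    rw [map_inv]; exact hk.inv

theorem mem_RR {g : GG n} : g ∈ RR κ ↔
    (LinearMap.det (g : EE n) = 1 ∨ LinearMap.det (g : EE n) = -1) ∧ ∃ k : K, Impl g (κ k) :=
  Iff.rfl

variable {κ}

theorem sX_mem_RR (hn1 : 1 ≤ n) (t : ZMod 2) (v : II n) : sX t v ∈ RR κ := by
  refine ⟨?_, 1, ?_⟩
  · rw [sX_val, LinearMap.det_smul, finrank_VV]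
    rcases det_X hn1 v with h | h <;> rcases sgn_eq_or t with ht | ht <;> rw [h, ht]
    · left; simp
    · left; rw [(even_two_pow hn1).neg_one_pow, one_mul]
    · right; simp
    · right; rw [(even_two_pow hn1).neg_one_pow, one_mul]
  · rw [map_one]; exact impl_sX t v

/-- the projection `R → K` -/
noncomputable def piFun (g : RR κ) : K := Classical.choose g.2.2

theorem piFun_spec (g : RR κ) : Impl (g : GG n) (κ (piFun g)) := Classical.choose_spec g.2.2

theorem piFun_eq (hκ : Function.Injective κ) (g : RR κ) {k : K} (h : Impl (g : GG n) (κ k)) :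
    piFun g = k := hκ ((piFun_spec g).unique h)

/-- the projection `R → K` as a homomorphism -/
noncomputable def piHom (hκ : Function.Injective κ) : RR κ →* K where
  toFun := piFun
  map_one' := by
    apply piFun_eq hκ
    rw [map_one, Subgroup.coe_one, ← sX_zero_zero]; exact impl_sX 0 0
  map_mul' g g' := by
    apply piFun_eq hκ
    rw [map_mul, Subgroup.coe_mul]
    exact (piFun_spec g).mul (piFun_spec g')

theorem piHom_spec (hκ : Function.Injective κ) (g : RR κ) :
    Impl (g : GG n) (κ (piHom hκ g)) := piFun_spec g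

theorem piHom_surjective (hκ : Function.Injective κ) (hq : ∀ k u, qq (κ k u) = qq u) :
    Function.Surjective (piHom hκ) := by
  intro k
  obtain ⟨g, hdet, γ, hg⟩ := exists_implementer (κ k) (hq k)
  have hI : Impl g (κ k) := fun u => ⟨γ u, hg u⟩
  exact ⟨⟨g, hdet, k, hI⟩, piFun_eq hκ _ hI⟩

theorem mem_ker_piHom_iff (hn1 : 1 ≤ n) (hκ : Function.Injective κ) (g : RR κ) :
    g ∈ (piHom hκ).ker ↔ ∃ (t : ZMod 2) (w : II n), (g : GG n) = sX t w := by
  constructor
  · intro hg
    rw [MonoidHom.mem_ker] at hg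
    have h1 := piHom_spec hκ g
    rw [hg, map_one] at h1
    obtain ⟨s, hs⟩ := h1.commutes
    exact eq_sX_of_commutes hn1 (g : GG n) g.2.1 s hs
  · rintro ⟨t, w, h⟩
    rw [MonoidHom.mem_ker]
    apply piFun_eq hκ
    rw [h, map_one]; exact impl_sX t w

end group

end Cfsg.Agent.Lib.Helper3.ES
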