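import Cfsg.Agent.Lib.Helper3.ESLift

set_option autoImplicit false

/-!
helper3, S3084, part 4: the signed operators `sX s u = ± X u` as units of `End V`, their
multiplication table, and the key rigidity lemma `eq_smul_X_of_commutes`: an operator commuting
up to signs with all `X u` is a scalar multiple of a single `X w`.
-/

namespace Cfsg.Agent.Lib.Helper3.ES
open Matrix
variable {n : ℕ}

/-- the index space `A × A` -/
abbrev II (n : ℕ) := AA n × AA n
/-- `End V` -/
abbrev EE (n : ℕ) := Module.End ℝ (VV n)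
/-- `GL V` as the units of `End V` -/
abbrev GG (n : ℕ) := (Module.End ℝ (VV n))ˣ

theorem ii_add_self (u : II n) : u + u = 0 := by
  ext i
  · exact zmod2_add_self _
  · exact zmod2_add_self _

theorem X_ne_zero (u : II n) : X u ≠ 0 := by
  rw [← basisX_apply]; exact basisX.ne_zero u

/-- `X u = c • X v` forces `u = v` -/
theorem X_eq_smul_X {u v : II n} {c : ℝ} (h : X u = c • X v) : u = v := by
  classical
  by_contra hne
  have h1 := congrArg (fun f => basisX.repr f u) h
  simp only [map_smul, Finsupp.smul_apply, smul_eq_mul] at h1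
  rw [← basisX_apply, ← basisX_apply, Module.Basis.repr_self, Module.Basis.repr_self,
    Finsupp.single_eq_same, Finsupp.single_eq_of_ne hne] at h1
  simp at h1

/-- the signed operators `± X u` as units -/
noncomputable def sX (s : ZMod 2) (u : II n) : GG n where
  val := sgn s • X u
  inv := (sgn s * sgn (qq u)) • X u
  val_inv := by
    rw [smul_mul_smul_comm, X_sq, smul_smul, ← qq]
    have : sgn s * (sgn s * sgn (qq u)) * sgn (qq u) = 1 := by
      rw [← mul_assoc, sgn_mul_self, one_mul, sgn_mul_self]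
    rw [this, one_smul]
  inv_val := by
    rw [smul_mul_smul_comm, X_sq, smul_smul, ← qq]
    have : sgn s * sgn (qq u) * sgn s * sgn (qq u) = 1 := by
      rw [mul_comm (sgn s) (sgn (qq u)), mul_assoc (sgn (qq u)), sgn_mul_self, mul_one, sgn_mul_self]
    rw [this, one_smul]

@[simp] theorem sX_val (s : ZMod 2) (u : II n) : ((sX s u : GG n) : EE n) = sgn s • X u := rfl

theorem sX_zero_zero : sX (0 : ZMod 2) (0 : II n) = 1 := by
  apply Units.ext
  simp [X_zero]

theorem sX_mul (s t : ZMod 2) (u v : II n) :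
    sX s u * sX t v = sX (s + t + u.1 ⬝ᵥ v.2) (u + v) := by
  apply Units.ext
  rw [Units.val_mul, sX_val, sX_val, sX_val, smul_mul_smul_comm, X_mul, smul_smul, sgn_add, sgn_add]

theorem sX_injective {s t : ZMod 2} {u v : II n} (h : sX s u = sX t v) : s = t ∧ u = v := by
  have h1 : sgn s • X u = sgn t • X v := congrArg Units.val h
  have h2 : X u = (sgn s * sgn t) • X v := by
    have := congrArg (fun f => sgn s • f) h1
    simp only [smul_smul, sgn_mul_self, one_smul] at this
    exact this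
  have huv := X_eq_smul_X h2
  subst huv
  refine ⟨?_, rfl⟩
  exact sgn_injective (smul_left_injective ℝ (X_ne_zero u) h1)

theorem sX_inv (s : ZMod 2) (u : II n) : (sX s u)⁻¹ = sX (s + qq u) u := by
  rw [inv_eq_iff_mul_eq_one, sX_mul, ← sX_zero_zero]
  congr 1
  · rw [← qq]
    have : ∀ a b : ZMod 2, a + (a + b) + b = 0 := by decide
    exact this _ _
  · exact ii_add_self u

theorem ii_add_right_cancel_iff {u v w : II n} : u + w = v + w ↔ u = v := add_left_inj w

/-- coefficients of `f * X u` -/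
theorem repr_mul_X (f : EE n) (u w : II n) :
    basisX.repr (f * X u) (w + u) = basisX.repr f w * sgn (w.1 ⬝ᵥ u.2) := by
  classical
  have key : (Finsupp.lapply (w + u)) ∘ₗ basisX.repr.toLinearMap ∘ₗ LinearMap.mulRight ℝ (X u) =
      sgn (w.1 ⬝ᵥ u.2) • ((Finsupp.lapply w) ∘ₗ (basisX (n := n)).repr.toLinearMap) := by
    apply basisX.ext
    intro w'
    simp only [LinearMap.coe_comp, LinearEquiv.coe_coe, Function.comp_apply, LinearMap.mulRight_apply,
      Finsupp.lapply_apply, LinearMap.smul_apply, smul_eq_mul, basisX_apply]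
    rw [X_mul, map_smul, ← basisX_apply, ← basisX_apply, Module.Basis.repr_self,
      Module.Basis.repr_self, Finsupp.smul_apply, smul_eq_mul]
    by_cases h : w' = w
    · subst h
      rw [Finsupp.single_eq_same, Finsupp.single_eq_same]
    · have h2 : w' + u ≠ w + u := fun h3 => h (add_right_cancel h3)
      rw [Finsupp.single_eq_of_ne (Ne.symm h2), Finsupp.single_eq_of_ne (Ne.symm h), mul_zero, mul_zero]
  have := congrArg (fun L => L f) key
  simp only [LinearMap.coe_comp, LinearEquiv.coe_coe, Function.comp_apply, LinearMap.mulRight_apply,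
    Finsupp.lapply_apply, LinearMap.smul_apply, smul_eq_mul] at this
  rw [this, mul_comm]

/-- coefficients of `X u * f` -/
theorem repr_X_mul (f : EE n) (u w : II n) :
    basisX.repr (X u * f) (w + u) = sgn (u.1 ⬝ᵥ w.2) * basisX.repr f w := by
  classical
  have key : (Finsupp.lapply (w + u)) ∘ₗ basisX.repr.toLinearMap ∘ₗ LinearMap.mulLeft ℝ (X u) =
      sgn (u.1 ⬝ᵥ w.2) • ((Finsupp.lapply w) ∘ₗ (basisX (n := n)).repr.toLinearMap) := by
    apply basisX.ext
    intro w'
    simp only [LinearMap.coe_comp, LinearEquiv.coe_coe, Function.comp_apply, LinearMap.mulLeft_apply,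
      Finsupp.lapply_apply, LinearMap.smul_apply, smul_eq_mul, basisX_apply]
    rw [X_mul, map_smul, ← basisX_apply, ← basisX_apply, Module.Basis.repr_self,
      Module.Basis.repr_self, Finsupp.smul_apply, smul_eq_mul]
    by_cases h : w' = w
    · subst h
      rw [add_comm u w', Finsupp.single_eq_same, Finsupp.single_eq_same]
    · have h2 : u + w' ≠ w + u := fun h3 => h (by rw [add_comm u w'] at h3; exact add_right_cancel h3)
      rw [Finsupp.single_eq_of_ne (Ne.symm h2), Finsupp.single_eq_of_ne (Ne.symm h), mul_zero, mul_zero]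
  have := congrArg (fun L => L f) key
  simp only [LinearMap.coe_comp, LinearEquiv.coe_coe, Function.comp_apply, LinearMap.mulLeft_apply,
    Finsupp.lapply_apply, LinearMap.smul_apply, smul_eq_mul] at this
  rw [this]

theorem pair_eq_zero_imp {w : II n} (h : ∀ u, pair w u = 0) : w = 0 := by
  classical
  ext i
  · have := h (0, Pi.single i 1)
    simp only [pair, dotProduct_single, mul_one, zero_dotProduct, add_zero] at this
    simpa using this
  · have := h (Pi.single i 1, 0)
    simp only [pair, dotProduct_zero, single_dotProduct, one_mul, zero_add] at this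
    simpa using this

theorem pair_add_left (w w' u : II n) : pair (w + w') u = pair w u + pair w' u := by
  simp only [pair, Prod.fst_add, Prod.snd_add, add_dotProduct, dotProduct_add]
  ring

/-- an operator that commutes up to signs with all `X u` is a multiple of a single `X w` -/
theorem eq_smul_X_of_commutes (g : EE n) (hg : g ≠ 0) (s : II n → ZMod 2)
    (h : ∀ u, g * X u = sgn (s u) • (X u * g)) : ∃ (c : ℝ) (w : II n), g = c • X w := by
  classical
  have hrepr : basisX.repr g ≠ 0 := by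
    intro h0
    exact hg ((LinearEquiv.map_eq_zero_iff _).mp h0)
  obtain ⟨w, hw⟩ := Finsupp.ne_iff.mp hrepr
  rw [Finsupp.zero_apply] at hw
  have hs : ∀ w', basisX.repr g w' ≠ 0 → ∀ u, s u = pair w' u := by
    intro w' hw' u
    have h1 := congrArg (fun f => basisX.repr f (w' + u)) (h u)
    simp only [map_smul, Finsupp.smul_apply, smul_eq_mul] at h1
    rw [repr_mul_X, repr_X_mul] at h1
    have h2 : sgn (w'.1 ⬝ᵥ u.2) = sgn (s u) * sgn (u.1 ⬝ᵥ w'.2) := by
      have h3 : basisX.repr g w' * sgn (w'.1 ⬝ᵥ u.2) =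
          basisX.repr g w' * (sgn (s u) * sgn (u.1 ⬝ᵥ w'.2)) := by rw [h1]; ring
      exact mul_left_cancel₀ hw' h3
    apply sgn_injective
    rw [pair, sgn_add, h2, mul_assoc, sgn_mul_self, mul_one]
  have huniq : ∀ w', basisX.repr g w' ≠ 0 → w' = w := by
    intro w' hw'
    have h1 : ∀ u, pair (w' + w) u = 0 := by
      intro u
      rw [pair_add_left, ← hs w' hw' u, ← hs w hw u]
      exact zmod2_add_self _
    have h2 := pair_eq_zero_imp h1
    have : w' + w + w = w := by rw [h2, zero_add]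
    rwa [add_assoc, ii_add_self, add_zero] at this
  refine ⟨basisX.repr g w, w, ?_⟩
  conv_lhs => rw [← basisX.sum_repr g]
  rw [Finset.sum_eq_single w]
  · rw [basisX_apply]
  · intro w' _ hne
    by_cases h0 : basisX.repr g w' = 0
    · rw [h0, zero_smul]
    · exact absurd (huniq w' h0) hne
  · intro h; exact absurd (Finset.mem_univ _) h

theorem even_two_pow (hn1 : 1 ≤ n) : Even (2 ^ n) := by
  obtain ⟨m, rfl⟩ := Nat.exists_eq_add_of_le hn1
  rw [pow_add, pow_one]; exact even_two_mul _

theorem det_X (hn1 : 1 ≤ n) (u : II n) :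
    LinearMap.det (X u) = 1 ∨ LinearMap.det (X u) = -1 := by
  have h1 : LinearMap.det (X u) * LinearMap.det (X u) = 1 := by
    rw [← map_mul, X_sq, LinearMap.det_smul, map_one, mul_one, finrank_VV]
    rcases sgn_eq_or (u.1 ⬝ᵥ u.2) with h | h
    · rw [h, one_pow]
    · rw [h, (even_two_pow hn1).neg_one_pow]
  exact mul_self_eq_one_iff.mp h1

theorem eq_pm_one_of_pow (hn1 : 1 ≤ n) {c : ℝ} (h : c ^ 2 ^ n = 1 ∨ c ^ 2 ^ n = -1) :
    c = 1 ∨ c = -1 := by
  have hpos : 0 ≤ c ^ 2 ^ n := (even_two_pow hn1).pow_nonneg c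
  have h1 : c ^ 2 ^ n = 1 := by
    rcases h with h | h
    · exact h
    · rw [h] at hpos; linarith
  have h2 : |c| ^ 2 ^ n = 1 := by rw [← abs_pow, h1, abs_one]
  have h3 : |c| = 1 := (pow_eq_one_iff_of_nonneg (abs_nonneg c) (by positivity)).mp h2
  rcases abs_choice c with h4 | h4
  · left; rw [← h4]; exact h3
  · right; rw [h4] at h3; linarith

/-- a unit of determinant `±1` commuting up to signs with all `X u` is some `sX t w` -/
theorem eq_sX_of_commutes (hn1 : 1 ≤ n) (g : GG n)
    (hdet : LinearMap.det (g : EE n) = 1 ∨ LinearMap.det (g : EE n) = -1)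
    (s : II n → ZMod 2) (h : ∀ u, (g : EE n) * X u = sgn (s u) • (X u * (g : EE n))) :
    ∃ (t : ZMod 2) (w : II n), g = sX t w := by
  have hg0 : (g : EE n) ≠ 0 := g.ne_zero
  obtain ⟨c, w, hcw⟩ := eq_smul_X_of_commutes (g : EE n) hg0 s h
  have hc : c = 1 ∨ c = -1 := by
    apply eq_pm_one_of_pow hn1
    rw [hcw, LinearMap.det_smul, finrank_VV] at hdet
    rcases det_X hn1 w with hX | hX
    · rw [hX, mul_one] at hdet; exact hdet
    · rw [hX, mul_neg, mul_one] at hdet
      rcases hdet with hd | hd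
      · right; linarith
      · left; linarith
  rcases hc with hc | hc
  · refine ⟨0, w, Units.ext ?_⟩
    rw [hcw, hc, sX_val, sgn_zero]
  · refine ⟨1, w, Units.ext ?_⟩
    rw [hcw, hc, sX_val, sgn_one]


/-- `g` implements the linear automorphism `σ` of `A × A`: `g X u g⁻¹ = ± X (σ u)` -/
def Impl (g : GG n) (σ : II n ≃ₗ[ZMod 2] II n) : Prop :=
  ∀ u, ∃ s : ZMod 2, (g : EE n) * X u * ((g⁻¹ : GG n) : EE n) = sgn s • X (σ u)

theorem Impl.mul {g g' : GG n} {σ σ' : II n ≃ₗ[ZMod 2] II n} (h : Impl g σ) (h' : Impl g' σ') :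
    Impl (g * g') (σ * σ') := by
  intro u
  obtain ⟨s', hs'⟩ := h' u
  obtain ⟨s, hs⟩ := h (σ' u)
  refine ⟨s' + s, ?_⟩
  rw [_root_.mul_inv_rev, Units.val_mul, Units.val_mul]
  calc (g : EE n) * (g' : EE n) * X u * (((g'⁻¹ : GG n) : EE n) * ((g⁻¹ : GG n) : EE n))
      = (g : EE n) * ((g' : EE n) * X u * ((g'⁻¹ : GG n) : EE n)) * ((g⁻¹ : GG n) : EE n) := by
        simp only [mul_assoc]
    _ = sgn (s' + s) • X ((σ * σ') u) := by
        rw [hs', mul_smul_comm, smul_mul_assoc, hs, smul_smul, sgn_add]; rfl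

theorem Impl.unique {g : GG n} {σ σ' : II n ≃ₗ[ZMod 2] II n} (h : Impl g σ) (h' : Impl g σ') :
    σ = σ' := by
  ext1 u
  obtain ⟨s, hs⟩ := h u
  obtain ⟨s', hs'⟩ := h' u
  rw [hs] at hs'
  have h2 : X (σ u) = (sgn s * sgn s') • X (σ' u) := by
    have := congrArg (fun f => sgn s • f) hs'
    simp only [smul_smul, sgn_mul_self, one_smul] at this
    exact this
  exact X_eq_smul_X h2

theorem Impl.inv {g : GG n} {σ : II n ≃ₗ[ZMod 2] II n} (h : Impl g σ) : Impl g⁻¹ σ⁻¹ := by
  intro w
  obtain ⟨s, hs⟩ := h (σ⁻¹ w)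
  refine ⟨s, ?_⟩
  have h1 : σ (σ⁻¹ w) = w := LinearEquiv.apply_symm_apply σ w
  rw [h1] at hs
  rw [inv_inv]
  have h2 : X w = sgn s • ((g : EE n) * X (σ⁻¹ w) * ((g⁻¹ : GG n) : EE n)) := by
    rw [hs, smul_smul, sgn_mul_self, one_smul]
  rw [h2, mul_smul_comm, smul_mul_assoc]
  congr 1
  calc ((g⁻¹ : GG n) : EE n) * ((g : EE n) * X (σ⁻¹ w) * ((g⁻¹ : GG n) : EE n)) * (g : EE n)
      = (((g⁻¹ : GG n) : EE n) * (g : EE n)) * X (σ⁻¹ w) * (((g⁻¹ : GG n) : EE n) * (g : EE n)) := by
        simp only [mul_assoc]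
    _ = X (σ⁻¹ w) := by rw [Units.inv_mul, one_mul, mul_one]

theorem impl_sX (t : ZMod 2) (v : II n) : Impl (sX t v) 1 := by
  intro u
  refine ⟨pair v u, ?_⟩
  rw [sX_inv, sX_val, sX_val, smul_mul_assoc, mul_smul_comm, smul_mul_assoc, X_comm v u, smul_mul_assoc,
    mul_assoc, X_sq, mul_smul_comm, mul_one, smul_smul, smul_smul, smul_smul]
  congr 1
  rw [← qq, sgn_add]
  have h1 := sgn_mul_self t
  have h2 := sgn_mul_self (qq v)
  linear_combination (sgn (pair v u) * sgn (qq v) * sgn (qq v)) * h1 + sgn (pair v u) * h2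

theorem Impl.commutes {g : GG n} (h : Impl g 1) :
    ∃ s : II n → ZMod 2, ∀ u, (g : EE n) * X u = sgn (s u) • (X u * (g : EE n)) := by
  choose s hs using h
  refine ⟨s, fun u => ?_⟩
  have h1 := congrArg (fun f => f * (g : EE n)) (hs u)
  simp only [mul_assoc, Units.inv_mul, mul_one, LinearEquiv.coe_one, id_eq, smul_mul_assoc] at h1
  exact h1


end Cfsg.Agent.Lib.Helper3.ES
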