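import Cfsg.Agent.Lib.Helper3.ESOps
import Cfsg.Agent.Lib.Helper3.ESGamma

set_option autoImplicit false

/-!
helper3, S3084, part 3: an isometry `κ` of `q (a,b) = a · b` on `A × A` is implemented on
`V = ℝ^A` by a unit `g` of `End V` of determinant `±1`:
`g * X u * g⁻¹ = ± X (κ u)` (`exists_implementer`).  The algebra automorphism
`X u ↦ sgn (γ u) • X (κ u)` is inner by Mathlib's Skolem–Noether theorem for `End V`.
-/

namespace Cfsg.Agent.Lib.Helper3.ES
open Matrix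
variable {n : ℕ}

/-- the quadratic form `q (a, b) = a · b` -/
def qq (u : AA n × AA n) : ZMod 2 := u.1 ⬝ᵥ u.2

/-- the bilinear form `β (u, v) = u.1 · v.2`, with `β (u, u) = q u` -/
def betaL : (AA n × AA n) →ₗ[ZMod 2] (AA n × AA n) →ₗ[ZMod 2] ZMod 2 :=
  LinearMap.mk₂ (ZMod 2) (fun u v => u.1 ⬝ᵥ v.2)
    (fun u u' v => by simp [add_dotProduct])
    (fun c u v => by simp [smul_dotProduct])
    (fun u v v' => by simp [dotProduct_add])
    (fun c u v => by simp [dotProduct_smul])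

@[simp] theorem betaL_apply (u v : AA n × AA n) : betaL u v = u.1 ⬝ᵥ v.2 := rfl

/-- cocycle data for a lift of `κ` -/
theorem exists_gamma (κ : (AA n × AA n) ≃ₗ[ZMod 2] (AA n × AA n)) (hκ : ∀ u, qq (κ u) = qq u) :
    ∃ γ : AA n × AA n → ZMod 2, ∀ u v,
      γ (u + v) + u.1 ⬝ᵥ v.2 = γ u + γ v + (κ u).1 ⬝ᵥ (κ v).2 := by
  let δ : (AA n × AA n) →ₗ[ZMod 2] (AA n × AA n) →ₗ[ZMod 2] ZMod 2 :=
    (betaL.compl₁₂ (κ : (AA n × AA n) →ₗ[ZMod 2] (AA n × AA n))
      (κ : (AA n × AA n) →ₗ[ZMod 2] (AA n × AA n))) + betaL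
  have hδ : ∀ u, δ u u = 0 := by
    intro u
    have h1 := hκ u
    simp only [qq] at h1
    simp only [δ, LinearMap.add_apply, LinearMap.compl₁₂_apply, LinearEquiv.coe_coe, betaL_apply]
    rw [h1]; exact zmod2_add_self _
  obtain ⟨γ, hγ⟩ := exists_quadratic_refinement δ hδ
  refine ⟨γ, fun u v => ?_⟩
  rw [hγ u v]
  simp only [δ, LinearMap.add_apply, LinearMap.compl₁₂_apply, LinearEquiv.coe_coe, betaL_apply]
  have : u.1 ⬝ᵥ v.2 + u.1 ⬝ᵥ v.2 = 0 := zmod2_add_self _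
  linear_combination this

section lift

variable (κ : (AA n × AA n) ≃ₗ[ZMod 2] (AA n × AA n)) (γ : AA n × AA n → ZMod 2)

/-- the linear map `X u ↦ sgn (γ u) • X (κ u)` -/
noncomputable def phiLin : Module.End ℝ (VV n) →ₗ[ℝ] Module.End ℝ (VV n) :=
  basisX.constr ℝ (fun u => sgn (γ u) • X (κ u))

theorem phiLin_X (u : AA n × AA n) : phiLin κ γ (X u) = sgn (γ u) • X (κ u) := by
  rw [phiLin, ← basisX_apply, Module.Basis.constr_basis]

variable {κ γ}

theorem gamma_zero (hγ : ∀ u v, γ (u + v) + u.1 ⬝ᵥ v.2 = γ u + γ v + (κ u).1 ⬝ᵥ (κ v).2) :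
    γ 0 = 0 := by
  have h := hγ 0 0
  simp only [add_zero, map_zero, Prod.fst_zero, Prod.snd_zero, dotProduct_zero] at h
  have h2 : ∀ x : ZMod 2, x = x + x → x = 0 := by decide
  exact h2 _ h

theorem phiLin_one (hγ : ∀ u v, γ (u + v) + u.1 ⬝ᵥ v.2 = γ u + γ v + (κ u).1 ⬝ᵥ (κ v).2) :
    phiLin κ γ 1 = 1 := by
  rw [← X_zero, phiLin_X, gamma_zero hγ, map_zero, sgn_zero, one_smul]

theorem phiLin_mul (hγ : ∀ u v, γ (u + v) + u.1 ⬝ᵥ v.2 = γ u + γ v + (κ u).1 ⬝ᵥ (κ v).2)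
    (f g : Module.End ℝ (VV n)) : phiLin κ γ (f * g) = phiLin κ γ f * phiLin κ γ g := by
  have key : (LinearMap.mul ℝ (Module.End ℝ (VV n))).compr₂ (phiLin κ γ) =
      (LinearMap.mul ℝ (Module.End ℝ (VV n))).compl₁₂ (phiLin κ γ) (phiLin κ γ) := by
    apply LinearMap.ext_basis basisX basisX
    intro u v
    simp only [LinearMap.compr₂_apply, LinearMap.mul_apply', LinearMap.compl₁₂_apply, basisX_apply]
    rw [X_mul, map_smul, phiLin_X, phiLin_X, phiLin_X, smul_mul_smul_comm, X_mul, smul_smul,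
      smul_smul, map_add]
    congr 1
    rw [← sgn_add, ← sgn_add, ← sgn_add]
    congr 1
    have := hγ u v
    rw [add_comm (u.1 ⬝ᵥ v.2)]
    rw [this]
  have := congrArg (fun L => L f g) key
  simpa using this

theorem phiLin_surjective : Function.Surjective (phiLin κ γ) := by
  intro f
  have hrange : ∀ w, X w ∈ LinearMap.range (phiLin κ γ) := by
    intro w
    refine ⟨sgn (γ (κ.symm w)) • X (κ.symm w), ?_⟩
    rw [map_smul, phiLin_X, smul_smul, sgn_mul_self, one_smul, LinearEquiv.apply_symm_apply]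
  have : f ∈ LinearMap.range (phiLin κ γ) := by
    have hspan := basisX (n := n).span_eq
    have : f ∈ Submodule.span ℝ (Set.range (basisX (n := n))) := by rw [hspan]; trivial
    refine Submodule.span_le.mpr ?_ this
    rintro _ ⟨w, rfl⟩
    rw [basisX_apply]; exact hrange w
  exact this

/-- the algebra automorphism `X u ↦ sgn (γ u) • X (κ u)` -/
noncomputable def phiAlg (hγ : ∀ u v, γ (u + v) + u.1 ⬝ᵥ v.2 = γ u + γ v + (κ u).1 ⬝ᵥ (κ v).2) :
    Module.End ℝ (VV n) ≃ₐ[ℝ] Module.End ℝ (VV n) :=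
  AlgEquiv.ofBijective (AlgHom.ofLinearMap (phiLin κ γ) (phiLin_one hγ) (phiLin_mul hγ))
    ⟨LinearMap.injective_iff_surjective.mpr phiLin_surjective, phiLin_surjective⟩

theorem phiAlg_X (hγ : ∀ u v, γ (u + v) + u.1 ⬝ᵥ v.2 = γ u + γ v + (κ u).1 ⬝ᵥ (κ v).2)
    (u : AA n × AA n) : phiAlg hγ (X u) = sgn (γ u) • X (κ u) := phiLin_X κ γ u

/-- Skolem–Noether: the automorphism is inner -/
theorem exists_linearEquiv_conj
    (hγ : ∀ u v, γ (u + v) + u.1 ⬝ᵥ v.2 = γ u + γ v + (κ u).1 ⬝ᵥ (κ v).2) :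
    ∃ T : VV n ≃ₗ[ℝ] VV n, ∀ u,
      T.toLinearMap ∘ₗ X u ∘ₗ T.symm.toLinearMap = sgn (γ u) • X (κ u) := by
  obtain ⟨T, hT⟩ := (phiAlg hγ).eq_linearEquivConjAlgEquiv
  refine ⟨T, fun u => ?_⟩
  rw [← phiAlg_X hγ u, hT, LinearEquiv.conjAlgEquiv_apply]

end lift

theorem finrank_VV : Module.finrank ℝ (VV n) = 2 ^ n := by
  rw [Module.finrank_fintype_fun_eq_card, card_AA]

/-- rescale a linear automorphism to determinant `±1` -/
theorem exists_unit_det_pm_one (T : VV n ≃ₗ[ℝ] VV n) :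
    ∃ g : (Module.End ℝ (VV n))ˣ,
      (LinearMap.det (g : Module.End ℝ (VV n)) = 1 ∨ LinearMap.det (g : Module.End ℝ (VV n)) = -1) ∧
      ∀ f : Module.End ℝ (VV n),
        (g : Module.End ℝ (VV n)) * f * ((g⁻¹ : (Module.End ℝ (VV n))ˣ) : Module.End ℝ (VV n)) =
          T.toLinearMap ∘ₗ f ∘ₗ T.symm.toLinearMap := by
  set d : ℝ := LinearMap.det T.toLinearMap with hd
  have hd0 : d ≠ 0 := by
    have := LinearEquiv.isUnit_det' T
    exact this.ne_zero
  set N : ℕ := 2 ^ n with hN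
  have hN0 : N ≠ 0 := by positivity
  set c : ℝ := (|d|⁻¹) ^ ((N : ℝ)⁻¹) with hc
  have habs : 0 < |d|⁻¹ := by positivity
  have hcpos : 0 < c := Real.rpow_pos_of_pos habs _
  have hcN : c ^ N = |d|⁻¹ := Real.rpow_inv_natCast_pow habs.le hN0
  have hc0 : c ≠ 0 := hcpos.ne'
  refine ⟨⟨c • T.toLinearMap, c⁻¹ • T.symm.toLinearMap, ?_, ?_⟩, ?_, ?_⟩
  · rw [smul_mul_smul_comm, mul_inv_cancel₀ hc0, one_smul]
    refine LinearMap.ext fun x => ?_
    simp
  · rw [smul_mul_smul_comm, inv_mul_cancel₀ hc0, one_smul]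
    refine LinearMap.ext fun x => ?_
    simp
  · change LinearMap.det (c • T.toLinearMap) = 1 ∨ LinearMap.det (c • T.toLinearMap) = -1
    rw [LinearMap.det_smul, finrank_VV, ← hN, hcN, ← hd]
    rcases abs_choice d with h | h
    · left; rw [h]; exact inv_mul_cancel₀ hd0
    · right; rw [h, inv_neg, neg_mul, inv_mul_cancel₀ hd0]
  · intro f
    change (c • T.toLinearMap) * f * (c⁻¹ • T.symm.toLinearMap) = _
    rw [smul_mul_assoc, mul_smul_comm, smul_mul_assoc, smul_smul, inv_mul_cancel₀ hc0, one_smul]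
    rfl

/-- an isometry of `q` is implemented by a unit of `End V` of determinant `±1` -/
theorem exists_implementer (κ : (AA n × AA n) ≃ₗ[ZMod 2] (AA n × AA n))
    (hκ : ∀ u, qq (κ u) = qq u) :
    ∃ g : (Module.End ℝ (VV n))ˣ,
      (LinearMap.det (g : Module.End ℝ (VV n)) = 1 ∨ LinearMap.det (g : Module.End ℝ (VV n)) = -1) ∧
      ∃ γ : AA n × AA n → ZMod 2, ∀ u,
        (g : Module.End ℝ (VV n)) * X u * ((g⁻¹ : (Module.End ℝ (VV n))ˣ) : Module.End ℝ (VV n)) =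
          sgn (γ u) • X (κ u) := by
  obtain ⟨γ, hγ⟩ := exists_gamma κ hκ
  obtain ⟨T, hT⟩ := exists_linearEquiv_conj hγ
  obtain ⟨g, hdet, hg⟩ := exists_unit_det_pm_one T
  exact ⟨g, hdet, γ, fun u => by rw [hg, hT]⟩

end Cfsg.Agent.Lib.Helper3.ES
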