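import Cfsg.Agent.Lib.Helper3.ESQ

set_option autoImplicit false

/-!
helper3, S3084, part 7: assembly in hyperbolic coordinates (`main_coords`): for a group `K`
acting faithfully on `A × A` (`A = F_2^n`, `n ≥ 1`) by isometries of `q (a,b) = a · b`, the group
`R = RR κ ≤ GL(ℝ^A)` has the normal extraspecial subgroup `Q = ker (R → K)` of order `2^(2n+1)`
with `R ⧸ Q ≃* K`, and `χ = chiQ : Q → A × A` has all the required properties.
-/

namespace Cfsg.Agent.Lib.Helper3.ES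
open Matrix
variable {n : ℕ}

section main

variable {K : Type*} [Group K] {κ : K →* (II n ≃ₗ[ZMod 2] II n)} (hn1 : 1 ≤ n)
  (hκ : Function.Injective κ)

theorem conj_mkQ (r : RR κ) (t : ZMod 2) (u : II n) :
    ∃ s : ZMod 2, (r : GG n) * sX t u * (r : GG n)⁻¹ = sX (t + s) (κ (piHom hκ r) u) := by
  obtain ⟨s, hs⟩ := piHom_spec hκ r u
  refine ⟨s, Units.ext ?_⟩
  rw [Units.val_mul, Units.val_mul, sX_val, sX_val, mul_smul_comm, smul_mul_assoc, hs, smul_smul,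
    sgn_add]

include hn1

theorem chiQ_conj (r : RR κ) (a : (piHom hκ).ker) (h : r * (a : RR κ) * r⁻¹ ∈ (piHom hκ).ker) :
    chiQ hn1 hκ ⟨r * (a : RR κ) * r⁻¹, h⟩ =
      Multiplicative.ofAdd (κ (piHom hκ r) (Multiplicative.toAdd (chiQ hn1 hκ a))) := by
  obtain ⟨p, rfl⟩ := exists_mkQ hn1 hκ a
  obtain ⟨s, hs⟩ := conj_mkQ hκ r p.1 p.2
  have h1 : (⟨r * (mkQ hn1 hκ p.1 p.2 : RR κ) * r⁻¹, h⟩ : (piHom hκ).ker) =
      mkQ hn1 hκ (p.1 + s) (κ (piHom hκ r) p.2) := by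
    apply Subtype.ext
    apply Subtype.ext
    exact hs
  rw [h1, chiQ_mkQ, chiQ_mkQ]
  rfl

include hκ

omit hn1 in
theorem finite_K : Finite K := by
  have : Finite (II n ≃ₗ[ZMod 2] II n) := Finite.of_injective _ DFunLike.coe_injective
  exact Finite.of_injective κ hκ

theorem finite_RR : Finite (RR κ) := by
  rw [(piHom hκ).finite_iff_finite_ker_range]
  have := finite_K hκ
  exact ⟨finite_QQ hn1 hκ, inferInstance⟩

/-- S3084 in hyperbolic coordinates -/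
theorem main_coords (hq : ∀ k u, qq (κ k u) = qq u) :
    ∃ (R : Type) (_ : Group R) (_ : Finite R) (Q : Subgroup R) (hN : Q.Normal) (e : R ⧸ Q ≃* K)
      (χ : ↥Q →* Multiplicative (II n)),
      Cfsg.IsExtraspecial 2 ↥Q ∧ Nat.card ↥Q = 2 ^ (2 * n + 1) ∧ Function.Surjective χ ∧
      χ.ker = Subgroup.center ↥Q ∧
      (∀ (r : R) (a : ↥Q), χ ⟨r * a * r⁻¹, hN.conj_mem (a : R) a.2 r⟩ =
        Multiplicative.ofAdd (κ (e (r : R ⧸ Q)) (Multiplicative.toAdd (χ a)))) ∧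
      ∀ a : ↥Q, a * a = 1 ↔ qq (Multiplicative.toAdd (χ a)) = 0 := by
  refine ⟨RR κ, inferInstance, finite_RR hn1 hκ, (piHom hκ).ker, inferInstance,
    QuotientGroup.quotientKerEquivOfSurjective (piHom hκ) (piHom_surjective hκ hq),
    chiQ hn1 hκ, isExtraspecial_QQ hn1 hκ, card_QQ hn1 hκ, chiQ_surjective hn1 hκ,
    ker_chiQ hn1 hκ, ?_, sq_eq_one_iff hn1 hκ⟩
  intro r a
  rw [chiQ_conj hn1 hκ r a]
  rfl

end main

end Cfsg.Agent.Lib.Helper3.ES
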