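import Mathlib

set_option autoImplicit false

/-!
helper3, S3084 (existence of the extension `2^{1+2n}_+ . K`, `K ≤ O^+_{2n}(2)`).

Part 1: the real Heisenberg operators.  `A = F_2^n`, `V = (A → ℝ)`,
`X a b = M_b T_a` with `(T_a f)(x) = f (x + a)`, `(M_b f)(x) = (-1)^{b·x} f x`.
Relations: `X u * X v = sgn (u.1 · v.2) • X (u + v)`; the `X u` (`u ∈ A × A`) form a basis of
`End V`.
-/

namespace Cfsg.Agent.Lib.Helper3.ES

open Matrix

/-- the sign character of `ZMod 2` -/
noncomputable def sgn (x : ZMod 2) : ℝ := if x = 0 then 1 else -1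

@[simp] theorem sgn_zero : sgn 0 = 1 := by simp [sgn]

@[simp] theorem sgn_one : sgn 1 = -1 := by
  have : (1 : ZMod 2) ≠ 0 := by decide
  simp [sgn, this]

theorem zmod2_cases (x : ZMod 2) : x = 0 ∨ x = 1 := by
  revert x; decide

theorem sgn_add (x y : ZMod 2) : sgn (x + y) = sgn x * sgn y := by
  rcases zmod2_cases x with rfl | rfl <;> rcases zmod2_cases y with rfl | rfl
  · simp
  · simp
  · simp
  · have : (1 : ZMod 2) + 1 = 0 := by decide
    rw [this]; simp

theorem sgn_mul_self (x : ZMod 2) : sgn x * sgn x = 1 := by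
  rcases zmod2_cases x with rfl | rfl <;> simp

theorem sgn_eq_or (x : ZMod 2) : sgn x = 1 ∨ sgn x = -1 := by
  rcases zmod2_cases x with rfl | rfl <;> simp

theorem sgn_ne_zero (x : ZMod 2) : sgn x ≠ 0 := by
  rcases sgn_eq_or x with h | h <;> rw [h] <;> norm_num

theorem sgn_eq_one_iff (x : ZMod 2) : sgn x = 1 ↔ x = 0 := by
  rcases zmod2_cases x with rfl | rfl
  · simp
  · have : (1 : ZMod 2) ≠ 0 := by decide
    simp [this]; norm_num

theorem sgn_injective : Function.Injective sgn := by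
  intro x y h
  rcases zmod2_cases x with rfl | rfl <;> rcases zmod2_cases y with rfl | rfl
  · rfl
  · simp at h; norm_num at h
  · simp at h; norm_num at h
  · rfl

theorem zmod2_add_self (x : ZMod 2) : x + x = 0 := by
  revert x; decide

variable {n : ℕ}

/-- `A = F_2^n` -/
abbrev AA (n : ℕ) := Fin n → ZMod 2

/-- `V = ℝ^A` -/
abbrev VV (n : ℕ) := AA n → ℝ

theorem aa_add_self (a : AA n) : a + a = 0 := by
  ext i; exact zmod2_add_self _

/-- the operator `X a b = M_b T_a` -/
noncomputable def X (u : AA n × AA n) : Module.End ℝ (VV n) where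
  toFun f := fun x => sgn (u.2 ⬝ᵥ x) * f (x + u.1)
  map_add' f g := by
    ext x; simp only [Pi.add_apply]; ring
  map_smul' c f := by
    ext x; simp only [Pi.smul_apply, smul_eq_mul, RingHom.id_apply]; ring

theorem X_apply (u : AA n × AA n) (f : VV n) (x : AA n) :
    X u f x = sgn (u.2 ⬝ᵥ x) * f (x + u.1) := rfl

theorem X_zero : X (0 : AA n × AA n) = 1 := by
  refine LinearMap.ext fun f => funext fun x => ?_
  rw [X_apply]
  simp

theorem X_mul (u v : AA n × AA n) : X u * X v = sgn (u.1 ⬝ᵥ v.2) • X (u + v) := by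
  refine LinearMap.ext fun f => funext fun x => ?_
  simp only [Module.End.mul_apply, X_apply, LinearMap.smul_apply, Pi.smul_apply, smul_eq_mul,
    Prod.fst_add, Prod.snd_add]
  rw [dotProduct_add v.2 x u.1, add_dotProduct u.2 v.2 x, sgn_add, sgn_add, add_assoc,
    dotProduct_comm u.1 v.2]
  ring

/-- the symplectic pairing (polar form of `q (a,b) = a · b`) -/
def pair (u v : AA n × AA n) : ZMod 2 := u.1 ⬝ᵥ v.2 + v.1 ⬝ᵥ u.2

theorem X_sq (u : AA n × AA n) : X u * X u = sgn (u.1 ⬝ᵥ u.2) • (1 : Module.End ℝ (VV n)) := by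
  rw [X_mul]
  have : u + u = 0 := by
    ext i
    · exact zmod2_add_self _
    · exact zmod2_add_self _
  rw [this, X_zero]

theorem X_comm (u v : AA n × AA n) : X u * X v = sgn (pair u v) • (X v * X u) := by
  rw [X_mul, X_mul, smul_smul, pair, sgn_add, add_comm v u]
  congr 1
  rw [mul_assoc, sgn_mul_self, mul_one]

theorem exists_ne_zero_coord (c : AA n) (hc : c ≠ 0) : ∃ i, c i = 1 := by
  by_contra h
  push Not at h
  apply hc
  ext i
  rcases zmod2_cases (c i) with h0 | h1
  · simpa using h0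
  · exact absurd h1 (h i)

theorem sum_sgn_dot (c : AA n) (hc : c ≠ 0) : ∑ x : AA n, sgn (c ⬝ᵥ x) = 0 := by
  obtain ⟨i, hi⟩ := exists_ne_zero_coord c hc
  have h1 : ∑ x : AA n, sgn (c ⬝ᵥ x) = ∑ x : AA n, sgn (c ⬝ᵥ (x + Pi.single i 1)) := by
    symm
    exact Fintype.sum_equiv (Equiv.addRight (Pi.single i (1 : ZMod 2) : AA n)) _ _ (fun x => rfl)
  have h2 : ∀ x : AA n, sgn (c ⬝ᵥ (x + Pi.single i 1)) = - sgn (c ⬝ᵥ x) := by
    intro x
    rw [dotProduct_add, sgn_add, dotProduct_single, hi]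
    simp
  rw [Finset.sum_congr rfl (fun x _ => h2 x), Finset.sum_neg_distrib] at h1
  linarith

theorem sum_sgn_dot_zero : ∑ x : AA n, sgn ((0 : AA n) ⬝ᵥ x) = (2 : ℝ) ^ n := by
  simp [AA]

theorem sum_sgn_dot_mul (b b' : AA n) :
    ∑ x : AA n, sgn (b ⬝ᵥ x) * sgn (b' ⬝ᵥ x) = if b = b' then (2 : ℝ) ^ n else 0 := by
  have h : ∀ x : AA n, sgn (b ⬝ᵥ x) * sgn (b' ⬝ᵥ x) = sgn ((b + b') ⬝ᵥ x) := by
    intro x; rw [add_dotProduct, sgn_add]
  rw [Finset.sum_congr rfl (fun x _ => h x)]
  split_ifs with hb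
  · subst hb
    rw [aa_add_self]; exact sum_sgn_dot_zero
  · apply sum_sgn_dot
    intro h0
    apply hb
    have : b + b' + b' = b' := by rw [h0, zero_add]
    rw [add_assoc, aa_add_self, add_zero] at this
    exact this


/-- evaluating a combination of the `X u` on a delta function -/
theorem sum_X_single (g : AA n × AA n → ℝ) (x y : AA n) :
    (∑ u, g u • X u) (Pi.single y (1 : ℝ)) x = ∑ b : AA n, g (x + y, b) * sgn (b ⬝ᵥ x) := by
  classical
  rw [LinearMap.sum_apply, Finset.sum_apply, Fintype.sum_prod_type]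
  simp only [LinearMap.smul_apply, Pi.smul_apply, X_apply, smul_eq_mul]
  rw [Finset.sum_eq_single (x + y)]
  · refine Finset.sum_congr rfl fun b _ => ?_
    rw [← add_assoc, aa_add_self, zero_add, Pi.single_eq_same, mul_one]
  · intro a _ ha
    apply Finset.sum_eq_zero
    intro b _
    have : x + a ≠ y := by
      intro h
      apply ha
      rw [← h, ← add_assoc, aa_add_self, zero_add]
    rw [Pi.single_eq_of_ne this, mul_zero, mul_zero]
  · intro h; exact absurd (Finset.mem_univ _) h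

theorem linearIndependent_X : LinearIndependent ℝ (fun u : AA n × AA n => X u) := by
  classical
  rw [Fintype.linearIndependent_iff]
  intro g hg u
  obtain ⟨a, b₀⟩ := u
  have h1 : ∀ x : AA n, ∑ b : AA n, g (a, b) * sgn (b ⬝ᵥ x) = 0 := by
    intro x
    have := sum_X_single g x (x + a)
    rw [hg, ← add_assoc, aa_add_self, zero_add] at this
    rw [← this]; rfl
  have h2 : ∑ x : AA n, sgn (b₀ ⬝ᵥ x) * ∑ b : AA n, g (a, b) * sgn (b ⬝ᵥ x) = 0 := by
    apply Finset.sum_eq_zero; intro x _; rw [h1 x, mul_zero]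
  simp_rw [Finset.mul_sum] at h2
  rw [Finset.sum_comm] at h2
  have h3 : ∀ b : AA n, ∑ x : AA n, sgn (b₀ ⬝ᵥ x) * (g (a, b) * sgn (b ⬝ᵥ x)) =
      g (a, b) * (if b₀ = b then (2 : ℝ) ^ n else 0) := by
    intro b
    rw [← sum_sgn_dot_mul, Finset.mul_sum]
    refine Finset.sum_congr rfl fun x _ => ?_
    ring
  rw [Finset.sum_congr rfl (fun b _ => h3 b)] at h2
  simp only [mul_ite, mul_zero, Finset.sum_ite_eq, Finset.mem_univ, if_true] at h2
  have : (2 : ℝ) ^ n ≠ 0 := by positivity
  exact (mul_eq_zero.mp h2).resolve_right this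


theorem card_AA : Fintype.card (AA n) = 2 ^ n := by
  simp [AA]

theorem card_index_eq_finrank :
    Fintype.card (AA n × AA n) = Module.finrank ℝ (Module.End ℝ (VV n)) := by
  rw [Fintype.card_prod, card_AA, Module.finrank_linearMap, Module.finrank_fintype_fun_eq_card,
    card_AA]

/-- the `X u` form a basis of `End V` -/
noncomputable def basisX : Module.Basis (AA n × AA n) ℝ (Module.End ℝ (VV n)) :=
  basisOfLinearIndependentOfCardEqFinrank linearIndependent_X card_index_eq_finrank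

@[simp] theorem basisX_apply (u : AA n × AA n) : basisX u = X u := by
  simp [basisX]


end Cfsg.Agent.Lib.Helper3.ES
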