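import Cfsg.Agent.Lib.Helper3.ESGroup
import Cfsg.Agent.Lib.Helper90.ESCriterion

set_option autoImplicit false

/-!
helper3, S3084, part 6: the kernel `Q = {± X u}` of `R → K`: parametrisation `mkQ`, order,
the homomorphism `chiQ : Q → A × A`, centre, extraspecial.
-/

namespace Cfsg.Agent.Lib.Helper3.ES
open Matrix
variable {n : ℕ}

section kernel

variable {K : Type*} [Group K] {κ : K →* (II n ≃ₗ[ZMod 2] II n)} (hn1 : 1 ≤ n)
  (hκ : Function.Injective κ)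

include hn1

/-- the elements `± X u` of the kernel `Q` of `R → K` -/
noncomputable def mkQ (t : ZMod 2) (u : II n) : (piHom hκ).ker :=
  ⟨⟨sX t u, sX_mem_RR hn1 t u⟩, (mem_ker_piHom_iff hn1 hκ _).mpr ⟨t, u, rfl⟩⟩

theorem mkQ_val (t : ZMod 2) (u : II n) : (((mkQ hn1 hκ t u : (piHom hκ).ker) : RR κ) : GG n) = sX t u :=
  rfl

theorem exists_mkQ (a : (piHom hκ).ker) : ∃ p : ZMod 2 × II n, a = mkQ hn1 hκ p.1 p.2 := by
  obtain ⟨t, w, h⟩ := (mem_ker_piHom_iff hn1 hκ (a : RR κ)).mp a.2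
  exact ⟨(t, w), Subtype.ext (Subtype.ext h)⟩

theorem mkQ_mul (t t' : ZMod 2) (u v : II n) :
    mkQ hn1 hκ t u * mkQ hn1 hκ t' v = mkQ hn1 hκ (t + t' + u.1 ⬝ᵥ v.2) (u + v) :=
  Subtype.ext (Subtype.ext (sX_mul t t' u v))

theorem mkQ_inj {t t' : ZMod 2} {u v : II n} (h : mkQ hn1 hκ t u = mkQ hn1 hκ t' v) :
    t = t' ∧ u = v :=
  sX_injective (congrArg (fun a : (piHom hκ).ker => ((a : RR κ) : GG n)) h)

theorem mkQ_one : mkQ hn1 hκ 0 0 = 1 :=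
  Subtype.ext (Subtype.ext sX_zero_zero)

theorem mkQ_eq_one_iff (t : ZMod 2) (u : II n) : mkQ hn1 hκ t u = 1 ↔ t = 0 ∧ u = 0 := by
  rw [← mkQ_one hn1 hκ]
  exact ⟨fun h => mkQ_inj hn1 hκ h, fun ⟨h1, h2⟩ => by rw [h1, h2]⟩

/-- `(t, u) ↦ ± X u` is a bijection onto `Q` -/
noncomputable def mkQEquiv : ZMod 2 × II n ≃ (piHom hκ).ker :=
  Equiv.ofBijective (fun p => mkQ hn1 hκ p.1 p.2)
    ⟨fun p p' h => Prod.ext (mkQ_inj hn1 hκ h).1 (mkQ_inj hn1 hκ h).2,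
     fun a => by obtain ⟨p, hp⟩ := exists_mkQ hn1 hκ a; exact ⟨p, hp.symm⟩⟩

theorem card_QQ : Nat.card (piHom hκ).ker = 2 ^ (2 * n + 1) := by
  rw [← Nat.card_congr (mkQEquiv hn1 hκ), Nat.card_eq_fintype_card, Fintype.card_prod,
    Fintype.card_prod, card_AA, ZMod.card]
  ring

/-- the index `u` of `a = ± X u` -/
noncomputable def idxQ (a : (piHom hκ).ker) : ZMod 2 × II n := (mkQEquiv hn1 hκ).symm a

theorem mkQ_idxQ (a : (piHom hκ).ker) : mkQ hn1 hκ (idxQ hn1 hκ a).1 (idxQ hn1 hκ a).2 = a :=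
  (mkQEquiv hn1 hκ).apply_symm_apply a

theorem idxQ_mkQ (t : ZMod 2) (u : II n) : idxQ hn1 hκ (mkQ hn1 hκ t u) = (t, u) :=
  (mkQEquiv hn1 hκ).symm_apply_apply (t, u)

/-- the homomorphism `χ : Q → A × A`, `± X u ↦ u` -/
noncomputable def chiQ : (piHom hκ).ker →* Multiplicative (II n) where
  toFun a := Multiplicative.ofAdd (idxQ hn1 hκ a).2
  map_one' := by
    rw [← mkQ_one hn1 hκ, idxQ_mkQ]; rfl
  map_mul' a b := by
    conv_lhs => rw [← mkQ_idxQ hn1 hκ a, ← mkQ_idxQ hn1 hκ b, mkQ_mul, idxQ_mkQ]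
    rfl

theorem chiQ_mkQ (t : ZMod 2) (u : II n) :
    chiQ hn1 hκ (mkQ hn1 hκ t u) = Multiplicative.ofAdd u := by
  change Multiplicative.ofAdd (idxQ hn1 hκ (mkQ hn1 hκ t u)).2 = _
  rw [idxQ_mkQ]

theorem chiQ_surjective : Function.Surjective (chiQ hn1 hκ) := fun u =>
  ⟨mkQ hn1 hκ 0 (Multiplicative.toAdd u), chiQ_mkQ hn1 hκ 0 _⟩

theorem mkQ_comm (t t' : ZMod 2) (u v : II n) :
    mkQ hn1 hκ t u * mkQ hn1 hκ t' v =
      mkQ hn1 hκ (pair u v) 0 * (mkQ hn1 hκ t' v * mkQ hn1 hκ t u) := by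
  rw [mkQ_mul, mkQ_mul, mkQ_mul]
  congr 1
  · simp only [pair, Prod.fst_zero, zero_dotProduct, add_zero]
    have h := zmod2_add_self (v.1 ⬝ᵥ u.2)
    linear_combination -h
  · rw [zero_add, add_comm]

theorem mem_center_mkQ_iff (t : ZMod 2) (u : II n) :
    mkQ hn1 hκ t u ∈ Subgroup.center (piHom hκ).ker ↔ u = 0 := by
  rw [Subgroup.mem_center_iff]
  constructor
  · intro h
    apply pair_eq_zero_imp
    intro v
    have h1 := h (mkQ hn1 hκ 0 v)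
    rw [mkQ_comm hn1 hκ 0 t v u] at h1
    have h2 : mkQ hn1 hκ (pair v u) 0 = 1 := by
      have h3 : mkQ hn1 hκ (pair v u) 0 * (mkQ hn1 hκ t u * mkQ hn1 hκ 0 v) =
          1 * (mkQ hn1 hκ t u * mkQ hn1 hκ 0 v) := by rw [one_mul]; exact h1
      exact mul_right_cancel h3
    have h3 := ((mkQ_eq_one_iff hn1 hκ _ _).mp h2).1
    rw [pair, add_comm] at h3
    exact h3
  · intro hu b
    subst hu
    obtain ⟨p, rfl⟩ := exists_mkQ hn1 hκ b
    rw [mkQ_mul, mkQ_mul]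
    congr 1
    · simp only [Prod.fst_zero, Prod.snd_zero, zero_dotProduct, dotProduct_zero]; ring
    · rw [add_comm]

theorem mem_center_QQ_iff (a : (piHom hκ).ker) :
    a ∈ Subgroup.center (piHom hκ).ker ↔ (idxQ hn1 hκ a).2 = 0 := by
  conv_lhs => rw [← mkQ_idxQ hn1 hκ a]
  exact mem_center_mkQ_iff hn1 hκ _ _

theorem ker_chiQ : (chiQ hn1 hκ).ker = Subgroup.center (piHom hκ).ker := by
  ext a
  rw [MonoidHom.mem_ker, mem_center_QQ_iff hn1 hκ]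
  change Multiplicative.ofAdd (idxQ hn1 hκ a).2 = 1 ↔ _
  exact Iff.rfl

end kernel

section kernel2

variable {K : Type*} [Group K] {κ : K →* (II n ≃ₗ[ZMod 2] II n)} (hn1 : 1 ≤ n)
  (hκ : Function.Injective κ)

include hn1

theorem mkQ_sq (t : ZMod 2) (u : II n) :
    mkQ hn1 hκ t u * mkQ hn1 hκ t u = mkQ hn1 hκ (qq u) 0 := by
  rw [mkQ_mul, ii_add_self]
  congr 1
  rw [← qq]
  have h := zmod2_add_self t
  linear_combination h

theorem sq_eq_one_iff (a : (piHom hκ).ker) :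
    a * a = 1 ↔ qq (Multiplicative.toAdd (chiQ hn1 hκ a)) = 0 := by
  obtain ⟨p, rfl⟩ := exists_mkQ hn1 hκ a
  rw [mkQ_sq, chiQ_mkQ, mkQ_eq_one_iff]
  simp

theorem finite_QQ : Finite (piHom hκ).ker :=
  Nat.finite_of_card_ne_zero (by rw [card_QQ hn1 hκ]; positivity)

theorem isExtraspecial_QQ : Cfsg.IsExtraspecial 2 (piHom hκ).ker := by
  classical
  have : Finite (piHom hκ).ker := finite_QQ hn1 hκ
  have h10 : (1 : ZMod 2) ≠ 0 := by decide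
  have hz : ∀ c : ZMod 2, mkQ hn1 hκ c 0 = 1 ∨ mkQ hn1 hκ c 0 = mkQ hn1 hκ 1 0 := by
    intro c
    rcases zmod2_cases c with rfl | rfl
    · left; exact mkQ_one hn1 hκ
    · right; rfl
  refine Cfsg.Agent.Lib.Helper90.isExtraspecial_two_of
    (IsPGroup.of_card (n := 2 * n + 1) (card_QQ hn1 hκ)) (mkQ hn1 hκ 1 0) ?_ ?_ ?_ ?_ ?_
  · intro h
    exact h10 ((mkQ_eq_one_iff hn1 hκ _ _).mp h).1
  · intro a
    obtain ⟨p, rfl⟩ := exists_mkQ hn1 hκ a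
    rw [mem_center_mkQ_iff]
    constructor
    · intro hu
      rw [hu]; exact hz p.1
    · rintro (h | h)
      · exact ((mkQ_eq_one_iff hn1 hκ _ _).mp h).2
      · exact (mkQ_inj hn1 hκ h).2
  · intro a b
    obtain ⟨p, rfl⟩ := exists_mkQ hn1 hκ a
    obtain ⟨p', rfl⟩ := exists_mkQ hn1 hκ b
    have h1 : mkQ hn1 hκ p.1 p.2 * mkQ hn1 hκ p'.1 p'.2 * (mkQ hn1 hκ p.1 p.2)⁻¹ *
        (mkQ hn1 hκ p'.1 p'.2)⁻¹ = mkQ hn1 hκ (pair p.2 p'.2) 0 := by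
      rw [mkQ_comm hn1 hκ p.1 p'.1 p.2 p'.2]
      group
    rw [h1]; exact hz _
  · intro a
    obtain ⟨p, rfl⟩ := exists_mkQ hn1 hκ a
    rw [mkQ_sq]; exact hz _
  · have hpos : 0 < n := hn1
    refine ⟨mkQ hn1 hκ 0 (Pi.single ⟨0, hpos⟩ 1, 0), mkQ hn1 hκ 0 (0, Pi.single ⟨0, hpos⟩ 1), ?_⟩
    intro h
    rw [mkQ_mul, mkQ_mul] at h
    have h2 := (mkQ_inj hn1 hκ h).1
    simp only [add_zero, dotProduct_single, zero_dotProduct, Pi.single_eq_same, mul_one] at h2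
    exact h10 h2

end kernel2

end Cfsg.Agent.Lib.Helper3.ES
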