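import Mathlib

/-!
# Sums of invariant functions modulo `p` (helper3)

If `τ` is a permutation of a finite type with `τ ^ p ^ n = 1` and `F` is a `τ`-invariant function with
values in `ZMod p`, then `∑ a, F a` equals the sum over the fixed points of `τ`.
-/

set_option autoImplicit false

namespace Cfsg.Agent.Lib.Helper3.FixedSum

open Finset

variable {α : Type*} [DecidableEq α]

/-- For a `τ`-invariant finset `S`, `|S| ≡ |S ∩ Fix τ| (mod p)` when `τ ^ p ^ n = 1`. -/
theorem card_modEq_card_filter_fixed [Fintype α] {p n : ℕ} [hp : Fact p.Prime] (τ : Equiv.Perm α)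
    (hτ : τ ^ p ^ n = 1) (S : Finset α) (hS : ∀ a, a ∈ S ↔ τ a ∈ S) :
    S.card ≡ (S.filter (fun a => τ a = a)).card [MOD p] := by
  classical
  -- the permutation acting as `τ` on `S` and trivially outside
  have hS' : ∀ a, τ a ∈ S ↔ a ∈ S := fun a => (hS a).symm
  set σ : Equiv.Perm α := Equiv.Perm.ofSubtype (τ.subtypePerm hS') with hσ
  have hσpow : σ ^ p ^ n = 1 := by
    have h1 : (τ.subtypePerm hS') ^ p ^ n = 1 := by
      ext a
      simp [Equiv.Perm.subtypePerm_pow, hτ]
    rw [hσ, ← map_pow, h1, map_one]
  have h1 := Equiv.Perm.card_compl_support_modEq (p := p) (n := n) hσpow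
  -- the complement of the support of `σ`
  have hcompl : (Equiv.Perm.support σ)ᶜ = Sᶜ ∪ S.filter (fun a => τ a = a) := by
    ext a
    simp only [mem_compl, Equiv.Perm.mem_support, not_not, mem_union, mem_filter]
    by_cases ha : a ∈ S
    · have : σ a = τ a := by
        rw [hσ, Equiv.Perm.ofSubtype_apply_of_mem _ ha]
        rfl
      rw [this]
      constructor
      · intro h; exact Or.inr ⟨ha, h⟩
      · rintro (h | h)
        · exact absurd ha h
        · exact h.2
    · have : σ a = a := by
        rw [hσ, Equiv.Perm.ofSubtype_apply_of_not_mem _ ha]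
      rw [this]
      constructor
      · intro _; exact Or.inl ha
      · intro _; rfl
  have hdisj : Disjoint Sᶜ (S.filter (fun a => τ a = a)) := by
    rw [disjoint_left]
    intro a ha hb
    exact (mem_compl.mp ha) (mem_filter.mp hb).1
  rw [hcompl, card_union_of_disjoint hdisj] at h1
  have h2 : Fintype.card α = Sᶜ.card + S.card := by
    rw [card_compl, Nat.sub_add_cancel (card_le_univ S)]
  rw [h2] at h1
  exact (Nat.ModEq.add_left_cancel' _ h1).symm

/-- Sum of a `τ`-invariant `ZMod p`-valued function equals the sum over the fixed points. -/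
theorem sum_eq_sum_fixed [Fintype α] {p n : ℕ} [hp : Fact p.Prime] (τ : Equiv.Perm α)
    (hτ : τ ^ p ^ n = 1) (F : α → ZMod p) (hF : ∀ a, F (τ a) = F a) :
    ∑ a, F a = ∑ a ∈ univ.filter (fun a => τ a = a), F a := by
  classical
  rw [← sum_fiberwise univ F F, ← sum_fiberwise (univ.filter (fun a => τ a = a)) F F]
  apply sum_congr rfl
  intro z _
  have e1 : ∑ a ∈ univ.filter (fun a => F a = z), F a = ((univ.filter (fun a => F a = z)).card : ZMod p) * z := by
    rw [sum_congr rfl (fun a ha => (mem_filter.mp ha).2), sum_const, nsmul_eq_mul]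
  have e2 : ∑ a ∈ (univ.filter (fun a => τ a = a)).filter (fun a => F a = z), F a =
      (((univ.filter (fun a => τ a = a)).filter (fun a => F a = z)).card : ZMod p) * z := by
    rw [sum_congr rfl (fun a ha => (mem_filter.mp ha).2), sum_const, nsmul_eq_mul]
  rw [e1, e2]
  congr 1
  have hS : ∀ a, a ∈ univ.filter (fun a => F a = z) ↔ τ a ∈ univ.filter (fun a => F a = z) := by
    intro a
    simp only [mem_filter, mem_univ, true_and, hF]
  have h := card_modEq_card_filter_fixed (p := p) (n := n) τ hτ _ hS
  rw [(ZMod.natCast_eq_natCast_iff _ _ _).2 h]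
  have hset : (univ.filter (fun a => F a = z)).filter (fun a => τ a = a) =
      (univ.filter (fun a => τ a = a)).filter (fun a => F a = z) := by
    ext a
    simp only [mem_filter, mem_univ, true_and]
    tauto
  rw [hset]

end Cfsg.Agent.Lib.Helper3.FixedSum
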