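import Mathlib
import Cfsg.Prelude.Def_Characters
import Cfsg.Agent.Lib.Helper3.Integrality

/-!
# Integrality in the Hecke algebra of `H ≤ G` (helper3)

For a representation `ρ` of `G`, and an integer valued function `v` on `G` which is constant on the
`(H, H)`-double cosets, the operator `|H|⁻¹ ∑ v(g) ρ(g)` is integral over `ℤ`, hence so is its
trace `|H|⁻¹ ∑ v(g) χ(g)`.
-/

set_option autoImplicit false

namespace Cfsg.Agent.Lib.Helper3.Hecke

open Cfsg Cfsg.Agent.Lib.Helper3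

universe u v

variable {G : Type u} [Group G] [Fintype G] (H : Subgroup G)

/-- integer functions constant on `(H,H)`-double cosets -/
def biInv : Submodule ℤ (G → ℤ) where
  carrier := {v | ∀ h₁ ∈ H, ∀ h₂ ∈ H, ∀ g, v (h₁ * g * h₂) = v g}
  add_mem' := by
    intro v w hv hw h₁ hh₁ h₂ hh₂ g
    simp only [Pi.add_apply]
    rw [hv h₁ hh₁ h₂ hh₂ g, hw h₁ hh₁ h₂ hh₂ g]
  zero_mem' := by
    intro h₁ _ h₂ _ g
    rfl
  smul_mem' := by
    intro c v hv h₁ hh₁ h₂ hh₂ g
    simp only [Pi.smul_apply]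
    rw [hv h₁ hh₁ h₂ hh₂ g]

theorem mem_biInv {v : G → ℤ} :
    v ∈ biInv H ↔ ∀ h₁ ∈ H, ∀ h₂ ∈ H, ∀ g, v (h₁ * g * h₂) = v g := Iff.rfl

theorem biInv_right {v : G → ℤ} (hv : v ∈ biInv H) (g : G) {h : G} (hh : h ∈ H) :
    v (g * h) = v g := by
  have := hv 1 H.one_mem h hh g
  rwa [one_mul] at this

theorem biInv_left {v : G → ℤ} (hv : v ∈ biInv H) (g : G) {h : G} (hh : h ∈ H) :
    v (h * g) = v g := by
  have := hv h hh 1 H.one_mem g
  rwa [mul_one] at this

/-- the sum of a right `H`-invariant function is divisible by `|H|` -/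
theorem sum_right_inv (F : G → ℤ) (hF : ∀ g, ∀ h ∈ H, F (g * h) = F g) :
    ∃ z : ℤ, ∑ g, F g = (Nat.card H : ℤ) * z := by
  classical
  haveI : Fintype H := Fintype.ofFinite H
  obtain ⟨S, hS, -⟩ := Subgroup.exists_isComplement_left H (1 : G)
  haveI : Fintype S := Fintype.ofFinite S
  let e : S × H ≃ G := Equiv.ofBijective _ hS
  refine ⟨∑ s : S, F (s : G), ?_⟩
  rw [← Fintype.sum_equiv e (fun p => F (e p)) F (fun p => rfl), Fintype.sum_prod_type,
    Finset.mul_sum]
  refine Finset.sum_congr rfl fun s _ => ?_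
  have : ∀ h : H, F (e (s, h)) = F (s : G) := by
    intro h
    have h1 : e (s, h) = (s : G) * (h : G) := rfl
    rw [h1, hF _ _ h.2]
  rw [Finset.sum_congr rfl fun h _ => this h, Finset.sum_const, Finset.card_univ, nsmul_eq_mul,
    Nat.card_eq_fintype_card]

/-- convolution of bi-invariant functions, divided by `|H|` -/
theorem exists_conv {v w : G → ℤ} (hv : v ∈ biInv H) (hw : w ∈ biInv H) :
    ∃ u ∈ biInv H, ∀ k, (Nat.card H : ℤ) * u k = ∑ g, v g * w (g⁻¹ * k) := by
  have hdiv : ∀ k, ∃ z : ℤ, ∑ g, v g * w (g⁻¹ * k) = (Nat.card H : ℤ) * z := by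
    intro k
    apply sum_right_inv H
    intro g h hh
    rw [biInv_right H hv g hh]
    congr 1
    have : (g * h)⁻¹ * k = h⁻¹ * (g⁻¹ * k) := by group
    rw [this, biInv_left H hw _ (H.inv_mem hh)]
  choose u hu using hdiv
  refine ⟨u, ?_, fun k => (hu k).symm⟩
  intro h₁ hh₁ h₂ hh₂ k
  have hpos : (Nat.card H : ℤ) ≠ 0 := by
    have : 0 < Nat.card H := Nat.card_pos
    exact_mod_cast this.ne'
  apply mul_left_cancel₀ hpos
  rw [← hu, ← hu]
  apply Fintype.sum_equiv (Equiv.mulLeft h₁⁻¹)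
  intro g
  simp only [Equiv.coe_mulLeft]
  rw [biInv_left H hv _ (H.inv_mem hh₁)]
  congr 1
  have : (h₁⁻¹ * g)⁻¹ * k = g⁻¹ * (h₁ * k) := by group
  have h2 : g⁻¹ * (h₁ * k * h₂) = (g⁻¹ * (h₁ * k)) * h₂ := by group
  rw [this, h2, biInv_right H hw _ hh₂]

section rep

variable {V : Type v} [AddCommGroup V] [Module ℂ V] (ρ : Representation ℂ G V)

/-- the Hecke operator attached to `v` -/
noncomputable def heckeOp (v : G → ℤ) : Module.End ℂ V :=
  (Nat.card H : ℂ)⁻¹ • ∑ g, (v g : ℂ) • ρ g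

/-- `heckeOp` as a `ℤ`-linear map -/
noncomputable def heckeLin : (G → ℤ) →ₗ[ℤ] Module.End ℂ V where
  toFun := heckeOp H ρ
  map_add' := by
    intro v w
    unfold heckeOp
    rw [← smul_add, ← Finset.sum_add_distrib]
    congr 1
    refine Finset.sum_congr rfl fun g _ => ?_
    simp only [Pi.add_apply]
    push_cast
    rw [add_smul]
  map_smul' := by
    intro c v
    show (Nat.card H : ℂ)⁻¹ • ∑ g, (((c • v) g : ℤ) : ℂ) • ρ g =
      c • ((Nat.card H : ℂ)⁻¹ • ∑ g, (v g : ℂ) • ρ g)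
    have h0 : c • ((Nat.card H : ℂ)⁻¹ • ∑ g, (v g : ℂ) • ρ g) =
        (c : ℂ) • ((Nat.card H : ℂ)⁻¹ • ∑ g, (v g : ℂ) • ρ g) :=
      (Int.cast_smul_eq_zsmul ℂ c _).symm
    rw [h0, smul_comm]
    congr 1
    rw [Finset.smul_sum]
    refine Finset.sum_congr rfl fun g _ => ?_
    rw [smul_smul]
    congr 1
    simp

theorem heckeOp_mul {v w u : G → ℤ}
    (hu : ∀ k, (Nat.card H : ℤ) * u k = ∑ g, v g * w (g⁻¹ * k)) :
    heckeOp H ρ v * heckeOp H ρ w = heckeOp H ρ u := by
  unfold heckeOp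
  have hH : (Nat.card H : ℂ) ≠ 0 := by
    have : 0 < Nat.card H := Nat.card_pos
    exact_mod_cast this.ne'
  rw [smul_mul_smul_comm, Finset.sum_mul]
  have h1 : ∀ g : G, ((v g : ℂ) • ρ g) * ∑ g', (w g' : ℂ) • ρ g' =
      ∑ k, ((v g * w (g⁻¹ * k) : ℤ) : ℂ) • ρ k := by
    intro g
    rw [Finset.mul_sum]
    apply Fintype.sum_equiv (Equiv.mulLeft g)
    intro g'
    simp only [Equiv.coe_mulLeft, inv_mul_cancel_left]
    rw [smul_mul_smul_comm, map_mul]
    push_cast
    rfl
  rw [Finset.sum_congr rfl fun g _ => h1 g, Finset.sum_comm]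
  have h2 : ∀ k : G, ∑ g, ((v g * w (g⁻¹ * k) : ℤ) : ℂ) • ρ k =
      ((Nat.card H : ℂ) * (u k : ℂ)) • ρ k := by
    intro k
    rw [← Finset.sum_smul]
    congr 1
    have := congrArg (Int.cast (R := ℂ)) (hu k)
    push_cast at this ⊢
    exact this.symm
  rw [Finset.sum_congr rfl fun k _ => h2 k]
  have h3 : ∑ k, ((Nat.card H : ℂ) * (u k : ℂ)) • ρ k =
      (Nat.card H : ℂ) • ∑ k, (u k : ℂ) • ρ k := by
    rw [Finset.smul_sum]
    refine Finset.sum_congr rfl fun k _ => ?_
    rw [mul_smul]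
  rw [h3, smul_smul]
  congr 1
  field_simp

/-- Hecke operators of bi-invariant integer functions are integral over `ℤ`. -/
theorem isIntegral_heckeOp {v : G → ℤ} (hv : v ∈ biInv H) : IsIntegral ℤ (heckeOp H ρ v) := by
  let N : Submodule ℤ (Module.End ℂ V) := (biInv H).map (heckeLin H ρ) ⊔ Submodule.span ℤ {1}
  have hone : (1 : Module.End ℂ V) ∈ N :=
    Submodule.mem_sup_right (Submodule.subset_span rfl)
  have hmemN : ∀ w ∈ biInv H, heckeOp H ρ w ∈ N := fun w hw =>
    Submodule.mem_sup_left (Submodule.mem_map.mpr ⟨w, hw, rfl⟩)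
  have hmul : ∀ x y, x ∈ N → y ∈ N → x * y ∈ N := by
    intro x y hx hy
    obtain ⟨x1, hx1, x2, hx2, rfl⟩ := Submodule.mem_sup.mp hx
    obtain ⟨y1, hy1, y2, hy2, rfl⟩ := Submodule.mem_sup.mp hy
    obtain ⟨v1, hv1, rfl⟩ := Submodule.mem_map.mp hx1
    obtain ⟨w1, hw1, rfl⟩ := Submodule.mem_map.mp hy1
    obtain ⟨n, rfl⟩ := Submodule.mem_span_singleton.mp hx2
    obtain ⟨m, rfl⟩ := Submodule.mem_span_singleton.mp hy2
    obtain ⟨u, hu, hu2⟩ := exists_conv H hv1 hw1
    have e1 : heckeLin H ρ v1 * heckeLin H ρ w1 = heckeOp H ρ u := heckeOp_mul H ρ hu2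
    rw [add_mul, mul_add, mul_add, e1]
    apply N.add_mem
    · apply N.add_mem (hmemN u hu)
      rw [mul_smul_comm, mul_one]
      exact N.smul_mem m (hmemN v1 hv1)
    · apply N.add_mem
      · rw [smul_mul_assoc, one_mul]
        exact N.smul_mem n (hmemN w1 hw1)
      · rw [smul_mul_smul_comm, one_mul]
        exact N.smul_mem _ hone
  let S : Subalgebra ℤ (Module.End ℂ V) := N.toSubalgebra hone hmul
  have hfg : S.toSubmodule.FG := by
    have h1 : S.toSubmodule = N := Submodule.toSubalgebra_toSubmodule N hone hmul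
    rw [h1]
    apply Submodule.FG.sup
    · apply Submodule.FG.map
      exact IsNoetherian.noetherian _
    · exact Submodule.fg_span_singleton _
  exact IsIntegral.of_mem_of_fg S hfg _ (hmemN v hv)

variable [FiniteDimensional ℂ V]

theorem trace_heckeOp (v : G → ℤ) :
    LinearMap.trace ℂ V (heckeOp H ρ v) =
      (Nat.card H : ℂ)⁻¹ * ∑ g, (v g : ℂ) * ρ.character g := by
  unfold heckeOp
  rw [map_smul, map_sum, smul_eq_mul]
  congr 1
  refine Finset.sum_congr rfl fun g _ => ?_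
  rw [map_smul, smul_eq_mul]
  rfl

omit [Fintype G] in
/-- the trace of an integral endomorphism is integral -/
theorem isIntegral_trace_of_isIntegral (T : Module.End ℂ V) (hT : IsIntegral ℤ T) :
    IsIntegral ℤ (LinearMap.trace ℂ V T) := by
  have hsplit : T.charpoly.Splits := IsAlgClosed.splits _
  rw [Module.End.trace_eq_sum_roots_charpoly_of_splits hsplit]
  apply IsIntegral.multiset_sum
  intro μ hμ
  have hroot : T.charpoly.IsRoot μ := by
    rw [Polynomial.mem_roots (LinearMap.charpoly_monic T).ne_zero] at hμ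
    exact hμ
  have hev : T.HasEigenvalue μ := (Module.End.hasEigenvalue_iff_isRoot_charpoly T μ).mpr hroot
  obtain ⟨x, hx⟩ := hev.exists_hasEigenvector
  obtain ⟨p, hpm, hp⟩ := hT
  refine ⟨p, hpm, ?_⟩
  have h1 : Polynomial.aeval T (p.map (algebraMap ℤ ℂ)) = 0 := by
    rw [Polynomial.aeval_map_algebraMap]
    rw [← Polynomial.aeval_def] at hp
    exact hp
  have h2 := Module.End.aeval_apply_of_hasEigenvector hx (p := p.map (algebraMap ℤ ℂ))
  rw [h1, LinearMap.zero_apply] at h2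
  have h3 : (p.map (algebraMap ℤ ℂ)).eval μ = 0 := by
    by_contra hne
    exact hx.2 ((smul_eq_zero.mp h2.symm).resolve_left hne)
  rw [Polynomial.eval_map] at h3
  exact h3

theorem isIntegral_sum_biInv {v : G → ℤ} (hv : v ∈ biInv H) :
    IsIntegral ℤ ((Nat.card H : ℂ)⁻¹ * ∑ g, (v g : ℂ) * ρ.character g) := by
  rw [← trace_heckeOp]
  exact isIntegral_trace_of_isIntegral _ (isIntegral_heckeOp H ρ hv)

open Classical in
/-- the indicator of `H` -/
noncomputable def indH : G → ℤ := fun g => if g ∈ H then 1 else 0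

theorem indH_mem : indH H ∈ biInv H := by
  classical
  intro h₁ hh₁ h₂ hh₂ g
  unfold indH
  have : h₁ * g * h₂ ∈ H ↔ g ∈ H := by
    constructor
    · intro h
      have : g = h₁⁻¹ * (h₁ * g * h₂) * h₂⁻¹ := by group
      rw [this]
      exact H.mul_mem (H.mul_mem (H.inv_mem hh₁) h) (H.inv_mem hh₂)
    · intro h
      exact H.mul_mem (H.mul_mem hh₁ h) hh₂
  by_cases hg : g ∈ H
  · rw [if_pos hg, if_pos (this.mpr hg)]
  · rw [if_neg hg, if_neg (fun h => hg (this.mp h))]

/-- `v * 1_H = |H| v` for right-invariant `v` -/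
theorem conv_indH {v : G → ℤ} (hv : v ∈ biInv H) (k : G) :
    (Nat.card H : ℤ) * v k = ∑ g, v g * indH H (g⁻¹ * k) := by
  classical
  haveI : Fintype H := Fintype.ofFinite H
  unfold indH
  simp only [mul_ite, mul_one, mul_zero]
  rw [← Finset.sum_filter]
  have h1 : ∀ g ∈ Finset.univ.filter (fun g : G => g⁻¹ * k ∈ H), v g = v k := by
    intro g hg
    rw [Finset.mem_filter] at hg
    have : k = g * (g⁻¹ * k) := by group
    rw [this, biInv_right H hv g hg.2]
  rw [Finset.sum_congr rfl h1, Finset.sum_const, nsmul_eq_mul]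
  congr 1
  have h2 : (Finset.univ.filter (fun g : G => g⁻¹ * k ∈ H)).card = Nat.card H := by
    rw [Nat.card_eq_fintype_card, ← Finset.card_univ]
    symm
    apply Finset.card_bij (fun (h : H) _ => k * (h : G)⁻¹)
    · intro h _
      rw [Finset.mem_filter]
      refine ⟨Finset.mem_univ _, ?_⟩
      have : (k * (h : G)⁻¹)⁻¹ * k = h := by group
      rw [this]; exact h.2
    · intro h _ h' _ he
      have := mul_left_cancel he
      exact Subtype.ext (inv_injective this)
    · intro g hg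
      rw [Finset.mem_filter] at hg
      refine ⟨⟨g⁻¹ * k, hg.2⟩, Finset.mem_univ _, ?_⟩
      show k * (g⁻¹ * k)⁻¹ = g
      group
  rw [h2]

/-- if `∑_{h ∈ H} χ(h) = 0` then `∑ v(g) χ(g) = 0` for bi-invariant `v` -/
theorem sum_biInv_eq_zero (hχ : ∑ g, (indH H g : ℂ) * ρ.character g = 0) {v : G → ℤ}
    (hv : v ∈ biInv H) : ∑ g, (v g : ℂ) * ρ.character g = 0 := by
  have hH : (Nat.card H : ℂ) ≠ 0 := by
    have : 0 < Nat.card H := Nat.card_pos
    exact_mod_cast this.ne'
  -- E = heckeOp 1_H is idempotent of trace zero hence zero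
  have hE : IsIdempotentElem (heckeOp H ρ (indH H)) :=
    heckeOp_mul H ρ (fun k => conv_indH H (indH_mem H) k)
  have htr : LinearMap.trace ℂ V (heckeOp H ρ (indH H)) = 0 := by
    rw [trace_heckeOp, hχ, mul_zero]
  have hzero : heckeOp H ρ (indH H) = 0 := by
    have hproj := LinearMap.IsIdempotentElem.isProj_range _ hE
    have h1 := hproj.trace
    rw [htr] at h1
    have h2 : Module.finrank ℂ (LinearMap.range (heckeOp H ρ (indH H))) = 0 := by
      exact_mod_cast h1.symm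
    have h3 : LinearMap.range (heckeOp H ρ (indH H)) = ⊥ := Submodule.finrank_eq_zero.mp h2
    exact LinearMap.range_eq_bot.mp h3
  have h4 : heckeOp H ρ v = heckeOp H ρ v * heckeOp H ρ (indH H) :=
    (heckeOp_mul H ρ (fun k => conv_indH H hv k)).symm
  rw [hzero, mul_zero] at h4
  have h5 := trace_heckeOp H ρ v
  rw [h4, map_zero] at h5
  have := (mul_eq_zero.mp h5.symm).resolve_left (inv_ne_zero hH)
  exact this

end rep

end Cfsg.Agent.Lib.Helper3.Hecke
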