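import Mathlib

/-!
# Representations of finite groups over an arbitrary field of good characteristic (helper3)

* `IsCharOver k G ψ`, `IsIrrCharOver k G ψ` : `ψ : G → k` is the character of a (irreducible)
  representation on a coordinate space `Fin n → k`;
* `character_mem_closure` : every character is a sum of irreducible characters (Maschke);
* `irrCharOver_orth`, `irrCharOver_norm` : orthogonality relations over `k`.
-/

set_option autoImplicit false

namespace Cfsg.Agent.Lib.Helper3

open Representation Module

universe u v w

section basic

variable {k : Type*} [Field k] {G : Type u} [Group G]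

/-- `ψ` is the character of a representation of `G` over `k` -/
def IsCharOver (k : Type*) [Field k] (G : Type u) [Group G] (ψ : G → k) : Prop :=
  ∃ (n : ℕ) (ρ : Representation k G (Fin n → k)), ρ.character = ψ

/-- `ψ` is the character of an irreducible representation of `G` over `k` -/
def IsIrrCharOver (k : Type*) [Field k] (G : Type u) [Group G] (ψ : G → k) : Prop :=
  ∃ (n : ℕ) (ρ : Representation k G (Fin n → k)), ρ.IsIrreducible ∧ ρ.character = ψ

/-- transport of a representation along a linear equivalence -/
noncomputable def transportRepField {V : Type v} {W : Type w} [AddCommGroup V] [Module k V]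
    [AddCommGroup W] [Module k W] (ρ : Representation k G V) (e : V ≃ₗ[k] W) :
    Representation k G W :=
  (e.conjAlgEquiv k).toAlgHom.toRingHom.toMonoidHom.comp ρ

theorem transportRepField_apply {V : Type v} {W : Type w} [AddCommGroup V] [Module k V]
    [AddCommGroup W] [Module k W] (ρ : Representation k G V) (e : V ≃ₗ[k] W) (g : G) :
    transportRepField ρ e g = e.toLinearMap ∘ₗ ρ g ∘ₗ e.symm.toLinearMap := rfl

/-- the transported representation is equivalent to the original one -/
noncomputable def transportEquivField {V : Type v} {W : Type w} [AddCommGroup V] [Module k V]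
    [AddCommGroup W] [Module k W] (ρ : Representation k G V) (e : V ≃ₗ[k] W) :
    Representation.Equiv ρ (transportRepField ρ e) :=
  Representation.Equiv.mk e (fun g => by
    ext x
    simp [transportRepField_apply])

theorem isIrreducible_of_equiv_field {V : Type v} {W : Type w} [AddCommGroup V] [Module k V]
    [AddCommGroup W] [Module k W] {ρ : Representation k G V} {σ : Representation k G W}
    (φ : Representation.Equiv ρ σ) (h : ρ.IsIrreducible) : σ.IsIrreducible := by
  rw [irreducible_iff_isSimpleModule_asModule] at h ⊢
  let f := IntertwiningMap.equivLinearMapAsModule σ ρ φ.symm.toIntertwiningMap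
  have hf : Function.Bijective f := φ.symm.bijective
  exact IsSimpleModule.congr (LinearEquiv.ofBijective f hf)

theorem isCharOver_character {V : Type v} [AddCommGroup V] [Module k V] [FiniteDimensional k V]
    (ρ : Representation k G V) : IsCharOver k G ρ.character := by
  refine ⟨finrank k V, transportRepField ρ (Module.finBasis k V).equivFun, ?_⟩
  exact (char_iso (transportEquivField ρ (Module.finBasis k V).equivFun)).symm

theorem isIrrCharOver_character {V : Type v} [AddCommGroup V] [Module k V] [FiniteDimensional k V]
    (ρ : Representation k G V) (h : ρ.IsIrreducible) : IsIrrCharOver k G ρ.character := by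
  refine ⟨finrank k V, transportRepField ρ (Module.finBasis k V).equivFun, ?_, ?_⟩
  · exact isIrreducible_of_equiv_field (transportEquivField ρ (Module.finBasis k V).equivFun) h
  · exact (char_iso (transportEquivField ρ (Module.finBasis k V).equivFun)).symm

theorem IsIrrCharOver.isCharOver {ψ : G → k} (h : IsIrrCharOver k G ψ) : IsCharOver k G ψ := by
  obtain ⟨n, ρ, -, rfl⟩ := h
  exact ⟨n, ρ, rfl⟩

end basic

section maschke

variable {k : Type*} [Field k] {G : Type u} [Group G]

theorem isCompl_toSubmodule_field {V : Type v} [AddCommGroup V] [Module k V]
    {ρ : Representation k G V} {S S' : Subrepresentation ρ}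
    (h : IsCompl S S') : IsCompl S.toSubmodule S'.toSubmodule := by
  constructor
  · rw [disjoint_iff]
    exact congrArg Subrepresentation.toSubmodule h.inf_eq_bot
  · rw [codisjoint_iff]
    exact congrArg Subrepresentation.toSubmodule h.sup_eq_top

/-- A representation is the product of complementary subrepresentations. -/
noncomputable def prodEquivOfIsComplField {V : Type v} [AddCommGroup V] [Module k V]
    {ρ : Representation k G V} {S S' : Subrepresentation ρ}
    (h : IsCompl S S') :
    Representation.Equiv (S.toRepresentation.prod S'.toRepresentation) ρ :=
  Representation.Equiv.mk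
    (Submodule.prodEquivOfIsCompl S.toSubmodule S'.toSubmodule (isCompl_toSubmodule_field h))
    (fun g => by
      ext x <;> simp [Subrepresentation.toRepresentation])

theorem character_of_isCompl {V : Type v} [AddCommGroup V] [Module k V] [FiniteDimensional k V]
    {ρ : Representation k G V} {S S' : Subrepresentation ρ} (h : IsCompl S S') :
    ρ.character = S.toRepresentation.character + S'.toRepresentation.character := by
  rw [← char_iso (prodEquivOfIsComplField h)]
  funext g
  simp only [Representation.character, Pi.add_apply]
  exact LinearMap.trace_prodMap' _ _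

theorem nontrivial_of_isIrreducible {V : Type v} [AddCommGroup V] [Module k V]
    (ρ : Representation k G V) (hρ : ρ.IsIrreducible) : Nontrivial V := by
  have : Nontrivial (Subrepresentation ρ) := hρ.toNontrivial
  by_contra hV
  rw [not_nontrivial_iff_subsingleton] at hV
  obtain ⟨a, b, hab⟩ := this.exists_pair_ne
  apply hab
  apply Subrepresentation.toSubmodule_injective
  ext x
  simp [Subsingleton.elim x 0]

variable [Finite G] [NeZero (Nat.card G : k)]

/-- **Maschke**: every character over `k` is a sum of irreducible characters over `k` -/
theorem character_mem_closure : ∀ (n : ℕ) {V : Type v} [AddCommGroup V] [Module k V]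
    [FiniteDimensional k V] (ρ : Representation k G V), finrank k V = n →
    ρ.character ∈ AddSubmonoid.closure {ψ | IsIrrCharOver k G ψ} := by
  intro n
  induction n using Nat.strong_induction_on with
  | _ n ih =>
    intro V _ _ _ ρ hn
    by_cases hV : Subsingleton V
    · have : ρ.character = 0 := by
        funext g
        simp only [Representation.character, Pi.zero_apply]
        rw [Subsingleton.elim (ρ g) 0, map_zero]
      rw [this]
      exact zero_mem _
    · rw [not_subsingleton_iff_nontrivial] at hV
      by_cases hirr : ρ.IsIrreducible
      · exact AddSubmonoid.subset_closure (isIrrCharOver_character ρ hirr)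
      · have hex : ∃ S : Subrepresentation ρ, S ≠ ⊥ ∧ S ≠ ⊤ := by
          by_contra hcon
          push Not at hcon
          apply hirr
          have hnt : Nontrivial (Subrepresentation ρ) := by
            refine ⟨⊥, ⊤, ?_⟩
            intro hbt
            have h1 := congrArg Subrepresentation.toSubmodule hbt
            obtain ⟨x, hx⟩ := exists_ne (0 : V)
            have h2 : x ∈ (⊤ : Subrepresentation ρ).toSubmodule := trivial
            rw [← h1] at h2
            exact hx h2
          exact { exists_pair_ne := hnt.exists_pair_ne
                  eq_bot_or_eq_top := fun S => by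
                    by_cases hS : S = ⊥
                    · exact Or.inl hS
                    · exact Or.inr (hcon S hS) }
        obtain ⟨S, hSbot, hStop⟩ := hex
        obtain ⟨S', hS'⟩ := exists_isCompl S
        have hS'top : S' ≠ ⊤ := by
          intro h
          apply hSbot
          have := hS'.inf_eq_bot
          rw [h, inf_top_eq] at this
          exact this
        have hlt : ∀ T : Subrepresentation ρ, T ≠ ⊤ → finrank k T.toSubmodule < n := by
          intro T hT
          rw [← hn]
          apply Submodule.finrank_lt
          intro h
          apply hT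
          apply Subrepresentation.toSubmodule_injective
          exact h
        rw [character_of_isCompl hS']
        exact add_mem (ih _ (hlt S hStop) S.toRepresentation rfl)
          (ih _ (hlt S' hS'top) S'.toRepresentation rfl)

end maschke

section orth

variable {k : Type*} [Field k] {G : Type u} [Group G] [Fintype G] [Invertible (Nat.card G : k)]

theorem irrCharOver_orth {ψ₁ ψ₂ : G → k} (h₁ : IsIrrCharOver k G ψ₁) (h₂ : IsIrrCharOver k G ψ₂)
    (hne : ψ₁ ≠ ψ₂) : (Nat.card G : k)⁻¹ * ∑ g : G, ψ₁ g * ψ₂ g⁻¹ = 0 := by
  obtain ⟨n, ρ, hρ, rfl⟩ := h₁
  obtain ⟨m, σ, hσ, rfl⟩ := h₂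
  rw [card_inv_mul_sum_char_mul_char_eq_finrank]
  haveI : IsEmpty (Representation.Equiv σ ρ) := by
    constructor
    intro e
    exact hne (char_iso e).symm
  rw [finrank_zero_of_subsingleton, Nat.cast_zero]

theorem irrCharOver_norm {ψ : G → k} (h : IsIrrCharOver k G ψ) :
    ∃ d : ℕ, 0 < d ∧ (Nat.card G : k)⁻¹ * ∑ g : G, ψ g * ψ g⁻¹ = (d : k) := by
  obtain ⟨n, ρ, hρ, rfl⟩ := h
  refine ⟨finrank k (IntertwiningMap ρ ρ), ?_, card_inv_mul_sum_char_mul_char_eq_finrank ρ ρ⟩
  haveI : Nontrivial (Fin n → k) := nontrivial_of_isIrreducible ρ hρ
  haveI : Nontrivial (IntertwiningMap ρ ρ) := by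
    refine ⟨0, 1, ?_⟩
    intro h01
    obtain ⟨x, hx⟩ := exists_ne (0 : Fin n → k)
    apply hx
    have := congrArg (fun f : IntertwiningMap ρ ρ => f x) h01
    simpa using this.symm
  exact Module.finrank_pos

end orth

end Cfsg.Agent.Lib.Helper3
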