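import Mathlib
import Cfsg.Agent.Lib.Helper3.KRep1

/-!
# Monomial (induced) representations over an arbitrary field (helper3)

For `H ≤ G` and `lam : H →* kˣ` we realize the induced representation as the image of an
idempotent on the right regular representation and compute its character.
-/

set_option autoImplicit false

namespace Cfsg.Agent.Lib.Helper3

open Representation Module

universe u v

section trace

variable {k : Type*} [Field k] {V : Type v} [AddCommGroup V] [Module k V] [FiniteDimensional k V]

/-- the trace of `T ∘ P` for an idempotent `P` commuting with `T` is the trace of `T` on the range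
of `P` -/
theorem trace_comp_of_idempotent (T P : V →ₗ[k] V) (hP : IsIdempotentElem P)
    (hinv : ∀ x ∈ LinearMap.range P, T x ∈ LinearMap.range P) :
    LinearMap.trace k V (T ∘ₗ P) = LinearMap.trace k _ (T.restrict hinv) := by
  set e := Submodule.prodEquivOfIsCompl (LinearMap.range P) (LinearMap.ker P) (LinearMap.IsIdempotentElem.isCompl hP) with he
  have h1 : T ∘ₗ P = e.conj ((T.restrict hinv).prodMap (0 : LinearMap.ker P →ₗ[k] LinearMap.ker P)) := by
    apply LinearMap.ext
    intro v
    obtain ⟨⟨w, z⟩, rfl⟩ := e.surjective v
    rw [LinearEquiv.conj_apply]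
    simp only [LinearMap.comp_apply, LinearEquiv.coe_coe, LinearEquiv.symm_apply_apply,
      LinearMap.prodMap_apply, LinearMap.zero_apply]
    rw [he, Submodule.coe_prodEquivOfIsCompl', Submodule.coe_prodEquivOfIsCompl']
    simp only [Submodule.coe_zero, add_zero, LinearMap.coe_restrict_apply, map_add]
    have hw : P (w : V) = w := (LinearMap.IsIdempotentElem.mem_range_iff hP).mp w.2
    have hz : P (z : V) = 0 := z.2
    rw [hw, hz, map_zero, add_zero]
  rw [h1, LinearMap.trace_conj', LinearMap.trace_prodMap', map_zero, add_zero]

end trace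

section induced

variable {k : Type*} [Field k] {G : Type u} [Group G] [Fintype G]

/-- the right regular representation on functions -/
def rightReg (k : Type*) [Field k] (G : Type u) [Group G] : Representation k G (G → k) where
  toFun g := LinearMap.funLeft k k (fun x => x * g)
  map_one' := by
    apply LinearMap.ext
    intro f
    funext x
    simp [LinearMap.funLeft_apply]
  map_mul' g h := by
    apply LinearMap.ext
    intro f
    funext x
    simp [LinearMap.funLeft_apply, mul_assoc]

omit [Fintype G] in
theorem rightReg_apply (g : G) (f : G → k) (x : G) : rightReg k G g f x = f (x * g) := rfl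

variable (H : Subgroup G) [Fintype H] (lam : H →* kˣ)

/-- the idempotent cutting out the induced representation -/
noncomputable def indProj : (G → k) →ₗ[k] (G → k) where
  toFun f := fun x => (Nat.card H : k)⁻¹ * ∑ h : H, ((lam h⁻¹ : kˣ) : k) * f ((h : G) * x)
  map_add' f f' := by
    funext x
    simp only [Pi.add_apply, mul_add, Finset.sum_add_distrib]
  map_smul' c f := by
    funext x
    simp only [Pi.smul_apply, smul_eq_mul, RingHom.id_apply, Finset.mul_sum]
    apply Finset.sum_congr rfl
    intro h _
    ring

omit [Fintype G] in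
theorem indProj_apply (f : G → k) (x : G) :
    indProj H lam f x = (Nat.card H : k)⁻¹ * ∑ h : H, ((lam h⁻¹ : kˣ) : k) * f ((h : G) * x) := rfl

omit [Fintype G] in
theorem indProj_comm (g : G) :
    rightReg k G g ∘ₗ indProj H lam = indProj H lam ∘ₗ rightReg k G g := by
  apply LinearMap.ext
  intro f
  funext x
  simp only [LinearMap.comp_apply, rightReg_apply, indProj_apply, mul_assoc]

omit [Fintype G] in
theorem indProj_idem [NeZero (Nat.card H : k)] : IsIdempotentElem (indProj H lam) := by
  have hH : (Nat.card H : k) ≠ 0 := NeZero.ne _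
  apply LinearMap.ext
  intro f
  funext x
  show indProj H lam (indProj H lam f) x = indProj H lam f x
  rw [indProj_apply]
  have h1 : ∀ h : H, ((lam h⁻¹ : kˣ) : k) * indProj H lam f ((h : G) * x) =
      (Nat.card H : k)⁻¹ * ∑ h' : H, ((lam h'⁻¹ : kˣ) : k) * f ((h' : G) * x) := by
    intro h
    rw [indProj_apply, mul_left_comm]
    congr 1
    rw [Finset.mul_sum]
    apply Fintype.sum_equiv (Equiv.mulRight h)
    intro h'
    simp only [Equiv.coe_mulRight, mul_inv_rev, map_mul, Units.val_mul, Subgroup.coe_mul]
    rw [mul_assoc (h' : G)]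
    ring
  rw [Finset.sum_congr rfl fun h _ => h1 h, Finset.sum_const, Finset.card_univ, nsmul_eq_mul,
    ← Nat.card_eq_fintype_card, indProj_apply]
  field_simp

open Classical in
/-- extension by zero of `lam` to `G`, with values in `k` -/
noncomputable def lamExt (z : G) : k := if hz : z ∈ H then ((lam ⟨z, hz⟩ : kˣ) : k) else 0

open Classical in
omit [Fintype G] in
theorem sum_lam_eq (z : G) :
    ∑ h : H, ((lam h : kˣ) : k) * (if (h : G) = z then 1 else 0) = lamExt H lam z := by
  unfold lamExt
  by_cases hz : z ∈ H
  · rw [dif_pos hz, Finset.sum_eq_single ⟨z, hz⟩]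
    · simp
    · intro h _ hne
      rw [if_neg, mul_zero]
      intro h'
      exact hne (Subtype.ext h')
    · intro h
      exact absurd (Finset.mem_univ _) h
  · rw [dif_neg hz]
    apply Finset.sum_eq_zero
    intro h _
    rw [if_neg, mul_zero]
    intro h'
    exact hz (h' ▸ h.2)

open Classical in
/-- the trace of `g` on the induced representation -/
theorem trace_rightReg_comp_indProj (g : G) :
    LinearMap.trace k (G → k) (rightReg k G g ∘ₗ indProj H lam) =
      (Nat.card H : k)⁻¹ * ∑ y : G, lamExt H lam (y * g * y⁻¹) := by
  rw [LinearMap.trace_eq_matrix_trace k (Pi.basisFun k G), Matrix.trace, Finset.mul_sum]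
  apply Finset.sum_congr rfl
  intro y _
  rw [Matrix.diag_apply, LinearMap.toMatrix_apply, Pi.basisFun_repr, Pi.basisFun_apply,
    LinearMap.comp_apply, rightReg_apply, indProj_apply]
  congr 1
  rw [← sum_lam_eq]
  apply Fintype.sum_equiv (Equiv.inv H)
  intro h
  simp only [Equiv.inv_apply, Pi.single_apply]
  congr 1
  by_cases hh : (h : G) * (y * g) = y
  · rw [if_pos hh, if_pos]
    rw [Subgroup.coe_inv]
    calc (h : G)⁻¹ = (h : G)⁻¹ * y * y⁻¹ := by group
      _ = (h : G)⁻¹ * ((h : G) * (y * g)) * y⁻¹ := by rw [hh]
      _ = y * g * y⁻¹ := by group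
  · rw [if_neg hh, if_neg]
    intro h'
    apply hh
    rw [Subgroup.coe_inv] at h'
    have : (h : G) = (y * g * y⁻¹)⁻¹ := by rw [← h', inv_inv]
    rw [this]
    group

end induced

end Cfsg.Agent.Lib.Helper3
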