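import Mathlib
import Cfsg.Prelude.Def_Characters
import Cfsg.Agent.Lib.Helper3.KRep2
import Cfsg.Agent.Lib.Helper75.Clifford

/-!
# Monomial characters are realizable over a subfield; base change to `ℂ` (helper3)
-/

set_option autoImplicit false

namespace Cfsg.Agent.Lib.Helper3

open Representation Module Cfsg

universe u v

section induced

variable {k : Type*} [Field k] {G : Type u} [Group G] [Fintype G]
  (H : Subgroup G) [Fintype H] (lam : H →* kˣ)

/-- the induced representation, as a subrepresentation of the right regular representation -/
noncomputable def indSubrep : Subrepresentation (rightReg k G) where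
  toSubmodule := LinearMap.range (indProj H lam)
  apply_mem_toSubmodule g v hv := by
    obtain ⟨f, rfl⟩ := hv
    refine ⟨rightReg k G g f, ?_⟩
    have := LinearMap.congr_fun (indProj_comm H lam g) f
    simp only [LinearMap.comp_apply] at this
    exact this.symm

/-- the monomial character is the character of a representation over `k` -/
theorem isCharOver_induced [NeZero (Nat.card H : k)] :
    IsCharOver k G (fun g => (Nat.card H : k)⁻¹ * ∑ y : G, lamExt H lam (y * g * y⁻¹)) := by
  classical
  have h1 := isCharOver_character (indSubrep H lam).toRepresentation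
  convert h1 using 1
  funext g
  rw [← trace_rightReg_comp_indProj,
    trace_comp_of_idempotent (rightReg k G g) (indProj H lam) (indProj_idem H lam)
      ((indSubrep H lam).apply_mem_toSubmodule g)]
  rfl

end induced

section basechange

variable (K : Subfield ℂ) {G : Type u} [Group G]

/-- base change of a matrix representation over a subfield of `ℂ` -/
noncomputable def baseChangeRep {n : ℕ} (ρ : Representation K G (Fin n → K)) :
    Representation ℂ G (Fin n → ℂ) where
  toFun g := Matrix.toLin' ((LinearMap.toMatrix' (ρ g)).map (algebraMap K ℂ))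
  map_one' := by
    rw [map_one, LinearMap.toMatrix'_one, Matrix.map_one _ (map_zero _) (map_one _),
      Matrix.toLin'_one]
    rfl
  map_mul' g h := by
    rw [map_mul, LinearMap.toMatrix'_mul, Matrix.map_mul, Matrix.toLin'_mul]
    rfl

theorem baseChangeRep_toMatrix' {n : ℕ} (ρ : Representation K G (Fin n → K)) (g : G) :
    LinearMap.toMatrix' (baseChangeRep K ρ g) = (LinearMap.toMatrix' (ρ g)).map (algebraMap K ℂ) := by
  unfold baseChangeRep
  exact LinearMap.toMatrix'_toLin' _

theorem baseChangeRep_character {n : ℕ} (ρ : Representation K G (Fin n → K)) (g : G) :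
    (baseChangeRep K ρ).character g = ((ρ.character g : K) : ℂ) := by
  unfold Representation.character
  rw [LinearMap.trace_eq_matrix_trace ℂ (Pi.basisFun ℂ (Fin n)),
    LinearMap.trace_eq_matrix_trace K (Pi.basisFun K (Fin n)),
    LinearMap.toMatrix_eq_toMatrix', LinearMap.toMatrix_eq_toMatrix', baseChangeRep_toMatrix']
  simp only [Matrix.trace, Matrix.diag_apply, Matrix.map_apply]
  push_cast
  rfl

theorem baseChangeRep_entries {n : ℕ} (ρ : Representation K G (Fin n → K)) (g : G)
    (i j : Fin n) : LinearMap.toMatrix' (baseChangeRep K ρ g) i j ∈ K := by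
  rw [baseChangeRep_toMatrix', Matrix.map_apply]
  exact (LinearMap.toMatrix' (ρ g) i j).2

/-- a character over `K ⊆ ℂ` gives a character over `ℂ` -/
theorem isCharacter_of_isCharOver {ψ : G → K} (h : IsCharOver K G ψ) :
    IsCharacter G (fun g => ((ψ g : K) : ℂ)) := by
  obtain ⟨n, ρ, rfl⟩ := h
  exact ⟨n, baseChangeRep K ρ, funext fun g => baseChangeRep_character K ρ g⟩

end basechange

end Cfsg.Agent.Lib.Helper3
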