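import Mathlib
import Cfsg.Prelude.Def_Characters
import Cfsg.Agent.Lib.Helper3.KRep3
import Cfsg.Agent.Lib.Helper3.BrFinal
import Cfsg.Agent.Lib.Helper3.EquivChar

/-!
# Brauer's splitting field theorem (helper3)

If the subfield `K ⊆ ℂ` contains all roots of unity of order dividing the exponent of `G`, then
every complex character of `G` is the character of a representation over `K`.
-/

set_option autoImplicit false

namespace Cfsg.Agent.Lib.Helper3

open Representation Module Cfsg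
open scoped ComplexConjugate

universe u

section closure_props

variable {k : Type*} [Field k] {G : Type u} [Group G]

theorem isCharOver_zero : IsCharOver k G (0 : G → k) := by
  refine ⟨0, Representation.trivial k G (Fin 0 → k), ?_⟩
  funext g
  simp only [Representation.character, Pi.zero_apply]
  rw [Subsingleton.elim (Representation.trivial k G (Fin 0 → k) g) 0, map_zero]

theorem isCharOver_add {ψ₁ ψ₂ : G → k} (h₁ : IsCharOver k G ψ₁) (h₂ : IsCharOver k G ψ₂) :
    IsCharOver k G (ψ₁ + ψ₂) := by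
  obtain ⟨n, ρ, rfl⟩ := h₁
  obtain ⟨m, σ, rfl⟩ := h₂
  have h := isCharOver_character (ρ.prod σ)
  convert h using 1
  funext g
  simp only [Representation.character, Pi.add_apply]
  exact (LinearMap.trace_prodMap' _ _).symm

end closure_props

section main

variable (K : Subfield ℂ) {G : Type u} [Group G] [Fintype G]

/-- complex-valued functions which are characters of representations over `K` -/
def KChars (K : Subfield ℂ) (G : Type u) [Group G] : Set (G → ℂ) :=
  {f | ∃ ψ : G → K, IsCharOver K G ψ ∧ f = fun g => ((ψ g : K) : ℂ)}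

/-- complex-valued functions which are characters of irreducible representations over `K` -/
def KIrrChars (K : Subfield ℂ) (G : Type u) [Group G] : Set (G → ℂ) :=
  {f | ∃ ψ : G → K, IsIrrCharOver K G ψ ∧ f = fun g => ((ψ g : K) : ℂ)}

omit [Fintype G] in
theorem KIrrChars_subset : KIrrChars K G ⊆ KChars K G := by
  rintro f ⟨ψ, hψ, rfl⟩
  exact ⟨ψ, hψ.isCharOver, rfl⟩

omit [Fintype G] in
theorem isCharacter_of_mem_KChars {f : G → ℂ} (hf : f ∈ KChars K G) : IsCharacter G f := by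
  obtain ⟨ψ, hψ, rfl⟩ := hf
  exact isCharacter_of_isCharOver K hψ

omit [Fintype G] in
theorem KChars_add {f₁ f₂ : G → ℂ} (h₁ : f₁ ∈ KChars K G) (h₂ : f₂ ∈ KChars K G) :
    f₁ + f₂ ∈ KChars K G := by
  obtain ⟨ψ₁, hψ₁, rfl⟩ := h₁
  obtain ⟨ψ₂, hψ₂, rfl⟩ := h₂
  refine ⟨ψ₁ + ψ₂, isCharOver_add hψ₁ hψ₂, ?_⟩
  funext g
  simp

omit [Fintype G] in
theorem KChars_zero : (0 : G → ℂ) ∈ KChars K G :=
  ⟨0, isCharOver_zero, by funext g; simp⟩

noncomputable instance cardInvertible : Invertible (Nat.card G : K) :=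
  invertibleOfNonzero (by
    have : Nat.card G ≠ 0 := Nat.card_pos.ne'
    exact_mod_cast this)

instance cardNeZero : NeZero (Nat.card G : K) :=
  ⟨by
    have : Nat.card G ≠ 0 := Nat.card_pos.ne'
    exact_mod_cast this⟩

/-- every character over `K` is a sum of irreducible characters over `K`, complex version -/
theorem KChars_subset_closure : KChars K G ⊆ AddSubgroup.closure (KIrrChars K G) := by
  have key : ∀ ψ : G → K, ψ ∈ AddSubmonoid.closure {ψ | IsIrrCharOver K G ψ} →
      (fun g => ((ψ g : K) : ℂ)) ∈ AddSubgroup.closure (KIrrChars K G) := by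
    intro ψ h
    induction h using AddSubmonoid.closure_induction with
    | mem x hx => exact AddSubgroup.subset_closure ⟨x, hx, rfl⟩
    | zero =>
      have : (fun g => (((0 : G → K) g : K) : ℂ)) = 0 := by funext g; simp
      rw [this]
      exact zero_mem _
    | add x y _ _ hx hy =>
      have : (fun g => (((x + y) g : K) : ℂ)) =
          (fun g => ((x g : K) : ℂ)) + fun g => ((y g : K) : ℂ) := by funext g; simp
      rw [this]
      exact add_mem hx hy
  rintro f ⟨ψ, ⟨n, ρ, rfl⟩, rfl⟩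
  exact key _ (character_mem_closure (k := K) (G := G) _ ρ rfl)

/-- orthogonality of distinct irreducible `K`-characters -/
theorem classInner_KIrr_ne {f₁ f₂ : G → ℂ} (h₁ : f₁ ∈ KIrrChars K G) (h₂ : f₂ ∈ KIrrChars K G)
    (hne : f₁ ≠ f₂) : classInner f₁ f₂ = 0 := by
  have hchar₂ := isCharacter_of_mem_KChars K (KIrrChars_subset K h₂)
  obtain ⟨ψ₁, hψ₁, rfl⟩ := h₁
  obtain ⟨ψ₂, hψ₂, rfl⟩ := h₂
  have hne' : ψ₁ ≠ ψ₂ := by
    rintro rfl
    exact hne rfl
  have h := irrCharOver_orth hψ₁ hψ₂ hne'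
  have h' := congrArg (fun z : K => (z : ℂ)) h
  push_cast at h'
  unfold classInner
  rw [← h']
  congr 1
  apply Finset.sum_congr rfl
  intro g _
  rw [Cfsg.Agent.Lib.Helper80.char_conj_eq_inv hchar₂]

/-- the norm of an irreducible `K`-character is a positive integer -/
theorem classInner_KIrr_self {f : G → ℂ} (h : f ∈ KIrrChars K G) :
    ∃ d : ℕ, 0 < d ∧ classInner f f = (d : ℂ) := by
  have hchar := isCharacter_of_mem_KChars K (KIrrChars_subset K h)
  obtain ⟨ψ, hψ, rfl⟩ := h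
  obtain ⟨d, hd, h⟩ := irrCharOver_norm hψ
  refine ⟨d, hd, ?_⟩
  have h' := congrArg (fun z : K => (z : ℂ)) h
  push_cast at h'
  unfold classInner
  rw [← h']
  congr 1
  apply Finset.sum_congr rfl
  intro g _
  rw [Cfsg.Agent.Lib.Helper80.char_conj_eq_inv hchar]

theorem finset_sum_eq_one {α : Type*} (s : Finset α) (f : α → ℤ) (h1 : ∀ a ∈ s, 1 ≤ f a)
    (hsum : ∑ a ∈ s, f a = 1) : ∃ a, s = {a} ∧ f a = 1 := by
  have hcard : (s.card : ℤ) ≤ 1 := by
    have := Finset.card_nsmul_le_sum s f 1 h1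
    rw [hsum] at this
    simpa using this
  have hne : s.Nonempty := by
    rw [Finset.nonempty_iff_ne_empty]
    rintro rfl
    simp at hsum
  have hc1 : s.card = 1 := by
    have := Finset.card_pos.mpr hne
    omega
  obtain ⟨a, rfl⟩ := Finset.card_eq_one.mp hc1
  exact ⟨a, rfl, by simpa using hsum⟩

/-- **key step**: an irreducible complex character which is a `ℤ`-combination of irreducible
`K`-characters is itself an irreducible `K`-character -/
theorem mem_KIrrChars_of_mem_closure {χ : G → ℂ} (hχ : IsIrrCharacter G χ)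
    (h : χ ∈ AddSubgroup.closure (KIrrChars K G)) : χ ∈ KIrrChars K G := by
  classical
  rw [← Submodule.span_int_eq_addSubgroupClosure] at h
  obtain ⟨c, hcs, hc⟩ := Submodule.mem_span_set.mp h
  -- norms
  have hd : ∀ ψ ∈ c.support, ∃ d : ℕ, 0 < d ∧ classInner ψ ψ = (d : ℂ) :=
    fun ψ hψ => classInner_KIrr_self K (hcs hψ)
  choose! d hdpos hdeq using hd
  have hχsum : χ = ∑ ψ ∈ c.support, ((c ψ : ℤ) : ℂ) • ψ := by
    rw [← hc, Finsupp.sum]
    apply Finset.sum_congr rfl
    intro ψ _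
    funext g
    simp
  -- inner products with members of the support
  have hinner : ∀ ψ₀ ∈ c.support, classInner χ ψ₀ = ((c ψ₀ : ℤ) : ℂ) * (d ψ₀ : ℂ) := by
    intro ψ₀ hψ₀
    conv_lhs => rw [hχsum]
    rw [classInner_sum_left, Finset.sum_eq_single ψ₀]
    · rw [classInner_smul_left, hdeq ψ₀ hψ₀]
    · intro ψ hψ hne
      rw [classInner_smul_left, classInner_KIrr_ne K (hcs hψ) (hcs hψ₀) hne, mul_zero]
    · intro hn
      exact absurd hψ₀ hn
  have hnorm : (1 : ℂ) = ∑ ψ ∈ c.support, (((c ψ) ^ 2 * (d ψ : ℤ) : ℤ) : ℂ) := by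
    rw [← Cfsg.Agent.Lib.Helper78.classInner_irr_self hχ]
    have h1 : classInner χ χ = classInner χ (∑ ψ ∈ c.support, ((c ψ : ℤ) : ℂ) • ψ) := by
      rw [← hχsum]
    rw [h1, classInner_sum_right]
    apply Finset.sum_congr rfl
    intro ψ hψ
    rw [classInner_smul_right, hinner ψ hψ]
    push_cast
    rw [map_intCast]
    ring
  have hnormZ : ∑ ψ ∈ c.support, ((c ψ) ^ 2 * (d ψ : ℤ)) = 1 := by
    have : ((∑ ψ ∈ c.support, ((c ψ) ^ 2 * (d ψ : ℤ)) : ℤ) : ℂ) = ((1 : ℤ) : ℂ) := by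
      push_cast
      rw [hnorm]
      push_cast
      rfl
    exact_mod_cast this
  obtain ⟨ψ₀, hsupp, hval⟩ := finset_sum_eq_one c.support (fun ψ => (c ψ) ^ 2 * (d ψ : ℤ))
    (fun ψ hψ => by
      have h1 : c ψ ≠ 0 := Finsupp.mem_support_iff.mp hψ
      have h2 : 1 ≤ (c ψ) ^ 2 := by
        have : 0 < (c ψ) ^ 2 := by positivity
        linarith
      have h3 : (1 : ℤ) ≤ (d ψ : ℤ) := by exact_mod_cast hdpos ψ hψ
      nlinarith) hnormZ
  have hψ₀mem : ψ₀ ∈ c.support := by rw [hsupp]; exact Finset.mem_singleton_self _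
  have hc1 : c ψ₀ = 1 ∨ c ψ₀ = -1 := by
    have h1 : (c ψ₀) ^ 2 ∣ 1 := ⟨(d ψ₀ : ℤ), hval.symm⟩
    have h2 : c ψ₀ ∣ 1 := Dvd.dvd.trans (dvd_pow_self _ two_ne_zero) h1
    have := Int.isUnit_iff.mp (isUnit_of_dvd_one h2)
    exact this
  have hχeq : χ = ((c ψ₀ : ℤ) : ℂ) • ψ₀ := by
    rw [hχsum, hsupp, Finset.sum_singleton]
  have hψ₀K := hcs hψ₀mem
  rcases hc1 with h1 | h1
  · rw [h1] at hχeq
    rw [hχeq]
    simpa using hψ₀K
  · exfalso
    rw [h1] at hχeq
    have hχ1 := congrFun hχeq 1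
    obtain ⟨n, hn⟩ := Cfsg.Agent.Lib.Helper80.char_one_eq_natCast
      (Cfsg.Agent.Lib.Helper80.isCharacter_of_isIrr hχ)
    obtain ⟨m, hm⟩ := Cfsg.Agent.Lib.Helper80.char_one_eq_natCast
      (isCharacter_of_mem_KChars K (KIrrChars_subset K hψ₀K))
    have hne := Cfsg.Agent.Lib.Helper80.char_one_ne_zero_of_isIrr hχ
    rw [Pi.smul_apply, hn, hm] at hχ1
    rw [hn] at hne
    have : ((n : ℤ) : ℂ) = ((-(m : ℤ) : ℤ) : ℂ) := by
      push_cast
      rw [hχ1]
      simp
    have h2 : (n : ℤ) = -(m : ℤ) := by exact_mod_cast this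
    have h3 : n = 0 := by omega
    apply hne
    rw [h3]
    simp

end main

end Cfsg.Agent.Lib.Helper3
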