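import Mathlib
import Cfsg.Prelude.Def_Characters
import Cfsg.Agent.Lib.Helper3.KRep4

/-!
# Brauer's splitting field theorem: final form (helper3)
-/

set_option autoImplicit false

namespace Cfsg.Agent.Lib.Helper3

open Representation Module Cfsg
open scoped ComplexConjugate

universe u

section main

variable (K : Subfield ℂ) {G : Type u} [Group G] [Fintype G]

/-- monomial characters are characters of representations over `K` -/
theorem linInd_subset_KChars (hK : ∀ z : ℂ, z ^ Monoid.exponent G = 1 → z ∈ K) :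
    linInd G ⊆ KChars K G := by
  classical
  rintro f ⟨E, lam, -, rfl⟩
  have hmem : ∀ e : E, ((lam e : ℂˣ) : ℂ) ∈ K := by
    intro e
    apply hK
    rw [← Units.val_pow_eq_pow_val, ← map_pow]
    have : e ^ Monoid.exponent G = 1 := by
      apply Subtype.ext
      rw [Subgroup.coe_pow, Monoid.pow_exponent_eq_one]
      rfl
    rw [this, map_one, Units.val_one]
  set lamK0 : E →* K :=
    { toFun := fun e => ⟨((lam e : ℂˣ) : ℂ), hmem e⟩
      map_one' := Subtype.ext (by simp)
      map_mul' := fun a b => Subtype.ext (by simp) } with hlamK0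
  set lamK : E →* Kˣ := lamK0.toHomUnits with hlamK
  have hlamK_val : ∀ e : E, (((lamK e : Kˣ) : K) : ℂ) = ((lam e : ℂˣ) : ℂ) := by
    intro e
    rw [hlamK, MonoidHom.coe_toHomUnits]
    rfl
  haveI : Fintype E := Fintype.ofFinite E
  haveI : NeZero (Nat.card E : K) := ⟨by
    have : Nat.card E ≠ 0 := Nat.card_pos.ne'
    exact_mod_cast this⟩
  refine ⟨_, isCharOver_induced E lamK, ?_⟩
  funext g
  push_cast
  unfold indFun
  congr 1
  apply Fintype.sum_equiv (Equiv.inv G)
  intro x
  simp only [Equiv.inv_apply, inv_inv]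
  unfold lamExt
  by_cases hz : x⁻¹ * g * x ∈ E
  · rw [Cfsg.Agent.Lib.Helper75.extendByZero_of_mem _ _ hz, dif_pos hz, hlamK_val]
  · rw [Cfsg.Agent.Lib.Helper75.extendByZero_of_not_mem _ _ hz, dif_neg hz]
    simp

/-- **Brauer**: irreducible complex characters are afforded by irreducible `K`-representations -/
theorem irr_mem_KIrrChars (hK : ∀ z : ℂ, z ^ Monoid.exponent G = 1 → z ∈ K) {χ : G → ℂ}
    (hχ : IsIrrCharacter G χ) : χ ∈ KIrrChars K G := by
  apply mem_KIrrChars_of_mem_closure K hχ
  have h1 := mem_closure_linInd_of_isCharacter (Cfsg.Agent.Lib.Helper80.isCharacter_of_isIrr hχ)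
  have h2 : AddSubgroup.closure (linInd G) ≤ AddSubgroup.closure (KIrrChars K G) :=
    (AddSubgroup.closure_le _).mpr
      ((linInd_subset_KChars K hK).trans (KChars_subset_closure K))
  exact h2 h1

theorem nsmul_mem_KChars {f : G → ℂ} (hf : f ∈ KChars K G) (n : ℕ) :
    ((n : ℂ) • f) ∈ KChars K G := by
  induction n with
  | zero =>
    rw [Nat.cast_zero, zero_smul]
    exact KChars_zero K
  | succ n ih =>
    rw [Nat.cast_succ, add_smul, one_smul]
    exact KChars_add K ih hf

/-- every complex character is afforded by a `K`-representation -/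
theorem isCharacter_mem_KChars (hK : ∀ z : ℂ, z ^ Monoid.exponent G = 1 → z ∈ K) {χ : G → ℂ}
    (hχ : IsCharacter G χ) : χ ∈ KChars K G := by
  classical
  obtain ⟨m, rfl⟩ := (Cfsg.Agent.Lib.Helper78.isCharacter_iff_exists_nat_combination χ).mp hχ
  apply Finset.sum_induction _ (fun f => f ∈ KChars K G)
  · intro a b ha hb
    exact KChars_add K ha hb
  · exact KChars_zero K
  · intro ψ _
    exact nsmul_mem_KChars K (KIrrChars_subset K (irr_mem_KIrrChars K hK ψ.2)) _

/-- **Brauer's splitting field theorem** -/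
theorem exists_rep_over_subfield (hK : ∀ z : ℂ, z ^ Monoid.exponent G = 1 → z ∈ K) (n : ℕ)
    (ρ : Representation ℂ G (Fin n → ℂ)) :
    ∃ σ : Representation ℂ G (Fin n → ℂ), Nonempty (ρ.Equiv σ) ∧
      ∀ g : G, ∀ i j : Fin n, LinearMap.toMatrix' (σ g) i j ∈ K := by
  have hchar : IsCharacter G ρ.character := ⟨n, ρ, rfl⟩
  obtain ⟨ψ, ⟨d, τ, rfl⟩, hEq⟩ := isCharacter_mem_KChars K hK hchar
  have hcharEq : ρ.character = (baseChangeRep K τ).character := by
    rw [hEq]
    funext g
    exact (baseChangeRep_character K τ g).symm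
  have hdn : d = n := by
    have h1 := congrFun hcharEq 1
    rw [Representation.char_one, Representation.char_one, Module.finrank_fin_fun,
      Module.finrank_fin_fun] at h1
    exact_mod_cast h1.symm
  subst hdn
  exact ⟨baseChangeRep K τ, nonempty_equiv_of_character_eq' ρ _ hcharEq,
    baseChangeRep_entries K τ⟩

end main

end Cfsg.Agent.Lib.Helper3
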