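import Mathlib
import Cfsg.Agent.Lib.Helper71.LWDefs
set_option autoImplicit false
open Equiv
open Cfsg.Agent.Lib.Helper71.LW

/-!
# S0747-[C-c] (helper3): the dihedral trick
-/

namespace Cfsg.Agent.Lib.Helper3.LW

variable {α : Type*} [Fintype α] [DecidableEq α]

theorem swaps_of_involutions {β : Type*} [Fintype β] [DecidableEq β] (B : Subgroup (Perm β)) (k : ℕ)
    (hinv : ∀ E : Finset β, E.card = k → ∃ u ∈ B, u * u = 1 ∧ ∀ x, u x = x ↔ x ∈ E)
    (htriv : ∀ c ∈ B, c * c = 1 → ∀ Δ : Finset β, Δ.card = k + 1 → (∀ x ∈ Δ, c x = x) → c = 1)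
    (E₀ : Finset β) (hE₀ : E₀.card + 1 = k) (a b : β) (ha : a ∉ E₀) (hb : b ∉ E₀) (hab : a ≠ b) :
    ∃ s ∈ B, s a = b ∧ s b = a ∧ ∀ x ∈ E₀, s x = x := by
  classical
  obtain ⟨u, huB, huu, hufix⟩ := hinv (insert a E₀) (by rw [Finset.card_insert_of_notMem ha, hE₀])
  obtain ⟨v, hvB, hvv, hvfix⟩ := hinv (insert b E₀) (by rw [Finset.card_insert_of_notMem hb, hE₀])
  have hu_inv : u⁻¹ = u := inv_eq_of_mul_eq_one_right huu
  have hv_inv : v⁻¹ = v := inv_eq_of_mul_eq_one_right hvv
  set ρ : Perm β := u * v with hρ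
  have hρB : ρ ∈ B := B.mul_mem huB hvB
  have hρinv : ρ⁻¹ = v * u := by rw [hρ, mul_inv_rev, hu_inv, hv_inv]
  have hconju : u * ρ * u⁻¹ = ρ⁻¹ := by
    rw [hu_inv, hρinv, hρ]
    calc u * (u * v) * u = (u * u) * v * u := by group
      _ = v * u := by rw [huu, one_mul]
  have hconjv : v * ρ * v⁻¹ = ρ⁻¹ := by
    rw [hv_inv, hρinv, hρ]
    calc v * (u * v) * v = v * u * (v * v) := by group
      _ = v * u := by rw [hvv, mul_one]
  have hconjupow : ∀ n : ℕ, u * ρ ^ n * u⁻¹ = (ρ ^ n)⁻¹ := fun n => by
    rw [← conj_pow, hconju, inv_pow]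
  have hconjvpow : ∀ n : ℕ, v * ρ ^ n * v⁻¹ = (ρ ^ n)⁻¹ := fun n => by
    rw [← conj_pow, hconjv, inv_pow]
  -- fixed points
  have huE : ∀ x ∈ E₀, u x = x := fun x hx => (hufix x).2 (Finset.mem_insert_of_mem hx)
  have hvE : ∀ x ∈ E₀, v x = x := fun x hx => (hvfix x).2 (Finset.mem_insert_of_mem hx)
  have hρE : ∀ x ∈ E₀, ρ x = x := fun x hx => by
    rw [hρ, Perm.mul_apply, hvE x hx, huE x hx]
  have hρpowE : ∀ (n : ℕ), ∀ x ∈ E₀, (ρ ^ n) x = x := fun n x hx =>
    Equiv.Perm.pow_apply_eq_self_of_apply_eq_self (hρE x hx) n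
  have hdpos : 0 < orderOf ρ := orderOf_pos ρ
  rcases Nat.even_or_odd (orderOf ρ) with hev | hodd
  · -- even order: contradiction
    exfalso
    obtain ⟨m, hm⟩ := hev
    have hmpos : 0 < m := by omega
    set c : Perm β := ρ ^ m with hc
    have hcB : c ∈ B := B.pow_mem hρB m
    have hcc : c * c = 1 := by
      rw [hc, ← pow_add, ← hm, pow_orderOf_eq_one]
    have hc1 : c ≠ 1 := pow_ne_one_of_lt_orderOf (by omega) (by omega)
    have hc_inv : c⁻¹ = c := inv_eq_of_mul_eq_one_right hcc
    have hcu : u * c = c * u := by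
      have := hconjupow m
      rw [← hc, hc_inv] at this
      exact mul_inv_eq_iff_eq_mul.1 this
    have hcv : v * c = c * v := by
      have := hconjvpow m
      rw [← hc, hc_inv] at this
      exact mul_inv_eq_iff_eq_mul.1 this
    have hcE : ∀ x ∈ E₀, c x = x := fun x hx => hρpowE m x hx
    have hcca : ∀ x, c (c x) = x := fun x => by
      have := congrArg (fun f : Perm β => f x) hcc
      simpa [Perm.mul_apply] using this
    have hca : c a = a := by
      have h1 : u (c a) = c a := by
        have := congrArg (fun f : Perm β => f a) hcu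
        simp only [Perm.mul_apply] at this
        rw [this, (hufix a).2 (Finset.mem_insert_self a E₀)]
      have h2 : c a ∈ insert a E₀ := (hufix _).1 h1
      rcases Finset.mem_insert.1 h2 with h3 | h3
      · exact h3
      · exfalso
        have h4 : c (c a) = c a := hcE _ h3
        rw [hcca] at h4
        rw [← h4] at h3
        exact ha h3
    have hcb : c b = b := by
      have h1 : v (c b) = c b := by
        have := congrArg (fun f : Perm β => f b) hcv
        simp only [Perm.mul_apply] at this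
        rw [this, (hvfix b).2 (Finset.mem_insert_self b E₀)]
      have h2 : c b ∈ insert b E₀ := (hvfix _).1 h1
      rcases Finset.mem_insert.1 h2 with h3 | h3
      · exact h3
      · exfalso
        have h4 : c (c b) = c b := hcE _ h3
        rw [hcca] at h4
        rw [← h4] at h3
        exact hb h3
    have hcard : (insert a (insert b E₀)).card = k + 1 := by
      rw [Finset.card_insert_of_notMem, Finset.card_insert_of_notMem hb, hE₀]
      intro h
      rcases Finset.mem_insert.1 h with h | h
      · exact hab h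
      · exact ha h
    refine hc1 (htriv c hcB hcc _ hcard ?_)
    intro x hx
    rcases Finset.mem_insert.1 hx with rfl | hx
    · exact hca
    · rcases Finset.mem_insert.1 hx with rfl | hx
      · exact hcb
      · exact hcE x hx
  · -- odd order
    obtain ⟨m, hm⟩ := hodd
    -- j = m + 1, 2 j = d + 1
    set s : Perm β := u * ρ ^ (m + 1) with hs
    have hsB : s ∈ B := B.mul_mem huB (B.pow_mem hρB _)
    have hss : s * s = 1 := by
      have h1 := hconjupow (m + 1)
      rw [hu_inv] at h1
      calc s * s = (u * ρ ^ (m + 1) * u) * ρ ^ (m + 1) := by rw [hs]; group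
        _ = 1 := by rw [h1, inv_mul_cancel]
    have hsus : s * u * s = v := by
      have h1 := hconjupow (m + 1)
      rw [hu_inv] at h1
      have h2 : ρ ^ (m + 1) * ρ ^ (m + 1) = ρ := by
        rw [← pow_add, show m + 1 + (m + 1) = orderOf ρ + 1 by omega, pow_succ, pow_orderOf_eq_one,
          one_mul]
      calc s * u * s = u * ρ ^ (m + 1) * (u * u) * ρ ^ (m + 1) := by rw [hs]; group
        _ = u * (ρ ^ (m + 1) * ρ ^ (m + 1)) := by rw [huu]; group
        _ = u * ρ := by rw [h2]
        _ = (u * u) * v := by rw [hρ]; group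
        _ = v := by rw [huu, one_mul]
    have hssx : ∀ x, s (s x) = x := fun x => by
      have := congrArg (fun f : Perm β => f x) hss
      simpa [Perm.mul_apply] using this
    have hsE : ∀ x ∈ E₀, s x = x := fun x hx => by
      rw [hs, Perm.mul_apply, hρpowE _ x hx, huE x hx]
    have hsa : s a = b := by
      have h1 : v (s a) = s a := by
        rw [← hsus]
        simp only [Perm.mul_apply]
        rw [hssx, (hufix a).2 (Finset.mem_insert_self a E₀)]
      have h2 : s a ∈ insert b E₀ := (hvfix _).1 h1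
      rcases Finset.mem_insert.1 h2 with h3 | h3
      · exact h3
      · exfalso
        have h4 : s (s a) = s a := hsE _ h3
        rw [hssx] at h4
        rw [← h4] at h3
        exact ha h3
    refine ⟨s, hsB, hsa, ?_, hsE⟩
    rw [← hsa, hssx]

end Cfsg.Agent.Lib.Helper3.LW
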