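import Mathlib
import Cfsg.Agent.Lib.Helper71.LWDefs
set_option autoImplicit false
open Equiv
open Cfsg.Agent.Lib.Helper71.LW

/-!
# S0747-[A-SHARP] (helper3): sharply `k`-transitive groups of degree `k + 7`
-/

namespace Cfsg.Agent.Lib.Helper3.LW

variable {α : Type*} [Fintype α] [DecidableEq α]

theorem perm_inv_apply_self (g : Perm α) (x : α) : g⁻¹ (g x) = x := g.symm_apply_apply x

theorem perm_apply_inv_self (g : Perm α) (x : α) : g (g⁻¹ x) = x := g.apply_symm_apply x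

/-- Every permutation of `α` is matched on a `k`-set by an element of a `k`-transitive group. -/
theorem exists_extend (G : Subgroup (Perm α)) (k : ℕ) (hG : Trans G k) (Γ : Finset α) (hΓ : Γ.card = k)
    (π : Perm α) : ∃ g ∈ G, ∀ z ∈ Γ, g z = π z := by
  let e : Fin k ≃ ↥Γ := (Γ.equivFinOfCardEq hΓ).symm
  let x : Fin k ↪ α := e.toEmbedding.trans (Function.Embedding.subtype _)
  let y : Fin k ↪ α := x.trans π.toEmbedding
  obtain ⟨g, hg, hgx⟩ := hG x y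
  refine ⟨g, hg, fun z hz => ?_⟩
  have := hgx (e.symm ⟨z, hz⟩)
  simpa [x, y] using this

/-- `τ ∈ G` acts on `Γ` as the transposition `(a b)`. -/
def IsTr (G : Subgroup (Perm α)) (Γ : Finset α) (τ : Perm α) (a b : α) : Prop :=
  τ ∈ G ∧ τ a = b ∧ τ b = a ∧ ∀ x ∈ Γ, x ≠ a → x ≠ b → τ x = x

/-- `ρ ∈ G` acts on `Γ` as the 3-cycle `(a b c)`. -/
def Is3 (G : Subgroup (Perm α)) (Γ : Finset α) (ρ : Perm α) (a b c : α) : Prop :=
  ρ ∈ G ∧ ρ a = b ∧ ρ b = c ∧ ρ c = a ∧ ∀ x ∈ Γ, x ≠ a → x ≠ b → x ≠ c → ρ x = x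

theorem IsTr.symm {G : Subgroup (Perm α)} {Γ : Finset α} {τ : Perm α} {a b : α} (h : IsTr G Γ τ a b) :
    IsTr G Γ τ b a :=
  ⟨h.1, h.2.2.1, h.2.1, fun x hx hxb hxa => h.2.2.2 x hx hxa hxb⟩

theorem Is3.rot {G : Subgroup (Perm α)} {Γ : Finset α} {ρ : Perm α} {a b c : α} (h : Is3 G Γ ρ a b c) :
    Is3 G Γ ρ b c a :=
  ⟨h.1, h.2.2.1, h.2.2.2.1, h.2.1, fun x hx hxb hxc hxa => h.2.2.2.2 x hx hxa hxb hxc⟩

theorem exists_isTr (G : Subgroup (Perm α)) (k : ℕ) (hG : Trans G k) (Γ : Finset α) (hΓ : Γ.card = k)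
    {a b : α} (ha : a ∈ Γ) (hb : b ∈ Γ) : ∃ τ, IsTr G Γ τ a b := by
  obtain ⟨g, hg, hgz⟩ := exists_extend G k hG Γ hΓ (swap a b)
  refine ⟨g, hg, ?_, ?_, ?_⟩
  · rw [hgz a ha, swap_apply_left]
  · rw [hgz b hb, swap_apply_right]
  · intro x hx hxa hxb
    rw [hgz x hx, swap_apply_of_ne_of_ne hxa hxb]

theorem exists_is3 (G : Subgroup (Perm α)) (k : ℕ) (hG : Trans G k) (Γ : Finset α) (hΓ : Γ.card = k)
    {a b c : α} (ha : a ∈ Γ) (hb : b ∈ Γ) (hc : c ∈ Γ) (hab : a ≠ b) (hac : a ≠ c) (hbc : b ≠ c) :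
    ∃ ρ, Is3 G Γ ρ a b c := by
  obtain ⟨g, hg, hgz⟩ := exists_extend G k hG Γ hΓ (swap a b * swap b c)
  refine ⟨g, hg, ?_, ?_, ?_, ?_⟩
  · rw [hgz a ha, Perm.mul_apply, swap_apply_of_ne_of_ne hab hac, swap_apply_left]
  · rw [hgz b hb, Perm.mul_apply, swap_apply_left, swap_apply_of_ne_of_ne hac.symm hbc.symm]
  · rw [hgz c hc, Perm.mul_apply, swap_apply_right, swap_apply_right]
  · intro x hx hxa hxb hxc
    rw [hgz x hx, Perm.mul_apply, swap_apply_of_ne_of_ne hxb hxc, swap_apply_of_ne_of_ne hxa hxb]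

section tr

variable {G : Subgroup (Perm α)} {k : ℕ} {Γ : Finset α} {τ : Perm α} {a b : α}

theorem IsTr.mapsTo (h : IsTr G Γ τ a b) (ha : a ∈ Γ) (hb : b ∈ Γ) : ∀ x ∈ Γ, τ x ∈ Γ := by
  intro x hx
  by_cases hxa : x = a
  · rw [hxa, h.2.1]; exact hb
  by_cases hxb : x = b
  · rw [hxb, h.2.2.1]; exact ha
  rw [h.2.2.2 x hx hxa hxb]; exact hx

theorem IsTr.sq (hs : Sharp G k) (hΓ : Γ.card = k) (h : IsTr G Γ τ a b) : τ * τ = 1 := by
  apply hs (τ * τ) (G.mul_mem h.1 h.1) Γ hΓ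
  intro x hx
  rw [Perm.mul_apply]
  by_cases hxa : x = a
  · rw [hxa, h.2.1, h.2.2.1]
  by_cases hxb : x = b
  · rw [hxb, h.2.2.1, h.2.1]
  rw [h.2.2.2 x hx hxa hxb, h.2.2.2 x hx hxa hxb]

theorem IsTr.sq_apply (hs : Sharp G k) (hΓ : Γ.card = k) (h : IsTr G Γ τ a b) (x : α) : τ (τ x) = x := by
  have := congrArg (fun f : Perm α => f x) (h.sq hs hΓ)
  simpa [Perm.mul_apply] using this

theorem IsTr.notMem (hs : Sharp G k) (hΓ : Γ.card = k) (h : IsTr G Γ τ a b) (ha : a ∈ Γ) (hb : b ∈ Γ)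
    {w : α} (hw : w ∉ Γ) : τ w ∉ Γ := by
  intro hmem
  have := h.mapsTo ha hb _ hmem
  rw [h.sq_apply hs hΓ] at this
  exact hw this

theorem image_eq_of_mapsTo {g : Perm α} (h : ∀ x ∈ Γ, g x ∈ Γ) : Γ.image g = Γ := by
  apply Finset.eq_of_subset_of_card_le
  · intro y hy
    obtain ⟨x, hx, rfl⟩ := Finset.mem_image.1 hy
    exact h x hx
  · rw [Finset.card_image_of_injective _ g.injective]

theorem IsTr.image (h : IsTr G Γ τ a b) (ha : a ∈ Γ) (hb : b ∈ Γ) : Γ.image τ = Γ :=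
  image_eq_of_mapsTo (h.mapsTo ha hb)

/-- A transposition extension has at most one fixed point outside `Γ`. -/
theorem IsTr.fixed_unique (hs : Sharp G k) (hk : 2 ≤ k) (hΓ : Γ.card = k) (h : IsTr G Γ τ a b)
    (ha : a ∈ Γ) (hb : b ∈ Γ) (hab : a ≠ b) {w w' : α} (hw : w ∉ Γ) (hw' : w' ∉ Γ) (hτw : τ w = w)
    (hτw' : τ w' = w') : w = w' := by
  by_contra hne
  have hbmem : b ∈ Γ.erase a := Finset.mem_erase.2 ⟨hab.symm, hb⟩
  have hc0 : ((Γ.erase a).erase b).card = k - 1 - 1 := by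
    rw [Finset.card_erase_of_mem hbmem, Finset.card_erase_of_mem ha, hΓ]
  have hw'0 : w' ∉ (Γ.erase a).erase b := fun hm =>
    hw' (Finset.mem_of_mem_erase (Finset.mem_of_mem_erase hm))
  have hw0 : w ∉ insert w' ((Γ.erase a).erase b) := by
    intro hm
    rcases Finset.mem_insert.1 hm with hm | hm
    · exact hne hm
    · exact hw (Finset.mem_of_mem_erase (Finset.mem_of_mem_erase hm))
  have hcard : (insert w (insert w' ((Γ.erase a).erase b))).card = k := by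
    rw [Finset.card_insert_of_notMem hw0, Finset.card_insert_of_notMem hw'0, hc0]
    omega
  have h1 : τ = 1 := by
    apply hs τ h.1 _ hcard
    intro x hx
    rcases Finset.mem_insert.1 hx with rfl | hx
    · exact hτw
    rcases Finset.mem_insert.1 hx with rfl | hx
    · exact hτw'
    have hxb : x ≠ b := (Finset.mem_erase.1 hx).1
    have hx' := (Finset.mem_erase.1 hx).2
    have hxa : x ≠ a := (Finset.mem_erase.1 hx').1
    exact h.2.2.2 x (Finset.mem_erase.1 hx').2 hxa hxb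
  have := h.2.1
  rw [h1] at this
  exact hab this

end tr

section three

variable {G : Subgroup (Perm α)} {k : ℕ} {Γ : Finset α} {ρ : Perm α} {a b c : α}

theorem Is3.cube (hs : Sharp G k) (hΓ : Γ.card = k) (h : Is3 G Γ ρ a b c) : ρ ^ 3 = 1 := by
  apply hs (ρ ^ 3) (G.pow_mem h.1 3) Γ hΓ
  intro x hx
  have h3 : (ρ ^ 3) x = ρ (ρ (ρ x)) := by
    simp [pow_succ, Perm.mul_apply]
  rw [h3]
  by_cases hxa : x = a
  · rw [hxa, h.2.1, h.2.2.1, h.2.2.2.1]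
  by_cases hxb : x = b
  · rw [hxb, h.2.2.1, h.2.2.2.1, h.2.1]
  by_cases hxc : x = c
  · rw [hxc, h.2.2.2.1, h.2.1, h.2.2.1]
  rw [h.2.2.2.2 x hx hxa hxb hxc, h.2.2.2.2 x hx hxa hxb hxc, h.2.2.2.2 x hx hxa hxb hxc]

/-- A 3-cycle extension has exactly one fixed point outside `Γ`. -/
theorem Is3.exists_unique_fixed (hs : Sharp G k) (hk : 3 ≤ k) (hn : Fintype.card α = k + 7)
    (hΓ : Γ.card = k) (h : Is3 G Γ ρ a b c) (ha : a ∈ Γ) (hb : b ∈ Γ) (hc : c ∈ Γ) (hab : a ≠ b)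
    (hac : a ≠ c) (hbc : b ≠ c) :
    ∃ w, w ∉ Γ ∧ ρ w = w ∧ ∀ w', w' ∉ Γ → ρ w' = w' → w' = w := by
  have : Fact (Nat.Prime 3) := ⟨Nat.prime_three⟩
  have hcube : ρ ^ 3 ^ 1 = 1 := by rw [pow_one]; exact h.cube hs hΓ
  have hmod := Equiv.Perm.card_compl_support_modEq hcube
  set Fx : Finset α := ρ.supportᶜ with hFx
  have hmemFx : ∀ x, x ∈ Fx ↔ ρ x = x := fun x => by
    rw [hFx, Finset.mem_compl, Perm.notMem_support]
  -- the part inside Γ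
  have hin : Fx.filter (· ∈ Γ) = Γ \ {a, b, c} := by
    ext x
    simp only [Finset.mem_filter, Finset.mem_sdiff, Finset.mem_insert, Finset.mem_singleton, hmemFx]
    constructor
    · rintro ⟨hfix, hxΓ⟩
      refine ⟨hxΓ, ?_⟩
      rintro (rfl | rfl | rfl)
      · rw [h.2.1] at hfix; exact hab hfix.symm
      · rw [h.2.2.1] at hfix; exact hbc hfix.symm
      · rw [h.2.2.2.1] at hfix; exact hac hfix
    · rintro ⟨hxΓ, hx⟩
      push Not at hx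
      exact ⟨h.2.2.2.2 x hxΓ hx.1 hx.2.1 hx.2.2, hxΓ⟩
  have hsub : ({a, b, c} : Finset α) ⊆ Γ := by
    intro x hx
    simp only [Finset.mem_insert, Finset.mem_singleton] at hx
    rcases hx with rfl | rfl | rfl
    · exact ha
    · exact hb
    · exact hc
  have hc3 : ({a, b, c} : Finset α).card = 3 := Finset.card_eq_three.2 ⟨a, b, c, hab, hac, hbc, rfl⟩
  have hcin : (Fx.filter (· ∈ Γ)).card = k - 3 := by
    rw [hin, Finset.card_sdiff_of_subset hsub, hΓ, hc3]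
  have hsplit := Finset.card_filter_add_card_filter_not (s := Fx) (fun x => x ∈ Γ)
  set FW : Finset α := Fx.filter (fun x => ¬ x ∈ Γ) with hFW
  -- at most k - 1 fixed points in all
  have hlt : Fx.card < k := by
    by_contra hge
    push Not at hge
    obtain ⟨t, htsub, htcard⟩ := Finset.exists_subset_card_eq hge
    have h1 : ρ = 1 := hs ρ h.1 t htcard (fun x hx => (hmemFx x).1 (htsub hx))
    have := h.2.1
    rw [h1] at this
    exact hab this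
  have hFW1 : FW.card = 1 := by
    rw [hn] at hmod
    unfold Nat.ModEq at hmod
    omega
  obtain ⟨w, hw⟩ := Finset.card_eq_one.1 hFW1
  have hwmem : ∀ x, x ∈ FW ↔ x = w := fun x => by rw [hw, Finset.mem_singleton]
  have hmemFW : ∀ x, x ∈ FW ↔ ρ x = x ∧ x ∉ Γ := fun x => by
    rw [hFW, Finset.mem_filter, hmemFx]
  refine ⟨w, ((hmemFW w).1 ((hwmem w).2 rfl)).2, ((hmemFW w).1 ((hwmem w).2 rfl)).1, ?_⟩
  intro w' hw' hρw'
  exact (hwmem w').1 ((hmemFW w').2 ⟨hρw', hw'⟩)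

/-- A transposition extension `(a b)` fixes the fixed point of a 3-cycle extension `(a b c)`. -/
theorem Is3.fixed_of_isTr (hs : Sharp G k) (hΓ : Γ.card = k) (h : Is3 G Γ ρ a b c) {τ : Perm α}
    (hτ : IsTr G Γ τ a b) (ha : a ∈ Γ) (hb : b ∈ Γ) (hc : c ∈ Γ) (hac : a ≠ c)
    (hbc : b ≠ c) {w : α} (hw : w ∉ Γ) (hρw : ρ w = w)
    (huniq : ∀ w', w' ∉ Γ → ρ w' = w' → w' = w) : τ w = w := by
  have hprod : ρ * τ * ρ * τ = 1 := by
    apply hs _ (G.mul_mem (G.mul_mem (G.mul_mem h.1 hτ.1) h.1) hτ.1) Γ hΓ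
    intro x hx
    simp only [Perm.mul_apply]
    by_cases hxa : x = a
    · rw [hxa, hτ.2.1, h.2.2.1, hτ.2.2.2 c hc hac.symm hbc.symm, h.2.2.2.1]
    by_cases hxb : x = b
    · rw [hxb, hτ.2.2.1, h.2.1, hτ.2.2.1, h.2.1]
    by_cases hxc : x = c
    · rw [hxc, hτ.2.2.2 c hc hac.symm hbc.symm, h.2.2.2.1, hτ.2.1, h.2.2.1]
    rw [hτ.2.2.2 x hx hxa hxb, h.2.2.2.2 x hx hxa hxb hxc, hτ.2.2.2 x hx hxa hxb,
      h.2.2.2.2 x hx hxa hxb hxc]
  apply huniq _ (hτ.notMem hs hΓ ha hb hw)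
  have := congrArg (fun f : Perm α => f (τ w)) hprod
  simp only [Perm.mul_apply, Perm.one_apply] at this
  rw [hτ.sq_apply hs hΓ, hρw] at this
  exact this

end three

theorem sharp_common_fixed (G : Subgroup (Perm α)) (k : ℕ) (hk : 4 ≤ k) (hn : Fintype.card α = k + 7)
    (hG : Trans G k) (hs : Sharp G k) (Γ : Finset α) (hΓ : Γ.card = k) :
    ∃ w₀ : α, w₀ ∉ Γ ∧ (∀ g ∈ G, Γ.image g = Γ → g w₀ = w₀) ∧
      ∀ g ∈ G, Γ.image g = Γ → ∀ a ∈ Γ, ∀ b ∈ Γ, a ≠ b → g a = b → g b = a →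
        (∀ x ∈ Γ, x ≠ a → x ≠ b → g x = x) → ∀ w, w ∉ Γ → g w = w → w = w₀ := by
  -- three base points
  obtain ⟨a₀, ha₀, b₀, hb₀, c₀, hc₀, hab₀, hac₀, hbc₀⟩ :=
    Finset.two_lt_card.1 (show 2 < Γ.card by omega)
  obtain ⟨ρ₀, hρ₀⟩ := exists_is3 G k hG Γ hΓ ha₀ hb₀ hc₀ hab₀ hac₀ hbc₀
  obtain ⟨w₀, hw₀Γ, hρ₀w₀, huniq₀⟩ :=
    hρ₀.exists_unique_fixed hs (by omega) hn hΓ ha₀ hb₀ hc₀ hab₀ hac₀ hbc₀
  -- the propagation step
  have step : ∀ a ∈ Γ, ∀ b ∈ Γ, ∀ c ∈ Γ, a ≠ b → a ≠ c → b ≠ c →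
      (∀ τ, IsTr G Γ τ a b → τ w₀ = w₀) → ∀ τ', IsTr G Γ τ' a c → τ' w₀ = w₀ := by
    intro a ha b hb c hc hab hac hbc hP τ' hτ'
    obtain ⟨τ, hτ⟩ := exists_isTr G k hG Γ hΓ ha hb
    obtain ⟨ρ, hρ⟩ := exists_is3 G k hG Γ hΓ ha hb hc hab hac hbc
    obtain ⟨w, hwΓ, hρw, huniq⟩ := hρ.exists_unique_fixed hs (by omega) hn hΓ ha hb hc hab hac hbc
    have h1 : τ w = w := hρ.fixed_of_isTr hs hΓ hτ ha hb hc hac hbc hwΓ hρw huniq
    have h2 : τ w₀ = w₀ := hP τ hτ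
    have hww : w = w₀ := hτ.fixed_unique hs (by omega) hΓ ha hb hab hwΓ hw₀Γ h1 h2
    -- τ' = (c a), ρ = (c a b)
    have hρ' : Is3 G Γ ρ c a b := hρ.rot.rot
    have h3 : τ' w = w :=
      hρ'.fixed_of_isTr hs hΓ hτ'.symm hc ha hb hbc.symm hab hwΓ hρw huniq
    rw [hww] at h3
    exact h3
  have base : ∀ τ, IsTr G Γ τ a₀ b₀ → τ w₀ = w₀ := fun τ hτ =>
    hρ₀.fixed_of_isTr hs hΓ hτ ha₀ hb₀ hc₀ hac₀ hbc₀ hw₀Γ hρ₀w₀ huniq₀
  -- all pairs through a₀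
  have hA1 : ∀ c ∈ Γ, a₀ ≠ c → ∀ τ, IsTr G Γ τ a₀ c → τ w₀ = w₀ := by
    intro c hc ha₀c
    by_cases hcb : c = b₀
    · subst hcb; exact base
    · exact step a₀ ha₀ b₀ hb₀ c hc hab₀ ha₀c (fun h => hcb h.symm) base
  have hA : ∀ a ∈ Γ, ∀ b ∈ Γ, a ≠ b → ∀ τ, IsTr G Γ τ a b → τ w₀ = w₀ := by
    intro a ha b hb hab
    by_cases haa : a = a₀
    · subst haa; exact hA1 b hb hab
    · -- P(a, a₀) by symmetry
      have hPa : ∀ τ, IsTr G Γ τ a a₀ → τ w₀ = w₀ := fun τ hτ =>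
        hA1 a ha (fun h => haa h.symm) τ hτ.symm
      by_cases hba : b = a₀
      · subst hba; exact hPa
      · exact step a ha a₀ ha₀ b hb haa hab (fun h => hba h.symm) hPa
  -- uniqueness clause
  have hU : ∀ g ∈ G, ∀ a ∈ Γ, ∀ b ∈ Γ, a ≠ b → g a = b → g b = a →
      (∀ x ∈ Γ, x ≠ a → x ≠ b → g x = x) → ∀ w, w ∉ Γ → g w = w → w = w₀ := by
    intro g hg a ha b hb hab hga hgb hfix w hw hgw
    have hτ : IsTr G Γ g a b := ⟨hg, hga, hgb, hfix⟩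
    exact hτ.fixed_unique hs (by omega) hΓ ha hb hab hw hw₀Γ hgw (hA a ha b hb hab g hτ)
  refine ⟨w₀, hw₀Γ, ?_, fun g hg _ a ha b hb hab hga hgb hfix w hw hgw =>
    hU g hg a ha b hb hab hga hgb hfix w hw hgw⟩
  -- every element of the setwise stabiliser fixes w₀
  intro g hg himg
  have hgΓ : ∀ x ∈ Γ, g x ∈ Γ := fun x hx => by
    rw [← himg]; exact Finset.mem_image_of_mem g hx
  have hginvΓ : ∀ x ∈ Γ, g⁻¹ x ∈ Γ := fun x hx => by
    rw [← himg] at hx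
    obtain ⟨y, hy, rfl⟩ := Finset.mem_image.1 hx
    rw [perm_inv_apply_self]; exact hy
  obtain ⟨τ, hτ⟩ := exists_isTr G k hG Γ hΓ ha₀ hb₀
  have hτ' : IsTr G Γ (g * τ * g⁻¹) (g a₀) (g b₀) := by
    refine ⟨G.mul_mem (G.mul_mem hg hτ.1) (G.inv_mem hg), ?_, ?_, ?_⟩
    · simp only [Perm.mul_apply, perm_inv_apply_self, hτ.2.1]
    · simp only [Perm.mul_apply, perm_inv_apply_self, hτ.2.2.1]
    · intro x hx hxa hxb
      simp only [Perm.mul_apply]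
      have h1 : g⁻¹ x ≠ a₀ := fun h => hxa (by rw [← h, perm_apply_inv_self])
      have h2 : g⁻¹ x ≠ b₀ := fun h => hxb (by rw [← h, perm_apply_inv_self])
      rw [hτ.2.2.2 _ (hginvΓ x hx) h1 h2, perm_apply_inv_self]
  have hgab : g a₀ ≠ g b₀ := fun h => hab₀ (g.injective h)
  have hfix1 : (g * τ * g⁻¹) w₀ = w₀ := hA _ (hgΓ _ ha₀) _ (hgΓ _ hb₀) hgab _ hτ'
  have hfix2 : (g * τ * g⁻¹) (g w₀) = g w₀ := by
    simp only [Perm.mul_apply, perm_inv_apply_self]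
    rw [hA a₀ ha₀ b₀ hb₀ hab₀ τ hτ]
  have hgw₀ : g w₀ ∉ Γ := by
    intro hmem
    have := hginvΓ _ hmem
    rw [perm_inv_apply_self] at this
    exact hw₀Γ this
  exact hτ'.fixed_unique hs (by omega) hΓ (hgΓ _ ha₀) (hgΓ _ hb₀) hgab hgw₀ hw₀Γ hfix2 hfix1

/-- Generation of the symmetric group on `Δ` by swaps (local copy of [SYMGEN]). -/
theorem inducesSym_of_swaps_aux (G : Subgroup (Perm α)) (Δ : Finset α)
    (h : ∀ x ∈ Δ, ∀ y ∈ Δ, x ≠ y → ∃ g ∈ G, g x = y ∧ g y = x ∧ ∀ z ∈ Δ, z ≠ x → z ≠ y → g z = z) :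
    InducesSym G Δ := by
  intro σ
  induction σ using Equiv.Perm.swap_induction_on with
  | one => exact ⟨1, G.one_mem, fun x => rfl⟩
  | swap_mul f x y hxy ih =>
    obtain ⟨g₂, hg₂, hg₂f⟩ := ih
    obtain ⟨g₁, hg₁, hg₁x, hg₁y, hg₁z⟩ := h x x.2 y y.2 (fun h => hxy (Subtype.ext h))
    refine ⟨g₁ * g₂, G.mul_mem hg₁ hg₂, fun z => ?_⟩
    rw [Perm.mul_apply, hg₂f z, Perm.mul_apply]
    by_cases hzx : f z = x
    · rw [hzx, hg₁x, swap_apply_left]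
    by_cases hzy : f z = y
    · rw [hzy, hg₁y, swap_apply_right]
    rw [swap_apply_of_ne_of_ne hzx hzy]
    exact hg₁z _ (f z).2 (fun h => hzx (Subtype.ext h)) (fun h => hzy (Subtype.ext h))

theorem sharp_case (G : Subgroup (Perm α)) (k : ℕ) (hk : 4 ≤ k) (hn : Fintype.card α = k + 7)
    (hG : Trans G k) (hs : Sharp G k) : ∃ Δ : Finset α, Δ.card = k + 1 ∧ InducesSym G Δ := by
  obtain ⟨Γ, -, hΓ⟩ := Finset.exists_subset_card_eq (s := (Finset.univ : Finset α)) (n := k)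
    (by rw [Finset.card_univ, hn]; omega)
  obtain ⟨w₀, hw₀Γ, hN, hU⟩ := sharp_common_fixed G k hk hn hG hs Γ hΓ
  refine ⟨insert w₀ Γ, by rw [Finset.card_insert_of_notMem hw₀Γ, hΓ], ?_⟩
  -- swapping a point of Γ with w₀
  have hswap : ∀ x ∈ Γ, ∃ g ∈ G, g x = w₀ ∧ g w₀ = x ∧ ∀ z ∈ Γ, z ≠ x → g z = z := by
    intro x hx
    -- pick e ∈ Γ, e ≠ x
    obtain ⟨e, he, hex⟩ : ∃ e ∈ Γ, e ≠ x := by
      obtain ⟨p, hp, q, hq, hpq⟩ := Finset.one_lt_card.1 (show 1 < Γ.card by omega)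
      by_cases hpx : p = x
      · exact ⟨q, hq, fun h => hpq (hpx.trans h.symm)⟩
      · exact ⟨p, hp, hpx⟩
    set Γ' : Finset α := insert w₀ (Γ.erase e) with hΓ'def
    have hw₀e : w₀ ∉ Γ.erase e := fun h => hw₀Γ (Finset.mem_of_mem_erase h)
    have hΓ' : Γ'.card = k := by
      rw [hΓ'def, Finset.card_insert_of_notMem hw₀e, Finset.card_erase_of_mem he, hΓ]
      omega
    have heΓ' : e ∉ Γ' := by
      intro h
      rcases Finset.mem_insert.1 h with h | h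
      · exact hw₀Γ (h ▸ he)
      · exact (Finset.mem_erase.1 h).1 rfl
    obtain ⟨w₀', hw₀'Γ', hN', hU'⟩ := sharp_common_fixed G k hk hn hG hs Γ' hΓ'
    -- a ≠ b in Γ \ {e}
    obtain ⟨a, ha, b, hb, hab⟩ := Finset.one_lt_card.1
      (show 1 < (Γ.erase e).card by rw [Finset.card_erase_of_mem he, hΓ]; omega)
    have haΓ : a ∈ Γ := Finset.mem_of_mem_erase ha
    have hbΓ : b ∈ Γ := Finset.mem_of_mem_erase hb
    have hae : a ≠ e := (Finset.mem_erase.1 ha).1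
    have hbe : b ≠ e := (Finset.mem_erase.1 hb).1
    obtain ⟨τ, hτ⟩ := exists_isTr G k hG Γ hΓ haΓ hbΓ
    have hτw₀ : τ w₀ = w₀ := hN τ hτ.1 (hτ.image haΓ hbΓ)
    have hτe : τ e = e := hτ.2.2.2 e he hae.symm hbe.symm
    -- τ stabilises Γ'
    have hτΓ' : ∀ z ∈ Γ', τ z ∈ Γ' := by
      intro z hz
      rcases Finset.mem_insert.1 hz with rfl | hz
      · rw [hτw₀]; exact Finset.mem_insert_self _ _
      · apply Finset.mem_insert_of_mem
        have hzΓ := Finset.mem_of_mem_erase hz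
        have hze := (Finset.mem_erase.1 hz).1
        refine Finset.mem_erase.2 ⟨?_, hτ.mapsTo haΓ hbΓ z hzΓ⟩
        intro h
        have : τ (τ z) = τ e := by rw [h]
        rw [hτ.sq_apply hs hΓ, hτe] at this
        exact hze this
    have hτimg : Γ'.image τ = Γ' := image_eq_of_mapsTo hτΓ'
    have hee : e = w₀' := by
      refine hU' τ hτ.1 hτimg a (Finset.mem_insert_of_mem ha) b (Finset.mem_insert_of_mem hb) hab
        hτ.2.1 hτ.2.2.1 ?_ e heΓ' hτe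
      intro z hz hza hzb
      rcases Finset.mem_insert.1 hz with rfl | hz
      · exact hτw₀
      · exact hτ.2.2.2 z (Finset.mem_of_mem_erase hz) hza hzb
    -- the extension of the transposition (x w₀) of Γ'
    have hxΓ' : x ∈ Γ' := Finset.mem_insert_of_mem (Finset.mem_erase.2 ⟨fun h => hex h.symm, hx⟩)
    have hw₀Γ' : w₀ ∈ Γ' := Finset.mem_insert_self _ _
    obtain ⟨g, hg⟩ := exists_isTr G k hG Γ' hΓ' hxΓ' hw₀Γ'
    have hge : g e = e := by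
      have := hN' g hg.1 (hg.image hxΓ' hw₀Γ')
      rw [← hee] at this
      exact this
    refine ⟨g, hg.1, hg.2.1, hg.2.2.1, ?_⟩
    intro z hz hzx
    by_cases hze : z = e
    · rw [hze]; exact hge
    · have hzΓ' : z ∈ Γ' := Finset.mem_insert_of_mem (Finset.mem_erase.2 ⟨hze, hz⟩)
      exact hg.2.2.2 z hzΓ' hzx (fun h => hw₀Γ (h ▸ hz))
  apply inducesSym_of_swaps_aux
  intro x hx y hy hxy
  rcases Finset.mem_insert.1 hx with rfl | hxΓ
  · -- x = w₀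
    rcases Finset.mem_insert.1 hy with rfl | hyΓ
    · exact absurd rfl hxy
    · obtain ⟨g, hg, hgy, hgw, hgz⟩ := hswap y hyΓ
      refine ⟨g, hg, hgw, hgy, ?_⟩
      intro z hz hzx hzy
      rcases Finset.mem_insert.1 hz with rfl | hzΓ
      · exact absurd rfl hzx
      · exact hgz z hzΓ hzy
  · rcases Finset.mem_insert.1 hy with rfl | hyΓ
    · obtain ⟨g, hg, hgx, hgw, hgz⟩ := hswap x hxΓ
      refine ⟨g, hg, hgx, hgw, ?_⟩
      intro z hz hzx hzy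
      rcases Finset.mem_insert.1 hz with rfl | hzΓ
      · exact absurd rfl hzy
      · exact hgz z hzΓ hzx
    · obtain ⟨τ, hτ⟩ := exists_isTr G k hG Γ hΓ hxΓ hyΓ
      refine ⟨τ, hτ.1, hτ.2.1, hτ.2.2.1, ?_⟩
      intro z hz hzx hzy
      rcases Finset.mem_insert.1 hz with rfl | hzΓ
      · exact hN τ hτ.1 (hτ.image hxΓ hyΓ)
      · exact hτ.2.2.2 z hzΓ hzx hzy

end Cfsg.Agent.Lib.Helper3.LW
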