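import Mathlib
import Cfsg.Agent.S0188
import Cfsg.Agent.Lib.Helper81.IrrTwist
import Cfsg.Agent.Lib.Helper78.CharValues
import Cfsg.Agent.Lib.Helper75.Clifford

/-!
# Characters of finite powers `ι → A` of a finite group

* `decomp`: every irreducible character of `ι → A` is a product of irreducible characters of `A`.
* `indFun_pi`: induction from `Subgroup.pi` of a product function is the product of the
  induced functions.
-/

set_option autoImplicit false

namespace Cfsg.Agent.Lib.Helper3.PiChar

open Cfsg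

universe u v

/-- `(Option α → A) ≃* A × (α → A)` -/
def optionEquiv (α : Type v) (A : Type u) [Group A] : (Option α → A) ≃* A × (α → A) where
  toFun f := (f none, fun i => f (some i))
  invFun p := fun o => Option.elim o p.1 p.2
  left_inv f := by
    funext o
    cases o <;> rfl
  right_inv p := rfl
  map_mul' f g := rfl

/-- every irreducible character of a finite power of `A` is a product of irreducible characters
of `A` -/
theorem decomp {A : Type u} [Group A] [Finite A] (ι : Type v) [Fintype ι] :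
    ∀ θ : (ι → A) → ℂ, IsIrrCharacter (ι → A) θ →
      ∃ φ : ι → A → ℂ, (∀ i, IsIrrCharacter A (φ i)) ∧ ∀ a, θ a = ∏ i, φ i (a i) := by
  refine Fintype.induction_empty_option
    (P := fun ι _ => ∀ θ : (ι → A) → ℂ, IsIrrCharacter (ι → A) θ →
      ∃ φ : ι → A → ℂ, (∀ i, IsIrrCharacter A (φ i)) ∧ ∀ a, θ a = ∏ i, φ i (a i)) ?_ ?_ ?_ ι
  · intro α β _ e ih θ hθ
    let _ : Fintype α := Fintype.ofEquiv β e.symm
    let E : (α → A) ≃* (β → A) := MulEquiv.arrowCongr e (MulEquiv.refl A)
    obtain ⟨φ, hφ, hprod⟩ := ih (θ ∘ E) (Cfsg.Agent.Lib.Helper81.isIrrCharacter_comp_mulEquiv hθ E)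
    refine ⟨fun j => φ (e.symm j), fun j => hφ _, fun b => ?_⟩
    have h1 := hprod (E.symm b)
    simp only [Function.comp_apply, MulEquiv.apply_symm_apply] at h1
    rw [h1]
    apply Fintype.prod_equiv e
    intro i
    simp [E, MulEquiv.arrowCongr]
  · intro θ hθ
    have : IsMulCommutative (PEmpty.{v+1} → A) := ⟨⟨fun a b => Subsingleton.elim _ _⟩⟩
    refine ⟨fun i => PEmpty.elim i, fun i => PEmpty.elim i, fun a => ?_⟩
    have h1 : a = 1 := Subsingleton.elim _ _
    rw [h1, Cfsg.Agent.Lib.Helper78.IsIrrCharacter.map_one_of_comm hθ]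
    simp
  · intro α _ ih θ hθ
    let E := optionEquiv α A
    have h1 : IsIrrCharacter (A × (α → A)) (θ ∘ E.symm) :=
      Cfsg.Agent.Lib.Helper81.isIrrCharacter_comp_mulEquiv hθ E.symm
    obtain ⟨φ0, ψ, hφ0, hψ, h2⟩ := (Cfsg.Agent.S0188.result _).mp h1
    obtain ⟨φ, hφ, hprod⟩ := ih ψ hψ
    refine ⟨fun o => Option.elim o φ0 φ, fun o => ?_, fun f => ?_⟩
    · cases o
      · exact hφ0
      · exact hφ _
    · have h3 := congrFun h2 (E f)
      simp only [Function.comp_apply, MulEquiv.symm_apply_apply] at h3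
      rw [h3, Fintype.prod_option, hprod]
      rfl

section Ind

variable {ι : Type v} [Fintype ι] {A : Type u} [Group A]

/-- extension by zero is multiplicative over `Subgroup.pi` -/
theorem extendByZero_pi (H : ι → Subgroup A) (lam : ∀ i, H i → ℂ) (b : ι → A) :
    extendByZero (Subgroup.pi Set.univ H)
      (fun h => ∏ i, lam i ⟨h.1 i, h.2 i (Set.mem_univ i)⟩) b =
      ∏ i, extendByZero (H i) (lam i) (b i) := by
  classical
  by_cases hb : b ∈ Subgroup.pi Set.univ H
  · rw [Cfsg.Agent.Lib.Helper75.extendByZero_of_mem _ _ hb]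
    apply Finset.prod_congr rfl
    intro i _
    rw [Cfsg.Agent.Lib.Helper75.extendByZero_of_mem _ _ (hb i (Set.mem_univ i))]
  · rw [Cfsg.Agent.Lib.Helper75.extendByZero_of_not_mem _ _ hb]
    have : ∃ i, b i ∉ H i := by
      by_contra hcon
      push Not at hcon
      exact hb (fun i _ => hcon i)
    obtain ⟨i, hi⟩ := this
    symm
    apply Finset.prod_eq_zero (Finset.mem_univ i)
    exact Cfsg.Agent.Lib.Helper75.extendByZero_of_not_mem _ _ hi

/-- the underlying type of `Subgroup.pi` -/
def piSubEquiv (H : ι → Subgroup A) : (Subgroup.pi Set.univ H) ≃ (∀ i, H i) where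
  toFun h := fun i => ⟨h.1 i, h.2 i (Set.mem_univ i)⟩
  invFun f := ⟨fun i => f i, fun i _ => (f i).2⟩
  left_inv _ := rfl
  right_inv _ := rfl

theorem card_pi_sub (H : ι → Subgroup A) :
    Nat.card (Subgroup.pi Set.univ H) = ∏ i, Nat.card (H i) := by
  rw [Nat.card_congr (piSubEquiv H), Nat.card_pi]

/-- induction from `Subgroup.pi` of a product function is the product of the induced functions -/
theorem indFun_pi [Fintype A] [inst : Fintype (ι → A)] (H : ι → Subgroup A)
    (lam : ∀ i, H i → ℂ) (b : ι → A) :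
    indFun (Subgroup.pi Set.univ H)
      (fun h => ∏ i, lam i ⟨h.1 i, h.2 i (Set.mem_univ i)⟩) b =
      ∏ i, indFun (H i) (lam i) (b i) := by
  classical
  have hinst : inst = Pi.instFintype := Subsingleton.elim _ _
  subst hinst
  unfold indFun
  rw [Finset.prod_mul_distrib, Fintype.prod_sum, card_pi_sub]
  push_cast
  rw [Finset.prod_inv_distrib]
  congr 1
  apply Finset.sum_congr rfl
  intro x _
  rw [extendByZero_pi]
  rfl

/-- the product of linear characters on `Subgroup.pi` -/
def piHom (H : ι → Subgroup A) (lam : ∀ i, H i →* ℂˣ) : Subgroup.pi Set.univ H →* ℂˣ where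
  toFun h := ∏ i, lam i ⟨h.1 i, h.2 i (Set.mem_univ i)⟩
  map_one' := by
    apply Finset.prod_eq_one
    intro i _
    exact map_one (lam i)
  map_mul' a b := by
    rw [← Finset.prod_mul_distrib]
    apply Finset.prod_congr rfl
    intro i _
    rw [← map_mul]
    rfl

theorem piHom_coe (H : ι → Subgroup A) (lam : ∀ i, H i →* ℂˣ) (h : Subgroup.pi Set.univ H) :
    ((piHom H lam h : ℂˣ) : ℂ) = ∏ i, ((lam i ⟨h.1 i, h.2 i (Set.mem_univ i)⟩ : ℂˣ) : ℂ) := by
  unfold piHom
  simp

end Ind

end Cfsg.Agent.Lib.Helper3.PiChar
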