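import Mathlib
import Cfsg.Agent.Lib.Helper3.PiChar
import Cfsg.Agent.Lib.Helper75.IndTrans
import Cfsg.Agent.Lib.Helper75.Monomial

/-!
# M-groups: basic closure properties

* `IsMGroup`: every irreducible character is induced from a linear character of a subgroup.
* `isMGroup_of_comm`, `isMGroup_pi`.
* `indFun_map_mulEquiv`: transport of induction along a group isomorphism.
* `monomial_of_indFun`: induction in stages for monomial characters.
-/

set_option autoImplicit false

namespace Cfsg.Agent.Lib.Helper3.MGroup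

open Cfsg

universe u v

/-- `M` is an M-group: every irreducible character is induced from a linear character. -/
def IsMGroup (M : Type u) [Group M] [Fintype M] : Prop :=
  ∀ χ : M → ℂ, IsIrrCharacter M χ →
    ∃ (H : Subgroup M) (lam : H →* ℂˣ), χ = indFun H (fun h => ((lam h : ℂˣ) : ℂ))

theorem isMGroup_of_comm (M : Type u) [Group M] [Fintype M] [IsMulCommutative M] : IsMGroup M := by
  intro χ hχ
  exact Cfsg.Agent.Lib.Helper75.monomial_of_apply_one_eq_one
    (Cfsg.Agent.Lib.Helper78.IsIrrCharacter.isCharacter hχ)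
    (Cfsg.Agent.Lib.Helper78.IsIrrCharacter.map_one_of_comm hχ)

theorem isMGroup_pi {A : Type u} [Group A] [Fintype A] (ι : Type v) [Fintype ι]
    [Fintype (ι → A)] (hA : IsMGroup A) : IsMGroup (ι → A) := by
  intro θ hθ
  obtain ⟨φ, hφ, hprod⟩ := Cfsg.Agent.Lib.Helper3.PiChar.decomp ι θ hθ
  choose H lam hlam using fun i => hA (φ i) (hφ i)
  refine ⟨Subgroup.pi Set.univ H, Cfsg.Agent.Lib.Helper3.PiChar.piHom H lam, ?_⟩
  funext b
  have h1 := Cfsg.Agent.Lib.Helper3.PiChar.indFun_pi H
    (fun i => fun h : H i => ((lam i h : ℂˣ) : ℂ)) b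
  have h2 : (fun h : Subgroup.pi Set.univ H =>
      ((Cfsg.Agent.Lib.Helper3.PiChar.piHom H lam h : ℂˣ) : ℂ)) =
      fun h => ∏ i, (fun i => fun h : H i => ((lam i h : ℂˣ) : ℂ)) i
        ⟨h.1 i, h.2 i (Set.mem_univ i)⟩ := by
    funext h
    exact Cfsg.Agent.Lib.Helper3.PiChar.piHom_coe H lam h
  rw [h2, h1, hprod]
  apply Finset.prod_congr rfl
  intro i _
  rw [← hlam i]

section Transport

variable {G : Type u} {G' : Type v} [Group G] [Fintype G] [Group G'] [Fintype G']

omit [Fintype G] [Fintype G'] in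
theorem extendByZero_map_mulEquiv (e : G ≃* G') (H : Subgroup G) (f : H → ℂ) (y : G) :
    extendByZero (H.map (e : G →* G')) (fun h' => f ((e.subgroupMap H).symm h')) (e y) =
      extendByZero H f y := by
  by_cases hy : y ∈ H
  · have hy' : e y ∈ H.map (e : G →* G') := ⟨y, hy, rfl⟩
    rw [Cfsg.Agent.Lib.Helper75.extendByZero_of_mem _ _ hy',
      Cfsg.Agent.Lib.Helper75.extendByZero_of_mem _ _ hy]
    congr 1
    rw [MulEquiv.symm_apply_eq]
    apply Subtype.ext
    rfl
  · have hy' : e y ∉ H.map (e : G →* G') := by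
      rintro ⟨z, hz, hzy⟩
      have : z = y := e.injective hzy
      exact hy (this ▸ hz)
    rw [Cfsg.Agent.Lib.Helper75.extendByZero_of_not_mem _ _ hy',
      Cfsg.Agent.Lib.Helper75.extendByZero_of_not_mem _ _ hy]

/-- transport of induction along a group isomorphism -/
theorem indFun_map_mulEquiv (e : G ≃* G') (H : Subgroup G) (f : H → ℂ) (g : G) :
    indFun (H.map (e : G →* G')) (fun h' => f ((e.subgroupMap H).symm h')) (e g) =
      indFun H f g := by
  unfold indFun
  rw [← Nat.card_congr (e.subgroupMap H).toEquiv]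
  congr 1
  symm
  apply Fintype.sum_equiv e.toEquiv
  intro x
  rw [← extendByZero_map_mulEquiv e H f]
  congr 1
  simp

end Transport

/-- induction in stages for monomial characters -/
theorem monomial_of_indFun {W : Type u} [Group W] [Fintype W] (T : Subgroup W) [Fintype T]
    (η : T → ℂ) (U : Subgroup T) (lam : U →* ℂˣ)
    (h : η = indFun U (fun u => ((lam u : ℂˣ) : ℂ))) :
    ∃ (H : Subgroup W) (mu : H →* ℂˣ), indFun T η = indFun H (fun h => ((mu h : ℂˣ) : ℂ)) := by
  refine ⟨U.map T.subtype,
    lam.comp (U.equivMapOfInjective T.subtype T.subtype_injective).symm.toMonoidHom, ?_⟩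
  rw [h, Cfsg.Agent.Lib.Helper75.indFun_indFun]
  rfl

end Cfsg.Agent.Lib.Helper3.MGroup
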