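import Cfsg.Agent.Lib.Helper3.MargQuasiB

/-!
# Marggraf (S3620), MODULE Q: quasiprimitive ⇒ primitive

`quasiprimitive_of_primitive_case`: the quasiprimitive Marggraf statement follows from the primitive
one (taken as a hypothesis `hprim`, for the fixed group `G` and all `G`-sets in one universe), by
strong induction on the degree, using the quotient of `Ω` by a nontrivial block.
-/

namespace Cfsg.Agent.Lib.Helper3.MargQuasi

open MulAction Cfsg.Agent.Lib.Helper71.Marg
open scoped Pointwise

universe u v

variable {G : Type u} [Group G] {Ω : Type v} [MulAction G Ω]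

/-- The congruence attached to a subset `B`: two points are equivalent when no translate of `B`
separates them. -/
def blockSetoid (G : Type u) [Group G] {Ω : Type v} [MulAction G Ω] (B : Set Ω) : Setoid Ω where
  r x y := ∀ g : G, g • x ∈ B ↔ g • y ∈ B
  iseqv := ⟨fun _ _ => Iff.rfl, fun h g => (h g).symm, fun h1 h2 g => (h1 g).trans (h2 g)⟩

/-- The quotient of `Ω` by the congruence attached to `B`. -/
def BlockQuot (G : Type u) [Group G] {Ω : Type v} [MulAction G Ω] (B : Set Ω) : Type v :=
  Quotient (blockSetoid G B)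

/-- The projection onto the quotient. -/
def blockProj (G : Type u) [Group G] {Ω : Type v} [MulAction G Ω] (B : Set Ω) :
    Ω → BlockQuot G B :=
  Quotient.mk (blockSetoid G B)

theorem blockProj_surjective (B : Set Ω) : Function.Surjective (blockProj G B) :=
  Quotient.mk_surjective

theorem blockProj_eq_iff (B : Set Ω) (x y : Ω) :
    blockProj G B x = blockProj G B y ↔ ∀ g : G, g • x ∈ B ↔ g • y ∈ B :=
  Quotient.eq (r := blockSetoid G B)

/-- The action of `g` on the quotient. -/
def blockSmul (B : Set Ω) (g : G) : BlockQuot G B → BlockQuot G B :=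
  Quotient.map (sa := blockSetoid G B) (sb := blockSetoid G B) (fun x => g • x)
    (fun x y h k => by
      have h' : ∀ k : G, k • x ∈ B ↔ k • y ∈ B := h
      have := h' (k * g)
      simpa [mul_smul] using this)

theorem blockSmul_mk (B : Set Ω) (g : G) (x : Ω) :
    blockSmul B g (blockProj G B x) = blockProj G B (g • x) := rfl

instance blockQuotMulAction (B : Set Ω) : MulAction G (BlockQuot G B) where
  smul g := blockSmul B g
  one_smul := by
    intro b
    obtain ⟨x, rfl⟩ := blockProj_surjective (G := G) B b
    change blockSmul B 1 (blockProj G B x) = _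
    rw [blockSmul_mk, one_smul]
  mul_smul := by
    intro g h b
    obtain ⟨x, rfl⟩ := blockProj_surjective (G := G) B b
    change blockSmul B (g * h) (blockProj G B x) = blockSmul B g (blockSmul B h (blockProj G B x))
    rw [blockSmul_mk, blockSmul_mk, blockSmul_mk, mul_smul]

theorem blockProj_smul (B : Set Ω) (g : G) (x : Ω) :
    blockProj G B (g • x) = g • blockProj G B x := rfl


/-- Two points of a block are congruent. -/
theorem blockProj_eq_of_mem {B : Set Ω} (hB : IsBlock G B) {x y : Ω} (hx : x ∈ B) (hy : y ∈ B) :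
    blockProj G B x = blockProj G B y := by
  rw [blockProj_eq_iff]
  intro g
  constructor
  · intro h
    have := hB.smul_eq_of_mem hx h
    rw [← this]
    exact Set.smul_mem_smul_set hy
  · intro h
    have := hB.smul_eq_of_mem hy h
    rw [← this]
    exact Set.smul_mem_smul_set hx

/-- A point of `B` and a point outside `B` are not congruent. -/
theorem blockProj_ne_of_mem_of_not_mem {B : Set Ω} {x z : Ω} (hx : x ∈ B) (hz : z ∉ B) :
    blockProj G B x ≠ blockProj G B z := by
  intro h
  rw [blockProj_eq_iff] at h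
  have := (h 1).mp (by simpa using hx)
  exact hz (by simpa using this)

/-- **MODULE Q**, parametrised by the primitive case: if Marggraf's theorem holds for all primitive
faithful actions of `G` (in universe `v`), it holds for all quasiprimitive faithful actions. -/
theorem quasiprimitive_of_primitive_case
    (hprim : ∀ (Ω : Type v) [MulAction G Ω] [FaithfulSMul G Ω] [Fintype Ω] [DecidableEq Ω]
      (Γ : Set Ω), IsPreprimitive G Ω → IsJordan G Γ → 1 < Γ.ncard →
      2 * Γ.ncard < Fintype.card Ω →
      ∀ σ : Equiv.Perm Ω, Equiv.Perm.sign σ = 1 →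
        ∃ x : G, (MulAction.toPerm x : Equiv.Perm Ω) = σ) :
    ∀ (n : ℕ) (Ω : Type v) [MulAction G Ω] [FaithfulSMul G Ω] [Fintype Ω] [DecidableEq Ω],
      Fintype.card Ω = n →
      (∀ N : Subgroup G, N.Normal → N ≠ ⊥ → MulAction.IsPretransitive ↥N Ω) →
      ∀ (Γ : Set Ω), IsJordan G Γ → 1 < Γ.ncard → 2 * Γ.ncard < Fintype.card Ω →
      ∀ σ : Equiv.Perm Ω, Equiv.Perm.sign σ = 1 →
        ∃ x : G, (MulAction.toPerm x : Equiv.Perm Ω) = σ := by
  intro n
  induction n using Nat.strong_induction_on with
  | _ n ih =>
    intro Ω _ _ _ _ hn hqp Γ hΓ h2 hhalf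
    by_cases hp : IsPreprimitive G Ω
    · exact hprim Ω Γ hp hΓ h2 hhalf
    · exfalso
      -- `G` is transitive
      obtain ⟨h0, hh0, hne0⟩ := exists_ne_one_of_isJordan hΓ h2
      have htop : (⊤ : Subgroup G) ≠ ⊥ := by
        intro h
        have : h0 ∈ (⊤ : Subgroup G) := Subgroup.mem_top _
        rw [h, Subgroup.mem_bot] at this
        exact hne0 this
      have htr' := hqp ⊤ inferInstance htop
      have htrans : IsPretransitive G Ω := by
        refine ⟨fun x y => ?_⟩
        obtain ⟨g, hg⟩ := htr'.exists_smul_eq x y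
        exact ⟨(g : G), hg⟩
      -- a nontrivial block
      obtain ⟨B, hB, hBtriv⟩ : ∃ B : Set Ω, IsBlock G B ∧ ¬ IsTrivialBlock B := by
        by_contra hcon
        push Not at hcon
        exact hp { toIsPretransitive := htrans, isTrivialBlock_of_isBlock := fun {B} hB => hcon B hB }
      unfold IsTrivialBlock at hBtriv
      push Not at hBtriv
      obtain ⟨hBns, hBne⟩ := hBtriv
      obtain ⟨x, hx, y, hy, hxy⟩ : ∃ x ∈ B, ∃ y ∈ B, x ≠ y := by
        exact hBns
      obtain ⟨z, hz⟩ : ∃ z, z ∉ B := by
        by_contra hcon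
        push Not at hcon
        exact hBne (Set.eq_univ_of_forall hcon)
      -- the quotient
      classical
      have : Finite (BlockQuot G B) := Quotient.finite _
      let _ : Fintype (BlockQuot G B) := Fintype.ofFinite _
      have hπ : ∀ (g : G) (w : Ω), blockProj G B (g • w) = g • blockProj G B w :=
        fun g w => blockProj_smul B g w
      have hsurj := blockProj_surjective (G := G) B
      have hfaith : FaithfulSMul G (BlockQuot G B) :=
        faithful_of_equivariant hqp (blockProj G B) hπ
          ⟨x, z, blockProj_ne_of_mem_of_not_mem hx hz⟩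
      have hninj : ∃ x y : Ω, x ≠ y ∧ blockProj G B x = blockProj G B y :=
        ⟨x, y, hxy, blockProj_eq_of_mem hB hx hy⟩
      have hT2 := one_lt_ncard_image hΓ h2 (blockProj G B) hπ hsurj
      have hThalf := two_mul_ncard_image_lt htrans hΓ h2 hhalf (blockProj G B) hπ hsurj
      have hcardlt : Fintype.card (BlockQuot G B) < n := by
        rw [← hn]
        apply Fintype.card_lt_of_surjective_not_injective _ hsurj
        intro hinj
        exact hxy (hinj (blockProj_eq_of_mem hB hx hy))
      have hqpΒ : ∀ N : Subgroup G, N.Normal → N ≠ ⊥ →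
          MulAction.IsPretransitive ↥N (BlockQuot G B) := fun N hN hNne =>
        isPretransitive_of_equivariant N (hqp N hN hNne) (blockProj G B) hπ hsurj
      have hAlt := ih (Fintype.card (BlockQuot G B)) hcardlt (BlockQuot G B) rfl hqpΒ
        (blockProj G B '' Γ) (isJordan_image hΓ (blockProj G B) hπ hsurj) hT2 hThalf
      exact crux hqp htrans hΓ h2 (blockProj G B) hπ hsurj hninj hT2 hThalf hAlt


/-- **MODULE Q** in the shape of `marggraf_quasiprimitive` (board #2145), with the primitive case
`marggraf_primitive` (MODULE E) as the hypothesis `hprim`. -/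
theorem marggraf_quasiprimitive_of {G : Type u} {Ω : Type v} [Group G] [MulAction G Ω]
    [FaithfulSMul G Ω] [Fintype Ω] [DecidableEq Ω]
    (hprim : ∀ (Ω : Type v) [MulAction G Ω] [FaithfulSMul G Ω] [Fintype Ω] [DecidableEq Ω]
      (Γ : Set Ω), IsPreprimitive G Ω → IsJordan G Γ → 1 < Γ.ncard →
      2 * Γ.ncard < Fintype.card Ω →
      ∀ σ : Equiv.Perm Ω, Equiv.Perm.sign σ = 1 →
        ∃ x : G, (MulAction.toPerm x : Equiv.Perm Ω) = σ)
    (hqp : ∀ N : Subgroup G, N.Normal → N ≠ ⊥ → MulAction.IsPretransitive ↥N Ω)
    (Γ : Set Ω) (hΓ : IsJordan G Γ) (h2 : 1 < Γ.ncard) (hhalf : 2 * Γ.ncard < Fintype.card Ω) :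
    ∀ σ : Equiv.Perm Ω, Equiv.Perm.sign σ = 1 →
      ∃ x : G, (MulAction.toPerm x : Equiv.Perm Ω) = σ :=
  quasiprimitive_of_primitive_case hprim (Fintype.card Ω) Ω rfl hqp Γ hΓ h2 hhalf

end Cfsg.Agent.Lib.Helper3.MargQuasi
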