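import Cfsg.Agent.Lib.Helper71.MargDefs

/-!
# Marggraf (S3620), MODULE Q, part A: equivariant quotients of a quasiprimitive Jordan group

Setting: `G` acts faithfully and quasiprimitively on `Ω`, `Γ` is a Jordan set, and
`π : Ω → Β` is a `G`-equivariant surjection.  We transport everything to `Β`.
-/

namespace Cfsg.Agent.Lib.Helper3.MargQuasi

open MulAction Cfsg.Agent.Lib.Helper71.Marg
open scoped Pointwise

universe u v w

variable {G : Type u} [Group G] {Ω : Type v} {Β : Type w} [MulAction G Ω] [MulAction G Β]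

/-- A nontrivial Jordan set gives a non-identity element in the fixer of the complement. -/
theorem exists_ne_one_of_isJordan {Γ : Set Ω} (hΓ : IsJordan G Γ) (h2 : 1 < Γ.ncard) :
    ∃ h ∈ fixingSubgroup G Γᶜ, h ≠ 1 := by
  obtain ⟨x, y, hx, hy, hxy⟩ := (Set.one_lt_ncard_iff (Set.finite_of_ncard_pos (by omega))).mp h2
  obtain ⟨h, hh, hxy'⟩ := hΓ x hx y hy
  refine ⟨h, hh, ?_⟩
  rintro rfl
  exact hxy (by simpa using hxy')

/-- The kernel of the action on an equivariant image with at least two points is trivial. -/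
theorem faithful_of_equivariant
    (hqp : ∀ N : Subgroup G, N.Normal → N ≠ ⊥ → IsPretransitive ↥N Ω)
    (π : Ω → Β) (hπ : ∀ (g : G) (x : Ω), π (g • x) = g • π x)
    (hΒ : ∃ x z : Ω, π x ≠ π z) : FaithfulSMul G Β := by
  obtain ⟨x, z, hxz⟩ := hΒ
  have hker : (MulAction.toPermHom G Β).ker = ⊥ := by
    by_contra hne
    have htr := hqp _ (MonoidHom.normal_ker _) hne
    obtain ⟨n, hn⟩ := htr.exists_smul_eq x z
    have hn1 : (n : G) ∈ (MulAction.toPermHom G Β).ker := n.2
    rw [MonoidHom.mem_ker] at hn1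
    have h3 : (n : G) • π x = π x := by
      have := congrArg (fun f : Equiv.Perm Β => f (π x)) hn1
      simpa using this
    apply hxz
    have h4 : (n : G) • x = z := hn
    rw [← h4, hπ, h3]
  refine ⟨fun {g₁ g₂} h => ?_⟩
  have hmem : g₁⁻¹ * g₂ ∈ (MulAction.toPermHom G Β).ker := by
    rw [MonoidHom.mem_ker]
    ext β
    simp only [MulAction.toPermHom_apply, MulAction.toPerm_apply, Equiv.Perm.coe_one, id_eq]
    rw [mul_smul, ← h β, inv_smul_smul]
  rw [hker, Subgroup.mem_bot] at hmem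
  exact (inv_mul_eq_one.mp hmem)


/-- A nontrivial subgroup transitive on `Ω` is transitive on an equivariant image. -/
theorem isPretransitive_of_equivariant (N : Subgroup G) (hN : IsPretransitive ↥N Ω)
    (π : Ω → Β) (hπ : ∀ (g : G) (x : Ω), π (g • x) = g • π x) (hsurj : Function.Surjective π) :
    IsPretransitive ↥N Β := by
  refine ⟨fun β β' => ?_⟩
  obtain ⟨x, rfl⟩ := hsurj β
  obtain ⟨x', rfl⟩ := hsurj β'
  obtain ⟨n, hn⟩ := hN.exists_smul_eq x x'
  refine ⟨n, ?_⟩
  have h4 : (n : G) • x = x' := hn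
  change (n : G) • π x = π x'
  rw [← hπ, h4]

/-- Every fibre of `π` meeting the Jordan set `Γ` lies inside `Γ`. -/
theorem fibre_subset_of_isJordan [FaithfulSMul G Β] {Γ : Set Ω} (hΓ : IsJordan G Γ)
    (h2 : 1 < Γ.ncard)
    (π : Ω → Β) (hπ : ∀ (g : G) (x : Ω), π (g • x) = g • π x) (hsurj : Function.Surjective π)
    {x z : Ω} (hxz : π x = π z) (hx : x ∈ Γ) : z ∈ Γ := by
  by_contra hz
  obtain ⟨h, hh, hne⟩ := exists_ne_one_of_isJordan hΓ h2
  apply hne
  have hfix : ∀ (k : G), k ∈ fixingSubgroup G Γᶜ → ∀ w : Ω, w ∉ Γ → k • w = w := fun k hk w hw =>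
    (mem_fixingSubgroup_compl_iff.mp hk) w hw
  apply FaithfulSMul.eq_of_smul_eq_smul (α := Β)
  intro β
  rw [one_smul]
  obtain ⟨w, rfl⟩ := hsurj β
  by_cases hw : w ∈ Γ
  · obtain ⟨k, hk, hkw⟩ := hΓ x hx w hw
    have h5 : π w = π z := by
      rw [← hkw, hπ, hxz, ← hπ, hfix k hk z hz]
    rw [h5, ← hπ, hfix h hh z hz]
  · rw [← hπ, hfix h hh w hw]

/-- The image of a Jordan set under `π` is a Jordan set. -/
theorem isJordan_image {Γ : Set Ω} (hΓ : IsJordan G Γ)
    (π : Ω → Β) (hπ : ∀ (g : G) (x : Ω), π (g • x) = g • π x) (hsurj : Function.Surjective π) :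
    IsJordan G (π '' Γ) := by
  rintro β ⟨x, hx, rfl⟩ β' ⟨y, hy, rfl⟩
  obtain ⟨k, hk, hkxy⟩ := hΓ x hx y hy
  refine ⟨k, ?_, by rw [← hπ, hkxy]⟩
  rw [mem_fixingSubgroup_compl_iff]
  intro β'' hβ''
  obtain ⟨w, rfl⟩ := hsurj β''
  have hw : w ∉ Γ := fun hw => hβ'' ⟨w, hw, rfl⟩
  rw [← hπ, (mem_fixingSubgroup_compl_iff.mp hk) w hw]

/-- `Γ` is the full preimage of its image. -/
theorem mem_iff_image_mem [FaithfulSMul G Β] {Γ : Set Ω} (hΓ : IsJordan G Γ)
    (h2 : 1 < Γ.ncard)
    (π : Ω → Β) (hπ : ∀ (g : G) (x : Ω), π (g • x) = g • π x) (hsurj : Function.Surjective π)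
    (z : Ω) : z ∈ Γ ↔ π z ∈ π '' Γ := by
  constructor
  · intro hz
    exact ⟨z, hz, rfl⟩
  · rintro ⟨x, hx, hxz⟩
    exact fibre_subset_of_isJordan hΓ h2 π hπ hsurj hxz hx

/-- The image of `Γ` has at least two points. -/
theorem one_lt_ncard_image [Finite Β] [FaithfulSMul G Β] {Γ : Set Ω} (hΓ : IsJordan G Γ)
    (h2 : 1 < Γ.ncard)
    (π : Ω → Β) (hπ : ∀ (g : G) (x : Ω), π (g • x) = g • π x) (hsurj : Function.Surjective π) :
    1 < (π '' Γ).ncard := by
  by_contra hcon
  have hsub : (π '' Γ).Subsingleton :=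
    Set.ncard_le_one_iff_subsingleton.mp (by omega)
  obtain ⟨h, hh, hne⟩ := exists_ne_one_of_isJordan hΓ h2
  apply hne
  apply FaithfulSMul.eq_of_smul_eq_smul (α := Β)
  intro β
  rw [one_smul]
  obtain ⟨w, rfl⟩ := hsurj β
  by_cases hw : w ∈ Γ
  · have h6 : h • w ∈ Γ := smul_mem_of_mem_fixingSubgroup_compl hh hw
    rw [← hπ]
    exact hsub ⟨_, h6, rfl⟩ ⟨_, hw, rfl⟩
  · rw [← hπ, (mem_fixingSubgroup_compl_iff.mp hh) w hw]


/-- All fibres of an equivariant map from a transitive `G`-set have the same cardinality, hence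
fibre counting: `#(π ⁻¹ S) = #S * b`. -/
theorem exists_fibre_card [Fintype Ω] [DecidableEq Β] (htrans : IsPretransitive G Ω)
    (π : Ω → Β) (hπ : ∀ (g : G) (x : Ω), π (g • x) = g • π x) (hsurj : Function.Surjective π) :
    ∃ b : ℕ, ∀ S : Finset Β, (Finset.univ.filter (fun x => π x ∈ S)).card = S.card * b := by
  classical
  by_cases hne : Nonempty Ω
  · obtain ⟨x0⟩ := hne
    refine ⟨(Finset.univ.filter (fun x => π x = π x0)).card, ?_⟩
    have hb : ∀ β : Β, (Finset.univ.filter (fun x => π x = β)).card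
        = (Finset.univ.filter (fun x => π x = π x0)).card := by
      intro β
      obtain ⟨y, rfl⟩ := hsurj β
      obtain ⟨g, hg⟩ := htrans.exists_smul_eq y x0
      refine Finset.card_equiv (MulAction.toPerm g) ?_
      intro i
      simp only [Finset.mem_filter, Finset.mem_univ, true_and, MulAction.toPerm_apply]
      rw [hπ, ← hg, hπ]
      exact (smul_left_cancel_iff g).symm
    intro S
    rw [Finset.card_eq_sum_card_fiberwise (f := π) (s := Finset.univ.filter (fun x => π x ∈ S))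
      (t := S) (fun x hx => (Finset.mem_filter.mp (Finset.mem_coe.mp hx)).2)]
    rw [Finset.sum_congr rfl (g := fun _ => (Finset.univ.filter (fun x => π x = π x0)).card)]
    · rw [Finset.sum_const, smul_eq_mul]
    · intro β hβ
      rw [← hb β]
      congr 1
      ext x
      simp only [Finset.mem_filter, Finset.mem_univ, true_and]
      constructor
      · exact fun h => h.2
      · exact fun h => ⟨h ▸ hβ, h⟩
  · refine ⟨0, fun S => ?_⟩
    rw [mul_zero, Finset.card_eq_zero, Finset.filter_eq_empty_iff]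
    intro x
    exact (hne ⟨x⟩).elim

/-- The size condition `2 * |Γ| < |Ω|` passes to the image. -/
theorem two_mul_ncard_image_lt [Fintype Ω] [Fintype Β] [DecidableEq Β] [FaithfulSMul G Β]
    (htrans : IsPretransitive G Ω) {Γ : Set Ω} (hΓ : IsJordan G Γ)
    (h2 : 1 < Γ.ncard) (hhalf : 2 * Γ.ncard < Fintype.card Ω)
    (π : Ω → Β) (hπ : ∀ (g : G) (x : Ω), π (g • x) = g • π x) (hsurj : Function.Surjective π) :
    2 * (π '' Γ).ncard < Fintype.card Β := by
  classical
  obtain ⟨b, hb⟩ := exists_fibre_card htrans π hπ hsurj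
  have h1 : Fintype.card Ω = Fintype.card Β * b := by
    have := hb Finset.univ
    simpa [Finset.card_univ] using this
  have h3 : Γ.ncard = (π '' Γ).ncard * b := by
    have := hb (π '' Γ).toFinset
    rw [Set.ncard_eq_toFinset_card' Γ, Set.ncard_eq_toFinset_card' (π '' Γ), ← this]
    congr 1
    ext x
    simp only [Set.mem_toFinset, Finset.mem_filter, Finset.mem_univ, true_and]
    exact mem_iff_image_mem hΓ h2 π hπ hsurj x
  rw [h1, h3] at hhalf
  have h4 : (2 * (π '' Γ).ncard) * b < Fintype.card Β * b := by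
    calc (2 * (π '' Γ).ncard) * b = 2 * ((π '' Γ).ncard * b) := by ring
      _ < _ := hhalf
  exact Nat.lt_of_mul_lt_mul_right h4

end Cfsg.Agent.Lib.Helper3.MargQuasi
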