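import Cfsg.Agent.Lib.Helper3.MargQuasiA

/-!
# Marggraf (S3620), MODULE Q, part B: the contradiction on a nontrivial equivariant quotient

`G` acts faithfully and quasiprimitively on `Ω` with Jordan set `Γ`; `π : Ω → Β` is an equivariant
surjection which is not injective, `G` is faithful on `Β` and induces every even permutation of `Β`.
Then we get a contradiction.
-/

namespace Cfsg.Agent.Lib.Helper3.MargQuasi

open MulAction Cfsg.Agent.Lib.Helper71.Marg
open scoped Pointwise

universe u v w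

variable {G : Type u} [Group G] {Ω : Type v} {Β : Type w} [MulAction G Ω] [MulAction G Β]

/-- A permutation fixing `β0` comes from a permutation of the complement of `β0`. -/
theorem exists_ofSubtype_eq [Fintype Β] [DecidableEq Β] (β0 : Β) (f : Equiv.Perm Β)
    (hf : f β0 = β0) :
    ∃ τ : Equiv.Perm {β : Β // β ≠ β0}, Equiv.Perm.ofSubtype τ = f ∧
      Equiv.Perm.sign τ = Equiv.Perm.sign f := by
  have h₁ : ∀ x, (f x ≠ β0) ↔ (x ≠ β0) := by
    intro x
    constructor
    · intro h hx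
      exact h (hx ▸ hf)
    · intro h hx
      apply h
      apply f.injective
      rw [hx, hf]
  have h₂ : ∀ x, f x ≠ x → x ≠ β0 := by
    intro x hx hx0
    exact hx (hx0 ▸ hf)
  refine ⟨f.subtypePerm h₁, Equiv.Perm.ofSubtype_subtypePerm h₁ h₂, ?_⟩
  exact Equiv.Perm.sign_subtypePerm f h₁ h₂

/-- The sign character of `G` acting on `Β`. -/
noncomputable def sgn (G : Type u) [Group G] (Β : Type w) [MulAction G Β] [Fintype Β]
    [DecidableEq Β] : G →* ℤˣ :=
  Equiv.Perm.sign.comp (MulAction.toPermHom G Β)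

theorem sgn_apply [Fintype Β] [DecidableEq Β] (g : G) :
    sgn G Β g = Equiv.Perm.sign (MulAction.toPerm g : Equiv.Perm Β) := rfl

/-- The subgroup of the alternating group of `Β \ {β0}` induced by the elements of `G` fixing the
fibre over `β0` pointwise. -/
def fibreFixer [Fintype Β] [DecidableEq Β] (π : Ω → Β) (β0 : Β) :
    Subgroup (alternatingGroup {β : Β // β ≠ β0}) where
  carrier := {τ | ∃ g : G, (∀ x, π x = β0 → g • x = x) ∧
    (MulAction.toPerm g : Equiv.Perm Β) = Equiv.Perm.ofSubtype (τ : Equiv.Perm {β : Β // β ≠ β0})}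
  one_mem' := ⟨1, fun x _ => one_smul _ x, by
    rw [show (MulAction.toPerm (1 : G) : Equiv.Perm Β) = 1 from by ext; simp]; simp⟩
  mul_mem' := by
    rintro τ₁ τ₂ ⟨g₁, hg₁, h₁⟩ ⟨g₂, hg₂, h₂⟩
    refine ⟨g₁ * g₂, fun x hx => ?_, ?_⟩
    · rw [mul_smul, hg₂ x hx, hg₁ x hx]
    · rw [Subgroup.coe_mul, map_mul, ← h₁, ← h₂]
      ext β
      simp [mul_smul]
  inv_mem' := by
    rintro τ ⟨g, hg, h⟩
    refine ⟨g⁻¹, fun x hx => ?_, ?_⟩
    · rw [inv_smul_eq_iff, hg x hx]
    · rw [Subgroup.coe_inv, map_inv, ← h]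
      ext β
      simp

theorem mem_fibreFixer [Fintype Β] [DecidableEq Β] (π : Ω → Β) (β0 : Β)
    (τ : alternatingGroup {β : Β // β ≠ β0}) :
    τ ∈ fibreFixer (G := G) π β0 ↔ ∃ g : G, (∀ x, π x = β0 → g • x = x) ∧
      (MulAction.toPerm g : Equiv.Perm Β) =
        Equiv.Perm.ofSubtype (τ : Equiv.Perm {β : Β // β ≠ β0}) := Iff.rfl

theorem fibreFixer_normal [Fintype Β] [DecidableEq Β] (π : Ω → Β)
    (hπ : ∀ (g : G) (x : Ω), π (g • x) = g • π x) (β0 : Β)
    (hAlt : ∀ σ : Equiv.Perm Β, Equiv.Perm.sign σ = 1 →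
      ∃ g : G, (MulAction.toPerm g : Equiv.Perm Β) = σ) :
    (fibreFixer (G := G) π β0).Normal := by
  refine ⟨fun τ hτ σ => ?_⟩
  obtain ⟨g, hg, hgτ⟩ := hτ
  have hσ : Equiv.Perm.sign (Equiv.Perm.ofSubtype (σ : Equiv.Perm {β : Β // β ≠ β0})) = 1 := by
    rw [Equiv.Perm.sign_ofSubtype]
    exact Equiv.Perm.mem_alternatingGroup.mp σ.2
  obtain ⟨s, hs⟩ := hAlt _ hσ
  have hsβ0 : s • β0 = β0 := by
    have := congrArg (fun f : Equiv.Perm Β => f β0) hs
    simp only [MulAction.toPerm_apply] at this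
    rw [this]
    exact Equiv.Perm.ofSubtype_apply_of_not_mem _ (by simp)
  refine ⟨s * g * s⁻¹, fun x hx => ?_, ?_⟩
  · have h1 : π (s⁻¹ • x) = β0 := by
      rw [hπ, hx, inv_smul_eq_iff, hsβ0]
    rw [mul_smul, mul_smul, hg _ h1, smul_inv_smul]
  · rw [Subgroup.coe_mul, Subgroup.coe_mul, Subgroup.coe_inv, map_mul, map_mul, map_inv, ← hgτ, ← hs]
    ext β
    simp [mul_smul]


/-- An even non-identity permutation moves at least three points. -/
theorem three_le_card_support {α : Type*} [Fintype α] [DecidableEq α] (f : Equiv.Perm α)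
    (hf : f ≠ 1) (hs : Equiv.Perm.sign f = 1) : 3 ≤ f.support.card := by
  have h0 : f.support.card ≠ 0 := fun h => hf (Equiv.Perm.card_support_eq_zero.mp h)
  have h1 : f.support.card ≠ 1 := Equiv.Perm.card_support_ne_one f
  have h2 : f.support.card ≠ 2 := by
    intro h
    have := (Equiv.Perm.card_support_eq_two.mp h).sign_eq
    rw [hs] at this
    exact absurd this (by decide)
  omega

/-- The contradiction. -/
theorem crux [Fintype Ω] [Fintype Β] [DecidableEq Β] [FaithfulSMul G Β]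
    (hqp : ∀ N : Subgroup G, N.Normal → N ≠ ⊥ → IsPretransitive ↥N Ω)
    (htrans : IsPretransitive G Ω)
    {Γ : Set Ω} (hΓ : IsJordan G Γ) (h2 : 1 < Γ.ncard)
    (π : Ω → Β) (hπ : ∀ (g : G) (x : Ω), π (g • x) = g • π x) (hsurj : Function.Surjective π)
    (hninj : ∃ x y : Ω, x ≠ y ∧ π x = π y)
    (hT2 : 1 < (π '' Γ).ncard) (hThalf : 2 * (π '' Γ).ncard < Fintype.card Β)
    (hAlt : ∀ σ : Equiv.Perm Β, Equiv.Perm.sign σ = 1 →
      ∃ g : G, (MulAction.toPerm g : Equiv.Perm Β) = σ) : False := by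
  classical
  have hmem : ∀ z, z ∈ Γ ↔ π z ∈ π '' Γ := mem_iff_image_mem hΓ h2 π hπ hsurj
  have hfix : ∀ (k : G), k ∈ fixingSubgroup G Γᶜ → ∀ w : Ω, w ∉ Γ → k • w = w := fun k hk w hw =>
    (mem_fixingSubgroup_compl_iff.mp hk) w hw
  -- a fibre with two points over any prescribed point of `Β`
  have hfib : ∀ β : Β, ∃ x y : Ω, x ≠ y ∧ π x = β ∧ π y = β := by
    intro β
    obtain ⟨x, y, hxy, hπxy⟩ := hninj
    obtain ⟨w, rfl⟩ := hsurj β
    obtain ⟨g, hg⟩ := htrans.exists_smul_eq x w
    refine ⟨g • x, g • y, fun h => hxy (smul_left_cancel g h), by rw [hg], ?_⟩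
    rw [hπ, ← hπxy, ← hπ, hg]
  by_cases hcase : ∃ h ∈ fixingSubgroup G Γᶜ, h ≠ 1 ∧ sgn G Β h = 1
  · -- Case 2: a non-identity even element of `H`
    obtain ⟨h, hh, hne, hsgn⟩ := hcase
    -- `h` fixes every point of `Β` outside the image of `Γ`
    have hhfix : ∀ β : Β, β ∉ π '' Γ → h • β = β := by
      intro β hβ
      obtain ⟨w, rfl⟩ := hsurj β
      have hw : w ∉ Γ := fun hw => hβ ⟨w, hw, rfl⟩
      rw [← hπ, hfix h hh w hw]
    have hperm_ne : (MulAction.toPerm h : Equiv.Perm Β) ≠ 1 := by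
      intro h1
      apply hne
      apply MulAction.toPerm_injective (α := G) (β := Β)
      rw [h1]
      ext β
      simp
    have hsupp : 3 ≤ (π '' Γ).ncard := by
      have h3 := three_le_card_support (MulAction.toPerm h : Equiv.Perm Β) hperm_ne hsgn
      have hsub : (MulAction.toPerm h : Equiv.Perm Β).support ⊆ (π '' Γ).toFinset := by
        intro β hβ
        rw [Equiv.Perm.mem_support] at hβ
        rw [Set.mem_toFinset]
        by_contra hβ'
        exact hβ (hhfix β hβ')
      have := Finset.card_le_card hsub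
      rw [Set.ncard_eq_toFinset_card' (π '' Γ)]
      omega
    -- a point outside the image
    obtain ⟨β0, hβ0⟩ : ∃ β0 : Β, β0 ∉ π '' Γ := by
      by_contra hall
      push Not at hall
      have huniv : π '' Γ = Set.univ := Set.eq_univ_of_forall hall
      rw [huniv, Set.ncard_univ, Nat.card_eq_fintype_card] at hThalf
      omega
    have hcard : 5 ≤ Nat.card {β : Β // β ≠ β0} := by
      rw [Nat.card_eq_fintype_card, Fintype.card_subtype_compl (fun x => x = β0),
        Fintype.card_subtype_eq]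
      omega
    have hnormal := fibreFixer_normal (G := G) π hπ β0 hAlt
    have hhβ0 : h • β0 = β0 := hhfix β0 hβ0
    rcases alternatingGroup.normal_subgroup_eq_bot_or_eq_top hcard
      (N := fibreFixer (G := G) π β0) with hbot | htop
    · -- impossible: `h` gives a non-identity element
      obtain ⟨τ, hτ, hτs⟩ := exists_ofSubtype_eq β0 (MulAction.toPerm h : Equiv.Perm Β) hhβ0
      have hτmem : τ ∈ alternatingGroup {β : Β // β ≠ β0} := by
        rw [Equiv.Perm.mem_alternatingGroup, hτs]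
        exact hsgn
      have hin : (⟨τ, hτmem⟩ : alternatingGroup {β : Β // β ≠ β0}) ∈ fibreFixer (G := G) π β0 := by
        refine ⟨h, fun x hx => ?_, hτ.symm⟩
        apply hfix h hh
        intro hxΓ
        exact hβ0 (hx ▸ ⟨x, hxΓ, rfl⟩)
      rw [hbot, Subgroup.mem_bot] at hin
      have hτ1 : τ = 1 := congrArg Subtype.val hin
      apply hperm_ne
      rw [← hτ, hτ1, map_one]
    · -- the even elements fixing `β0` fix its fibre pointwise
      have hAne : (sgn G Β).ker ≠ ⊥ := by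
        intro hbot
        have : h ∈ (sgn G Β).ker := MonoidHom.mem_ker.mpr hsgn
        rw [hbot, Subgroup.mem_bot] at this
        exact hne this
      have hAtr := hqp _ (MonoidHom.normal_ker _) hAne
      obtain ⟨x, y, hxy, hx, hy⟩ := hfib β0
      obtain ⟨a, ha⟩ := hAtr.exists_smul_eq x y
      have ha' : (a : G) • x = y := ha
      have hasgn : sgn G Β (a : G) = 1 := MonoidHom.mem_ker.mp a.2
      have haβ0 : (a : G) • β0 = β0 := by
        have h7 : (a : G) • β0 = π ((a : G) • x) := by rw [hπ, hx]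
        rw [h7, ha', hy]
      obtain ⟨τ, hτ, hτs⟩ := exists_ofSubtype_eq β0 (MulAction.toPerm (a : G) : Equiv.Perm Β) haβ0
      have hτmem : τ ∈ alternatingGroup {β : Β // β ≠ β0} := by
        rw [Equiv.Perm.mem_alternatingGroup, hτs]
        exact hasgn
      have hin : (⟨τ, hτmem⟩ : alternatingGroup {β : Β // β ≠ β0}) ∈ fibreFixer (G := G) π β0 := by
        rw [htop]
        exact Subgroup.mem_top _
      obtain ⟨g, hg, hgτ⟩ := hin
      have hga : g = (a : G) := by
        apply MulAction.toPerm_injective (α := G) (β := Β)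
        rw [hgτ]
        exact hτ
      apply hxy
      rw [← ha', ← hga, hg x hx]
  · -- Case 1: `H` has no non-identity even element
    push Not at hcase
    obtain ⟨β1, β2, hβ1, hβ2, hne12⟩ := (Set.one_lt_ncard_iff (Set.toFinite _)).mp hT2
    obtain ⟨x, y, hxy, hx, hy⟩ := hfib β1
    obtain ⟨z, hz⟩ := hsurj β2
    have hxΓ : x ∈ Γ := (hmem x).mpr (hx ▸ hβ1)
    have hyΓ : y ∈ Γ := (hmem y).mpr (hy ▸ hβ1)
    have hzΓ : z ∈ Γ := (hmem z).mpr (hz ▸ hβ2)
    obtain ⟨h1, hh1, h1xy⟩ := hΓ x hxΓ y hyΓ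
    obtain ⟨h3, hh3, h3xz⟩ := hΓ x hxΓ z hzΓ
    have hxz : x ≠ z := by
      intro h
      apply hne12
      rw [← hx, ← hz, h]
    have hyz : y ≠ z := by
      intro h
      apply hne12
      rw [← hy, ← hz, h]
    have hs1 : sgn G Β h1 ≠ 1 := by
      intro hs
      have := hcase h1 hh1
      by_cases h11 : h1 = 1
      · apply hxy
        rw [← h1xy, h11, one_smul]
      · exact this h11 hs
    have hs3 : sgn G Β h3 ≠ 1 := by
      intro hs
      have := hcase h3 hh3
      by_cases h11 : h3 = 1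
      · apply hxz
        rw [← h3xz, h11, one_smul]
      · exact this h11 hs
    have hs1' : sgn G Β h1 = -1 := (Int.units_eq_one_or _).resolve_left hs1
    have hs3' : sgn G Β h3 = -1 := (Int.units_eq_one_or _).resolve_left hs3
    have hq : sgn G Β (h1⁻¹ * h3) = 1 := by
      rw [map_mul, map_inv, hs1', hs3']
      decide
    have hqmem : h1⁻¹ * h3 ∈ fixingSubgroup G Γᶜ :=
      Subgroup.mul_mem _ (Subgroup.inv_mem _ hh1) hh3
    have hq1 : h1⁻¹ * h3 = 1 := by
      by_contra hne
      exact hcase _ hqmem hne hq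
    have h13 : h1 = h3 := by
      rw [inv_mul_eq_one] at hq1
      exact hq1
    apply hyz
    rw [← h1xy, ← h3xz, h13]

end Cfsg.Agent.Lib.Helper3.MargQuasi
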