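import Cfsg.Agent.Lib.Helper71.MargDefs

/-!
# Marggraf (S3620), MODULE TB: type B is impossible
-/

namespace Cfsg.Agent.Lib.Helper3.MargTypeB

open MulAction Cfsg.Agent.Lib.Helper71.Marg
open scoped Pointwise

variable {G Ω : Type*} [Group G] [MulAction G Ω]

/-- EXCHANGE: in a 2-transitive setting, if every member of the invariant family `TT` through
`a, b` contains `c`, then every member through `a, c` contains `b`. -/
theorem exchange [Finite Ω] (K' : Subgroup G) (S : Set Ω)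
    (h2t : ∀ y ∈ S, TransOn (K' ⊓ stabilizer G y) (S \ {y}))
    (TT : Set (Set Ω)) (hTTinv : ∀ k ∈ K', ∀ T ∈ TT, k • T ∈ TT)
    {a b c : Ω} (ha : a ∈ S) (hb : b ∈ S) (hc : c ∈ S) (hab : b ≠ a) (hac : c ≠ a)
    (h : ∀ T ∈ TT, a ∈ T → b ∈ T → c ∈ T) :
    ∀ T ∈ TT, a ∈ T → c ∈ T → b ∈ T := by
  obtain ⟨k, hk, hkbc⟩ := h2t a ha b ⟨hb, hab⟩ c ⟨hc, hac⟩
  have hkK : k ∈ K' := hk.1
  have hka : k • a = a := hk.2
  have hka' : k⁻¹ • a = a := by rw [inv_smul_eq_iff, hka]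
  have hkc' : k⁻¹ • c = b := by rw [inv_smul_eq_iff, hkbc]
  set Fab : Set (Set Ω) := {T | T ∈ TT ∧ a ∈ T ∧ b ∈ T} with hFab
  set Fac : Set (Set Ω) := {T | T ∈ TT ∧ a ∈ T ∧ c ∈ T} with hFac
  have hsub : Fab ⊆ Fac := fun T hT => ⟨hT.1, hT.2.1, h T hT.1 hT.2.1 hT.2.2⟩
  have hle : Fac.ncard ≤ Fab.ncard := by
    apply Set.ncard_le_ncard_of_injOn (fun T => k⁻¹ • T)
    · intro T hT
      refine ⟨hTTinv _ (K'.inv_mem hkK) T hT.1, ?_, ?_⟩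
      · rw [← hka']
        exact Set.smul_mem_smul_set hT.2.1
      · rw [← hkc']
        exact Set.smul_mem_smul_set hT.2.2
    · intro T _ T' _ hTT'
      exact smul_left_cancel _ hTT'
  have heq : Fab = Fac := Set.eq_of_subset_of_ncard_le hsub hle (Set.toFinite _)
  intro T hT haT hcT
  have : T ∈ Fab := heq ▸ (⟨hT, haT, hcT⟩ : T ∈ Fac)
  exact this.2.2

theorem typeB_false [Finite Ω] (K' : Subgroup G) (S : Set Ω)
    (hS : ∀ k ∈ K', ∀ x ∈ S, k • x ∈ S)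
    (htr : TransOn K' S)
    (h2t : ∀ y ∈ S, TransOn (K' ⊓ stabilizer G y) (S \ {y}))
    (TT : Set (Set Ω)) (hTTinv : ∀ k ∈ K', ∀ T ∈ TT, k • T ∈ TT) (hTTS : ∀ T ∈ TT, T ⊆ S)
    (hTTne : TT.Nonempty) (m : ℕ) (hTTcard : ∀ T ∈ TT, T.ncard = m) (hm2 : 2 ≤ m)
    (hmS : m < S.ncard)
    (ω : Ω) (hω : ω ∈ S) (b : Set Ω) (hbS : b ⊆ S \ {ω}) (hbne : b ≠ S \ {ω}) (hbn : b.Nonempty)
    (hB : ∀ T ∈ TT, ω ∉ T → ∃ k ∈ K' ⊓ stabilizer G ω, T ⊆ k • b)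
    (hbl : IsBlock (↥(K' ⊓ stabilizer G ω)) b) : False := by
  -- the dichotomy
  have hdich : ∀ β ∈ b, ∀ γ ∈ S, γ ≠ ω → γ ≠ β →
      γ ∈ b ∨ ∀ T ∈ TT, β ∈ T → ω ∈ T → γ ∈ T := by
    intro β hβ γ hγ hγω hγβ
    have hβS : β ∈ S := (hbS hβ).1
    have hβω : β ≠ ω := (hbS hβ).2
    by_cases hex : ∃ T ∈ TT, β ∈ T ∧ γ ∈ T ∧ ω ∉ T
    · left
      obtain ⟨T, hT, hβT, hγT, hωT⟩ := hex
      obtain ⟨k, hk, hTk⟩ := hB T hT hωT
      have hkb : (⟨k, hk⟩ : ↥(K' ⊓ stabilizer G ω)) • b = b := by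
        apply hbl.smul_eq_of_nonempty
        exact ⟨β, hTk hβT, hβ⟩
      have hkb' : k • b = b := hkb
      rw [hkb'] at hTk
      exact hTk hγT
    · right
      push Not at hex
      have h1 : ∀ T ∈ TT, β ∈ T → γ ∈ T → ω ∈ T := fun T hT h1 h2 => hex T hT h1 h2
      exact exchange K' S h2t TT hTTinv hβS hγ hω hγβ (Ne.symm hβω) h1
  -- a member of `TT` through `β` and `ω`
  have hthrough : ∀ β ∈ b, ∃ T ∈ TT, β ∈ T ∧ ω ∈ T := by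
    intro β hβ
    have hβS : β ∈ S := (hbS hβ).1
    have hβω : β ≠ ω := (hbS hβ).2
    obtain ⟨T0, hT0⟩ := hTTne
    have hcard : 1 < T0.ncard := by rw [hTTcard T0 hT0]; omega
    obtain ⟨p, q, hp, hq, hpq⟩ := (Set.one_lt_ncard_iff (Set.toFinite _)).mp hcard
    have hpS := hTTS T0 hT0 hp
    have hqS := hTTS T0 hT0 hq
    obtain ⟨k1, hk1, hk1p⟩ := htr p hpS β hβS
    have hk1q : k1 • q ∈ S \ {β} := by
      refine ⟨hS k1 hk1 q hqS, ?_⟩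
      intro h
      rw [Set.mem_singleton_iff, ← hk1p] at h
      exact hpq (smul_left_cancel k1 h).symm
    obtain ⟨k2, hk2, hk2q⟩ := h2t β hβS (k1 • q) hk1q ω ⟨hω, Ne.symm hβω⟩
    refine ⟨(k2 * k1) • T0, hTTinv _ (K'.mul_mem hk2.1 hk1) T0 hT0, ?_, ?_⟩
    · have : (k2 * k1) • p = β := by
        rw [mul_smul, hk1p]
        exact hk2.2
      rw [← this]
      exact Set.smul_mem_smul_set hp
    · have : (k2 * k1) • q = ω := by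
        rw [mul_smul, hk2q]
      rw [← this]
      exact Set.smul_mem_smul_set hq
  obtain ⟨β, hβ⟩ := hbn
  have hβS : β ∈ S := (hbS hβ).1
  have hβω : β ≠ ω := (hbS hβ).2
  obtain ⟨T1, hT1, hβT1, hωT1⟩ := hthrough β hβ
  -- a point `γ0` of `S` outside `T1`
  have hlt : T1.ncard < S.ncard := by rw [hTTcard T1 hT1]; exact hmS
  obtain ⟨γ0, hγ0S, hγ0T1⟩ := Set.exists_mem_notMem_of_ncard_lt_ncard hlt (Set.toFinite _)
  have hγ0ω : γ0 ≠ ω := fun h => hγ0T1 (h ▸ hωT1)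
  have hγ0β : γ0 ≠ β := fun h => hγ0T1 (h ▸ hβT1)
  have hγ0Z : ¬ ∀ T ∈ TT, β ∈ T → ω ∈ T → γ0 ∈ T := fun h => hγ0T1 (h T1 hT1 hβT1 hωT1)
  have hγ0b : γ0 ∈ b := (hdich β hβ γ0 hγ0S hγ0ω hγ0β).resolve_right hγ0Z
  -- every point of `S \ {ω}` lies in `b`
  apply hbne
  apply Set.Subset.antisymm hbS
  rintro δ ⟨hδS, hδω⟩
  by_contra hδb
  have hδω' : δ ≠ ω := hδω
  have hδβ : δ ≠ β := fun h => hδb (h ▸ hβ)
  have hδγ0 : δ ≠ γ0 := fun h => hδb (h ▸ hγ0b)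
  have hZβ := (hdich β hβ δ hδS hδω' hδβ).resolve_left hδb
  have hZγ0 := (hdich γ0 hγ0b δ hδS hδω' hδγ0).resolve_left hδb
  -- every `T` through `ω, δ` contains `β`
  have h1 : ∀ T ∈ TT, ω ∈ T → δ ∈ T → β ∈ T :=
    exchange K' S h2t TT hTTinv hω hβS hδS hβω hδω' (fun T hT hωT hβT => hZβ T hT hβT hωT)
  -- every `T` through `ω, γ0` contains `β`
  have h2 : ∀ T ∈ TT, ω ∈ T → γ0 ∈ T → β ∈ T :=
    fun T hT hωT hγ0T => h1 T hT hωT (hZγ0 T hT hγ0T hωT)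
  have h3 : ∀ T ∈ TT, ω ∈ T → β ∈ T → γ0 ∈ T :=
    exchange K' S h2t TT hTTinv hω hγ0S hβS hγ0ω hβω h2
  exact hγ0Z (fun T hT hβT hωT => h3 T hT hωT hβT)

end Cfsg.Agent.Lib.Helper3.MargTypeB
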