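import Mathlib
import Cfsg.Prelude.Def_Characters
import Cfsg.Agent.Lib.Helper3.Hecke
import Cfsg.Agent.Lib.Helper3.ColOrth
import Cfsg.Agent.Lib.Helper3.PermChar
import Cfsg.Agent.Lib.Helper78.CharMore

/-!
# Subdegrees and the permutation character (helper3)

For a transitive action of `G` on `Ω`, `a ≠ b` in `Ω`, `H = G_a`, the subdegree
`n = |H b|` satisfies `n + ∑_{χ ≠ 1} χ(1) z_χ = 0` with algebraic integers `z_χ` vanishing
whenever `χ` is not a constituent of the permutation character.
-/

set_option autoImplicit false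

namespace Cfsg.Agent.Lib.Helper3.Subdeg

open Cfsg Cfsg.Agent.Lib.Helper3 MulAction
open scoped ComplexConjugate

universe u w

variable {G : Type u} [Group G] [Fintype G] {Ω : Type w} [Fintype Ω] [MulAction G Ω]
  [IsPretransitive G Ω]

/-- summing over `G` a function of `g • a` -/
theorem sum_smul_eq {M : Type*} [AddCommMonoid M] (a : Ω) (F : Ω → M) :
    ∑ g : G, F (g • a) = Nat.card (stabilizer G a) • ∑ ω : Ω, F ω := by
  classical
  haveI : Fintype (stabilizer G a) := Fintype.ofFinite _
  choose t ht using fun ω : Ω => exists_smul_eq G a ω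
  let e : Ω × stabilizer G a → G := fun p => t p.1 * (p.2 : G)
  have he : Function.Bijective e := by
    constructor
    · rintro ⟨ω, h⟩ ⟨ω', h'⟩ heq
      have h1 : t ω * (h : G) = t ω' * (h' : G) := heq
      have h2 : ω = ω' := by
        have := congrArg (fun g : G => g • a) h1
        simp only [mul_smul] at this
        rw [h.2, h'.2, ht, ht] at this
        exact this
      subst h2
      have h3 : (h : G) = (h' : G) := mul_left_cancel h1
      exact Prod.ext rfl (Subtype.ext h3)
    · intro g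
      refine ⟨(g • a, ⟨(t (g • a))⁻¹ * g, ?_⟩), ?_⟩
      · rw [mem_stabilizer_iff, mul_smul, inv_smul_eq_iff, ht]
      · show t (g • a) * ((t (g • a))⁻¹ * g) = g
        group
  rw [← Fintype.sum_equiv (Equiv.ofBijective e he) (fun p => F ((e p) • a)) (fun g => F (g • a))
    (fun p => rfl), Fintype.sum_prod_type]
  have h1 : ∀ (ω : Ω) (h : stabilizer G a), F (e (ω, h) • a) = F ω := by
    intro ω h
    show F ((t ω * (h : G)) • a) = F ω
    rw [mul_smul, h.2, ht]
  rw [Finset.sum_congr rfl fun ω _ => Finset.sum_congr rfl fun h _ => h1 ω h]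
  simp only [Finset.sum_const, Finset.card_univ]
  rw [Finset.smul_sum, Nat.card_eq_fintype_card]

theorem card_eq (a : Ω) : Nat.card G = Nat.card (stabilizer G a) * Nat.card Ω := by
  have := sum_smul_eq (G := G) a (fun _ : Ω => (1 : ℕ))
  simp only [Finset.sum_const, Finset.card_univ, smul_eq_mul, mul_one] at this
  rw [Nat.card_eq_fintype_card (α := G), Nat.card_eq_fintype_card (α := Ω)]
  exact this

/-- the multiplicity of a class function in the permutation character, computed on the
point stabilizer -/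
theorem classInner_perm (a : Ω) {χ : G → ℂ} (hχ : IsClassFunction G χ) :
    classInner (fun g : G => (Nat.card (fixedBy Ω g) : ℂ)) χ =
      (Nat.card (stabilizer G a) : ℂ)⁻¹ *
        conj (∑ g : G, (Hecke.indH (stabilizer G a) g : ℂ) * χ g) := by
  classical
  unfold classInner
  have h1 : ∀ g : G, (Nat.card (fixedBy Ω g) : ℂ) = ∑ ω : Ω, if g • ω = ω then (1 : ℂ) else 0 := by
    intro g
    rw [Finset.sum_boole, Nat.card_eq_fintype_card, Fintype.card_subtype]
    rfl
  have h2 : ∑ g : G, (Nat.card (fixedBy Ω g) : ℂ) * conj (χ g) =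
      ∑ ω : Ω, ∑ g : G, if g • ω = ω then conj (χ g) else 0 := by
    rw [Finset.sum_comm]
    refine Finset.sum_congr rfl fun g _ => ?_
    rw [h1 g, Finset.sum_mul]
    refine Finset.sum_congr rfl fun ω _ => ?_
    split_ifs <;> simp
  have h3 : ∀ ω : Ω, (∑ g : G, if g • ω = ω then conj (χ g) else 0) =
      conj (∑ g : G, (Hecke.indH (stabilizer G a) g : ℂ) * χ g) := by
    intro ω
    obtain ⟨t, ht⟩ := exists_smul_eq G a ω
    rw [map_sum]
    apply Fintype.sum_equiv (MulAut.conj t⁻¹).toEquiv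
    intro g
    simp only [MulEquiv.toEquiv_eq_coe, MulEquiv.coe_toEquiv, MulAut.conj_apply, inv_inv]
    have h4 : g • ω = ω ↔ t⁻¹ * g * t ∈ stabilizer G a := by
      rw [mem_stabilizer_iff, ← ht, mul_smul, mul_smul, inv_smul_eq_iff]
    have h5 : χ (t⁻¹ * g * t) = χ g := by
      have := hχ g t⁻¹
      rwa [inv_inv] at this
    unfold Hecke.indH
    by_cases hg : g • ω = ω
    · rw [if_pos hg, if_pos (h4.mp hg), h5]
      simp
    · rw [if_neg hg, if_neg (fun h => hg (h4.mpr h))]
      simp
  rw [h2, Finset.sum_congr rfl fun ω _ => h3 ω, Finset.sum_const, Finset.card_univ, nsmul_eq_mul,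
    card_eq a]
  have hH : (Nat.card (stabilizer G a) : ℂ) ≠ 0 := by
    have : 0 < Nat.card (stabilizer G a) := Nat.card_pos
    exact_mod_cast this.ne'
  have hΩ : (Fintype.card Ω : ℂ) ≠ 0 := by
    have : 0 < Fintype.card Ω := Fintype.card_pos_iff.mpr ⟨a⟩
    exact_mod_cast this.ne'
  rw [Nat.card_eq_fintype_card (α := Ω)]
  push_cast
  field_simp

open Classical in
/-- the indicator of the double coset belonging to the suborbit of `b` -/
noncomputable def ind (a b : Ω) : G → ℤ :=
  fun g => if g • a ∈ orbit (stabilizer G a) b then 1 else 0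

omit [Fintype G] [Fintype Ω] [IsPretransitive G Ω] in
theorem ind_mem (a b : Ω) : ind (G := G) a b ∈ Hecke.biInv (stabilizer G a) := by
  classical
  intro h₁ hh₁ h₂ hh₂ g
  unfold ind
  have h1 : (h₁ * g * h₂) • a = h₁ • (g • a) := by
    rw [mul_smul, mul_smul, mem_stabilizer_iff.mp hh₂]
  have h2 : h₁ • (g • a) ∈ orbit (stabilizer G a) b ↔ g • a ∈ orbit (stabilizer G a) b := by
    constructor
    · rintro ⟨k, hk⟩
      have hk' : (k : G) • b = h₁ • (g • a) := hk
      refine ⟨⟨h₁, hh₁⟩⁻¹ * k, ?_⟩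
      show (h₁⁻¹ * (k : G)) • b = g • a
      rw [mul_smul, hk', inv_smul_smul]
    · rintro ⟨k, hk⟩
      have hk' : (k : G) • b = g • a := hk
      refine ⟨⟨h₁, hh₁⟩ * k, ?_⟩
      show (h₁ * (k : G)) • b = h₁ • (g • a)
      rw [mul_smul, hk']
  rw [h1]
  by_cases hg : g • a ∈ orbit (stabilizer G a) b
  · rw [if_pos hg, if_pos (h2.mpr hg)]
  · rw [if_neg hg, if_neg (fun h => hg (h2.mp h))]

omit [Fintype Ω] [IsPretransitive G Ω] [Fintype G] in
theorem ind_one {a b : Ω} (hab : b ≠ a) : ind (G := G) a b 1 = 0 := by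
  classical
  unfold ind
  rw [if_neg]
  rw [one_smul]
  rintro ⟨k, hk⟩
  apply hab
  have hk' : (k : G) • b = a := hk
  have h1 : b = (k : G)⁻¹ • a := eq_inv_smul_iff.mpr hk'
  rw [h1]
  exact mem_stabilizer_iff.mp (Subgroup.inv_mem _ k.2)

theorem sum_ind (a b : Ω) :
    ∑ g : G, (ind (G := G) a b g : ℂ) =
      (Nat.card (stabilizer G a) : ℂ) * (Nat.card (orbit (stabilizer G a) b) : ℂ) := by
  classical
  have h1 := sum_smul_eq (G := G) a
    (fun ω : Ω => if ω ∈ orbit (stabilizer G a) b then (1 : ℂ) else 0)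
  have h2 : ∀ g : G, (ind (G := G) a b g : ℂ) =
      if g • a ∈ orbit (stabilizer G a) b then (1 : ℂ) else 0 := by
    intro g
    unfold ind
    split_ifs <;> simp
  rw [Finset.sum_congr rfl fun g _ => h2 g, h1, Finset.sum_boole, nsmul_eq_mul]
  congr 2
  rw [Nat.card_eq_fintype_card, Fintype.card_subtype]

/-- **Subdegree formula.** -/
theorem subdegree_formula [Fintype (IrrCharacter G)] {a b : Ω} (hab : b ≠ a) :
    ∃ z : IrrCharacter G → ℂ, (∀ χ, IsIntegral ℤ (z χ)) ∧
      (∀ χ : IrrCharacter G,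
        classInner (fun g : G => (Nat.card (fixedBy Ω g) : ℂ)) (χ : G → ℂ) = 0 → z χ = 0) ∧
      (Nat.card (orbit (stabilizer G a) b) : ℂ) +
        ∑ χ : IrrCharacter G, (if (χ : G → ℂ) = (fun _ => 1) then 0 else (χ : G → ℂ) 1 * z χ) = 0 := by
  classical
  have hH : (Nat.card (stabilizer G a) : ℂ) ≠ 0 := by
    have : 0 < Nat.card (stabilizer G a) := Nat.card_pos
    exact_mod_cast this.ne'
  let z : IrrCharacter G → ℂ := fun χ =>
    (Nat.card (stabilizer G a) : ℂ)⁻¹ * ∑ g, (ind (G := G) a b g : ℂ) * (χ : G → ℂ) g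
  have hz : ∀ χ, z χ =
      (Nat.card (stabilizer G a) : ℂ)⁻¹ * ∑ g, (ind (G := G) a b g : ℂ) * (χ : G → ℂ) g :=
    fun χ => rfl
  refine ⟨z, ?_, ?_, ?_⟩
  · intro χ
    obtain ⟨n, ρ, _, hρ⟩ := χ.2
    rw [hz, ← hρ]
    exact Hecke.isIntegral_sum_biInv (stabilizer G a) ρ (ind_mem a b)
  · intro χ h0
    obtain ⟨n, ρ, _, hρ⟩ := χ.2
    have hcl : IsClassFunction G (χ : G → ℂ) := IsIrrCharacter.isClassFunction χ.2
    rw [classInner_perm a hcl] at h0
    have h1 : ∑ g : G, (Hecke.indH (stabilizer G a) g : ℂ) * (χ : G → ℂ) g = 0 := by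
      have := (mul_eq_zero.mp h0).resolve_left (inv_ne_zero hH)
      exact (map_eq_zero (starRingEnd ℂ)).mp this
    have h2 := Hecke.sum_biInv_eq_zero (stabilizer G a) ρ (by rw [hρ]; exact h1)
      (ind_mem (G := G) a b)
    rw [hρ] at h2
    rw [hz, h2, mul_zero]
  · -- the regular character identity
    have hreg : ∀ g : G, ∑ χ : IrrCharacter G, (χ : G → ℂ) 1 * (χ : G → ℂ) g =
        if g = 1 then (Nat.card G : ℂ) else 0 := by
      intro g
      have h := column_orthogonality (G := G) g 1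
      rw [Finset.sum_congr rfl fun χ _ => by rw [irrCharacter_one_conj χ, mul_comm]] at h
      rw [h]
      by_cases hg : g = 1
      · subst hg
        rw [if_pos (IsConj.refl 1), if_pos rfl]
        have h3 : Subgroup.centralizer ({1} : Set G) = ⊤ := by
          ext x; simp [Subgroup.mem_centralizer_iff]
        rw [h3, Subgroup.card_top]
      · rw [if_neg hg, if_neg]
        intro hc
        exact hg (isConj_one_left.mp hc)
    have hsum : ∑ χ : IrrCharacter G, (χ : G → ℂ) 1 * z χ = 0 := by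
      have h1 : ∀ χ : IrrCharacter G, (χ : G → ℂ) 1 * z χ =
          (Nat.card (stabilizer G a) : ℂ)⁻¹ *
            ∑ g, (ind (G := G) a b g : ℂ) * ((χ : G → ℂ) 1 * (χ : G → ℂ) g) := by
        intro χ
        rw [hz, mul_left_comm, Finset.mul_sum]
        congr 1
        refine Finset.sum_congr rfl fun g _ => ?_
        ring
      rw [Finset.sum_congr rfl fun χ _ => h1 χ, ← Finset.mul_sum, Finset.sum_comm]
      have h2 : ∀ g : G, ∑ χ : IrrCharacter G,
          (ind (G := G) a b g : ℂ) * ((χ : G → ℂ) 1 * (χ : G → ℂ) g) = 0 := by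
        intro g
        rw [← Finset.mul_sum, hreg g]
        by_cases hg : g = 1
        · subst hg
          rw [ind_one hab]
          simp
        · rw [if_neg hg, mul_zero]
      rw [Finset.sum_congr rfl fun g _ => h2 g, Finset.sum_const_zero, mul_zero]
    -- split off the principal character
    have htriv : IsIrrCharacter G (fun _ : G => (1 : ℂ)) :=
      Cfsg.Agent.Lib.Helper78.isIrrCharacter_one
    let χ₀ : IrrCharacter G := ⟨fun _ => 1, htriv⟩
    have h3 : (χ₀ : G → ℂ) 1 * z χ₀ = (Nat.card (orbit (stabilizer G a) b) : ℂ) := by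
      rw [hz]
      show (1 : ℂ) * ((Nat.card (stabilizer G a) : ℂ)⁻¹ * ∑ g, (ind (G := G) a b g : ℂ) * 1) = _
      simp only [mul_one, one_mul]
      rw [sum_ind a b]
      field_simp
    have hsplit : ∀ χ : IrrCharacter G,
        (if (χ : G → ℂ) = (fun _ => 1) then (0 : ℂ) else (χ : G → ℂ) 1 * z χ) =
          (χ : G → ℂ) 1 * z χ -
            (if χ = χ₀ then (Nat.card (orbit (stabilizer G a) b) : ℂ) else 0) := by
      intro χ
      by_cases hχ : χ = χ₀
      · subst hχ
        rw [if_pos rfl, if_pos rfl, h3, sub_self]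
      · rw [if_neg hχ, if_neg, sub_zero]
        intro h
        exact hχ (Subtype.ext h)
    rw [Finset.sum_congr rfl fun χ _ => hsplit χ, Finset.sum_sub_distrib, hsum,
      Finset.sum_ite_eq' Finset.univ χ₀, if_pos (Finset.mem_univ _)]
    ring

end Cfsg.Agent.Lib.Helper3.Subdeg
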