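import Mathlib
import Cfsg.Prelude.Def_Characters
import Cfsg.Agent.Lib.Helper3.Subdegree
import Cfsg.Agent.Lib.Helper26.IrrFactsInst

/-!
# Multiplicity-free permutation characters: the arithmetic of ranks and subdegrees

The rank of a transitive permutation group is the norm of its permutation character; the
arithmetic lemma behind "all constituents have equal degree `f` implies multiplicity-free
with all subdegrees `f`" and behind "rank at most 5 implies multiplicity-free".
-/

set_option autoImplicit false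

universe u w

namespace Cfsg.Agent.Lib.Helper3.MultFree

open Cfsg Cfsg.Agent.Lib.Helper3 MulAction
open scoped ComplexConjugate

section arith

variable {I Q : Type*} [Fintype I] [Fintype Q] [DecidableEq I] [DecidableEq Q]

/-- the arithmetic core of part (a) -/
theorem arith_a (e d : I → ℕ) (n : Q → ℕ) (t : I) (q0 : Q) (f : ℕ)
    (het : e t = 1) (hdt : d t = 1) (hn0 : n q0 = 1) (hnpos : ∀ q, 0 < n q)
    (hsum : ∑ i, e i * d i = ∑ q, n q)
    (hsq : ∑ i, e i ^ 2 = Fintype.card Q)
    (hf : ∀ i, i ≠ t → e i ≠ 0 → d i = f)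
    (hdvd : ∀ q, q ≠ q0 → f ∣ n q) :
    (∀ i, e i ≤ 1) ∧ ∀ q, q ≠ q0 → n q = f := by
  -- split off the distinguished terms
  have h1 : ∑ i, e i * d i = 1 + f * ∑ i ∈ Finset.univ.erase t, e i := by
    rw [← Finset.add_sum_erase _ _ (Finset.mem_univ t), het, hdt, Finset.mul_sum]
    congr 1
    refine Finset.sum_congr rfl fun i hi => ?_
    by_cases h0 : e i = 0
    · rw [h0]; simp
    · rw [hf i (Finset.ne_of_mem_erase hi) h0, mul_comm]
  have h2 : ∑ q, n q = 1 + ∑ q ∈ Finset.univ.erase q0, n q := by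
    rw [← Finset.add_sum_erase _ _ (Finset.mem_univ q0), hn0]
  have h3 : ∑ i, e i ^ 2 = 1 + ∑ i ∈ Finset.univ.erase t, e i ^ 2 := by
    rw [← Finset.add_sum_erase _ _ (Finset.mem_univ t), het]; simp
  have h4 : Fintype.card Q = 1 + (Finset.univ.erase q0).card := by
    rw [Finset.card_erase_of_mem (Finset.mem_univ q0), Finset.card_univ]
    have : 0 < Fintype.card Q := Fintype.card_pos_iff.mpr ⟨q0⟩
    omega
  have hN : f * ∑ i ∈ Finset.univ.erase t, e i = ∑ q ∈ Finset.univ.erase q0, n q := by
    have := hsum; rw [h1, h2] at this; omega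
  have hE2 : ∑ i ∈ Finset.univ.erase t, e i ^ 2 = (Finset.univ.erase q0).card := by
    have := hsq; rw [h3, h4] at this; omega
  have hle : ∀ q ∈ Finset.univ.erase q0, f ≤ n q := fun q hq =>
    Nat.le_of_dvd (hnpos q) (hdvd q (Finset.ne_of_mem_erase hq))
  have hNge : (Finset.univ.erase q0).card * f ≤ ∑ q ∈ Finset.univ.erase q0, n q := by
    have := Finset.card_nsmul_le_sum (Finset.univ.erase q0) n f hle
    simpa using this
  have hesq : ∀ i ∈ Finset.univ.erase t, e i ≤ e i ^ 2 := fun i _ => by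
    rcases Nat.eq_zero_or_pos (e i) with h | h
    · rw [h]; simp
    · nlinarith
  have hEle : ∑ i ∈ Finset.univ.erase t, e i ≤ ∑ i ∈ Finset.univ.erase t, e i ^ 2 :=
    Finset.sum_le_sum hesq
  rcases Nat.eq_zero_or_pos f with hf0 | hfpos
  · -- degenerate case: no nontrivial suborbit
    have hemp : Finset.univ.erase q0 = ∅ := by
      rw [Finset.eq_empty_iff_forall_notMem]
      intro q hq
      have := hdvd q (Finset.ne_of_mem_erase hq)
      rw [hf0, zero_dvd_iff] at this
      have := hnpos q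
      omega
    refine ⟨fun i => ?_, fun q hq => ?_⟩
    · by_cases hi : i = t
      · rw [hi, het]
      · rw [hemp, Finset.card_empty] at hE2
        have h5 := (Finset.sum_eq_zero_iff.mp hE2) i (Finset.mem_erase.mpr ⟨hi, Finset.mem_univ i⟩)
        have : e i = 0 := by
          rcases Nat.eq_zero_or_pos (e i) with h | h
          · exact h
          · exfalso; have : 0 < e i ^ 2 := by positivity
            omega
        omega
    · exfalso
      have : q ∈ Finset.univ.erase q0 := Finset.mem_erase.mpr ⟨hq, Finset.mem_univ q⟩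
      rw [hemp] at this
      exact absurd this (Finset.notMem_empty q)
  · have hEge : ∑ i ∈ Finset.univ.erase t, e i ^ 2 ≤ ∑ i ∈ Finset.univ.erase t, e i := by
      rw [hE2]
      have : (Finset.univ.erase q0).card * f ≤ f * ∑ i ∈ Finset.univ.erase t, e i := by
        rw [hN]; exact hNge
      rw [mul_comm] at this
      exact Nat.le_of_mul_le_mul_left this hfpos
    have hEeq : ∑ i ∈ Finset.univ.erase t, e i = ∑ i ∈ Finset.univ.erase t, e i ^ 2 :=
      le_antisymm hEle hEge
    have hall := (Finset.sum_eq_sum_iff_of_le hesq).mp hEeq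
    refine ⟨fun i => ?_, fun q hq => ?_⟩
    · by_cases hi : i = t
      · rw [hi, het]
      · have := hall i (Finset.mem_erase.mpr ⟨hi, Finset.mem_univ i⟩)
        by_contra hcon
        rw [not_le] at hcon
        nlinarith
    · have hNeq : ∑ q ∈ Finset.univ.erase q0, f = ∑ q ∈ Finset.univ.erase q0, n q := by
        rw [Finset.sum_const, smul_eq_mul, ← hN, hEeq, hE2, mul_comm]
      have := (Finset.sum_eq_sum_iff_of_le hle).mp hNeq q
        (Finset.mem_erase.mpr ⟨hq, Finset.mem_univ q⟩)
      exact this.symm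

/-- the arithmetic core of part (b) -/
theorem arith_b (e d : I → ℕ) (t : I) (het : e t = 1)
    (hsq : ∑ i, e i ^ 2 ≤ 5)
    (H : ∀ f : ℕ, (∀ i, i ≠ t → e i ≠ 0 → d i = f) → ∀ i, e i ≤ 1) :
    ∀ i, e i ≤ 1 := by
  by_contra hcon
  rw [not_forall] at hcon
  obtain ⟨i0, hi0⟩ := hcon
  rw [not_le] at hi0
  have hi0t : i0 ≠ t := by
    rintro rfl
    omega
  have hothers : ∀ j, j ≠ t → j ≠ i0 → e j = 0 := by
    intro j hjt hji
    have hsub : ({t, i0, j} : Finset I) ⊆ Finset.univ := Finset.subset_univ _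
    have h1 := Finset.sum_le_sum_of_subset (f := fun i => e i ^ 2) hsub
    rw [Finset.sum_insert (by simp [hi0t.symm, hjt.symm]),
      Finset.sum_insert (by simp [hji.symm]), Finset.sum_singleton, het] at h1
    have h2 : 4 ≤ e i0 ^ 2 := by nlinarith
    have h3 : e j ^ 2 = 0 := by omega
    exact pow_eq_zero_iff (two_ne_zero) |>.mp h3
  have := H (d i0) (fun i hit hi => by
    by_cases h : i = i0
    · rw [h]
    · exact absurd (hothers i hit h) hi) i0
  omega

end arith

section rank

variable {G : Type u} [Group G] [Fintype G] {Ω : Type w} [Fintype Ω] [MulAction G Ω]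
  [IsPretransitive G Ω]

/-- The norm of a transitive permutation character is the rank. -/
theorem classInner_self_eq_rank (a : Ω) :
    classInner (fun g : G => (Nat.card (fixedBy Ω g) : ℂ))
      (fun g : G => (Nat.card (fixedBy Ω g) : ℂ)) =
      (Nat.card (orbitRel.Quotient (stabilizer G a) Ω) : ℂ) := by
  classical
  have hcl : IsClassFunction G (fun g : G => (Nat.card (fixedBy Ω g) : ℂ)) :=
    IsCharacter.isClassFunction isCharacter_card_fixedBy
  rw [Subdeg.classInner_perm a hcl]
  have : Fintype (orbitRel.Quotient (stabilizer G a) Ω) := Fintype.ofFinite _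
  have hB := MulAction.sum_card_fixedBy_eq_card_orbits_mul_card_group (stabilizer G a) Ω
  have h1 : ∑ g : G, (Hecke.indH (stabilizer G a) g : ℂ) * (Nat.card (fixedBy Ω g) : ℂ) =
      ∑ h : stabilizer G a, (Fintype.card (fixedBy Ω h) : ℂ) := by
    have h2 : ∀ g : G, (Hecke.indH (stabilizer G a) g : ℂ) * (Nat.card (fixedBy Ω g) : ℂ) =
        if g ∈ stabilizer G a then (Nat.card (fixedBy Ω g) : ℂ) else 0 := by
      intro g
      unfold Hecke.indH
      split_ifs <;> simp
    rw [Finset.sum_congr rfl fun g _ => h2 g, ← Finset.sum_filter]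
    have h4 := Finset.sum_subtype (Finset.univ.filter (· ∈ stabilizer G a))
      (p := fun g => g ∈ stabilizer G a)
      (F := inferInstanceAs (Fintype (stabilizer G a))) (by simp)
      (fun g : G => (Nat.card (fixedBy Ω g) : ℂ))
    rw [h4]
    refine Finset.sum_congr rfl fun h _ => ?_
    rw [Nat.card_eq_fintype_card]
    congr 1
  rw [h1]
  have h3 : ∑ h : stabilizer G a, (Fintype.card (fixedBy Ω h) : ℂ) =
      ((∑ h : stabilizer G a, Fintype.card (fixedBy Ω h) : ℕ) : ℂ) := by
    push_cast; rfl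
  rw [h3, hB]
  push_cast
  rw [Nat.card_eq_fintype_card, Nat.card_eq_fintype_card]
  have hH : (Fintype.card (stabilizer G a) : ℂ) ≠ 0 := by
    exact_mod_cast Fintype.card_ne_zero
  simp only [map_mul, map_natCast]
  field_simp

omit [Fintype G] [IsPretransitive G Ω] in
/-- The degree is the sum of the subdegrees. -/
theorem card_eq_sum_subdegrees (a : Ω) [Fintype (orbitRel.Quotient (stabilizer G a) Ω)] :
    Nat.card Ω = ∑ q : orbitRel.Quotient (stabilizer G a) Ω,
      Nat.card (orbit (stabilizer G a) q.out) := by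
  rw [Nat.card_congr (selfEquivSigmaOrbits (stabilizer G a) Ω), Nat.card_sigma]

/-- the multiplicities and degrees of the constituents of a transitive permutation
character, with the two sum rules -/
theorem exists_data (a : Ω) :
    ∃ e d : IrrCharacter G → ℕ,
      (∀ ψ : IrrCharacter G,
        classInner (fun g : G => (Nat.card (fixedBy Ω g) : ℂ)) (ψ : G → ℂ) = e ψ) ∧
      (∀ ψ : IrrCharacter G, (ψ : G → ℂ) 1 = d ψ) ∧
      e ⟨fun _ => 1, Helper78.isIrrCharacter_one⟩ = 1 ∧
      d ⟨fun _ => 1, Helper78.isIrrCharacter_one⟩ = 1 ∧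
      ∑ ψ, e ψ * d ψ = Nat.card Ω ∧
      ∑ ψ, e ψ ^ 2 = Nat.card (orbitRel.Quotient (stabilizer G a) Ω) := by
  classical
  have hπ : IsCharacter G (fun g : G => (Nat.card (fixedBy Ω g) : ℂ)) :=
    isCharacter_card_fixedBy
  have hcl := IsCharacter.isClassFunction hπ
  choose e he using fun ψ : IrrCharacter G => Helper78.IsCharacter.exists_nat_classInner hπ ψ
  choose d _ hd using fun ψ : IrrCharacter G => Helper26.irr_deg_pos ψ.1 ψ.2
  refine ⟨e, d, he, hd, ?_, ?_, ?_, ?_⟩
  · have h1 := he ⟨fun _ => 1, Helper78.isIrrCharacter_one⟩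
    simp only at h1
    rw [classInner_card_fixedBy_one] at h1
    have h2 : Nat.card (orbitRel.Quotient G Ω) = 1 := by
      rw [Nat.card_eq_one_iff_unique]
      exact ⟨(pretransitive_iff_subsingleton_quotient G Ω).mp inferInstance, ⟨Quotient.mk'' a⟩⟩
    rw [h2] at h1
    exact_mod_cast h1.symm
  · have h1 := hd ⟨fun _ => 1, Helper78.isIrrCharacter_one⟩
    simp only at h1
    exact_mod_cast h1.symm
  · have h1 := congrFun (Helper78.IsCharacter.eq_sum_irr hπ) 1
    simp only [Finset.sum_apply, Pi.smul_apply, smul_eq_mul] at h1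
    rw [Finset.sum_congr rfl fun ψ _ => by rw [he ψ, hd ψ]] at h1
    have h2 : Nat.card (fixedBy Ω (1 : G)) = Nat.card Ω := by
      rw [fixedBy_one_eq_univ]
      exact Nat.card_congr (Equiv.Set.univ Ω)
    rw [h2] at h1
    exact_mod_cast h1.symm
  · have h1 := Helper78.classInner_eq_sum_mul_conj (fun g : G => (Nat.card (fixedBy Ω g) : ℂ)) hcl
    rw [classInner_self_eq_rank a, Finset.sum_congr rfl fun ψ _ => by
      rw [he ψ, map_natCast]] at h1
    have h2 : ∀ ψ : IrrCharacter G, (e ψ : ℂ) * (e ψ : ℂ) = ((e ψ ^ 2 : ℕ) : ℂ) := by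
      intro ψ; push_cast; ring
    rw [Finset.sum_congr rfl fun ψ _ => h2 ψ] at h1
    exact_mod_cast h1.symm

/-- **Multiplicity-freeness from equal degrees or from small rank**, modulo the divisibility
of subdegrees. -/
theorem main (a : Ω)
    (hdvdAll : ∀ f : ℕ, (∀ χ : G → ℂ, IsIrrCharacter G χ → χ ≠ (fun _ => 1) →
      classInner (fun g : G => (Nat.card (fixedBy Ω g) : ℂ)) χ ≠ 0 →
        ∃ m : ℕ, χ 1 = (f : ℂ) * m) →
      ∀ b : Ω, b ≠ a → f ∣ Nat.card (orbit (stabilizer G a) b)) :
    ((f : ℕ) → (∀ χ : G → ℂ, IsIrrCharacter G χ → χ ≠ (fun _ => 1) →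
        classInner (fun g : G => (Nat.card (fixedBy Ω g) : ℂ)) χ ≠ 0 → χ 1 = f) →
      (∀ χ : G → ℂ, IsIrrCharacter G χ →
        classInner (fun g : G => (Nat.card (fixedBy Ω g) : ℂ)) χ = 0 ∨
        classInner (fun g : G => (Nat.card (fixedBy Ω g) : ℂ)) χ = 1) ∧
      ∀ b : Ω, b ≠ a → Nat.card (orbit (stabilizer G a) b) = f) ∧
    (Nat.card (orbitRel.Quotient (stabilizer G a) Ω) ≤ 5 →
      ∀ χ : G → ℂ, IsIrrCharacter G χ →
        classInner (fun g : G => (Nat.card (fixedBy Ω g) : ℂ)) χ = 0 ∨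
        classInner (fun g : G => (Nat.card (fixedBy Ω g) : ℂ)) χ = 1) := by
  classical
  haveI : Fintype (orbitRel.Quotient (stabilizer G a) Ω) := Fintype.ofFinite _
  obtain ⟨e, d, he, hd, het, hdt, hsum, hsq⟩ := exists_data (G := G) a
  set t : IrrCharacter G := ⟨fun _ => 1, Helper78.isIrrCharacter_one⟩ with ht
  -- the orbit of `a` under its stabilizer
  have horb : orbit (stabilizer G a) a = {a} := by
    ext x
    constructor
    · rintro ⟨h, rfl⟩
      exact h.2
    · rintro rfl
      exact mem_orbit_self _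
  let n : orbitRel.Quotient (stabilizer G a) Ω → ℕ := fun q =>
    Nat.card (orbit (stabilizer G a) q.out)
  let q0 : orbitRel.Quotient (stabilizer G a) Ω := Quotient.mk'' a
  have hq0 : q0.out = a := by
    have h1 : (Quotient.mk'' q0.out : orbitRel.Quotient (stabilizer G a) Ω) = Quotient.mk'' a :=
      Quotient.out_eq' q0
    have h2 : q0.out ∈ orbit (stabilizer G a) a := Quotient.exact' h1
    rw [horb] at h2
    exact h2
  have hout : ∀ q : orbitRel.Quotient (stabilizer G a) Ω, q ≠ q0 → q.out ≠ a := by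
    intro q hq h
    apply hq
    rw [← Quotient.out_eq' q, h]
  have hmk : ∀ b : Ω, orbit (stabilizer G a)
      (Quotient.mk'' b : orbitRel.Quotient (stabilizer G a) Ω).out = orbit (stabilizer G a) b := by
    intro b
    rw [← orbitRel.Quotient.orbit_eq_orbit_out _ Quotient.out_eq']
    rfl
  have hmkne : ∀ b : Ω, b ≠ a →
      (Quotient.mk'' b : orbitRel.Quotient (stabilizer G a) Ω) ≠ q0 := by
    intro b hb h
    have h2 : b ∈ orbit (stabilizer G a) a := Quotient.exact' h
    rw [horb] at h2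
    exact hb h2
  have hn0 : n q0 = 1 := by
    show Nat.card (orbit (stabilizer G a) q0.out) = 1
    rw [hq0, horb]
    simp
  have hnpos : ∀ q, 0 < n q := by
    intro q
    haveI : Nonempty (orbit (stabilizer G a) q.out) := (MulAction.nonempty_orbit _).to_subtype
    exact Nat.card_pos
  have hsum' : ∑ i, e i * d i = ∑ q, n q := by
    rw [hsum]
    exact card_eq_sum_subdegrees a
  have hsq' : ∑ i, e i ^ 2 = Fintype.card (orbitRel.Quotient (stabilizer G a) Ω) := by
    rw [hsq, Nat.card_eq_fintype_card]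
  -- part (a), in terms of `e` and `d`
  have partA : ∀ f : ℕ, (∀ i, i ≠ t → e i ≠ 0 → d i = f) →
      (∀ i, e i ≤ 1) ∧ ∀ b : Ω, b ≠ a → Nat.card (orbit (stabilizer G a) b) = f := by
    intro f hf
    have hdvd : ∀ b : Ω, b ≠ a → f ∣ Nat.card (orbit (stabilizer G a) b) := by
      apply hdvdAll f
      intro χ hχ hχ1 hne
      refine ⟨1, ?_⟩
      have hit : (⟨χ, hχ⟩ : IrrCharacter G) ≠ t := fun h => hχ1 (congrArg Subtype.val h)
      have hei : e ⟨χ, hχ⟩ ≠ 0 := by
        intro h0
        apply hne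
        rw [he ⟨χ, hχ⟩, h0]
        simp
      have h5 := hf ⟨χ, hχ⟩ hit hei
      have h6 := hd ⟨χ, hχ⟩
      simp only at h6
      rw [h6, h5]
      simp
    obtain ⟨h1, h2⟩ := arith_a e d n t q0 f het hdt hn0 hnpos hsum' hsq' hf
      (fun q hq => hdvd q.out (hout q hq))
    refine ⟨h1, fun b hb => ?_⟩
    have := h2 (Quotient.mk'' b) (hmkne b hb)
    rw [← this]
    show _ = Nat.card (orbit (stabilizer G a) (Quotient.mk'' b :
      orbitRel.Quotient (stabilizer G a) Ω).out)
    rw [hmk b]
  have conv : (∀ i, e i ≤ 1) → ∀ χ : G → ℂ, IsIrrCharacter G χ →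
        classInner (fun g : G => (Nat.card (fixedBy Ω g) : ℂ)) χ = 0 ∨
        classInner (fun g : G => (Nat.card (fixedBy Ω g) : ℂ)) χ = 1 := by
    intro h χ hχ
    have h1 := h ⟨χ, hχ⟩
    have h2 := he ⟨χ, hχ⟩
    simp only at h2
    rw [h2]
    rcases Nat.le_one_iff_eq_zero_or_eq_one.mp h1 with h3 | h3
    · left; rw [h3]; simp
    · right; rw [h3]; simp
  refine ⟨fun f hf => ?_, fun hr => ?_⟩
  · have hf' : ∀ i, i ≠ t → e i ≠ 0 → d i = f := by
      intro i hit hei
      have h1 : (i : G → ℂ) ≠ fun _ => 1 := fun h => hit (Subtype.ext h)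
      have h2 : classInner (fun g : G => (Nat.card (fixedBy Ω g) : ℂ)) (i : G → ℂ) ≠ 0 := by
        rw [he i]
        exact_mod_cast hei
      have h3 := hf i.1 i.2 h1 h2
      rw [hd i] at h3
      exact_mod_cast h3
    obtain ⟨h1, h2⟩ := partA f hf'
    exact ⟨conv h1, h2⟩
  · apply conv
    apply arith_b e d t het
    · rw [hsq]; exact hr
    · intro f hf
      exact (partA f hf).1

end rank

end Cfsg.Agent.Lib.Helper3.MultFree
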