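import Mathlib
import Cfsg.Prelude.Def_Blocks
import Cfsg.Prelude.Def_Transfer
import Cfsg.Agent.Lib.Helper3.FixedSum
import Cfsg.Agent.Lib.Helper75.GaloisPow
import Cfsg.Agent.Lib.Helper76.GaloisBlock
import Cfsg.Agent.Lib.Helper76.BlockSq
import Cfsg.Agent.Lib.Helper77.Linear
import Cfsg.Agent.Lib.Helper78.CharMore
import Cfsg.Agent.Lib.Helper80.CharBasic
import Cfsg.Agent.Lib.Helper9.NPCLemmas2
import Cfsg.Agent.Lib.Helper1.PGroupMax
import Cfsg.Agent.Lib.Helper77.Deflation
import Cfsg.Agent.Lib.Helper79.Integrality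
import Cfsg.Agent.S0939

/-!
# Linear characters in the principal block and normal `p`-complements (helper3)

Let `P` be a Sylow `p`-subgroup of `G`, `B₀` the principal `p`-block and `k` coprime to `|G|` such
that `g ↦ g ^ k` has `p`-power order on `G`.  If every `χ ∈ B₀` of degree prime to `p` with
`χ (g ^ k) = χ g` is linear, then every linear character `μ` of `P` with `μ (x ^ k) = μ x` is the
restriction of a linear character of `G`.

The proof: by Osima, `θ = ∑_{χ ∈ B₀} χ(1) χ` vanishes on `p`-singular elements, so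
`[θ|_P, μ] = θ(1) / |P|`, which is prime to `p` (Brauer).  Count modulo `p` over the orbits
of the permutation `χ ↦ χ ∘ (· ^ k)`.
-/

set_option autoImplicit false
set_option linter.unusedSectionVars false

namespace Cfsg.Agent.Lib.Helper3.PrincipalLin

open Cfsg
open scoped ComplexConjugate commutatorElement

universe u

section twist

variable {G : Type u} [Group G] [Finite G]

/-- the twist `χ ↦ χ ∘ (· ^ k)` of an irreducible character, `k` coprime to `|G|` -/
noncomputable def twist (k : ℕ) (hk : k.Coprime (Nat.card G)) (χ : IrrCharacter G) :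
    IrrCharacter G :=
  ⟨fun g => (χ : G → ℂ) (g ^ k), Helper75.isIrrCharacter_pow χ.2 k hk⟩

theorem twist_apply (k : ℕ) (hk : k.Coprime (Nat.card G)) (χ : IrrCharacter G) (g : G) :
    ((twist k hk χ : IrrCharacter G) : G → ℂ) g = (χ : G → ℂ) (g ^ k) := rfl

theorem exists_pow_eq (k : ℕ) (hk : k.Coprime (Nat.card G)) (g : G) : ∃ g' : G, g' ^ k = g := by
  obtain ⟨g', hg'⟩ := (powCoprime hk.symm).surjective g
  exact ⟨g', hg'⟩

theorem twist_injective (k : ℕ) (hk : k.Coprime (Nat.card G)) :
    Function.Injective (twist (G := G) k hk) := by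
  intro χ ψ h
  apply Subtype.ext
  funext g
  obtain ⟨g', rfl⟩ := exists_pow_eq k hk g
  exact congrFun (congrArg Subtype.val h) g'

/-- the twist as a permutation of the irreducible characters -/
noncomputable def twistPerm (k : ℕ) (hk : k.Coprime (Nat.card G)) :
    Equiv.Perm (IrrCharacter G) :=
  Equiv.ofBijective (twist k hk) (Finite.injective_iff_bijective.mp (twist_injective k hk))

theorem twistPerm_apply (k : ℕ) (hk : k.Coprime (Nat.card G)) (χ : IrrCharacter G) :
    twistPerm k hk χ = twist k hk χ := rfl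

theorem twistPerm_pow_apply (k : ℕ) (hk : k.Coprime (Nat.card G)) (m : ℕ) (χ : IrrCharacter G)
    (g : G) : ((((twistPerm k hk) ^ m) χ : IrrCharacter G) : G → ℂ) g = (χ : G → ℂ) (g ^ (k ^ m)) := by
  induction m generalizing g with
  | zero => simp
  | succ m ih =>
    rw [pow_succ', Equiv.Perm.mul_apply, twistPerm_apply, twist_apply, ih, ← pow_mul, ← pow_succ']

theorem twistPerm_pow_eq_one (k : ℕ) (hk : k.Coprime (Nat.card G)) (N : ℕ)
    (h : ∀ g : G, g ^ (k ^ N) = g) : (twistPerm (G := G) k hk) ^ N = 1 := by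
  ext χ g
  rw [twistPerm_pow_apply, h g]
  rfl

theorem centralChar_twist (k : ℕ) (hk : k.Coprime (Nat.card G)) (χ : IrrCharacter G) (g : G) :
    centralChar ((twist k hk χ : IrrCharacter G) : G → ℂ) g =
      centralChar (χ : G → ℂ) (g ^ k) := by
  unfold centralChar
  rw [twist_apply, twist_apply, one_pow, Helper76.centralizer_pow_eq_of_coprime g k
    (Nat.Coprime.coprime_dvd_right (orderOf_dvd_natCard g) hk)]

theorem centralChar_one_pow (k : ℕ) (hk : k.Coprime (Nat.card G)) (g : G) :
    centralChar (fun _ : G => (1 : ℂ)) (g ^ k) = centralChar (fun _ : G => (1 : ℂ)) g := by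
  unfold centralChar
  rw [Helper76.centralizer_pow_eq_of_coprime g k
    (Nat.Coprime.coprime_dvd_right (orderOf_dvd_natCard g) hk)]

theorem twist_mem_principalBlock_iff (M : Ideal AlgInt) (k : ℕ) (hk : k.Coprime (Nat.card G))
    (χ : IrrCharacter G) : twist k hk χ ∈ principalBlock M G ↔ χ ∈ principalBlock M G := by
  show SameBlock M _ _ ↔ SameBlock M _ _
  unfold SameBlock
  constructor
  · intro h g
    obtain ⟨g', rfl⟩ := exists_pow_eq k hk g
    have h1 := h g'
    rw [centralChar_twist, ← centralChar_one_pow k hk] at h1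
    exact h1
  · intro h g
    rw [centralChar_twist, ← centralChar_one_pow k hk]
    exact h (g ^ k)

theorem charDegree_twist (k : ℕ) (hk : k.Coprime (Nat.card G)) (χ : IrrCharacter G) :
    charDegree ((twist k hk χ : IrrCharacter G) : G → ℂ) = charDegree (χ : G → ℂ) := by
  unfold charDegree
  rw [twist_apply, one_pow]

end twist

section mult

variable {G : Type u} [Group G] [Finite G] (P : Subgroup G) [Fintype P]

theorem exists_mult (χ : IrrCharacter G) (μ : P →* ℂˣ) :
    ∃ n : ℕ, classInner (fun x : P => (χ : G → ℂ) x) (fun x : P => ((μ x : ℂˣ) : ℂ)) = n :=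
  Helper78.IsCharacter.exists_nat_classInner
    (Helper80.isCharacter_restrict P (Helper78.IsIrrCharacter.isCharacter χ.2))
    ⟨_, Helper77.isIrrCharacter_of_monoidHom μ⟩

/-- the multiplicity of the linear character `μ` of `P` in the restriction of `χ` -/
noncomputable def mult (χ : IrrCharacter G) (μ : P →* ℂˣ) : ℕ := (exists_mult P χ μ).choose

theorem mult_spec (χ : IrrCharacter G) (μ : P →* ℂˣ) :
    classInner (fun x : P => (χ : G → ℂ) x) (fun x : P => ((μ x : ℂˣ) : ℂ)) = mult P χ μ :=
  (exists_mult P χ μ).choose_spec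

theorem sum_eq_card_mul_mult (χ : IrrCharacter G) (μ : P →* ℂˣ) :
    ∑ x : P, (χ : G → ℂ) x * conj ((μ x : ℂˣ) : ℂ) = (Nat.card P : ℂ) * mult P χ μ := by
  have h := mult_spec P χ μ
  unfold classInner at h
  have hc : (Nat.card P : ℂ) ≠ 0 := by exact_mod_cast Nat.card_pos.ne'
  rw [← h]
  field_simp

theorem mult_twist (k : ℕ) (hk : k.Coprime (Nat.card G)) (χ : IrrCharacter G) (μ : P →* ℂˣ)
    (hμ : ∀ x : P, μ (x ^ k) = μ x) : mult P (twist k hk χ) μ = mult P χ μ := by
  have h1 := sum_eq_card_mul_mult P (twist k hk χ) μ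
  have h2 := sum_eq_card_mul_mult P χ μ
  have hc : (Nat.card P : ℂ) ≠ 0 := by exact_mod_cast Nat.card_pos.ne'
  have hcop : (Nat.card P).Coprime k :=
    Nat.Coprime.coprime_dvd_left (Subgroup.card_subgroup_dvd_card P) hk.symm
  have h3 : ∑ x : P, ((twist k hk χ : IrrCharacter G) : G → ℂ) x * conj ((μ x : ℂˣ) : ℂ) =
      ∑ x : P, (χ : G → ℂ) x * conj ((μ x : ℂˣ) : ℂ) := by
    refine Fintype.sum_equiv (powCoprime hcop) _ _ (fun x => ?_)
    rw [twist_apply, powCoprime_apply, hμ x]
    rfl
  rw [h3, h2] at h1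
  have h4 : (mult P χ μ : ℂ) = mult P (twist k hk χ) μ := mul_left_cancel₀ hc h1
  exact_mod_cast h4.symm

theorem mult_of_degree_one (χ : IrrCharacter G) (μ : P →* ℂˣ)
    (h1 : charDegree (χ : G → ℂ) = 1) (hne : ¬ ∀ x : P, (χ : G → ℂ) x = ((μ x : ℂˣ) : ℂ)) :
    mult P χ μ = 0 := by
  have h2 : (χ : G → ℂ) 1 = 1 := by
    rw [Helper79.irr_apply_one_eq_charDegree χ, h1, Nat.cast_one]
  obtain ⟨φ, hφ⟩ := Helper77.exists_monoidHom_of_degree_one
    (Helper78.IsIrrCharacter.isCharacter χ.2) h2
  have h3 : IsIrrCharacter P (fun x : P => (χ : G → ℂ) x) := by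
    have h4 := Helper77.isIrrCharacter_of_monoidHom (φ.comp P.subtype)
    have h5 : (fun x : P => (((φ.comp P.subtype) x : ℂˣ) : ℂ)) = fun x : P => (χ : G → ℂ) x := by
      funext x
      exact (hφ x).symm
    rwa [h5] at h4
  have h6 := mult_spec P χ μ
  rw [Helper78.classInner_irr h3 (Helper77.isIrrCharacter_of_monoidHom μ)] at h6
  have h7 : (fun x : P => (χ : G → ℂ) x) ≠ fun x : P => ((μ x : ℂˣ) : ℂ) :=
    fun h => hne (fun x => congrFun h x)
  rw [if_neg h7] at h6
  exact_mod_cast h6.symm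

end mult

section trivsec

variable {G : Type u} [Group G] {p : ℕ}

/-- the trivial character as an irreducible character -/
noncomputable def triv (G : Type u) [Group G] : IrrCharacter G :=
  ⟨fun _ => 1, Helper78.isIrrCharacter_one⟩

theorem triv_mem {M : Ideal AlgInt} (hM : IsPModular p M) : triv G ∈ principalBlock M G :=
  Helper16.self_mem_blockOf (Helper16.isPModular_isPrime hM).ne_top (triv G)

theorem charDegree_triv : charDegree ((triv G : IrrCharacter G) : G → ℂ) = 1 := by
  simp [charDegree, triv]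

theorem isPBlock_principal (M : Ideal AlgInt) : IsPBlock M (principalBlock M G) :=
  ⟨triv G, rfl⟩

end trivsec

section identity

variable {G : Type u} [Group G] [Fintype G] {p : ℕ} [Fact p.Prime]

open Classical in
theorem sum_deg_mult_mul_card {M : Ideal AlgInt} (hM : IsPModular p M) (P : Subgroup G)
    [Fintype P] (hP : IsPGroup p P) (μ : P →* ℂˣ) :
    (∑ χ : IrrCharacter G, if χ ∈ principalBlock M G then
        (charDegree (χ : G → ℂ) : ℂ) * mult P χ μ else 0) * (Nat.card P : ℂ) =
      ∑ χ : IrrCharacter G, if χ ∈ principalBlock M G then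
        (charDegree (χ : G → ℂ) : ℂ) ^ 2 else 0 := by
  have hB : IsPBlock M (principalBlock M G) := isPBlock_principal M
  have h1 : ∀ χ : IrrCharacter G,
      (if χ ∈ principalBlock M G then (charDegree (χ : G → ℂ) : ℂ) * mult P χ μ else 0) *
        (Nat.card P : ℂ) =
      ∑ x : P, conj ((μ x : ℂˣ) : ℂ) * (if χ ∈ principalBlock M G then
        (charDegree (χ : G → ℂ) : ℂ) * (χ : G → ℂ) x else 0) := by
    intro χ
    split_ifs with h
    · rw [mul_assoc, mul_comm (mult P χ μ : ℂ), ← sum_eq_card_mul_mult P χ μ, Finset.mul_sum]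
      refine Finset.sum_congr rfl fun x _ => ?_
      ring
    · simp
  rw [Finset.sum_mul, Finset.sum_congr rfl fun χ _ => h1 χ, Finset.sum_comm]
  rw [Finset.sum_eq_single (1 : P)]
  · rw [← Finset.mul_sum, map_one, Units.val_one, map_one, one_mul]
    refine Finset.sum_congr rfl fun χ _ => ?_
    split_ifs with h
    · rw [Subgroup.coe_one, Helper79.irr_apply_one_eq_charDegree χ]
      ring
    · rfl
  · intro x _ hx
    rw [← Finset.mul_sum]
    have hx' : p ∣ orderOf (x : G) := by
      obtain ⟨j, hj⟩ := IsPGroup.iff_orderOf.mp hP x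
      rw [Subgroup.orderOf_coe, hj]
      have hj0 : j ≠ 0 := by
        rintro rfl
        rw [pow_zero, orderOf_eq_one_iff] at hj
        exact hx hj
      exact dvd_pow_self p hj0
    rw [Helper76.sum_block_degree_mul_eq_zero hM hB (x : G) hx', mul_zero]
  · intro h
    exact absurd (Finset.mem_univ _) h

open Classical in
theorem not_dvd_sum_deg_mult {M : Ideal AlgInt} (hM : IsPModular p M) (P : Sylow p G)
    [Fintype P] (μ : P →* ℂˣ) :
    ¬ p ∣ ∑ χ : IrrCharacter G, if χ ∈ principalBlock M G then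
        charDegree (χ : G → ℂ) * mult (P : Subgroup G) χ μ else 0 := by
  have hp : p.Prime := Fact.out
  have hB : IsPBlock M (principalBlock M G) := isPBlock_principal M
  set N := ∑ χ : IrrCharacter G, if χ ∈ principalBlock M G then
        charDegree (χ : G → ℂ) * mult (P : Subgroup G) χ μ else 0 with hN
  set D := ∑ χ : IrrCharacter G, if χ ∈ principalBlock M G then
        charDegree (χ : G → ℂ) ^ 2 else 0 with hD
  have h1 : N * Nat.card P = D := by
    have h := sum_deg_mult_mul_card hM (P : Subgroup G) P.2 μ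
    have h2 : ((N * Nat.card P : ℕ) : ℂ) = ((D : ℕ) : ℂ) := by
      rw [hN, hD]
      push_cast
      rw [← h]
    exact_mod_cast h2
  have h3 := Helper76.block_sq_factorization hM hB
  have h4 : ∑ᶠ χ ∈ principalBlock M G, charDegree (χ : G → ℂ) ^ 2 = D := by
    rw [finsum_mem_def, finsum_eq_sum_of_fintype, hD]
    refine Finset.sum_congr rfl fun χ _ => ?_
    rw [Set.indicator_apply]
  have h5 : sInf ((fun χ : IrrCharacter G => (charDegree (χ : G → ℂ)).factorization p) ''
      principalBlock M G) = 0 := by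
    rw [Nat.sInf_eq_zero]
    left
    refine ⟨triv G, triv_mem hM, ?_⟩
    show (charDegree ((triv G : IrrCharacter G) : G → ℂ)).factorization p = 0
    rw [charDegree_triv, Nat.factorization_one]
    rfl
  rw [h4, h5, add_zero] at h3
  have hDpos : 0 < D := by
    rw [hD]
    apply Finset.sum_pos'
    · intro χ _
      positivity
    · refine ⟨triv G, Finset.mem_univ _, ?_⟩
      rw [if_pos (triv_mem hM), charDegree_triv]
      norm_num
  have hcard : Nat.card P = p ^ (Nat.card G).factorization p := Sylow.card_eq_multiplicity P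
  intro hdvd
  obtain ⟨N', hN'⟩ := hdvd
  have h6 : p ^ ((Nat.card G).factorization p + 1) ∣ D := by
    rw [← h1, hN', hcard, pow_succ]
    exact ⟨N', by ring⟩
  have h7 := (hp.pow_dvd_iff_le_factorization hDpos.ne').mp h6
  omega

end identity

section count

variable {G : Type u} [Group G] [Fintype G] {p : ℕ} [Fact p.Prime]

open Classical in
/-- **Key counting step.**  If every `k`-stable member of the principal block of degree prime
to `p` is linear, then every `k`-stable linear character of a Sylow `p`-subgroup extends to a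
linear character of `G` in the principal block. -/
theorem exists_linear_extending {M : Ideal AlgInt} (hM : IsPModular p M) (P : Sylow p G)
    [Fintype P] (k : ℕ) (hk : k.Coprime (Nat.card G)) (n : ℕ)
    (hkn : ∀ g : G, g ^ (k ^ (p ^ n)) = g)
    (hlin : ∀ χ ∈ principalBlock M G, ¬ p ∣ charDegree (χ : G → ℂ) →
      (∀ g : G, (χ : G → ℂ) (g ^ k) = (χ : G → ℂ) g) → charDegree (χ : G → ℂ) = 1)
    (μ : P →* ℂˣ) (hμ : ∀ x : P, μ (x ^ k) = μ x) :
    ∃ χ ∈ principalBlock M G, charDegree (χ : G → ℂ) = 1 ∧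
      ∀ x : P, (χ : G → ℂ) x = ((μ x : ℂˣ) : ℂ) := by
  by_contra hcon
  push Not at hcon
  set τ := twistPerm (G := G) k hk with hτdef
  have hτ : τ ^ p ^ n = 1 := twistPerm_pow_eq_one k hk (p ^ n) hkn
  let F : IrrCharacter G → ZMod p := fun χ =>
    if χ ∈ principalBlock M G then
      ((charDegree (χ : G → ℂ) * mult (P : Subgroup G) χ μ : ℕ) : ZMod p) else 0
  have hF : ∀ χ, F (τ χ) = F χ := by
    intro χ
    show F (twist k hk χ) = F χ
    simp only [F]
    rw [charDegree_twist, mult_twist _ k hk χ μ hμ]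
    by_cases h : χ ∈ principalBlock M G
    · rw [if_pos h, if_pos ((twist_mem_principalBlock_iff M k hk χ).mpr h)]
    · rw [if_neg h, if_neg (fun h' => h ((twist_mem_principalBlock_iff M k hk χ).mp h'))]
  have hsum := FixedSum.sum_eq_sum_fixed τ hτ F hF
  have hzero : ∑ a ∈ Finset.univ.filter (fun a => τ a = a), F a = 0 := by
    apply Finset.sum_eq_zero
    intro χ hχ
    rw [Finset.mem_filter] at hχ
    have hfix : ∀ g : G, (χ : G → ℂ) (g ^ k) = (χ : G → ℂ) g :=
      fun g => congrFun (congrArg Subtype.val hχ.2) g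
    simp only [F]
    split_ifs with hB
    · by_cases hdvd : p ∣ charDegree (χ : G → ℂ)
      · rw [Nat.cast_mul, (ZMod.natCast_eq_zero_iff _ _).mpr hdvd, zero_mul]
      · have h1 := hlin χ hB hdvd hfix
        obtain ⟨x, hx⟩ := hcon χ hB h1
        rw [mult_of_degree_one (P : Subgroup G) χ μ h1 (fun h => hx (h x))]
        simp
    · rfl
  have htotal : ∑ χ, F χ = ((∑ χ : IrrCharacter G, if χ ∈ principalBlock M G then
        charDegree (χ : G → ℂ) * mult (P : Subgroup G) χ μ else 0 : ℕ) : ZMod p) := by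
    rw [Nat.cast_sum]
    refine Finset.sum_congr rfl fun χ _ => ?_
    simp only [F]
    split_ifs <;> simp
  rw [hzero, htotal] at hsum
  exact not_dvd_sum_deg_mult hM P μ ((ZMod.natCast_eq_zero_iff _ _).mp hsum)

end count

section focal

variable {G : Type u} [Group G] [Finite G] {p : ℕ} [Fact p.Prime]

/-- for a coatom `Q` of a finite `p`-group and `y ∉ Q` there is a linear character of order
dividing `p` that is nontrivial on `y` -/
theorem exists_hom_of_coatom {P : Type u} [Group P] [Finite P] (hP : IsPGroup p P)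
    {Q : Subgroup P} (hQ : IsCoatom Q) (y : P) (hy : y ∉ Q) :
    ∃ μ : P →* ℂˣ, (∀ x : P, μ x ^ p = 1) ∧ μ y ≠ 1 := by
  have hQn : Q.Normal := Helper1.coatom_normal_of_isPGroup hP hQ
  have hidx : Q.index = p := Helper1.coatom_index_of_isPGroup hP hQ
  have hcard : Nat.card (P ⧸ Q) = p := by rw [← Subgroup.index_eq_card]; exact hidx
  have : IsCyclic (P ⧸ Q) := isCyclic_of_prime_card hcard
  let _ : CommGroup (P ⧸ Q) := IsCyclic.commGroup
  have hne : (QuotientGroup.mk' Q y) ≠ 1 := by
    intro h; exact hy ((QuotientGroup.eq_one_iff y).mp h)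
  obtain ⟨φ, hφ⟩ := CommGroup.exists_apply_ne_one_of_hasEnoughRootsOfUnity (P ⧸ Q) ℂ hne
  refine ⟨φ.comp (QuotientGroup.mk' Q), ?_, hφ⟩
  intro x
  show φ (QuotientGroup.mk' Q x) ^ p = 1
  rw [← map_pow, ← hcard, pow_card_eq_one', map_one]

/-- if every linear character of order dividing `p` of the Sylow `p`-subgroup `P` extends to `G`,
then the focal subgroup of `P` lies in the Frattini subgroup of `P` -/
theorem focalSubgroup_le_frattini_of_extend (P : Sylow p G)
    (hext : ∀ μ : P →* ℂˣ, (∀ x : P, μ x ^ p = 1) →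
      ∃ φ : G →* ℂˣ, ∀ x : P, φ (x : G) = μ x) :
    (P : Subgroup G).focalSubgroup ≤ (frattini P).map (P : Subgroup G).subtype := by
  rw [Subgroup.focalSubgroup_def, Subgroup.closure_le]
  rintro g ⟨hgP, x, hxP, u, rfl⟩
  refine ⟨⟨(⁅x, u⁆ : G), hgP⟩, ?_, rfl⟩
  show (⟨(⁅x, u⁆ : G), hgP⟩ : P) ∈ frattini P
  unfold frattini Order.radical
  simp only [Subgroup.mem_iInf]
  intro Q hQ
  by_contra hy
  obtain ⟨μ, hμp, hμy⟩ := exists_hom_of_coatom P.2 hQ _ hy
  obtain ⟨φ, hφ⟩ := hext μ hμp
  apply hμy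
  rw [← hφ]
  show φ ⁅x, u⁆ = 1
  rw [commutatorElement_def, map_mul, map_mul, map_mul, map_inv, map_inv, mul_comm (φ x) (φ u),
    mul_inv_cancel_right, mul_inv_cancel]

end focal

section main

variable {G : Type u} [Group G] [Finite G] {p : ℕ} [Fact p.Prime]

/-- **Main criterion.**  Suppose `k` is coprime to `|G|`, `g ↦ g ^ k` has `p`-power order, and
linear characters of order `p` of a Sylow `p`-subgroup are `k`-stable.  If every `k`-stable member
of the principal `p`-block of degree prime to `p` is linear, then `G` has a normal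
`p`-complement. -/
theorem hasNormalPComplement_of_linear {M : Ideal AlgInt} (hM : IsPModular p M) (k : ℕ)
    (hk : k.Coprime (Nat.card G)) (n : ℕ) (hkn : ∀ g : G, g ^ (k ^ (p ^ n)) = g)
    (hkp : ∀ (P : Sylow p G) (μ : P →* ℂˣ), (∀ x : P, μ x ^ p = 1) → ∀ x : P, μ (x ^ k) = μ x)
    (hlin : ∀ χ ∈ principalBlock M G, ¬ p ∣ charDegree (χ : G → ℂ) →
      (∀ g : G, (χ : G → ℂ) (g ^ k) = (χ : G → ℂ) g) → charDegree (χ : G → ℂ) = 1) :
    HasNormalPComplement p G := by
  have : Fintype G := Fintype.ofFinite G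
  let P : Sylow p G := default
  have : Fintype P := Fintype.ofFinite P
  apply Helper9.hasNormalPComplement_of_focalSubgroup_le_frattini P
  apply focalSubgroup_le_frattini_of_extend P
  intro μ hμp
  obtain ⟨χ, hχB, hχ1, hχμ⟩ := exists_linear_extending hM P k hk n hkn hlin μ (hkp P μ hμp)
  have h2 : (χ : G → ℂ) 1 = 1 := by
    rw [Helper79.irr_apply_one_eq_charDegree χ, hχ1, Nat.cast_one]
  obtain ⟨φ, hφ⟩ := Helper77.exists_monoidHom_of_degree_one
    (Helper78.IsIrrCharacter.isCharacter χ.2) h2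
  refine ⟨φ, fun x => ?_⟩
  apply Units.ext
  rw [← hφ, hχμ]

/-- the degree of an irreducible character divides the index of any normal subgroup in its
kernel -/
theorem charDegree_dvd_index_of_ker (K : Subgroup G) [K.Normal] (χ : IrrCharacter G)
    (hker : ∀ n ∈ K, (χ : G → ℂ) n = (χ : G → ℂ) 1) : charDegree (χ : G → ℂ) ∣ K.index := by
  have h1 := Helper79.irr_charDegree_dvd_card (Helper77.deflate K χ hker)
  have hdeg : charDegree ((Helper77.deflate K χ hker : IrrCharacter (G ⧸ K)) : G ⧸ K → ℂ) =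
      charDegree (χ : G → ℂ) := by
    unfold charDegree
    have := Helper77.deflate_mk K χ hker 1
    rw [QuotientGroup.mk_one] at this
    rw [this]
  rw [hdeg] at h1
  rw [Subgroup.index_eq_card]
  exact h1

/-- **Converse.**  If `G` has a normal `p`-complement, every member of the principal `p`-block of
degree prime to `p` is linear. -/
theorem charDegree_eq_one_of_npc {M : Ideal AlgInt} (hM : IsPModular p M)
    (hnpc : HasNormalPComplement p G) (χ : IrrCharacter G) (hχ : χ ∈ principalBlock M G)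
    (hdeg : ¬ p ∣ charDegree (χ : G → ℂ)) : charDegree (χ : G → ℂ) = 1 := by
  have hp : p.Prime := Fact.out
  obtain ⟨P, N, hN, hc⟩ := hnpc
  have hcard : Nat.card N * Nat.card P = Nat.card G := hc.card_mul_card
  have hPcard : Nat.card P = p ^ (Nat.card G).factorization p := Sylow.card_eq_multiplicity P
  have hcop : (Nat.card N).Coprime p := by
    rw [Nat.coprime_comm, hp.coprime_iff_not_dvd]
    rintro ⟨c, hc'⟩
    have h1 : p ^ ((Nat.card G).factorization p + 1) ∣ Nat.card G := by
      refine ⟨c, ?_⟩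
      rw [pow_succ, ← hPcard, ← hcard, hc']
      ring
    have h2 := (hp.pow_dvd_iff_le_factorization Nat.card_pos.ne').mp h1
    omega
  have hidx : N.index = Nat.card P := hc.symm.index_eq_card
  have hle : N ≤ pPrimeCore p G := le_sSup ⟨hN, hcop⟩
  have hdvd : (pPrimeCore p G).index ∣ p ^ (Nat.card G).factorization p := by
    rw [← hPcard, ← hidx]
    exact Subgroup.index_dvd_of_le hle
  obtain ⟨j, -, hj⟩ := (Nat.dvd_prime_pow hp).mp hdvd
  have hB := Cfsg.Agent.S0939.result p M hM ⟨j, hj⟩
  rw [hB] at hχ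
  have hKn : (pPrimeCore p G).Normal := Subgroup.sSup_normal _ (fun _ h => h.1)
  have h3 := charDegree_dvd_index_of_ker (pPrimeCore p G) χ hχ
  rw [hj] at h3
  obtain ⟨i, -, hi⟩ := (Nat.dvd_prime_pow hp).mp h3
  rcases Nat.eq_zero_or_pos i with h0 | h0
  · rw [hi, h0, pow_zero]
  · exfalso
    apply hdeg
    rw [hi]
    exact dvd_pow_self p h0.ne'

end main

section two

theorem odd_pow_two_pow_modEq (k : ℕ) (hk : Odd k) (n : ℕ) : k ^ (2 ^ n) ≡ 1 [MOD 2 ^ (n + 1)] := by
  have key : ∀ n : ℕ, ((2 : ℤ) ^ (n + 1)) ∣ (k : ℤ) ^ (2 ^ n) - 1 := by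
    intro n
    induction n with
    | zero =>
      obtain ⟨m, hm⟩ := hk
      refine ⟨m, ?_⟩
      rw [hm]
      push_cast
      ring
    | succ n ih =>
      obtain ⟨c, hc⟩ := ih
      have h1 : (k : ℤ) ^ (2 ^ (n + 1)) - 1 = ((k : ℤ) ^ (2 ^ n) - 1) * ((k : ℤ) ^ (2 ^ n) - 1 + 2) := by
        rw [pow_succ 2 n, pow_mul]
        ring
      rw [h1, hc]
      refine ⟨c * (2 ^ n * c + 1), ?_⟩
      ring
  have h := key n
  have h2 : ((2 ^ (n + 1) : ℕ) : ℤ) ∣ ((k ^ (2 ^ n) : ℕ) : ℤ) - ((1 : ℕ) : ℤ) := by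
    push_cast
    exact h
  exact ((Nat.modEq_iff_dvd).mpr h2).symm

variable {G : Type u} [Group G] [Finite G]

theorem coprime_of_pow_conditions (k : ℕ)
    (hk₁ : ∀ g : G, (∃ j : ℕ, orderOf g = 2 ^ j) → g ^ k = g ^ 3)
    (hk₂ : ∀ g : G, Odd (orderOf g) → g ^ k = g) : k.Coprime (Nat.card G) := by
  by_contra hcon
  obtain ⟨q, hq, hqk, hqG⟩ := Nat.Prime.not_coprime_iff_dvd.mp hcon
  have : Fact q.Prime := ⟨hq⟩
  obtain ⟨h, hh⟩ := exists_prime_orderOf_dvd_card' q hqG
  have h1 : h ^ k = 1 := orderOf_dvd_iff_pow_eq_one.mp (hh ▸ hqk)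
  have hne : h ≠ 1 := by
    intro h1'
    rw [h1', orderOf_one] at hh
    exact hq.one_lt.ne hh
  rcases eq_or_ne q 2 with h2 | h2
  · have h3 := hk₁ h ⟨1, by rw [hh, h2, pow_one]⟩
    have h4 : h ^ 2 = 1 := by rw [← h2, ← hh]; exact pow_orderOf_eq_one h
    rw [h1, pow_succ, h4, one_mul] at h3
    exact hne h3.symm
  · have h3 := hk₂ h (by rw [hh]; exact hq.odd_of_ne_two h2)
    rw [h1] at h3
    exact hne h3.symm

theorem pow_pow_two_pow_eq (k : ℕ)
    (hk₁ : ∀ g : G, (∃ j : ℕ, orderOf g = 2 ^ j) → g ^ k = g ^ 3)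
    (hk₂ : ∀ g : G, Odd (orderOf g) → g ^ k = g) (g : G) :
    g ^ (k ^ (2 ^ (Nat.card G))) = g := by
  have hcop := coprime_of_pow_conditions k hk₁ hk₂
  have ho : orderOf g ≠ 0 := (orderOf_pos g).ne'
  obtain ⟨j, t, ht, hjt⟩ := Nat.exists_eq_two_pow_mul_odd ho
  have ht0 : t ≠ 0 := by rintro rfl; simp at ht
  have h2j0 : 2 ^ j ≠ 0 := by positivity
  -- the odd part
  have h1 : k ≡ 1 [MOD t] := by
    have h2 : orderOf (g ^ (2 ^ j)) = t := by
      rw [orderOf_pow_of_dvd h2j0 ⟨t, hjt⟩, hjt, Nat.mul_div_cancel_left _ (by positivity)]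
    have h3 := hk₂ (g ^ (2 ^ j)) (by rw [h2]; exact ht)
    rw [← pow_mul] at h3
    nth_rewrite 2 [← mul_one (2 ^ j)] at h3
    rw [pow_eq_pow_iff_modEq, hjt] at h3
    exact Nat.ModEq.mul_left_cancel' h2j0 h3
  have h1' : k ^ (2 ^ (Nat.card G)) ≡ 1 [MOD t] := by
    have := h1.pow (2 ^ (Nat.card G))
    rwa [one_pow] at this
  -- the 2-part
  have h2' : k ^ (2 ^ (Nat.card G)) ≡ 1 [MOD 2 ^ j] := by
    rcases Nat.eq_zero_or_pos j with hj | hj
    · rw [hj, pow_zero]
      exact Nat.modEq_one
    · have hkodd : Odd k := by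
        rw [← Nat.not_even_iff_odd]
        intro hev
        have h2k : 2 ∣ k := even_iff_two_dvd.mp hev
        have h2G : 2 ∣ Nat.card G := by
          refine dvd_trans ?_ (orderOf_dvd_natCard g)
          rw [hjt]
          exact dvd_mul_of_dvd_left (dvd_pow_self 2 hj.ne') t
        have := Nat.eq_one_of_dvd_coprimes hcop h2k h2G
        omega
      have h3 := odd_pow_two_pow_modEq k hkodd (Nat.card G)
      have hjle : j ≤ Nat.card G + 1 := by
        have h4 : 2 ^ j ≤ Nat.card G := by
          refine le_trans ?_ (orderOf_le_card (x := g))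
          rw [hjt]
          exact Nat.le_mul_of_pos_right _ (Nat.pos_of_ne_zero ht0)
        have h5 : j < 2 ^ j := Nat.lt_two_pow_self
        omega
      exact h3.of_dvd (pow_dvd_pow 2 hjle)
  have hcop2 : (2 ^ j).Coprime t := Nat.Coprime.pow_left j (Nat.coprime_two_left.mpr ht)
  have h3 := (Nat.modEq_and_modEq_iff_modEq_mul hcop2).mp ⟨h2', h1'⟩
  rw [← hjt] at h3
  have h4 := pow_eq_pow_iff_modEq.mpr h3
  rw [h4, pow_one]

end two

section final

variable {G : Type u} [Group G] [Finite G]

theorem sInf_factorization_principalBlock {p : ℕ} [Fact p.Prime] {M : Ideal AlgInt}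
    (hM : IsPModular p M) :
    sInf ((fun χ : IrrCharacter G => (charDegree (χ : G → ℂ)).factorization p) ''
      principalBlock M G) = 0 := by
  rw [Nat.sInf_eq_zero]
  left
  refine ⟨triv G, triv_mem hM, ?_⟩
  show (charDegree ((triv G : IrrCharacter G) : G → ℂ)).factorization p = 0
  rw [charDegree_triv, Nat.factorization_one]
  rfl

/-- **S4888.** All height-zero characters of the principal `p`-block have the same degree iff
`G` has a normal `p`-complement. -/
theorem main_height_zero (p : ℕ) [Fact p.Prime] (M : Ideal AlgInt) (hM : IsPModular p M) :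
    (∃ d : ℕ, ∀ χ : IrrCharacter G, χ ∈ principalBlock M G →
      blockHeight p (principalBlock M G) (χ : G → ℂ) = 0 → charDegree (χ : G → ℂ) = d) ↔
    HasNormalPComplement p G := by
  have hp : p.Prime := Fact.out
  constructor
  · rintro ⟨d, hd⟩
    have hd1 : d = 1 := by
      have h := hd (triv G) (triv_mem hM) (by
        unfold blockHeight
        rw [charDegree_triv, Nat.factorization_one]
        simp)
      rw [charDegree_triv] at h
      exact h.symm
    apply hasNormalPComplement_of_linear hM 1 (Nat.coprime_one_left _) 0 (fun g => by simp)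
      (fun P μ _ x => by rw [pow_one])
    intro χ hχ hdeg _
    rw [← hd1]
    apply hd χ hχ
    unfold blockHeight
    rw [Nat.factorization_eq_zero_of_not_dvd hdeg, Nat.zero_sub]
  · intro hnpc
    refine ⟨1, fun χ hχ hh => ?_⟩
    apply charDegree_eq_one_of_npc hM hnpc χ hχ
    unfold blockHeight at hh
    rw [sInf_factorization_principalBlock hM, Nat.sub_zero] at hh
    intro hdvd
    have := (hp.dvd_iff_one_le_factorization (Helper79.irr_charDegree_pos χ).ne').mp hdvd
    omega

/-- **S4549.** Normal `2`-complements and odd-degree characters of the principal `2`-block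
fixed by the Galois automorphism cubing `2`-power roots of unity. -/
theorem main_two (M : Ideal AlgInt) (hM : IsPModular 2 M) (k : ℕ)
    (hk₁ : ∀ g : G, (∃ j : ℕ, orderOf g = 2 ^ j) → g ^ k = g ^ 3)
    (hk₂ : ∀ g : G, Odd (orderOf g) → g ^ k = g) :
    HasNormalPComplement 2 G ↔ ∀ χ ∈ principalBlock M G, Odd (charDegree (χ : G → ℂ)) →
      (∀ g : G, (χ : G → ℂ) (g ^ k) = (χ : G → ℂ) g) → charDegree (χ : G → ℂ) = 1 := by
  have : Fact (Nat.Prime 2) := ⟨Nat.prime_two⟩
  constructor
  · intro hnpc χ hχ hodd _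
    apply charDegree_eq_one_of_npc hM hnpc χ hχ
    intro h2
    exact (Nat.not_even_iff_odd.mpr hodd) (even_iff_two_dvd.mpr h2)
  · intro h
    apply hasNormalPComplement_of_linear hM k (coprime_of_pow_conditions k hk₁ hk₂) (Nat.card G)
      (pow_pow_two_pow_eq k hk₁ hk₂)
    · intro P μ hμ x
      have hx : ∃ j : ℕ, orderOf (x : G) = 2 ^ j := by
        obtain ⟨j, hj⟩ := IsPGroup.iff_orderOf.mp P.2 x
        exact ⟨j, by rw [Subgroup.orderOf_coe, hj]⟩
      have h1 : x ^ k = x ^ 3 := by
        apply Subtype.ext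
        rw [Subgroup.coe_pow, Subgroup.coe_pow]
        exact hk₁ (x : G) hx
      rw [h1, map_pow, pow_succ, hμ x, one_mul]
    · intro χ hχ hdeg hfix
      apply h χ hχ _ hfix
      rw [← Nat.not_even_iff_odd]
      intro hev
      exact hdeg (even_iff_two_dvd.mp hev)

end final

end Cfsg.Agent.Lib.Helper3.PrincipalLin
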