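import Mathlib
import Cfsg.Prelude.Def_Blocks
import Cfsg.Prelude.Def_Transfer
import Cfsg.Agent.Lib.Helper3.PrincipalLin
import Cfsg.Agent.Lib.Helper9.NPCLemmas2
import Cfsg.Agent.Lib.Helper3.NormComplChar

/-!
# Normal complements of Sylow normalizers (helper3, for S4931)

Group-theoretic part.

* `mem_sup_of_conj_le`: if `N_Λ(Q) ≤ Q` for a Sylow subgroup `Q` and `l` conjugates `Q` into `Q ⊔ D`
  (`D` normal), then `l ∈ Q ⊔ D`.
* `commutator_mem_of_selfNormalizing`: if `N_Λ(Q) ≤ Q` and `Q` is abelian modulo the normal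
  subgroup `D`, then every commutator `⁅x, u⁆ ∈ Q` with `x ∈ Q` lies in `D` (Burnside's transfer
  theorem in `Λ ⧸ D`).
-/

set_option autoImplicit false
set_option linter.unusedSectionVars false

namespace Cfsg.Agent.Lib.Helper3.NormCompl

open Cfsg
open scoped commutatorElement Pointwise

universe u

section grp

variable {Λ : Type u} [Group Λ] [Finite Λ] {p : ℕ} [hp : Fact p.Prime]

theorem mem_sup_of_conj_le (Q : Sylow p Λ) (D : Subgroup Λ) [D.Normal]
    (hN : Subgroup.normalizer ((Q : Subgroup Λ) : Set Λ) ≤ (Q : Subgroup Λ)) (l : Λ)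
    (hl : ∀ x ∈ (Q : Subgroup Λ), l * x * l⁻¹ ∈ (Q : Subgroup Λ) ⊔ D) :
    l ∈ (Q : Subgroup Λ) ⊔ D := by
  set H := (Q : Subgroup Λ) ⊔ D with hH
  have hQH : (Q : Subgroup Λ) ≤ H := le_sup_left
  have hQ'H : ((l • Q : Sylow p Λ) : Subgroup Λ) ≤ H := by
    intro y hy
    rw [Sylow.coe_subgroup_smul] at hy
    obtain ⟨x, hx, rfl⟩ := hy
    exact hl x hx
  obtain ⟨h, hh⟩ := MulAction.exists_smul_eq ↥H (Q.subtype hQH) ((l • Q).subtype hQ'H)
  rw [Sylow.smul_subtype hQH h] at hh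
  have h2 : (h : Λ) • Q = l • Q := Sylow.subtype_injective hh
  have h3 : ((h : Λ)⁻¹ * l) • Q = Q := by rw [mul_smul, ← h2, inv_smul_smul]
  have h4 := Sylow.smul_eq_iff_mem_normalizer.mp h3
  have h5 := hN h4
  have h6 : l = (h : Λ) * ((h : Λ)⁻¹ * l) := by group
  rw [h6]
  exact mul_mem h.2 (hQH h5)

theorem commutator_mem_of_selfNormalizing (Q : Sylow p Λ) (D : Subgroup Λ) [hD : D.Normal]
    (hN : Subgroup.normalizer ((Q : Subgroup Λ) : Set Λ) ≤ (Q : Subgroup Λ))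
    (hab : ∀ x ∈ (Q : Subgroup Λ), ∀ y ∈ (Q : Subgroup Λ), ⁅x, y⁆ ∈ D)
    (x : Λ) (_hx : x ∈ (Q : Subgroup Λ)) (u : Λ) (hc : ⁅x, u⁆ ∈ (Q : Subgroup Λ)) :
    ⁅x, u⁆ ∈ D := by
  have hsurj := QuotientGroup.mk'_surjective D
  set π := QuotientGroup.mk' D with hπ
  set Qb : Sylow p (Λ ⧸ D) := Q.mapSurjective hsurj with hQb
  have hQbc : (Qb : Subgroup (Λ ⧸ D)) = (Q : Subgroup Λ).map π := Sylow.coe_mapSurjective hsurj Q
  have hcomm : ∀ a ∈ (Qb : Subgroup (Λ ⧸ D)), ∀ b ∈ (Qb : Subgroup (Λ ⧸ D)), a * b = b * a := by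
    intro a ha b hb
    rw [hQbc] at ha hb
    obtain ⟨x', hx', rfl⟩ := ha
    obtain ⟨y', hy', rfl⟩ := hb
    rw [← map_mul, ← map_mul]
    have h1 := hab x' hx' y' hy'
    have h2 : π ⁅x', y'⁆ = 1 := (QuotientGroup.eq_one_iff _).mpr h1
    rw [map_commutatorElement, commutatorElement_eq_one_iff_mul_comm] at h2
    rw [map_mul, map_mul]
    exact h2
  have hNC : Subgroup.normalizer ((Qb : Subgroup (Λ ⧸ D)) : Set (Λ ⧸ D)) ≤
      Subgroup.centralizer ((Qb : Subgroup (Λ ⧸ D)) : Set (Λ ⧸ D)) := by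
    intro lb hlb
    obtain ⟨l, rfl⟩ := hsurj lb
    have hl : l ∈ (Q : Subgroup Λ) ⊔ D := by
      apply mem_sup_of_conj_le Q D hN
      intro y hy
      have h1 : π l * π y * (π l)⁻¹ ∈ (Qb : Subgroup (Λ ⧸ D)) :=
        (Subgroup.mem_normalizer_iff.mp hlb _).mp (by rw [hQbc]; exact Subgroup.mem_map_of_mem _ hy)
      rw [hQbc] at h1
      obtain ⟨w, hw, hwe⟩ := h1
      have h2 : w⁻¹ * (l * y * l⁻¹) ∈ D := by
        rw [← QuotientGroup.eq]
        show π w = π (l * y * l⁻¹)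
        rw [hwe, map_mul, map_mul, map_inv]
      have h3 : l * y * l⁻¹ = w * (w⁻¹ * (l * y * l⁻¹)) := by group
      rw [h3]
      exact mul_mem (Subgroup.mem_sup_left hw) (Subgroup.mem_sup_right h2)
    have hlb' : π l ∈ (Qb : Subgroup (Λ ⧸ D)) := by
      rw [hQbc]
      have h1 : π l ∈ ((Q : Subgroup Λ) ⊔ D).map π := Subgroup.mem_map_of_mem _ hl
      rw [Subgroup.map_sup] at h1
      have h2 : D.map π = ⊥ := by
        rw [Subgroup.map_eq_bot_iff, hπ, QuotientGroup.ker_mk']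
      rw [h2, sup_bot_eq] at h1
      exact h1
    rw [Subgroup.mem_centralizer_iff]
    intro b hb
    exact hcomm b hb (π l) hlb'
  have : Finite (Sylow p (Λ ⧸ D)) := inferInstance
  have hker : π ⁅x, u⁆ ∈ (MonoidHom.transferSylow Qb hNC).ker := by
    rw [MonoidHom.mem_ker, map_commutatorElement, map_commutatorElement]
    exact commutatorElement_eq_one_iff_mul_comm.mpr
      (Subtype.ext (hcomm _ (Subtype.property _) _ (Subtype.property _)))
  have hQ : π ⁅x, u⁆ ∈ (Qb : Subgroup (Λ ⧸ D)) := by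
    rw [hQbc]
    exact Subgroup.mem_map_of_mem _ hc
  have hdisj := MonoidHom.ker_transferSylow_disjoint Qb hNC (Qb : Subgroup (Λ ⧸ D)) Qb.2
  have h1 : π ⁅x, u⁆ ∈ (MonoidHom.transferSylow Qb hNC).ker ⊓ (Qb : Subgroup (Λ ⧸ D)) := ⟨hker, hQ⟩
  rw [hdisj.eq_bot, Subgroup.mem_bot] at h1
  exact (QuotientGroup.eq_one_iff _).mp h1

end grp

section frattini

variable {Λ : Type u} [Group Λ] [Finite Λ] {p : ℕ} [hp : Fact p.Prime]

/-- if every linear character of the Sylow subgroup `Q` kills every commutator `⁅x, u⁆ ∈ Q`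
(`x ∈ Q`), the focal subgroup of `Q` lies in `Φ(Q)` -/
theorem focalSubgroup_le_frattini_of_hom (Q : Sylow p Λ)
    (h : ∀ x ∈ (Q : Subgroup Λ), ∀ u : Λ, ∀ hc : ⁅x, u⁆ ∈ (Q : Subgroup Λ),
      ∀ μ : (Q : Subgroup Λ) →* ℂˣ, μ ⟨⁅x, u⁆, hc⟩ = 1) :
    (Q : Subgroup Λ).focalSubgroup ≤ (frattini Q).map (Q : Subgroup Λ).subtype := by
  rw [Subgroup.focalSubgroup_def, Subgroup.closure_le]
  rintro g ⟨hgP, x, hxP, u, rfl⟩
  refine ⟨⟨(⁅x, u⁆ : Λ), hgP⟩, ?_, rfl⟩
  show (⟨(⁅x, u⁆ : Λ), hgP⟩ : Q) ∈ frattini Q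
  unfold frattini Order.radical
  simp only [Subgroup.mem_iInf]
  intro R hR
  by_contra hy
  obtain ⟨μ, -, hμy⟩ := PrincipalLin.exists_hom_of_coatom Q.2 hR _ hy
  exact hμy (h x hxP u hgP μ)

/-- a normal complement of a Sylow `p`-subgroup consists of the `p'`-elements -/
theorem mem_iff_of_isComplement' (Q : Sylow p Λ) (K₀ : Subgroup Λ) [hK₀ : K₀.Normal]
    (hc : K₀.IsComplement' (Q : Subgroup Λ)) (l : Λ) : l ∈ K₀ ↔ ¬ p ∣ orderOf l := by
  have hidx : (Q : Subgroup Λ).index = Nat.card K₀ := hc.index_eq_card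
  have hidx' : K₀.index = Nat.card (Q : Subgroup Λ) := hc.symm.index_eq_card
  constructor
  · intro hl hdvd
    have h1 : orderOf l ∣ Nat.card K₀ := by
      have := orderOf_dvd_natCard (⟨l, hl⟩ : K₀)
      rwa [Subgroup.orderOf_mk] at this
    apply Q.not_dvd_index
    rw [hidx]
    exact dvd_trans hdvd h1
  · intro hl
    rw [← QuotientGroup.eq_one_iff]
    obtain ⟨n, hn⟩ := IsPGroup.iff_card.mp Q.2
    have h1 : ((l : Λ ⧸ K₀)) ^ orderOf l = 1 := by
      rw [← QuotientGroup.mk_pow, pow_orderOf_eq_one, QuotientGroup.mk_one]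
    have h2 : ((l : Λ ⧸ K₀)) ^ (p ^ n) = 1 := by
      rw [← hn, ← hidx', Subgroup.index_eq_card]
      exact pow_card_eq_one'
    have h3 : orderOf (l : Λ ⧸ K₀) ∣ Nat.gcd (orderOf l) (p ^ n) :=
      Nat.dvd_gcd (orderOf_dvd_of_pow_eq_one h1) (orderOf_dvd_of_pow_eq_one h2)
    have h4 : Nat.gcd (orderOf l) (p ^ n) = 1 :=
      Nat.Coprime.pow_right n ((Nat.Prime.coprime_iff_not_dvd hp.out).mpr hl).symm
    rw [h4, Nat.dvd_one, orderOf_eq_one_iff] at h3
    exact h3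

end frattini

section kerOf

variable {G : Type u} [Group G] [Finite G]

/-- the common kernel of a set of irreducible characters -/
def kerOf (S : Set (IrrCharacter G)) : Subgroup G :=
  ⨅ χ ∈ S, Helper80.charKer (χ : G → ℂ) (Helper78.IsIrrCharacter.isCharacter χ.2)

theorem mem_kerOf (S : Set (IrrCharacter G)) (g : G) :
    g ∈ kerOf S ↔ ∀ χ ∈ S, (χ : G → ℂ) g = (χ : G → ℂ) 1 := by
  unfold kerOf
  simp only [Subgroup.mem_iInf]
  rfl

instance kerOf_normal (S : Set (IrrCharacter G)) : (kerOf S).Normal := by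
  unfold kerOf
  exact Subgroup.normal_iInf_normal (fun χ => Subgroup.normal_iInf_normal (fun _ => inferInstance))

theorem kerOf_anti {S T : Set (IrrCharacter G)} (h : S ⊆ T) : kerOf T ≤ kerOf S := by
  intro g hg
  rw [mem_kerOf] at hg ⊢
  exact fun χ hχ => hg χ (h hχ)

end kerOf

section main

open Cfsg.Agent.Lib.Helper78

variable {G : Type u} [Group G] [Finite G] {p : ℕ} [hp : Fact p.Prime]

/-- (⇒) of S4931 -/
theorem exists_normal_complement_of_extend (P : Sylow p G)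
    (hext : ∀ θ : IrrCharacter ↥(Subgroup.normalizer ((P : Subgroup G) : Set G)),
      ¬ p ∣ charDegree (θ : ↥(Subgroup.normalizer ((P : Subgroup G) : Set G)) → ℂ) →
        ∃ χ : IrrCharacter G, ∀ x : ↥(Subgroup.normalizer ((P : Subgroup G) : Set G)),
          (χ : G → ℂ) x = (θ : ↥(Subgroup.normalizer ((P : Subgroup G) : Set G)) → ℂ) x) :
    ∃ K : Subgroup G, K.Normal ∧ K ⊔ Subgroup.normalizer ((P : Subgroup G) : Set G) = ⊤ ∧
      K ⊓ Subgroup.normalizer ((P : Subgroup G) : Set G) = ⊥ := by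
  classical
  set N := Subgroup.normalizer ((P : Subgroup G) : Set G) with hN
  have hPN : (P : Subgroup G) ≤ N := Subgroup.le_normalizer
  let _ : Fintype G := Fintype.ofFinite G
  let _ : Fintype N := Fintype.ofFinite N
  set A : Subgroup N := (P : Subgroup G).subgroupOf N with hA
  have hAn : A.Normal := Subgroup.normal_in_normalizer
  have hAp : IsPGroup p A := P.2.comap_subtype
  have hAidx : ¬ p ∣ A.index := by
    intro h
    apply P.not_dvd_index
    rw [← Subgroup.relIndex_mul_index hPN]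
    exact dvd_mul_of_dvd_left h _
  -- the two families of characters
  set F₁ : Set (IrrCharacter G) :=
    {χ | IsIrrCharacter N (fun n : N => (χ : G → ℂ) n) ∧ ¬ p ∣ charDegree (χ : G → ℂ)} with hF₁
  set F : Set (IrrCharacter G) :=
    {χ | χ ∈ F₁ ∧ ∀ a ∈ (P : Subgroup G), (χ : G → ℂ) a = (χ : G → ℂ) 1} with hF
  set L₁ : Subgroup G := kerOf F₁ with hL₁
  set L : Subgroup G := kerOf F with hL
  have hL₁L : L₁ ≤ L := kerOf_anti (fun χ hχ => hχ.1)
  have hPL : (P : Subgroup G) ≤ L := by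
    intro a ha
    rw [hL, mem_kerOf]
    intro χ hχ
    exact hχ.2 a ha
  -- an extension of a `p'`-degree character lies in `F₁`
  have hmemF₁ : ∀ (θ : IrrCharacter N) (χ : IrrCharacter G), ¬ p ∣ charDegree (θ : N → ℂ) →
      (∀ x : N, (χ : G → ℂ) x = (θ : N → ℂ) x) → χ ∈ F₁ := by
    intro θ χ hpθ hχ
    refine ⟨?_, ?_⟩
    · have h1 : (fun n : N => (χ : G → ℂ) n) = (θ : N → ℂ) := funext hχ
      rw [h1]
      exact θ.2
    · have h1 : charDegree (χ : G → ℂ) = charDegree (θ : N → ℂ) := by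
        unfold charDegree
        rw [← hχ 1]
        rfl
      rw [h1]
      exact hpθ
  -- (C2)
  have hC2 : ∀ g ∈ L, g ∈ N → g ∈ (P : Subgroup G) := by
    intro g hgL hgN
    by_contra hgP
    have hx : (⟨g, hgN⟩ : N) ∉ A := fun h => hgP (Subgroup.mem_subgroupOf.mp h)
    obtain ⟨θ, hdeg, hker, hne⟩ := NormComplChar.exists_irr_ne_of_not_mem A ⟨g, hgN⟩ hx
    have hpθ : ¬ p ∣ charDegree (θ : N → ℂ) := fun h => hAidx (dvd_trans h hdeg)
    obtain ⟨χ, hχ⟩ := hext θ hpθ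
    have hχ1 : (χ : G → ℂ) 1 = (θ : N → ℂ) 1 := hχ 1
    have hχF : χ ∈ F := by
      refine ⟨hmemF₁ θ χ hpθ hχ, ?_⟩
      intro a ha
      have h1 := hχ ⟨a, hPN ha⟩
      change (χ : G → ℂ) a = _ at h1
      rw [h1, hχ1]
      exact hker ⟨a, hPN ha⟩ (Subgroup.mem_subgroupOf.mpr ha)
    have h2 := (mem_kerOf F g).mp hgL χ hχF
    apply hne
    rw [← hχ1, ← h2]
    exact (hχ ⟨g, hgN⟩).symm
  -- (C3)
  have hC3 : ∀ x ∈ (P : Subgroup G), ∀ y ∈ (P : Subgroup G), ⁅x, y⁆ ∈ L₁ := by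
    intro x hx y hy
    rw [hL₁, mem_kerOf]
    intro χ hχ
    obtain ⟨hirr, hpχ⟩ := hχ
    have hdeg : charDegree (fun n : N => (χ : G → ℂ) n) = charDegree (χ : G → ℂ) := rfl
    have h1 := NormComplChar.apply_commutator_eq_of_not_dvd A hAp hirr (by rw [hdeg]; exact hpχ)
      ⟨x, hPN hx⟩ ⟨y, hPN hy⟩ (Subgroup.mem_subgroupOf.mpr hx) (Subgroup.mem_subgroupOf.mpr hy)
    exact h1
  -- (C4)
  have hC4 : ∀ c ∈ L₁, ∀ hcP : c ∈ (P : Subgroup G), ∀ ν : (P : Subgroup G) →* ℂˣ,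
      ν ⟨c, hcP⟩ = 1 := by
    intro c hcL hcP ν
    by_contra hne
    let eN : A ≃* (P : Subgroup G) := Subgroup.subgroupOfEquivOfLe hPN
    let c' : A := ⟨⟨c, hPN hcP⟩, Subgroup.mem_subgroupOf.mpr hcP⟩
    have hc' : (ν.comp eN.toMonoidHom) c' ≠ 1 := by
      intro h
      apply hne
      rw [← h]
      rfl
    obtain ⟨θf, hθ, hdeg, hneq⟩ :=
      NormComplChar.exists_irr_ne_of_hom_ne_one A (ν.comp eN.toMonoidHom) c' hc'
    have hpθ : ¬ p ∣ charDegree θf := fun h => hAidx (dvd_trans h hdeg)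
    obtain ⟨χ, hχ⟩ := hext ⟨θf, hθ⟩ hpθ
    have hχF₁ : χ ∈ F₁ := hmemF₁ ⟨θf, hθ⟩ χ hpθ hχ
    have h2 := (mem_kerOf F₁ c).mp hcL χ hχF₁
    apply hneq
    have h3 := hχ (c' : N)
    have h4 := hχ 1
    change (χ : G → ℂ) c = θf (c' : N) at h3
    change (χ : G → ℂ) 1 = θf 1 at h4
    rw [← h3, ← h4]
    exact h2
  -- now work inside `L`
  set Q : Sylow p L := P.subtype hPL with hQdef
  have hQ : (Q : Subgroup L) = (P : Subgroup G).subgroupOf L := rfl
  set D : Subgroup L := L₁.subgroupOf L with hD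
  have hDn : D.Normal := inferInstance
  have hNQ : Subgroup.normalizer ((Q : Subgroup L) : Set L) ≤ (Q : Subgroup L) := by
    intro l hl
    rw [hQ, Subgroup.mem_subgroupOf]
    apply hC2 l l.2
    rw [hN, Subgroup.mem_normalizer_iff]
    intro h
    constructor
    · intro hh
      have h1 := (Subgroup.mem_normalizer_iff.mp hl ⟨h, hPL hh⟩).mp
        (by rw [hQ]; exact Subgroup.mem_subgroupOf.mpr hh)
      rw [hQ] at h1
      exact Subgroup.mem_subgroupOf.mp h1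
    · intro hh
      have hhL : h ∈ L := by
        have h1 := L.mul_mem (L.mul_mem (L.inv_mem l.2) (hPL hh)) l.2
        have h2 : (l : G)⁻¹ * ((l : G) * h * (l : G)⁻¹) * (l : G) = h := by group
        rw [h2] at h1
        exact h1
      have h1 := (Subgroup.mem_normalizer_iff.mp hl ⟨h, hhL⟩).mpr
        (by rw [hQ]; exact Subgroup.mem_subgroupOf.mpr hh)
      rw [hQ] at h1
      exact Subgroup.mem_subgroupOf.mp h1
  have hab : ∀ x ∈ (Q : Subgroup L), ∀ y ∈ (Q : Subgroup L), ⁅x, y⁆ ∈ D := by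
    intro x hx y hy
    rw [hQ] at hx hy
    exact Subgroup.mem_subgroupOf.mpr
      (hC3 x (Subgroup.mem_subgroupOf.mp hx) y (Subgroup.mem_subgroupOf.mp hy))
  have hfoc : (Q : Subgroup L).focalSubgroup ≤ (frattini Q).map (Q : Subgroup L).subtype := by
    apply focalSubgroup_le_frattini_of_hom Q
    intro x hx u hc μ
    have hD' := commutator_mem_of_selfNormalizing Q D hNQ hab x hx u hc
    have hcP : ((⁅x, u⁆ : L) : G) ∈ (P : Subgroup G) := by
      rw [hQ] at hc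
      exact Subgroup.mem_subgroupOf.mp hc
    let eL : (Q : Subgroup L) ≃* (P : Subgroup G) := Subgroup.subgroupOfEquivOfLe hPL
    have h1 := hC4 _ (Subgroup.mem_subgroupOf.mp hD') hcP (μ.comp eL.symm.toMonoidHom)
    have h2 : eL.symm ⟨_, hcP⟩ = ⟨⁅x, u⁆, hc⟩ := by
      apply eL.injective
      rw [eL.apply_symm_apply]
      rfl
    rw [← h2]
    exact h1
  obtain ⟨Q₂, K₀, hK₀n, hK₀c⟩ := Helper9.hasNormalPComplement_of_focalSubgroup_le_frattini Q hfoc
  -- `K₀` is also a complement of `Q`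
  have hK₀Q : K₀.IsComplement' (Q : Subgroup L) := by
    have h1 := hK₀c.card_mul_card
    have h2 : Nat.card (Q₂ : Subgroup L) = Nat.card (Q : Subgroup L) := by
      rw [Sylow.card_eq_multiplicity, Sylow.card_eq_multiplicity]
    rw [h2] at h1
    apply Subgroup.isComplement'_of_coprime h1
    obtain ⟨n, hn⟩ := IsPGroup.iff_card.mp Q.2
    rw [hn]
    apply Nat.Coprime.pow_right
    rw [Nat.coprime_comm, Nat.Prime.coprime_iff_not_dvd hp.out]
    have h3 := Q₂.not_dvd_index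
    rw [hK₀c.index_eq_card] at h3
    exact h3
  have hmemK₀ := mem_iff_of_isComplement' Q K₀ hK₀Q
  refine ⟨K₀.map L.subtype, ?_, ?_, ?_⟩
  · -- normality
    constructor
    intro k hk g
    obtain ⟨k₀, hk₀, rfl⟩ := hk
    have hL_n : L.Normal := inferInstance
    have hcl : g * (k₀ : G) * g⁻¹ ∈ L := hL_n.conj_mem _ k₀.2 g
    refine ⟨⟨g * (k₀ : G) * g⁻¹, hcl⟩, ?_, rfl⟩
    rw [SetLike.mem_coe] at hk₀ ⊢
    rw [hmemK₀] at hk₀ ⊢
    have h1 : orderOf (⟨g * (k₀ : G) * g⁻¹, hcl⟩ : L) = orderOf k₀ := by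
      rw [← Subgroup.orderOf_coe, ← Subgroup.orderOf_coe k₀]
      have h2 : SemiconjBy g (k₀ : G) (g * (k₀ : G) * g⁻¹) := by
        unfold SemiconjBy
        group
      exact (SemiconjBy.orderOf_eq g h2).symm
    rw [h1]
    exact hk₀
  · -- `K ⊔ N = ⊤`
    have h1 : K₀ ⊔ (Q : Subgroup L) = ⊤ := hK₀Q.sup_eq_top
    have h2 := congrArg (Subgroup.map L.subtype) h1
    rw [Subgroup.map_sup, hQ, Subgroup.subgroupOf_map_subtype, inf_of_le_left hPL,
      ← MonoidHom.range_eq_map, Subgroup.range_subtype] at h2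
    have h3 : N ⊔ L = ⊤ := Sylow.normalizer_sup_eq_top' P hPL
    rw [← h2, sup_comm, sup_assoc, sup_of_le_right hPN] at h3
    exact h3
  · -- `K ⊓ N = ⊥`
    rw [eq_bot_iff]
    rintro g ⟨hgK, hgN⟩
    obtain ⟨k₀, hk₀, rfl⟩ := hgK
    have hgP : (k₀ : G) ∈ (P : Subgroup G) := hC2 _ k₀.2 hgN
    have hkQ : k₀ ∈ (Q : Subgroup L) := by
      rw [hQ]
      exact Subgroup.mem_subgroupOf.mpr hgP
    have h1 : k₀ ∈ K₀ ⊓ (Q : Subgroup L) := ⟨hk₀, hkQ⟩
    rw [hK₀Q.disjoint.eq_bot, Subgroup.mem_bot] at h1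
    rw [Subgroup.mem_bot, h1]
    rfl

end main

section converse

variable {G : Type u} [Group G]

/-- (⇐) of S4931: if `N` has a normal complement `K`, every irreducible character of `N` extends
to `G` (inflate along `G → G ⧸ K ≃ N`). -/
theorem exists_extension_of_normal_complement (N K : Subgroup G) [hK : K.Normal]
    (hsup : K ⊔ N = ⊤) (hinf : K ⊓ N = ⊥) (θ : IrrCharacter N) :
    ∃ χ : IrrCharacter G, ∀ x : N, (χ : G → ℂ) x = (θ : N → ℂ) x := by
  set f : N →* G ⧸ K := (QuotientGroup.mk' K).comp N.subtype with hf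
  have hinj : Function.Injective f := by
    rw [injective_iff_map_eq_one]
    intro n hn
    have h1 : (n : G) ∈ K := (QuotientGroup.eq_one_iff _).mp hn
    have h2 : (n : G) ∈ K ⊓ N := ⟨h1, n.2⟩
    rw [hinf, Subgroup.mem_bot] at h2
    exact Subtype.ext h2
  have hsurj : Function.Surjective f := by
    intro q
    obtain ⟨g, rfl⟩ := QuotientGroup.mk'_surjective K q
    have hg : g ∈ K ⊔ N := by rw [hsup]; exact Subgroup.mem_top g
    rw [← SetLike.mem_coe, Subgroup.normal_mul] at hg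
    obtain ⟨k, hk, n, hn, rfl⟩ := hg
    refine ⟨⟨n, hn⟩, ?_⟩
    show QuotientGroup.mk' K n = QuotientGroup.mk' K (k * n)
    have hk1 : QuotientGroup.mk' K k = 1 := (QuotientGroup.eq_one_iff k).mpr hk
    rw [map_mul, hk1, one_mul]
  set e : N ≃* G ⧸ K := MulEquiv.ofBijective f ⟨hinj, hsurj⟩ with he
  set r : G →* N := e.symm.toMonoidHom.comp (QuotientGroup.mk' K) with hr
  have hrs : Function.Surjective r := by
    intro n
    obtain ⟨g, hg⟩ := QuotientGroup.mk'_surjective K (e n)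
    refine ⟨g, ?_⟩
    show e.symm (QuotientGroup.mk' K g) = n
    rw [hg, e.symm_apply_apply]
  have hrn : ∀ n : N, r (n : G) = n := by
    intro n
    show e.symm (QuotientGroup.mk' K (n : G)) = n
    have h1 : QuotientGroup.mk' K (n : G) = e n := rfl
    rw [h1, e.symm_apply_apply]
  refine ⟨⟨(θ : N → ℂ) ∘ r, Helper81.isIrrCharacter_comp_surjective θ.2 r hrs⟩, ?_⟩
  intro x
  show (θ : N → ℂ) (r (x : G)) = _
  rw [hrn]

end converse

end Cfsg.Agent.Lib.Helper3.NormCompl
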