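import Mathlib

/-!
# An abelian group acting semiregularly has a cyclic-like bound (helper3)

Group-theoretic input for PF11-[T4-STRUCT-B] (`typeIV_axis`):

* `pow_eq_one_of_norms`: the norm computation.  If `σ, τ` are commuting automorphisms of a
  commutative group `V` such that the `r`-fold norms of `σ^j` (`0 < j < r`) and of `σ^i τ`
  (`i < r`) are all trivial, then `v ^ r = 1` for all `v`.
* `relIndex_le_of_semiregular`: if `Q` acts by conjugation on the commutative subgroup `V`, the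
  subgroup `D ≤ Q` acts trivially, `Q/D` is abelian of exponent `r` (a prime) and the elements
  of `Q \ D` fix only `1` in `V`, and `V` has an element with `v ^ r ≠ 1`, then `|Q : D| ≤ r`.
-/

set_option autoImplicit false

namespace Cfsg.Agent.Lib.Helper3.PF11SB

open Finset

theorem pow_eq_one_of_norms {V : Type*} [CommGroup V] (r : ℕ) (σ τ : MulAut V)
    (hc : Commute σ τ)
    (hσ : ∀ j, 0 < j → j < r → ∀ v : V, ∏ k ∈ range r, ((σ ^ j) ^ k) v = 1)
    (hτ : ∀ i, i < r → ∀ v : V, ∏ k ∈ range r, ((σ ^ i * τ) ^ k) v = 1) :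
    ∀ v : V, v ^ r = 1 := by
  intro v
  have h1 : ∏ i ∈ range r, ∏ k ∈ range r, ((σ ^ i * τ) ^ k) v = 1 := by
    apply Finset.prod_eq_one
    intro i hi
    exact hτ i (mem_range.mp hi) v
  have h2 : ∏ i ∈ range r, ∏ k ∈ range r, ((σ ^ i * τ) ^ k) v =
      ∏ k ∈ range r, ∏ i ∈ range r, ((σ ^ k) ^ i) ((τ ^ k) v) := by
    rw [Finset.prod_comm]
    apply Finset.prod_congr rfl
    intro k _
    apply Finset.prod_congr rfl
    intro i _
    have e : (σ ^ i * τ) ^ k = (σ ^ k) ^ i * τ ^ k := by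
      rw [(hc.pow_left i).mul_pow k, ← pow_mul, ← pow_mul, mul_comm]
    rw [e, MulAut.mul_apply]
  rw [h2] at h1
  have h3 : ∏ k ∈ range r, ∏ i ∈ range r, ((σ ^ k) ^ i) ((τ ^ k) v) = v ^ r := by
    rcases Nat.eq_zero_or_pos r with h0 | hpos
    · subst h0; simp
    rw [Finset.prod_eq_single 0]
    · simp
    · intro k hk hk0
      exact hσ k (Nat.pos_of_ne_zero hk0) (mem_range.mp hk) _
    · intro h
      exact absurd (mem_range.mpr hpos) h
  rw [← h3, h1]

theorem relIndex_le_of_semiregular {L : Type*} [Group L] [Finite L] (V Q D : Subgroup L) (r : ℕ)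
    (hr : r.Prime)
    (hVc : ∀ a ∈ V, ∀ b ∈ V, a * b = b * a)
    (hQV : Q ≤ Subgroup.normalizer (V : Set L))
    (hDQ : D ≤ Q)
    (hcomm : ∀ x ∈ Q, ∀ y ∈ Q, x * y * x⁻¹ * y⁻¹ ∈ D)
    (hpow : ∀ x ∈ Q, x ^ r ∈ D)
    (hDV : ∀ d ∈ D, ∀ v ∈ V, d * v * d⁻¹ = v)
    (hsemi : ∀ x ∈ Q, x ∉ D → ∀ v ∈ V, x * v * x⁻¹ = v → v = 1)
    (hV : ∃ v ∈ V, v ^ r ≠ 1) :
    D.relIndex Q ≤ r := by
  classical
  by_cases hQD : Q ≤ D
  · rw [Subgroup.relIndex_eq_one.mpr hQD]; exact hr.one_lt.le
  obtain ⟨x, hxQ, hxD⟩ := SetLike.not_le_iff_exists.mp hQD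
  by_contra hlt
  push Not at hlt
  -- existence of `y` outside `⟨x⟩ D`
  have hy : ∃ y ∈ Q, ∀ i < r, x ^ i * y ∉ D := by
    by_contra hno
    push Not at hno
    have hcard : Nat.card Q ≤ r * Nat.card D := by
      choose! ι hι using hno
      let g : Q → Fin r × D := fun y =>
        (⟨ι y, (hι y y.2).1⟩, ⟨x ^ ι y * y, (hι y y.2).2⟩)
      have hg : Function.Injective g := by
        intro y y' h
        have h1 : ι (y : L) = ι (y' : L) := by
          have := congrArg (fun t => (t.1 : ℕ)) h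
          simpa [g] using this
        have h2 : x ^ ι (y : L) * y = x ^ ι (y' : L) * y' := by
          have := congrArg (fun t => (t.2 : L)) h
          simpa [g] using this
        rw [h1] at h2
        exact Subtype.ext (mul_left_cancel h2)
      have := Nat.card_le_card_of_injective g hg
      rwa [Nat.card_prod, Nat.card_fin] at this
    have hmul : Nat.card D * D.relIndex Q = Nat.card Q := by
      have := Subgroup.relIndex_mul_relIndex ⊥ D Q bot_le hDQ
      rwa [Subgroup.relIndex_bot_left, Subgroup.relIndex_bot_left] at this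
    have hDpos : 0 < Nat.card D := Nat.card_pos
    nlinarith
  obtain ⟨y, hyQ, hy⟩ := hy
  letI : CommGroup V :=
    { (inferInstance : Group V) with mul_comm := fun a b => Subtype.ext (hVc a a.2 b b.2) }
  set φ := V.normalizerMonoidHom with hφdef
  have hφ : ∀ (z : Subgroup.normalizer (V : Set L)) (v : V),
      ((φ z) v : L) = (z : L) * v * (z : L)⁻¹ := by
    intro z v
    rfl
  have hnorm : ∀ (z : L) (hz : z ∈ Q), z ∉ D → ∀ v : V,
      ∏ k ∈ range r, ((φ ⟨z, hQV hz⟩) ^ k) v = 1 := by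
    intro z hz hzD v
    set ζ := φ ⟨z, hQV hz⟩ with hζ
    set n := ∏ k ∈ range r, (ζ ^ k) v with hn
    have hζr : (ζ ^ r) v = v := by
      rw [hζ, ← map_pow]
      apply Subtype.ext
      rw [hφ]
      exact hDV _ (hpow z hz) v v.2
    have hfix : ζ n = n := by
      rw [hn, map_prod]
      have e1 : ∏ k ∈ range r, ζ ((ζ ^ k) v) = ∏ k ∈ range r, (ζ ^ (k + 1)) v := by
        apply prod_congr rfl
        intro k _
        rw [pow_succ', MulAut.mul_apply]
      rw [e1]
      have e2 := Finset.prod_range_succ (fun k => (ζ ^ k) v) r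
      have e3 := Finset.prod_range_succ' (fun k => (ζ ^ k) v) r
      rw [e2] at e3
      simp only [pow_zero, MulAut.one_apply] at e3
      rw [hζr] at e3
      exact (mul_right_cancel e3).symm
    have h1 : (n : L) = 1 := by
      apply hsemi z hz hzD n n.2
      have := congrArg Subtype.val hfix
      rw [hφ] at this
      exact this
    exact Subtype.ext h1
  have hxj : ∀ j, 0 < j → j < r → x ^ j ∉ D := by
    intro j hj hjr hmem
    apply hxD
    have hcop : Nat.Coprime j r :=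
      Nat.Coprime.symm ((Nat.Prime.coprime_iff_not_dvd hr).mpr (Nat.not_dvd_of_pos_of_lt hj hjr))
    have hb := Nat.gcd_eq_gcd_ab j r
    rw [hcop.gcd_eq_one] at hb
    have e : x = (x ^ j) ^ (Nat.gcdA j r) * (x ^ r) ^ (Nat.gcdB j r) := by
      rw [← zpow_natCast x j, ← zpow_natCast x r, ← zpow_mul, ← zpow_mul, ← zpow_add, ← hb]
      simp
    rw [e]
    exact D.mul_mem (D.zpow_mem hmem _) (D.zpow_mem (hpow x hxQ) _)
  have hall := pow_eq_one_of_norms r (φ ⟨x, hQV hxQ⟩) (φ ⟨y, hQV hyQ⟩) ?_ ?_ ?_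
  · obtain ⟨v, hv, hvr⟩ := hV
    apply hvr
    have := hall ⟨v, hv⟩
    exact congrArg Subtype.val this
  · -- commute
    show φ ⟨x, hQV hxQ⟩ * φ ⟨y, hQV hyQ⟩ = φ ⟨y, hQV hyQ⟩ * φ ⟨x, hQV hxQ⟩
    apply MulEquiv.ext
    intro v
    apply Subtype.ext
    rw [MulAut.mul_apply, MulAut.mul_apply, hφ, hφ, hφ, hφ]
    show x * (y * v * y⁻¹) * x⁻¹ = y * (x * v * x⁻¹) * y⁻¹
    have hw : y * (x * v * x⁻¹) * y⁻¹ ∈ V := by
      have h1 : x * v * x⁻¹ ∈ V := (Subgroup.mem_normalizer_iff.mp (hQV hxQ) v).mp v.2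
      exact (Subgroup.mem_normalizer_iff.mp (hQV hyQ) _).mp h1
    have h2 := hDV _ (hcomm x hxQ y hyQ) _ hw
    rw [← h2]
    group
  · intro j hj hjr v
    have := hnorm (x ^ j) (Q.pow_mem hxQ j) (hxj j hj hjr) v
    rw [← map_pow]
    exact this
  · intro i hi v
    have := hnorm (x ^ i * y) (Q.mul_mem (Q.pow_mem hxQ i) hyQ) (hy i hi) v
    rw [← map_pow, ← map_mul]
    exact this

end Cfsg.Agent.Lib.Helper3.PF11SB
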