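import Mathlib
import Cfsg.Agent.Lib.Helper64.PFElevenStruct
import Cfsg.Agent.Lib.Helper16.PFNineDI
import Cfsg.Agent.Lib.Helper58.PFNineIdx
import Cfsg.Agent.Lib.Helper3.PFElevenSemireg

/-!
# PF sec.11, module [T4-STRUCT-B] `typeIV_axis` (helper3, for helper64's sheet #2)

Type IV: `U/U'` is elementary abelian of rank `m ≥ 2` (an `r`-group), `C_U(H) = U'`.  Then the
Galois case of (9.7) is impossible (an abelian group acting semiregularly is "cyclic":
`relIndex_le_of_semiregular`), so there is an axis `H₁`; `|U : C_U(H₁)| = r`, `r ∣ p - 1`, and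
`|U : C_U(H₁) ∩ C_U(H₁^w)| = r²` for `1 ≠ w ∈ W₁`.
-/

set_option autoImplicit false

namespace Cfsg.Agent.Lib.Helper3.PF11SB

open Cfsg Cfsg.Agent.Lib.Helper24.PFCyc Cfsg.Agent.Lib.Helper4.PF Cfsg.Agent.Lib.Helper58.PF9
  Cfsg.Agent.Lib.Helper64.PF11 Cfsg.Agent.Lib.Helper16.PFNineNC

open scoped commutatorElement

universe u

variable {G : Type u} [Group G] [Fintype G] {M W₁ U W₂ : Subgroup G} [Fintype M]

/-- the conjugate of `coreC U H₁ H₀` by an element normalizing `U` -/
theorem map_conj_coreC {L : Type u} [Group L] {U H₀ H₁ : Subgroup L} [hH₀ : H₀.Normal] {w : L}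
    (hw : w ∈ Subgroup.normalizer (U : Set L)) :
    (coreC U H₁ H₀).map (MulAut.conj w).toMonoidHom = coreC U (axis H₁ w) H₀ := by
  ext g
  rw [Subgroup.mem_map]
  constructor
  · rintro ⟨x, hx, rfl⟩
    exact conj_mem_coreC_axis hw hx
  · intro hg
    have hw' : w⁻¹ ∈ Subgroup.normalizer (U : Set L) := Subgroup.inv_mem _ hw
    have h2 := conj_mem_coreC_axis hw' hg
    rw [axis_axis_inv] at h2
    refine ⟨w⁻¹ * g * w⁻¹⁻¹, h2, ?_⟩
    show w * (w⁻¹ * g * w⁻¹⁻¹) * w⁻¹ = g
    group

theorem typeIV_axis (S : Struct34 M W₁ U W₂) (c : Ctx34 M W₁ U W₂)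
    (hC : coreC (U.subgroupOf M) ((fittingHallOf M).subgroupOf M) ⊥ = (⁅U, U⁆).subgroupOf M)
    (hchief : ∀ N : Subgroup ↥M, N.Normal → N ≤ (fittingHallOf M).subgroupOf M →
      N = ⊥ ∨ N = (fittingHallOf M).subgroupOf M)
    (r m : ℕ) (hr : r.Prime) (hUr : IsPGroup r U) (hm : (⁅U, U⁆).relIndex U = r ^ m)
    (hm2 : 2 ≤ m) (hel : ∀ u ∈ U, u ^ r ∈ ⁅U, U⁆)
    (hchiefU : ∀ N : Subgroup G, ⁅U, U⁆ ≤ N → N ≤ U → W₁ ≤ Subgroup.normalizer (N : Set G) →
      N = ⁅U, U⁆ ∨ N = U) :
    r ∣ Nat.card W₂ - 1 ∧
    ∃ H₁ : Subgroup ↥M,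
      IsAxis ((fittingHallOf M).subgroupOf M) (U.subgroupOf M) (W₁.subgroupOf M) ⊥ H₁
        (Nat.card W₂) ∧
      (coreC (U.subgroupOf M) H₁ ⊥).relIndex (U.subgroupOf M) = r ∧
      ∀ w ∈ W₁.subgroupOf M, w ≠ 1 →
        (coreC (U.subgroupOf M) H₁ ⊥ ⊓
          coreC (U.subgroupOf M) (H₁.map (MulAut.conj w).toMonoidHom) ⊥).relIndex
            (U.subgroupOf M) = r ^ 2 := by
  classical
  -- notation
  set H : Subgroup ↥M := (fittingHallOf M).subgroupOf M with hHdef
  set UL : Subgroup ↥M := U.subgroupOf M with hULdef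
  set WL : Subgroup ↥M := W₁.subgroupOf M with hWLdef
  set p := Nat.card W₂ with hpdef
  set q := Nat.card W₁ with hqdef
  set C : Subgroup ↥M := coreC UL H ⊥ with hCdef
  have hUM : U ≤ M := le_trans S.hP.U_compl.2.1 S.hP.W₁_compl.1
  have hWM : W₁ ≤ M := S.hP.W₁_compl.2.1
  have hHn : H.Normal := c.H_normal
  have hbotn : (⊥ : Subgroup ↥M).Normal := c.H₀_normal
  -- `H` is commutative
  have hHc : ∀ a ∈ H, ∀ b ∈ H, a * b = b * a := by
    intro a ha b hb
    have h1 : ⁅a, b⁆ ∈ (⊥ : Subgroup ↥M) := c.comm_le (Subgroup.commutator_mem_commutator ha hb)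
    rw [Subgroup.mem_bot, commutatorElement_def] at h1
    have : a * b = (a * b * a⁻¹ * b⁻¹) * (b * a) := by group
    rw [this, h1, one_mul]
  -- index of `C`
  have hCidx : C.relIndex UL = r ^ m := by
    rw [hC, hULdef, Subgroup.relIndex_subgroupOf hUM, hm]
  have hCle : C ≤ UL := coreC_le _ _ _
  -- `UL/C` is abelian of exponent `r`
  have hcommC : ∀ x ∈ UL, ∀ y ∈ UL, x * y * x⁻¹ * y⁻¹ ∈ C := by
    intro x hx y hy
    rw [hC, Subgroup.mem_subgroupOf]
    have : ((x * y * x⁻¹ * y⁻¹ : ↥M) : G) = ⁅(x : G), (y : G)⁆ := by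
      rw [commutatorElement_def]; simp
    rw [this]
    exact Subgroup.commutator_mem_commutator (Subgroup.mem_subgroupOf.mp hx)
      (Subgroup.mem_subgroupOf.mp hy)
  have hpowC : ∀ x ∈ UL, x ^ r ∈ C := by
    intro x hx
    rw [hC, Subgroup.mem_subgroupOf]
    have : ((x ^ r : ↥M) : G) = (x : G) ^ r := by simp
    rw [this]
    exact hel _ (Subgroup.mem_subgroupOf.mp hx)
  have hCcent : ∀ d ∈ C, ∀ v ∈ H, d * v * d⁻¹ = v := by
    intro d hd v hv
    have h1 := (mem_coreC.mp hd).2.2.2 v hv
    rw [Subgroup.mem_bot] at h1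
    have : d * v * d⁻¹ = (d * v * d⁻¹ * v⁻¹) * v := by group
    rw [this, h1, one_mul]
  -- arithmetic
  have hcardH : Nat.card H = p ^ q := by
    have := c.relIndex_H₀
    rwa [Subgroup.relIndex_bot_left] at this
  have hr2 : 2 ≤ r := hr.two_le
  have hrm : r < r ^ m := by
    calc r = r ^ 1 := (pow_one r).symm
      _ < r ^ m := Nat.pow_lt_pow_right hr.one_lt (by omega)
  have hcop : Nat.Coprime p r := by
    have h1 : r ∣ Nat.card UL := by
      have h2 : r ^ m ∣ Nat.card UL := hCidx ▸ Subgroup.relIndex_dvd_card C UL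
      exact dvd_trans (dvd_pow_self r (by omega)) h2
    have h3 : p ∣ Nat.card H := by
      rw [hcardH]; exact dvd_pow_self p c.q_prime.pos.ne'
    exact Nat.Coprime.coprime_dvd_left h3 (Nat.Coprime.coprime_dvd_right h1 c.coprime_HU)
  -- a non-trivial element of `H` is not killed by `r`
  have hHr : ∀ v ∈ H, v ≠ 1 → v ^ r ≠ 1 := by
    intro v hv hv1 hvr
    apply hv1
    have h1 : v ^ p = 1 := by
      have := c.pow_mem v hv
      rwa [Subgroup.mem_bot] at this
    have h2 : orderOf v ∣ Nat.gcd p r := Nat.dvd_gcd (orderOf_dvd_of_pow_eq_one h1)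
      (orderOf_dvd_of_pow_eq_one hvr)
    rw [hcop.gcd_eq_one, Nat.dvd_one, orderOf_eq_one_iff] at h2
    exact h2
  have hHne : ∃ v ∈ H, v ≠ 1 := by
    by_contra hno
    push Not at hno
    apply c.not_cent
    rw [Subgroup.commutator_le]
    intro x _ h hh
    rw [hno h hh, Subgroup.mem_bot, commutatorElement_def]
    group
  -- the dichotomy
  have hdich := Cfsg.Agent.Lib.Helper16.PFNineDI.galois_or_axis c
    (fun N hN _ hNH => hchief N hN hNH)
  rcases hdich with hG | ⟨H₁, hA⟩
  · -- Galois-like is impossible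
    exfalso
    have hle := relIndex_le_of_semiregular H UL C r hr hHc
      (by rw [Subgroup.normalizer_eq_top_iff.mpr hHn]; exact le_top) hCle hcommC hpowC hCcent
      (by
        intro x hx hxC v hv hfix
        have h1 : x * v * x⁻¹ * v⁻¹ ∈ (⊥ : Subgroup ↥M) := by
          rw [hfix, mul_inv_cancel]; exact Subgroup.one_mem _
        have := hG x hx hxC v hv h1
        rwa [Subgroup.mem_bot] at this)
      (by
        obtain ⟨v, hv, hv1⟩ := hHne
        exact ⟨v, hv, hHr v hv hv1⟩)
    rw [hCidx] at hle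
    omega
  · -- the axis case
    set D := coreC UL H₁ ⊥ with hDdef
    set a := D.relIndex UL with hadef
    obtain ⟨ha1, ha2, ha3, -⟩ := axis_index_facts c hA
    rw [← hDdef, ← hadef] at ha1 ha2 ha3
    rw [← hCdef, hCidx] at ha3
    have hCD : C ≤ D := coreC_le_coreC_axis hA
    have hDle : D ≤ UL := coreC_le _ _ _
    have hcardH₁ : Nat.card H₁ = p := by
      have := hA.relIndex
      rwa [Subgroup.relIndex_bot_left] at this
    haveI : Fact p.Prime := ⟨c.p_prime⟩
    have hDcent : ∀ d ∈ D, ∀ v ∈ H₁, d * v * d⁻¹ = v := by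
      intro d hd v hv
      have h1 := (mem_coreC.mp hd).2.2.2 v hv
      rw [Subgroup.mem_bot] at h1
      have : d * v * d⁻¹ = (d * v * d⁻¹ * v⁻¹) * v := by group
      rw [this, h1, one_mul]
    have hH₁ne : ∃ v ∈ H₁, v ≠ 1 := by
      by_contra hno
      push Not at hno
      have : H₁ = ⊥ := by
        rw [Subgroup.eq_bot_iff_forall]; exact hno
      rw [this, Subgroup.card_bot] at hcardH₁
      exact c.p_prime.one_lt.ne hcardH₁
    have hale : a ≤ r := by
      apply relIndex_le_of_semiregular H₁ UL D r hr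
        (fun a ha b hb => hHc a (hA.le_H ha) b (hA.le_H hb)) hA.U_norm hDle
        (fun x hx y hy => hCD (hcommC x hx y hy)) (fun x hx => hCD (hpowC x hx)) hDcent
      · intro x hx hxD v hv hfix
        by_contra hv1
        apply hxD
        rw [hDdef, mem_coreC]
        refine ⟨hx, hA.U_norm hx, ?_, ?_⟩
        · rw [Subgroup.normalizer_eq_top_iff.mpr hbotn]; exact Subgroup.mem_top x
        · intro h hh
          have hv1' : (⟨v, hv⟩ : ↥H₁) ≠ 1 := by
            intro h0; apply hv1; exact congrArg Subtype.val h0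
          have hz : (⟨h, hh⟩ : ↥H₁) ∈ Subgroup.zpowers (⟨v, hv⟩ : ↥H₁) :=
            mem_zpowers_of_prime_card hcardH₁ hv1'
          obtain ⟨k, hk⟩ := Subgroup.mem_zpowers_iff.mp hz
          have hk' : v ^ k = h := by
            have := congrArg Subtype.val hk
            simpa using this
          rw [Subgroup.mem_bot, ← hk']
          have : x * v ^ k * x⁻¹ = (x * v * x⁻¹) ^ k := by
            rw [conj_zpow]
          rw [this, hfix, mul_inv_cancel]
      · obtain ⟨v, hv, hv1⟩ := hH₁ne
        exact ⟨v, hv, hHr v (hA.le_H hv) hv1⟩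
    have har : a = r := by
      obtain ⟨k, hkm, hak⟩ := (Nat.dvd_prime_pow hr).mp ha3
      rcases Nat.lt_or_ge k 1 with hk0 | hk1
      · have : k = 0 := by omega
        rw [this, pow_zero] at hak
        omega
      · rcases Nat.lt_or_ge 1 k with hk2 | hk2
        · have : r ^ 1 < r ^ k := Nat.pow_lt_pow_right hr.one_lt hk2
          rw [pow_one, ← hak] at this
          omega
        · have : k = 1 := by omega
          rw [hak, this, pow_one]
    refine ⟨?_, H₁, hA, har, ?_⟩
    · rw [← har]
      exact dvd_trans (Dvd.intro_left 2 rfl) ha2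
    · intro w hw hw1
      have hwn : w ∈ Subgroup.normalizer (UL : Set ↥M) := c.W₁_norm_U hw
      set Dw := coreC UL (H₁.map (MulAut.conj w).toMonoidHom) ⊥ with hDwdef
      have hDw : Dw.relIndex UL = r := by
        rw [hDwdef, relIndex_coreC_axis hwn, ← hDdef, ← hadef, har]
      have hDwle : Dw ≤ UL := coreC_le _ _ _
      have hmap : D.map (MulAut.conj w).toMonoidHom = Dw := map_conj_coreC hwn
      -- `t = |Dw : D ∩ Dw|`
      have hmul := Subgroup.relIndex_inf_mul_relIndex D Dw UL
      rw [inf_of_le_left hDwle, hDw] at hmul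
      set t := D.relIndex Dw with htdef
      have ht_le : t ≤ r := by
        have := Subgroup.relIndex_le_of_le_right (H := D) hDwle (by rw [← hadef, har]; omega)
        rwa [← hadef, har] at this
      have hULcard : ∃ n, Nat.card UL = r ^ n := by
        haveI : Fact r.Prime := ⟨hr⟩
        have h1 : IsPGroup r UL := by
          rw [hULdef]
          exact hUr.comap_subtype
        exact IsPGroup.iff_card.mp h1
      obtain ⟨n, hn⟩ := hULcard
      have ht_dvd : t ∣ r ^ n := by
        rw [← hn]
        exact dvd_trans (Subgroup.relIndex_dvd_card D Dw) (Subgroup.card_dvd_of_le hDwle)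
      have ht1 : t ≠ 1 := by
        intro ht1
        have hDwD : Dw ≤ D := Subgroup.relIndex_eq_one.mp ht1
        -- equal indices: `D = Dw`
        have hDDw : D ≤ Dw := by
          have h1 := Subgroup.relIndex_mul_relIndex Dw D UL hDwD hDle
          rw [hDw, ← hadef, har] at h1
          have h2 : Dw.relIndex D = 1 := by
            have : Dw.relIndex D * r = 1 * r := by rw [h1, one_mul]
            exact Nat.eq_of_mul_eq_mul_right hr.pos this
          exact Subgroup.relIndex_eq_one.mp h2
        have hDeq : D.map (MulAut.conj w).toMonoidHom = D := by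
          rw [hmap]; exact le_antisymm hDwD hDDw
        -- `w` normalizes `D`, hence so does `WL`
        have hwD : w ∈ Subgroup.normalizer (D : Set ↥M) := by
          rw [Subgroup.mem_normalizer_iff]
          intro g
          constructor
          · intro hg
            rw [← hDeq]
            exact Subgroup.mem_map.mpr ⟨g, hg, rfl⟩
          · intro hg
            rw [← hDeq] at hg
            obtain ⟨g', hg', he⟩ := Subgroup.mem_map.mp hg
            have : g' = g := by
              have he' : w * g' * w⁻¹ = w * g * w⁻¹ := he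
              exact mul_left_cancel (mul_right_cancel he')
            rwa [← this]
        have hcardWL : Nat.card WL = q := c.card_W₁
        haveI : Fact q.Prime := ⟨c.q_prime⟩
        have hWLD : WL ≤ Subgroup.normalizer (D : Set ↥M) := by
          intro w' hw'
          have hw1' : (⟨w, hw⟩ : ↥WL) ≠ 1 := by
            intro h0; apply hw1; exact congrArg Subtype.val h0
          have hz : (⟨w', hw'⟩ : ↥WL) ∈ Subgroup.zpowers (⟨w, hw⟩ : ↥WL) :=
            mem_zpowers_of_prime_card hcardWL hw1'
          obtain ⟨k, hk⟩ := Subgroup.mem_zpowers_iff.mp hz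
          have hk' : w ^ k = w' := by
            have := congrArg Subtype.val hk
            simpa using this
          rw [← hk']
          exact Subgroup.zpow_mem _ hwD k
        -- push to `G`
        set N : Subgroup G := D.map M.subtype with hNdef
        have hN1 : ⁅U, U⁆ ≤ N := by
          intro g hg
          have hgM : g ∈ M := hUM (Subgroup.commutator_le_self U hg)
          refine Subgroup.mem_map.mpr ⟨⟨g, hgM⟩, hCD ?_, rfl⟩
          rw [hC, Subgroup.mem_subgroupOf]
          exact hg
        have hN2 : N ≤ U := by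
          rintro _ ⟨x, hx, rfl⟩
          exact Subgroup.mem_subgroupOf.mp (hDle hx)
        have hN3 : W₁ ≤ Subgroup.normalizer (N : Set G) := by
          intro w' hw'
          have hw'' : (⟨w', hWM hw'⟩ : ↥M) ∈ WL := Subgroup.mem_subgroupOf.mpr hw'
          have hnorm := hWLD hw''
          have key : ∀ (z : ↥M), z ∈ Subgroup.normalizer (D : Set ↥M) → ∀ g ∈ N,
              (z : G) * g * (z : G)⁻¹ ∈ N := by
            rintro z hz _ ⟨x, hx, rfl⟩
            exact Subgroup.mem_map.mpr ⟨z * x * z⁻¹,
              (Subgroup.mem_normalizer_iff.mp hz x).mp hx, by simp⟩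
          rw [Subgroup.mem_normalizer_iff]
          intro g
          constructor
          · intro hg
            exact key _ hnorm g hg
          · intro hg
            have := key _ (Subgroup.inv_mem _ hnorm) _ hg
            have e : ((⟨w', hWM hw'⟩ : ↥M)⁻¹ : ↥M) = ⟨w'⁻¹, M.inv_mem (hWM hw')⟩ := rfl
            rw [e] at this
            have e2 : w'⁻¹ * (w' * g * w'⁻¹) * w'⁻¹⁻¹ = g := by group
            rw [← e2]
            exact this
        have hNidx : N.relIndex U = r := by
          have h1 := Subgroup.relIndex_map_map_of_injective D UL (f := M.subtype)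
            M.subtype_injective
          rw [← hNdef, hULdef, Subgroup.map_subgroupOf_eq_of_le hUM, ← hULdef, ← hadef, har] at h1
          exact h1
        rcases hchiefU N hN1 hN2 hN3 with hN | hN
        · rw [hN, hm] at hNidx
          omega
        · rw [hN, Subgroup.relIndex_self] at hNidx
          omega
      have htr : t = r := by
        obtain ⟨k, -, hk⟩ := (Nat.dvd_prime_pow hr).mp ht_dvd
        rcases Nat.lt_or_ge k 1 with hk0 | hk1
        · have : k = 0 := by omega
          rw [this, pow_zero] at hk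
          exact absurd hk ht1
        · have : r ^ 1 ≤ r ^ k := Nat.pow_le_pow_right hr.pos hk1
          rw [pow_one, ← hk] at this
          omega
      rw [← hmul, htr]
      ring

end Cfsg.Agent.Lib.Helper3.PF11SB
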