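import Mathlib
import Cfsg.Agent.Lib.Helper72.DegEqDefs

/-!
# S0983 arithmetic modules (helper3): generic candidate lists for the degree equation
-/

set_option autoImplicit false

namespace Cfsg.Agent.Lib.Helper3.Range6232

open Cfsg.Agent.Lib.Helper72.DegEq

/-- the admissible values of the number of Sylow `p`-subgroups -/
def dcands (n p : ℕ) : List ℕ :=
  (List.range (n / p + 1)).filter (fun d => decide ((n / p) % d = 0) && decide (d % p = 1) &&
    decide (d ≠ 1) && !(Cfsg.Agent.Lib.Helper9.Sieve.excl n p 1 (n / p) d))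

theorem mem_dcands {n p d : ℕ} (hpos : 0 < n / p) (h1 : d ∣ n / p) (h2 : d % p = 1) (h3 : d ≠ 1)
    (h4 : Cfsg.Agent.Lib.Helper9.Sieve.excl n p 1 (n / p) d = false) : d ∈ dcands n p := by
  unfold dcands
  rw [List.mem_filter]
  refine ⟨?_, ?_⟩
  · rw [List.mem_range]
    exact Nat.lt_succ_of_le (Nat.le_of_dvd hpos h1)
  · simp [Nat.mod_eq_zero_of_dvd h1, h2, h3, h4]

/-- the admissible signed degrees: `x ∣ n`, `x ≡ 1 (mod p)`, `lo ≤ |x| ≤ hi` -/
def cands (n p lo hi : ℕ) : List ℤ :=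
  ((List.range (2 * hi + 1)).map (fun i : ℕ => (i : ℤ) - hi)).filter
    (fun x => decide (x ∣ (n : ℤ)) && decide ((p : ℤ) ∣ x - 1) && decide ((lo : ℤ) ≤ |x|))

theorem mem_cands {n p lo hi : ℕ} {x : ℤ} (h1 : x ∣ (n : ℤ)) (h2 : (p : ℤ) ∣ x - 1)
    (h3 : (lo : ℤ) ≤ |x|) (h4 : |x| ≤ (hi : ℤ)) : x ∈ cands n p lo hi := by
  unfold cands
  rw [List.mem_filter]
  refine ⟨?_, by simp [h1, h2, h3]⟩
  rw [List.mem_map]
  have h5 := abs_le.mp h4
  refine ⟨(x + hi).toNat, ?_, ?_⟩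
  · rw [List.mem_range]; omega
  · rw [Int.toNat_of_nonneg (by omega)]; ring

theorem abs_ge_of_or {x : ℤ} {k : ℤ} (hk : 0 ≤ k) (h : k ≤ x ∨ x ≤ -k) : k ≤ |x| := by
  rcases h with h | h
  · exact le_trans h (le_abs_self x)
  · have := neg_abs_le x
    have h2 : -x ≤ |x| := neg_le_abs x
    omega

theorem abs_le_of_sq_le {x : ℤ} {hi : ℕ} {M : ℤ} (h : x ^ 2 ≤ M) (hM : M < ((hi : ℤ) + 1) ^ 2) :
    |x| ≤ (hi : ℤ) := by
  rw [abs_le]
  constructor <;> nlinarith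

end Cfsg.Agent.Lib.Helper3.Range6232
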