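import Mathlib
import Cfsg.Agent.Lib.Helper72.DegEqDefs
import Cfsg.Agent.Lib.Helper3.Range6232Aux

/-! S0983 module [A3696] (helper3): order 3696 = 2^4·3·7·11, p = 11. -/

set_option autoImplicit false

namespace Cfsg.Agent.Lib.Helper3.Range6232

open Cfsg.Agent.Lib.Helper72.DegEq

theorem arith_3696 {Deg : Set ℕ} {d e : ℕ} {ε : ℤ} {s : Multiset ℤ} {f : ℤ}
    (h : DegData 3696 11 Deg d e ε s f) : False := by
  obtain ⟨hd_dvd, hd_mod, hd_ne, hd_excl, he_dvd, he_dvd', he_ne, hε, hcard, hs_mod, hs_dvd, hs_two,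
    hs_big, hs_deg, hf_two, hf_dvd, hf_big, hf_deg, heq, hsq, hall⟩ := h
  have hd := mem_dcands (by norm_num) hd_dvd hd_mod hd_ne hd_excl
  have hl : dcands 3696 11 = [56] := by decide +kernel
  rw [hl, List.mem_singleton] at hd
  subst hd
  -- e = 2
  have he : e = 2 := by
    have h2 : e ∣ Nat.gcd (3696 / 11 / 56) (11 - 1) := Nat.dvd_gcd he_dvd he_dvd'
    norm_num at h2
    rcases (Nat.dvd_prime Nat.prime_two).mp h2 with h1 | h1
    · exact absurd h1 he_ne
    · exact h1
  subst he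
  have hc : s.card = 1 := by omega
  obtain ⟨x, rfl⟩ := Multiset.card_eq_one.mp hc
  have hx := Multiset.mem_singleton_self x
  simp only [Multiset.map_singleton, Multiset.sum_singleton] at hsq heq
  norm_num at hsq
  have hxsq : x ^ 2 ≤ 3695 := by nlinarith [sq_nonneg f]
  have hxhi : |x| ≤ ((60 : ℕ) : ℤ) := abs_le_of_sq_le hxsq (by norm_num)
  have hxlo : ((22 : ℕ) : ℤ) ≤ |x| := abs_ge_of_or (by norm_num) (by
    have := hs_big (by norm_num) x hx
    norm_num at this ⊢
    exact this)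
  have hxc := mem_cands (hs_dvd x hx) (hs_mod x hx) hxlo hxhi
  have hl2 : cands 3696 11 22 60 = [56] := by decide +kernel
  rw [hl2, List.mem_singleton] at hxc
  subst hxc
  have hf : f = 57 := by
    rcases hε with rfl | rfl <;> omega
  subst hf
  revert hf_dvd
  decide

end Cfsg.Agent.Lib.Helper3.Range6232
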