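import Mathlib
import Cfsg.Agent.Lib.Helper72.DegEqDefs
import Cfsg.Agent.Lib.Helper3.Range6232Aux

/-! S0983 module [A4680] (helper3): order 4680, p = 13. -/

set_option autoImplicit false

namespace Cfsg.Agent.Lib.Helper3.Range6232

open Cfsg.Agent.Lib.Helper72.DegEq

theorem arith_4680 {Deg : Set ℕ} {d e : ℕ} {ε : ℤ} {s : Multiset ℤ} {f : ℤ}
    (h : DegData 4680 13 Deg d e ε s f) : False := by
  obtain ⟨hd_dvd, hd_mod, hd_ne, hd_excl, he_dvd, he_dvd', he_ne, hε, hcard, hs_mod, hs_dvd, hs_two,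
    hs_big, hs_deg, hf_two, hf_dvd, hf_big, hf_deg, heq, hsq, hall⟩ := h
  have hd := mem_dcands (by norm_num) hd_dvd hd_mod hd_ne hd_excl
  have hl : dcands 4680 13 = [40] := by decide +kernel
  rw [hl, List.mem_singleton] at hd
  subst hd
  have he : e = 3 := by
    have h2 : e ∣ Nat.gcd (4680 / 13 / 40) (13 - 1) := Nat.dvd_gcd he_dvd he_dvd'
    norm_num at h2
    rcases (Nat.dvd_prime (by norm_num : Nat.Prime 3)).mp h2 with h1 | h1
    · exact absurd h1 he_ne
    · exact h1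
  subst he
  have hc : s.card = 2 := by omega
  obtain ⟨x, y, rfl⟩ := Multiset.card_eq_two.mp hc
  have hx : x ∈ ({x, y} : Multiset ℤ) := by simp
  have hy : y ∈ ({x, y} : Multiset ℤ) := by simp
  have hsum : ({x, y} : Multiset ℤ).sum = x + y := by
    simp [Multiset.insert_eq_cons]
  have hsqs : (({x, y} : Multiset ℤ).map (fun x => x ^ 2)).sum = x ^ 2 + y ^ 2 := by
    simp [Multiset.insert_eq_cons]
  rw [hsum] at heq
  rw [hsqs] at hsq
  norm_num at hsq
  have hxsq : x ^ 2 ≤ 4679 := by nlinarith [sq_nonneg f, sq_nonneg y]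
  have hysq : y ^ 2 ≤ 4679 := by nlinarith [sq_nonneg f, sq_nonneg x]
  have hxhi : |x| ≤ ((68 : ℕ) : ℤ) := abs_le_of_sq_le hxsq (by norm_num)
  have hyhi : |y| ≤ ((68 : ℕ) : ℤ) := abs_le_of_sq_le hysq (by norm_num)
  have hxlo : ((26 : ℕ) : ℤ) ≤ |x| := abs_ge_of_or (by norm_num) (by
    have := hs_big (by norm_num) x hx
    norm_num at this ⊢
    exact this)
  have hylo : ((26 : ℕ) : ℤ) ≤ |y| := abs_ge_of_or (by norm_num) (by
    have := hs_big (by norm_num) y hy
    norm_num at this ⊢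
    exact this)
  have hxc := mem_cands (hs_dvd x hx) (hs_mod x hx) hxlo hxhi
  have hyc := mem_cands (hs_dvd y hy) (hs_mod y hy) hylo hyhi
  have hl2 : cands 4680 13 26 68 = [40] := by decide +kernel
  rw [hl2] at hxc hyc
  have hf : f = ε * (1 + (x + y)) := by rcases hε with rfl | rfl <;> linarith
  subst hf
  simp only [List.mem_cons, List.not_mem_nil, or_false] at hxc hyc
  subst hxc
  subst hyc
  rcases hε with rfl | rfl <;> revert hf_two hf_dvd <;> decide

end Cfsg.Agent.Lib.Helper3.Range6232
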