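import Mathlib
import Cfsg.Prelude.Def_Blocks
import Cfsg.Agent.Lib.Helper78.WBOCor
import Cfsg.Agent.Lib.Helper76.PRegInd
import Cfsg.Agent.Lib.Helper3.BSNorm
import Cfsg.Agent.Lib.Helper3.Integrality
import Cfsg.Agent.Lib.Helper80.CharBasic

/-!
# Real-valued irreducible characters of odd degree lie in the principal 2-block

For a real-valued character `χ` of odd degree, the sum of `χ` over the elements of odd order is
`χ 1` plus twice an algebraic integer (pair `x` with `x⁻¹`), hence nonzero.  By the orthogonality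
of characters of different blocks on the `2`-regular elements, `χ` is in the principal `2`-block.
The count `≤ 2^(2n)` comes from Parseval for the generalized character `2^n · 1_{2-regular}`.
-/

set_option autoImplicit false

namespace Cfsg.Agent.Lib.Helper3.RealOdd

open Cfsg Cfsg.Agent.Lib.Helper3
open scoped ComplexConjugate

section sums

variable {G : Type*} [Group G] [Fintype G]

open Classical in
/-- the sum of an inversion-invariant function with algebraic integer values over the
non-identity elements of odd order is twice an algebraic integer -/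
theorem sum_odd_eq_two_mul (f : G → AlgInt) (hf : ∀ x, f x⁻¹ = f x) :
    ∃ T : AlgInt,
      ∑ x ∈ Finset.univ.filter (fun x : G => ¬ 2 ∣ orderOf x ∧ x ≠ 1), f x = T * 2 := by
  have h0 : Ideal.Quotient.mk (Ideal.span {(2 : AlgInt)})
      (∑ x ∈ Finset.univ.filter (fun x : G => ¬ 2 ∣ orderOf x ∧ x ≠ 1), f x) = 0 := by
    rw [map_sum]
    refine Finset.sum_involution (fun a _ => a⁻¹) ?_ ?_ ?_ ?_
    · intro a _
      rw [hf a, ← map_add, Ideal.Quotient.eq_zero_iff_mem, Ideal.mem_span_singleton]
      exact ⟨f a, by ring⟩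
    · intro a ha _ hinv
      simp only [Finset.mem_filter, Finset.mem_univ, true_and] at ha
      have h2 : a ^ 2 = 1 := by
        rw [pow_two]
        nth_rewrite 1 [← hinv]
        exact inv_mul_cancel a
      have h3 : orderOf a ∣ 2 := orderOf_dvd_of_pow_eq_one h2
      rcases (Nat.dvd_prime Nat.prime_two).mp h3 with h4 | h4
      · exact ha.2 (orderOf_eq_one_iff.mp h4)
      · exact ha.1 (by rw [h4])
    · intro a ha
      simp only [Finset.mem_filter, Finset.mem_univ, true_and] at ha ⊢
      refine ⟨by rw [orderOf_inv]; exact ha.1, ?_⟩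
      intro h
      exact ha.2 (inv_eq_one.mp h)
    · intro a _
      exact inv_inv a
  rw [Ideal.Quotient.eq_zero_iff_mem] at h0
  obtain ⟨T, hT⟩ := Ideal.mem_span_singleton'.mp h0
  exact ⟨T, hT.symm⟩

open Classical in
/-- a real-valued character of odd degree has nonzero sum over the elements of odd order -/
theorem sum_pRegular_ne_zero {χ : G → ℂ} (hχ : IsCharacter G χ)
    (hreal : ∀ g, (χ g).im = 0) (d : ℕ) (hd : χ 1 = d) (hodd : Odd d) :
    ∑ x ∈ Finset.univ.filter (fun x : G => ¬ 2 ∣ orderOf x), χ x ≠ 0 := by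
  have hconj : ∀ g, conj (χ g) = χ g := fun g => Complex.conj_eq_iff_im.mpr (hreal g)
  obtain ⟨T, hT⟩ := sum_odd_eq_two_mul
    (fun x : G => (⟨χ x, Helper78.IsCharacter.mem_algInt hχ x⟩ : AlgInt))
    (fun x => Subtype.ext (by
      show χ x⁻¹ = χ x
      rw [Helper78.IsCharacter.inv hχ x, hconj]))
  have hT' : ∑ x ∈ Finset.univ.filter (fun x : G => ¬ 2 ∣ orderOf x ∧ x ≠ 1), χ x =
      (T : ℂ) * 2 := by
    have h5 : ((∑ x ∈ Finset.univ.filter (fun x : G => ¬ 2 ∣ orderOf x ∧ x ≠ 1),
        (⟨χ x, Helper78.IsCharacter.mem_algInt hχ x⟩ : AlgInt) : AlgInt) : ℂ) =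
        ((T * 2 : AlgInt) : ℂ) := congrArg (fun z : AlgInt => (z : ℂ)) hT
    rw [AddSubmonoidClass.coe_finsetSum] at h5
    rw [h5]
    push_cast
    rfl
  have hsplit : Finset.univ.filter (fun x : G => ¬ 2 ∣ orderOf x) =
      insert 1 (Finset.univ.filter (fun x : G => ¬ 2 ∣ orderOf x ∧ x ≠ 1)) := by
    ext x
    simp only [Finset.mem_filter, Finset.mem_univ, true_and, Finset.mem_insert]
    constructor
    · intro h
      by_cases hx : x = 1
      · left; exact hx
      · right; exact ⟨h, hx⟩
    · rintro (h | h)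
      · rw [h, orderOf_one]; norm_num
      · exact h.1
  rw [hsplit, Finset.sum_insert (by simp), hT', hd]
  intro h0
  obtain ⟨k, hk⟩ := hodd
  -- 1/2 would be an algebraic integer
  have h1 : ((1 / 2 : ℚ) : ℂ) = -(T : ℂ) - (k : ℂ) := by
    have : (d : ℂ) = 2 * k + 1 := by rw [hk]; push_cast; ring
    rw [this] at h0
    push_cast
    linear_combination (1 / 2 : ℂ) * h0
  have h2 : IsIntegral ℤ ((1 / 2 : ℚ) : ℂ) := by
    rw [h1]
    exact (T.2.neg).sub (isIntegral_natCast (R := ℤ) (B := ℂ) k)
  obtain ⟨n, hn⟩ := exists_int_of_isIntegral_ratCast _ h2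
  have h3 : (2 * n : ℚ) = 1 := by rw [hn]; norm_num
  have h4 : (2 * n : ℤ) = 1 := by exact_mod_cast h3
  omega

end sums

section main

universe u

variable {G : Type u} [Group G]

/-- real-valued, odd degree: the degree as a natural number -/
theorem exists_odd_degree (χ : IrrCharacter G) (hodd : Odd (charDegree (χ : G → ℂ))) :
    ∃ d : ℕ, (χ : G → ℂ) 1 = d ∧ Odd d := by
  obtain ⟨n, _, hn⟩ := Helper26.irr_deg_pos χ.1 χ.2
  refine ⟨n, hn, ?_⟩
  rwa [Helper80.charDegree_natCast hn] at hodd

open Classical in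
/-- **Real-valued irreducible characters of odd degree lie in the principal 2-block, and there
are at most `2^(2n)` of them.** -/
theorem main [Finite G] (M : Ideal AlgInt) (hM : IsPModular 2 M) :
    (∀ χ : IrrCharacter G, (∀ g : G, ((χ : G → ℂ) g).im = 0) →
      Odd (charDegree (χ : G → ℂ)) → χ ∈ principalBlock M G) ∧
    Nat.card {χ : IrrCharacter G // (∀ g : G, ((χ : G → ℂ) g).im = 0) ∧
      Odd (charDegree (χ : G → ℂ))} ≤ 2 ^ (2 * (Nat.card G).factorization 2) := by
  haveI : Fintype G := Fintype.ofFinite G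
  have hS : ∀ χ : IrrCharacter G, (∀ g : G, ((χ : G → ℂ) g).im = 0) →
      Odd (charDegree (χ : G → ℂ)) →
      ∑ x ∈ Finset.univ.filter (fun x : G => ¬ 2 ∣ orderOf x), (χ : G → ℂ) x ≠ 0 := by
    intro χ hreal hodd
    obtain ⟨d, hd, hd2⟩ := exists_odd_degree χ hodd
    exact sum_pRegular_ne_zero (IsIrrCharacter.isCharacter χ.2) hreal d hd hd2
  have hconj : ∀ χ : IrrCharacter G, (∀ g : G, ((χ : G → ℂ) g).im = 0) →
      ∀ g, conj ((χ : G → ℂ) g) = (χ : G → ℂ) g :=
    fun χ hreal g => Complex.conj_eq_iff_im.mpr (hreal g)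
  refine ⟨?_, ?_⟩
  · intro χ hreal hodd
    by_contra h
    have h' : ¬ SameBlock M ((BS.triv G : IrrCharacter G) : G → ℂ) (χ : G → ℂ) := h
    have h1 := Helper78.sum_pRegular_mul_conj_eq_zero hM (BS.triv G) χ h'
    apply hS χ hreal hodd
    rw [← h1]
    refine Finset.sum_congr rfl fun x _ => ?_
    rw [hconj χ hreal x]
    show _ = (1 : ℂ) * _
    rw [one_mul]
  · -- the generalized character `2^n` times the indicator of the elements of odd order
    set n := (Nat.card G).factorization 2 with hn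
    set φ : G → ℂ := Helper76.pRegInd 2 G with hφ
    have hφg : IsGeneralizedCharacter G φ :=
      Helper76.pRegInd_isGeneralizedCharacter Nat.prime_two
    have hφc : IsClassFunction G φ := Helper76.pRegInd_isClassFunction 2 G
    choose a ha using fun ψ : IrrCharacter G => BS.isGeneralizedCharacter_classInner_int hφg ψ
    have hcard : (Nat.card G : ℂ) ≠ 0 := by
      have : 0 < Nat.card G := Nat.card_pos
      exact_mod_cast this.ne'
    -- Parseval
    have hpars := Helper78.classInner_eq_sum_mul_conj φ hφc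
    have h1 : ∀ ψ : IrrCharacter G,
        classInner φ (ψ : G → ℂ) * conj (classInner φ (ψ : G → ℂ)) = ((a ψ ^ 2 : ℤ) : ℂ) := by
      intro ψ
      rw [ha ψ, map_intCast]
      push_cast
      ring
    rw [Finset.sum_congr rfl fun ψ _ => h1 ψ] at hpars
    -- the norm of `φ`
    have hφφ : classInner φ φ = (Nat.card G : ℂ)⁻¹ *
        (((Finset.univ.filter (fun x : G => ¬ 2 ∣ orderOf x)).card * (2 ^ n) ^ 2 : ℕ) : ℂ) := by
      unfold classInner
      congr 1
      have h2 : ∀ g : G, φ g * conj (φ g) =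
          if ¬ 2 ∣ orderOf g then (((2 ^ n) ^ 2 : ℕ) : ℂ) else 0 := by
        intro g
        rw [hφ]
        unfold Helper76.pRegInd
        by_cases hg : 2 ∣ orderOf g
        · simp [hg]
        · simp only [hg, if_false, not_false_eq_true, if_true]
          rw [Complex.conj_natCast]
          push_cast
          ring
      rw [Finset.sum_congr rfl fun g _ => h2 g, ← Finset.sum_filter, Finset.sum_const]
      push_cast
      simp
    have hsumle : ∑ ψ : IrrCharacter G, a ψ ^ 2 ≤ ((2 ^ n) ^ 2 : ℤ) := by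
      have h3 : ((∑ ψ : IrrCharacter G, a ψ ^ 2 : ℤ) : ℂ) * (Nat.card G : ℂ) =
          (((Finset.univ.filter (fun x : G => ¬ 2 ∣ orderOf x)).card * (2 ^ n) ^ 2 : ℕ) : ℂ) := by
        have h4 : ((∑ ψ : IrrCharacter G, a ψ ^ 2 : ℤ) : ℂ) =
            ∑ ψ : IrrCharacter G, ((a ψ ^ 2 : ℤ) : ℂ) := by push_cast; rfl
        rw [h4, ← hpars, hφφ]
        field_simp
      have h5 : (∑ ψ : IrrCharacter G, a ψ ^ 2 : ℤ) * (Nat.card G : ℤ) =
          (((Finset.univ.filter (fun x : G => ¬ 2 ∣ orderOf x)).card * (2 ^ n) ^ 2 : ℕ) : ℤ) := by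
        exact_mod_cast h3
      have h6 : (Finset.univ.filter (fun x : G => ¬ 2 ∣ orderOf x)).card ≤ Nat.card G := by
        rw [Nat.card_eq_fintype_card]
        exact Finset.card_le_univ _
      have h7 : (0 : ℤ) < (Nat.card G : ℤ) := by
        have : 0 < Nat.card G := Nat.card_pos
        exact_mod_cast this
      by_contra hcon
      rw [not_le] at hcon
      have h8 : ((2 ^ n) ^ 2 : ℤ) * (Nat.card G : ℤ) <
          (∑ ψ : IrrCharacter G, a ψ ^ 2 : ℤ) * (Nat.card G : ℤ) :=
        mul_lt_mul_of_pos_right hcon h7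
      rw [h5] at h8
      have h9 : (((Finset.univ.filter (fun x : G => ¬ 2 ∣ orderOf x)).card * (2 ^ n) ^ 2 : ℕ) : ℤ)
          ≤ ((2 ^ n) ^ 2 : ℤ) * (Nat.card G : ℤ) := by
        push_cast
        have : ((Finset.univ.filter (fun x : G => ¬ 2 ∣ orderOf x)).card : ℤ) ≤ (Nat.card G : ℤ) := by
          exact_mod_cast h6
        nlinarith [sq_nonneg ((2 : ℤ) ^ n)]
      linarith
    -- the multiplicities of real odd-degree characters are nonzero
    have hne : ∀ ψ : IrrCharacter G, (∀ g : G, ((ψ : G → ℂ) g).im = 0) →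
        Odd (charDegree (ψ : G → ℂ)) → a ψ ≠ 0 := by
      intro ψ hreal hodd h0
      have h2 := ha ψ
      rw [h0] at h2
      unfold classInner at h2
      have h3 : ∑ g : G, φ g * conj ((ψ : G → ℂ) g) =
          ((2 ^ n : ℕ) : ℂ) *
            ∑ x ∈ Finset.univ.filter (fun x : G => ¬ 2 ∣ orderOf x), (ψ : G → ℂ) x := by
        rw [Finset.mul_sum, Finset.sum_filter]
        refine Finset.sum_congr rfl fun g _ => ?_
        rw [hφ, hconj ψ hreal g]
        unfold Helper76.pRegInd
        by_cases hg : 2 ∣ orderOf g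
        · simp [hg]
        · simp only [hg, if_false, not_false_eq_true, if_true]
          rfl
      rw [h3] at h2
      have h4 : ((2 ^ n : ℕ) : ℂ) ≠ 0 := by
        have : 0 < 2 ^ n := by positivity
        exact_mod_cast this.ne'
      have h5 := hS ψ hreal hodd
      simp only [Int.cast_zero, mul_eq_zero, inv_eq_zero] at h2
      rcases h2 with h2 | h2 | h2
      · exact hcard h2
      · exact h4 h2
      · exact h5 h2
    -- counting
    rw [Nat.card_eq_fintype_card, Fintype.card_subtype]
    have h10 : ((Finset.univ.filter (fun χ : IrrCharacter G =>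
        (∀ g : G, ((χ : G → ℂ) g).im = 0) ∧ Odd (charDegree (χ : G → ℂ)))).card : ℤ) ≤
        ∑ ψ : IrrCharacter G, a ψ ^ 2 := by
      rw [Finset.card_eq_sum_ones]
      push_cast
      rw [Finset.sum_filter]
      refine Finset.sum_le_sum fun ψ _ => ?_
      split_ifs with h
      · have := hne ψ h.1 h.2
        have h11 : 0 < a ψ ^ 2 := by positivity
        omega
      · positivity
    have h12 : ((Finset.univ.filter (fun χ : IrrCharacter G =>
        (∀ g : G, ((χ : G → ℂ) g).im = 0) ∧ Odd (charDegree (χ : G → ℂ)))).card : ℤ) ≤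
        ((2 ^ n) ^ 2 : ℤ) := le_trans h10 hsumle
    have h13 : (2 : ℕ) ^ (2 * n) = (2 ^ n) ^ 2 := by rw [mul_comm, pow_mul]
    rw [h13]
    exact_mod_cast h12

end main

end Cfsg.Agent.Lib.Helper3.RealOdd
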