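import Mathlib
import Cfsg.Prelude.Def_Blocks
import Cfsg.Agent.Lib.Helper3.RealOdd
import Cfsg.Agent.Lib.Helper80.PResidualExt
import Cfsg.Agent.Lib.Helper81.Gallagher
import Cfsg.Agent.Lib.Helper81.IrrTwist
import Cfsg.Agent.Lib.Helper77.Linear

/-!
# Real odd-degree characters of a normal subgroup have extensions in the principal 2-block (helper3)

Let `θ ∈ Irr(N)` be real-valued of odd degree, `N ⊴ G`, and `χ` an extension of `θ` to `G`.
Let `Λ` be the (finite) group of linear characters of `G` trivial on `N` and `K` the intersection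
of their kernels.  By Gallagher `conj χ = ν χ` with `ν ∈ Λ`, so `χ` is real-valued on `K`; the sum
of `χ` over the `2`-regular elements of `K` is therefore nonzero.  By orthogonality on `Λ`, this
sum is `|Λ|⁻¹ ∑_{ν ∈ Λ} ∑_{x 2-regular} (ν χ)(x)`, so some extension `ν χ` has nonzero sum over the
`2`-regular elements, hence lies in the principal `2`-block.
-/

set_option autoImplicit false
set_option linter.unusedSectionVars false

namespace Cfsg.Agent.Lib.Helper3.RealExt

open Cfsg
open scoped ComplexConjugate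

universe u

section gallagher

variable {G : Type u} [Group G] [Fintype G] (N : Subgroup G) [hN : N.Normal] [Fintype N]

/-- two extensions of an irreducible character of `N` differ by a linear character of `G / N` -/
theorem exists_hom_of_extensions {χ ψ : G → ℂ} (hχ : IsIrrCharacter G χ)
    (hψ : IsIrrCharacter G ψ) (hχN : IsIrrCharacter N (fun n : N => χ n))
    (hres : ∀ n : N, ψ n = χ n) :
    ∃ ν : G →* ℂˣ, N ≤ ν.ker ∧ ∀ g, ψ g = ((ν g : ℂˣ) : ℂ) * χ g := by
  have hover : classInner (fun n : N => ψ n) (fun n : N => χ n) ≠ 0 := by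
    have h1 : (fun n : N => ψ n) = fun n : N => χ n := funext hres
    rw [h1, Helper78.classInner_irr_self hχN]
    exact one_ne_zero
  obtain ⟨β, hβ⟩ := Helper80.gallagher_exists N hχ hχN hψ hover
  have hχ1 : χ 1 ≠ 0 := by
    have h0 := Helper79.irr_apply_one_eq_charDegree (⟨χ, hχ⟩ : IrrCharacter G)
    have h0' : χ 1 = (charDegree χ : ℂ) := h0
    rw [h0']
    exact_mod_cast (Helper79.irr_charDegree_pos (⟨χ, hχ⟩ : IrrCharacter G)).ne'
  have hβ1 : (β : G ⧸ N → ℂ) 1 = 1 := by
    have h2 : ψ 1 = χ 1 := by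
      have := hres 1
      rwa [Subgroup.coe_one] at this
    have h3 : ψ 1 = Helper80.infl N β 1 * χ 1 := by rw [hβ]; rfl
    rw [h2] at h3
    have h4 : Helper80.infl N β 1 = 1 := by
      have : (1 : ℂ) * χ 1 = Helper80.infl N β 1 * χ 1 := by rw [one_mul]; exact h3
      exact (mul_right_cancel₀ hχ1 this).symm
    rw [← h4]
    show _ = (β : G ⧸ N → ℂ) ((1 : G) : G ⧸ N)
    rw [QuotientGroup.mk_one]
  obtain ⟨φ, hφ⟩ := Helper77.exists_monoidHom_of_degree_one
    (Helper78.IsIrrCharacter.isCharacter β.2) hβ1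
  refine ⟨φ.comp (QuotientGroup.mk' N), ?_, ?_⟩
  · intro n hn
    rw [MonoidHom.mem_ker, MonoidHom.comp_apply, QuotientGroup.mk'_apply,
      (QuotientGroup.eq_one_iff n).2 hn, map_one]
  · intro g
    rw [hβ]
    show Helper80.infl N β g * χ g = _
    congr 1
    exact hφ _

end gallagher

section lin

variable {G : Type u} [Group G] [Finite G] (N : Subgroup G)

/-- the linear characters of `G` that are trivial on `N` -/
def linOver : Subgroup (G →* ℂˣ) where
  carrier := {ν | N ≤ ν.ker}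
  one_mem' := by
    intro n _
    exact MonoidHom.mem_ker.mpr rfl
  mul_mem' := by
    intro a b ha hb n hn
    rw [MonoidHom.mem_ker, MonoidHom.mul_apply, MonoidHom.mem_ker.mp (ha hn),
      MonoidHom.mem_ker.mp (hb hn), one_mul]
  inv_mem' := by
    intro a ha n hn
    rw [MonoidHom.mem_ker, MonoidHom.inv_apply, MonoidHom.mem_ker.mp (ha hn), inv_one]

theorem mem_linOver (ν : G →* ℂˣ) : ν ∈ linOver N ↔ N ≤ ν.ker := Iff.rfl

instance : Finite (linOver N) := (Helper81.card_monoidHom_trivial_on_le_index N).1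

/-- the intersection of the kernels of the linear characters trivial on `N` -/
def coreKer : Subgroup G := ⨅ ν : linOver N, (ν : G →* ℂˣ).ker

theorem mem_coreKer (x : G) : x ∈ coreKer N ↔ ∀ ν : linOver N, (ν : G →* ℂˣ) x = 1 := by
  unfold coreKer
  simp only [Subgroup.mem_iInf, MonoidHom.mem_ker]

/-- orthogonality: the sum of `ν x` over the linear characters `ν` trivial on `N` -/
theorem sum_linOver_apply [Fintype (linOver N)] [DecidablePred (· ∈ coreKer N)] (x : G) :
    ∑ ν : linOver N, ((((ν : G →* ℂˣ) x : ℂˣ)) : ℂ) =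
      if x ∈ coreKer N then (Fintype.card (linOver N) : ℂ) else 0 := by
  split_ifs with hx
  · rw [mem_coreKer] at hx
    rw [Finset.sum_congr rfl fun ν _ => by rw [hx ν, Units.val_one]]
    simp
  · rw [mem_coreKer] at hx
    push Not at hx
    obtain ⟨ν₀, hν₀⟩ := hx
    have h1 : ∑ ν : linOver N, ((((ν : G →* ℂˣ) x : ℂˣ)) : ℂ) =
        ((((ν₀ : G →* ℂˣ) x : ℂˣ)) : ℂ) * ∑ ν : linOver N, ((((ν : G →* ℂˣ) x : ℂˣ)) : ℂ) := by
      rw [Finset.mul_sum]
      refine (Fintype.sum_equiv (Equiv.mulLeft ν₀) _ _ (fun ν => ?_)).symm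
      rw [Equiv.coe_mulLeft, Subgroup.coe_mul, MonoidHom.mul_apply, Units.val_mul]
    have h2 : (((((ν₀ : G →* ℂˣ) x : ℂˣ)) : ℂ) - 1) *
        ∑ ν : linOver N, ((((ν : G →* ℂˣ) x : ℂˣ)) : ℂ) = 0 := by
      rw [sub_mul, one_mul, ← h1, sub_self]
    rcases mul_eq_zero.mp h2 with h3 | h3
    · exfalso
      apply hν₀
      apply Units.ext
      rw [Units.val_one]
      exact sub_eq_zero.mp h3
    · exact h3

end lin

section main

variable {G : Type u} [Group G] [Finite G] (N : Subgroup G) [hN : N.Normal]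

open Classical in
/-- **S4580.** A real-valued odd-degree irreducible character of a normal subgroup that extends
to `G` has an extension in the principal `2`-block of `G`. -/
theorem main (M : Ideal AlgInt) (hM : IsPModular 2 M) (θ : IrrCharacter N)
    (hreal : ∀ n : N, ((θ : N → ℂ) n).im = 0) (hodd : Odd (charDegree (θ : N → ℂ)))
    (hext : ∃ η : IrrCharacter G, ∀ n : N, (η : G → ℂ) n = (θ : N → ℂ) n) :
    ∃ η : IrrCharacter G, (∀ n : N, (η : G → ℂ) n = (θ : N → ℂ) n) ∧
      η ∈ principalBlock M G := by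
  have : Fact (Nat.Prime 2) := ⟨Nat.prime_two⟩
  have : Fintype G := Fintype.ofFinite G
  have : Fintype N := Fintype.ofFinite N
  have : Fintype (linOver N) := Fintype.ofFinite _
  obtain ⟨χ, hχ⟩ := hext
  set K := coreKer N with hK
  have : Fintype K := Fintype.ofFinite K
  have hχN : IsIrrCharacter N (fun n : N => (χ : G → ℂ) n) := by
    have h1 : (fun n : N => (χ : G → ℂ) n) = (θ : N → ℂ) := funext hχ
    rw [h1]
    exact θ.2
  have hconj : IsIrrCharacter G (fun g => conj ((χ : G → ℂ) g)) :=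
    Helper81.isIrrCharacter_conj χ.2
  obtain ⟨ν, hνN, hν⟩ := exists_hom_of_extensions N χ.2 hconj hχN (fun n => by
    show conj ((χ : G → ℂ) n) = (χ : G → ℂ) n
    rw [hχ n]
    exact Complex.conj_eq_iff_im.mpr (hreal n))
  have hrealK : ∀ y : K, (((χ : G → ℂ) (y : G))).im = 0 := by
    intro y
    rw [← Complex.conj_eq_iff_im]
    have h1 : conj ((χ : G → ℂ) (y : G)) = ((ν (y : G) : ℂˣ) : ℂ) * (χ : G → ℂ) (y : G) :=
      hν (y : G)
    have h2 : ν (y : G) = 1 := (mem_coreKer N _).mp y.2 ⟨ν, hνN⟩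
    rw [h2, Units.val_one, one_mul] at h1
    exact h1
  obtain ⟨d, hd, hdodd⟩ : ∃ d : ℕ, (χ : G → ℂ) 1 = d ∧ Odd d := by
    refine ⟨charDegree (θ : N → ℂ), ?_, hodd⟩
    have h1 := hχ 1
    rw [Subgroup.coe_one] at h1
    rw [h1, Helper79.irr_apply_one_eq_charDegree θ]
  have hsumK := RealOdd.sum_pRegular_ne_zero (G := K) (χ := fun y : K => (χ : G → ℂ) y)
    (Helper80.isCharacter_restrict K (Helper78.IsIrrCharacter.isCharacter χ.2)) hrealK d
    (by rw [Subgroup.coe_one]; exact hd) hdodd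
  -- the double sum
  have hdouble : ∑ ν : linOver N, ∑ x ∈ Finset.univ.filter (fun x : G => ¬ 2 ∣ orderOf x),
        ((((ν : G →* ℂˣ) x : ℂˣ)) : ℂ) * (χ : G → ℂ) x =
      (Fintype.card (linOver N) : ℂ) *
        ∑ y ∈ Finset.univ.filter (fun y : K => ¬ 2 ∣ orderOf y), (χ : G → ℂ) y := by
    rw [Finset.sum_comm]
    have h1 : ∀ x : G, ∑ ν : linOver N, ((((ν : G →* ℂˣ) x : ℂˣ)) : ℂ) * (χ : G → ℂ) x =
        (if x ∈ K then (Fintype.card (linOver N) : ℂ) else 0) * (χ : G → ℂ) x := by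
      intro x
      rw [← Finset.sum_mul, sum_linOver_apply]
    rw [Finset.sum_congr rfl fun x _ => h1 x, Finset.mul_sum, Finset.sum_filter,
      Finset.sum_filter]
    rw [Helper81.sum_eq_sum_subgroup_of_vanish K _ (fun t ht => by rw [if_neg ht, zero_mul, ite_self])]
    refine Finset.sum_congr rfl fun y _ => ?_
    rw [if_pos y.2, Subgroup.orderOf_coe]
  have hcard : (Fintype.card (linOver N) : ℂ) ≠ 0 := by
    exact_mod_cast Fintype.card_ne_zero
  have hne : ∑ ν : linOver N, ∑ x ∈ Finset.univ.filter (fun x : G => ¬ 2 ∣ orderOf x),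
        ((((ν : G →* ℂˣ) x : ℂˣ)) : ℂ) * (χ : G → ℂ) x ≠ 0 := by
    rw [hdouble]
    exact mul_ne_zero hcard hsumK
  obtain ⟨ν', -, hν'⟩ := Finset.exists_ne_zero_of_sum_ne_zero hne
  refine ⟨⟨fun g => (((ν' : G →* ℂˣ) g : ℂˣ) : ℂ) * (χ : G → ℂ) g,
    Helper81.isIrrCharacter_monoidHom_mul (ν' : G →* ℂˣ) χ.2⟩, ?_, ?_⟩
  · intro n
    show (((ν' : G →* ℂˣ) (n : G) : ℂˣ) : ℂ) * (χ : G → ℂ) n = _
    have h1 : (ν' : G →* ℂˣ) (n : G) = 1 := MonoidHom.mem_ker.mp (ν'.2 n.2)
    rw [h1, Units.val_one, one_mul, hχ n]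
  · by_contra h
    have h1 := Helper78.sum_pRegular_mul_conj_eq_zero hM (BS.triv G) _ h
    apply hν'
    have h2 := congrArg conj h1
    rw [map_sum, map_zero] at h2
    rw [← h2]
    refine Finset.sum_congr rfl fun x _ => ?_
    rw [map_mul, Complex.conj_conj]
    show _ = conj (1 : ℂ) * _
    rw [map_one, one_mul]

end main

end Cfsg.Agent.Lib.Helper3.RealExt
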