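import Mathlib
import Cfsg.Prelude.Def_Blocks
import Cfsg.Prelude.Def_Transfer
import Cfsg.Agent.Lib.Helper3.RealExt
import Cfsg.Agent.Lib.Helper3.PrincipalLin
import Cfsg.Agent.Lib.Helper16.PIndex
import Cfsg.Agent.Lib.Helper75.PrincipalLambda
import Cfsg.Agent.Lib.Helper75.GaloisPow
import Cfsg.Agent.Lib.Helper80.PResidualExt
import Cfsg.Agent.Lib.Helper47.Basic
import Cfsg.Agent.Lib.Helper47.PClosed
import Cfsg.Agent.Lib.Helper84.PResidualAux

/-!
# `σ₁`-fixed `p'`-degree characters of the principal block over `O^p(G)` (helper3, for S4553)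

Let `N = O^p(G)` with `G / N` cyclic and nontrivial, and let `k` describe the Galois automorphism
`σ₁` (raising `p`-power roots of unity to the power `1 + p`, fixing `p'`-roots of unity).

* `detChar_galois`, `detChar_pow`: determinantal characters of Galois twists.
* `exists_fixed_ext`: a `G`-invariant `σ₁`-fixed `θ ∈ Irr(N)` of `p'`-degree has a `σ₁`-fixed
  extension to `G` (the canonical extension, of `p'`-determinantal order).
* `hom_pow_eq`: `ν (g ^ k) = ν g ^ (1 + p)` for the linear characters `ν` of `G / N`.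
* `card_pow_eq_one_of_cyclic`, `card_lin_torsion`: there are exactly `p` linear characters of
  `G / N` with `ν ^ p = 1`.
* `main`: the count of S4553.
-/

set_option autoImplicit false
set_option linter.unusedSectionVars false

namespace Cfsg.Agent.Lib.Helper3.SigmaOne

open Cfsg

universe u

section det

variable {G : Type u} [Group G] [Finite G]

/-- the determinantal character of a Galois twist -/
theorem detChar_galois {χ : G → ℂ} (hχ : IsCharacter G χ) (σ : ℂ →+* ℂ) (g : G) :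
    detChar (fun x => σ (χ x)) g = σ (detChar χ g) := by
  obtain ⟨n, ρ, rfl⟩ := hχ
  have h1 : (fun x => σ (ρ.character x)) = (Helper81.galoisTwist σ ρ).character := by
    funext x
    rw [Helper81.galoisTwist_character]
  rw [h1, Helper15.detChar_eq_det, Helper15.detChar_eq_det, Helper81.galoisTwist_apply,
    LinearMap.det_toLin', ← RingHom.mapMatrix_apply, ← RingHom.map_det, LinearMap.det_toMatrix']

/-- the determinantal character of `g ↦ χ (g ^ k)` -/
theorem detChar_pow {χ : G → ℂ} (hχ : IsCharacter G χ) (k : ℕ) (hk : k.Coprime (Nat.card G))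
    (g : G) : detChar (fun x => χ (x ^ k)) g = detChar χ g ^ k := by
  obtain ⟨σ, hσ1, hσ2⟩ := Helper75.exists_ringEquiv_character_pow (G := G) k hk
  have h1 : (fun x => χ (x ^ k)) = fun x => (σ : ℂ →+* ℂ) (χ x) := by
    funext x
    exact (hσ2 χ hχ x).symm
  rw [h1, detChar_galois hχ]
  obtain ⟨δ, hδ⟩ := Helper15.exists_detHom hχ
  show σ (detChar χ g) = _
  apply hσ1
  rw [hδ, ← Units.val_pow_eq_pow_val, ← map_pow, pow_card_eq_one', map_one, Units.val_one]

theorem detOrder_pow_dvd {χ : G → ℂ} (hχ : IsCharacter G χ) (k : ℕ)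
    (hk : k.Coprime (Nat.card G)) : detOrder (fun x => χ (x ^ k)) ∣ detOrder χ := by
  unfold detOrder
  have h1 : detChar (fun x => χ (x ^ k)) = detChar χ ^ k := by
    funext g
    rw [detChar_pow hχ k hk, Pi.pow_apply]
  rw [h1]
  exact orderOf_pow_dvd k

end det

section kprops

variable {G : Type u} [Group G] [Finite G] (p : ℕ) [hp : Fact p.Prime] (k : ℕ)

include hp in
theorem coprime_of_pow_conditions
    (hk₁ : ∀ g : G, (∃ j : ℕ, orderOf g = p ^ j) → g ^ k = g ^ (1 + p))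
    (hk₂ : ∀ g : G, Nat.Coprime (orderOf g) p → g ^ k = g) : k.Coprime (Nat.card G) := by
  by_contra hcon
  obtain ⟨q, hq, hqk, hqG⟩ := Nat.Prime.not_coprime_iff_dvd.mp hcon
  have : Fact q.Prime := ⟨hq⟩
  obtain ⟨h, hh⟩ := exists_prime_orderOf_dvd_card' q hqG
  have h1 : h ^ k = 1 := orderOf_dvd_iff_pow_eq_one.mp (hh ▸ hqk)
  have hne : h ≠ 1 := by
    intro h1'
    rw [h1', orderOf_one] at hh
    exact hq.one_lt.ne hh
  rcases eq_or_ne q p with h2 | h2
  · have h3 := hk₁ h ⟨1, by rw [hh, h2, pow_one]⟩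
    have h4 : h ^ p = 1 := by rw [← h2, ← hh]; exact pow_orderOf_eq_one h
    rw [h1, pow_add, pow_one, h4, mul_one] at h3
    exact hne h3.symm
  · have h3 := hk₂ h (by rw [hh]; exact (Nat.coprime_primes hq hp.out).mpr h2)
    rw [h1] at h3
    exact hne h3.symm

include hp in
/-- linear characters trivial on `O^p(G)` are raised to the power `1 + p` by `σ₁` -/
theorem hom_pow_eq (hk₁ : ∀ g : G, (∃ j : ℕ, orderOf g = p ^ j) → g ^ k = g ^ (1 + p))
    (ν : G →* ℂˣ) (hν : pResidual p G ≤ ν.ker) (g : G) : ν (g ^ k) = ν g ^ (1 + p) := by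
  obtain ⟨j, t, ht, hjt⟩ :=
    Nat.exists_eq_pow_mul_and_not_dvd (orderOf_pos g).ne' p hp.out.ne_one
  have hpj0 : p ^ j ≠ 0 := pow_ne_zero _ hp.out.ne_zero
  have ht0 : t ≠ 0 := by
    rintro rfl
    exact ht (dvd_zero p)
  have h1 : orderOf (g ^ (p ^ j)) = t := by
    rw [orderOf_pow_of_dvd hpj0 ⟨t, hjt⟩, hjt, Nat.mul_div_cancel_left _ (Nat.pos_of_ne_zero hpj0)]
  have h2 : g ^ (p ^ j) ∈ pResidual p G := by
    apply Subgroup.subset_closure
    show Nat.Coprime (orderOf (g ^ (p ^ j))) p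
    rw [h1]
    exact ((Nat.Prime.coprime_iff_not_dvd hp.out).mpr ht).symm
  have h3 : ν g ^ (p ^ j) = 1 := by
    rw [← map_pow]
    exact MonoidHom.mem_ker.mp (hν h2)
  have h4 : orderOf (g ^ t) = p ^ j := by
    rw [orderOf_pow_of_dvd ht0 ⟨p ^ j, by rw [hjt, mul_comm]⟩, hjt,
      Nat.mul_div_cancel _ (Nat.pos_of_ne_zero ht0)]
  have h5 := hk₁ (g ^ t) ⟨j, h4⟩
  have h6 : ν g ^ (t * k) = ν g ^ (t * (1 + p)) := by
    rw [← map_pow, ← map_pow, pow_mul, pow_mul, h5]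
  rw [pow_eq_pow_iff_modEq] at h6
  have h7 : orderOf (ν g) ∣ p ^ j := orderOf_dvd_of_pow_eq_one h3
  have hcop : Nat.Coprime (orderOf (ν g)) t := by
    apply Nat.Coprime.coprime_dvd_left h7
    exact Nat.Coprime.pow_left j ((Nat.Prime.coprime_iff_not_dvd hp.out).mpr ht)
  have h8 : k ≡ 1 + p [MOD orderOf (ν g)] :=
    Nat.ModEq.cancel_left_of_coprime hcop h6
  rw [map_pow]
  exact pow_eq_pow_iff_modEq.mpr h8

end kprops


section ext

variable {G : Type u} [Group G] [Finite G] (p : ℕ) [hp : Fact p.Prime] (N : Subgroup G)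
  [hN : N.Normal]

include hp in
/-- a `G`-invariant `σ₁`-fixed irreducible character of `N` of `p'`-degree has a `σ₁`-fixed
extension to `G` (the one of determinantal order prime to `p`) -/
theorem exists_fixed_ext (hQ : IsPGroup p (G ⧸ N)) (hNres : pResidual p ↥N = ⊤) (k : ℕ)
    (hk : k.Coprime (Nat.card G)) {θ : N → ℂ} (hθ : IsIrrCharacter N θ)
    (hinv : ∀ (g : G) (n : N), θ ⟨g * n * g⁻¹, hN.conj_mem n n.2 g⟩ = θ n)
    (hdeg : ¬ p ∣ charDegree θ) (hfix : ∀ n : N, θ (n ^ k) = θ n) :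
    ∃ χ : G → ℂ, IsIrrCharacter G χ ∧ (∀ n : N, χ n = θ n) ∧ ∀ g : G, χ (g ^ k) = χ g := by
  obtain ⟨χ, hχ, hres, ho⟩ := Helper80.exists_ext_pprime p N hQ hNres hθ hinv hdeg
  refine ⟨χ, hχ, hres, ?_⟩
  have hχc : IsCharacter G χ := Helper78.IsIrrCharacter.isCharacter hχ
  have hχ' : IsIrrCharacter G (fun g => χ (g ^ k)) := Helper75.isIrrCharacter_pow hχ k hk
  have hθ' : IsIrrCharacter N (fun n : N => χ n) := by
    rw [show (fun n : N => χ n) = θ from funext hres]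
    exact hθ
  have hres' : ∀ n : N, (fun g => χ (g ^ k)) n = χ n := by
    intro n
    show χ ((n : G) ^ k) = χ n
    rw [← Subgroup.coe_pow, hres, hfix, hres]
  have hdegχ : ¬ p ∣ charDegree χ := by
    have h1 : charDegree χ = charDegree θ := by
      unfold charDegree
      rw [← hres 1]
      rfl
    rwa [h1]
  have ho' : ¬ p ∣ detOrder (fun g => χ (g ^ k)) := fun h =>
    ho (dvd_trans h (detOrder_pow_dvd hχc k hk))
  have h2 := Helper80.ext_pprime_unique p N hQ hNres hχ hχ' hθ' hres' hdegχ ho ho'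
  intro g
  exact congrFun h2 g

include hp in
/-- a character of `N` invariant under a Sylow `p`-subgroup is `G`-invariant when `G / N` is a
`p`-group -/
theorem invariant_of_sylow (P : Sylow p G) (hQ : IsPGroup p (G ⧸ N)) {θ : N → ℂ}
    (hθ : IsCharacter N θ)
    (hP : ∀ x ∈ (P : Subgroup G), ∀ n : N, θ ⟨x * n * x⁻¹, hN.conj_mem n n.2 x⟩ = θ n)
    (g : G) (n : N) : θ ⟨g * n * g⁻¹, hN.conj_mem n n.2 g⟩ = θ n := by
  have hsup := Helper47.sup_sylow_eq_top_of_isPGroup_quotient N hQ P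
  have hg : g ∈ ((N ⊔ (P : Subgroup G) : Subgroup G) : Set G) := by
    rw [hsup]
    trivial
  rw [Subgroup.normal_mul] at hg
  obtain ⟨y, hy, z, hz, rfl⟩ := Set.mem_mul.mp hg
  have h1 : (⟨y * z * n * (y * z)⁻¹, hN.conj_mem n n.2 (y * z)⟩ : N) =
      ⟨y, hy⟩ * ⟨z * n * z⁻¹, hN.conj_mem n n.2 z⟩ * (⟨y, hy⟩ : N)⁻¹ := by
    apply Subtype.ext
    show y * z * n * (y * z)⁻¹ = y * (z * n * z⁻¹) * y⁻¹
    group
  rw [h1, Helper78.IsCharacter.isClassFunction hθ, hP z hz]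

end ext

section count

variable (p : ℕ) [hp : Fact p.Prime]

include hp in
/-- a nontrivial cyclic `p`-group has exactly `p` solutions of `q ^ p = 1` -/
theorem card_pow_eq_one_of_cyclic {Q : Type*} [Group Q] [Finite Q] [IsCyclic Q]
    (hQ : IsPGroup p Q) (hnt : 1 < Nat.card Q) : Nat.card {q : Q // q ^ p = 1} = p := by
  classical
  have := Fintype.ofFinite Q
  apply le_antisymm
  · have h1 := IsCyclic.card_pow_eq_one_le (α := Q) hp.out.pos
    rw [Nat.card_eq_fintype_card, Fintype.card_subtype]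
    exact h1
  · obtain ⟨n, hn⟩ := IsPGroup.iff_card.mp hQ
    have hn0 : n ≠ 0 := by
      rintro rfl
      rw [pow_zero] at hn
      omega
    have hdvd : p ∣ Nat.card Q := by
      rw [hn]
      exact dvd_pow_self p hn0
    obtain ⟨g, hg⟩ := exists_prime_orderOf_dvd_card' p hdvd
    have h2 : Nat.card (Subgroup.zpowers g) = p := by rw [Nat.card_zpowers, hg]
    have hmem : ∀ x : Subgroup.zpowers g, (x : Q) ^ p = 1 := by
      rintro ⟨x, hx⟩
      obtain ⟨i, rfl⟩ := Subgroup.mem_zpowers_iff.mp hx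
      show (g ^ i) ^ p = 1
      rw [← zpow_natCast, ← zpow_mul, mul_comm, zpow_mul, zpow_natCast, ← hg, pow_orderOf_eq_one,
        one_zpow]
    have h3 := Nat.card_le_card_of_injective
      (fun x : Subgroup.zpowers g => (⟨(x : Q), hmem x⟩ : {q : Q // q ^ p = 1}))
      (by
        intro a b hab
        exact Subtype.ext (congrArg (fun y : {q : Q // q ^ p = 1} => (y : Q)) hab))
    rwa [h2] at h3

variable {G : Type u} [Group G] [Finite G] (N : Subgroup G) [hN : N.Normal]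

include hp in
/-- there are exactly `p` linear characters of the nontrivial cyclic `p`-group `G / N` of order
dividing `p` -/
theorem card_lin_torsion (hcyc : IsCyclic (G ⧸ N)) (hQ : IsPGroup p (G ⧸ N)) (hnt : N ≠ ⊤) :
    Nat.card {ν : G →* ℂˣ // N ≤ ν.ker ∧ ν ^ p = 1} = p := by
  classical
  have hcard : 1 < Nat.card (G ⧸ N) := by
    rw [← Subgroup.index_eq_card]
    have h0 : N.index ≠ 0 := Subgroup.index_ne_zero_of_finite
    have h1 : N.index ≠ 1 := fun h => hnt (Subgroup.index_eq_one.mp h)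
    omega
  let _ : CommGroup (G ⧸ N) := IsCyclic.commGroup
  have : NeZero (Nat.card (G ⧸ N)) := ⟨Nat.card_pos.ne'⟩
  obtain ⟨E⟩ := @IsCyclic.monoidHom_equiv_self (G ⧸ N) ℂ _ _ hcyc _ _
  let e1 : {ν : G →* ℂˣ // N ≤ ν.ker ∧ ν ^ p = 1} ≃ {φ : G ⧸ N →* ℂˣ // φ ^ p = 1} :=
    { toFun := fun ν => ⟨QuotientGroup.lift N ν.1 ν.2.1, by
        apply MonoidHom.ext
        intro q
        obtain ⟨g, rfl⟩ := QuotientGroup.mk_surjective q
        have := congrArg (fun f : G →* ℂˣ => f g) ν.2.2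
        simpa using this⟩
      invFun := fun φ => ⟨φ.1.comp (QuotientGroup.mk' N), by
        constructor
        · intro n hn
          rw [MonoidHom.mem_ker, MonoidHom.comp_apply, QuotientGroup.mk'_apply,
            (QuotientGroup.eq_one_iff n).2 hn, map_one]
        · apply MonoidHom.ext
          intro g
          have := congrArg (fun f : G ⧸ N →* ℂˣ => f (g : G ⧸ N)) φ.2
          simpa using this⟩
      left_inv := fun ν => by
        apply Subtype.ext
        apply MonoidHom.ext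
        intro g
        rfl
      right_inv := fun φ => by
        apply Subtype.ext
        apply MonoidHom.ext
        intro q
        obtain ⟨g, rfl⟩ := QuotientGroup.mk_surjective q
        rfl }
  let e2 : {φ : G ⧸ N →* ℂˣ // φ ^ p = 1} ≃ {q : G ⧸ N // q ^ p = 1} :=
    E.toEquiv.subtypeEquiv (fun φ => by
      show φ ^ p = 1 ↔ (E φ) ^ p = 1
      rw [← map_pow, MulEquiv.map_eq_one_iff])
  rw [Nat.card_congr (e1.trans e2)]
  exact card_pow_eq_one_of_cyclic p hQ hcard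

end count


section main

variable {G : Type u} [Group G] [Finite G] (p : ℕ) [hp : Fact p.Prime] (M : Ideal AlgInt)
  (P : Sylow p G) (N : Subgroup G) [hN : N.Normal]

include hp in
theorem main (hM : IsPModular p M) (hle : pResidual p G ≤ N) (hNN : pResidual p ↥N = ⊤)
    (hcyc : IsCyclic (G ⧸ N)) (hnt : N ≠ ⊤) (k : ℕ)
    (hk₁ : ∀ g : G, (∃ j : ℕ, orderOf g = p ^ j) → g ^ k = g ^ (1 + p))
    (hk₂ : ∀ g : G, Nat.Coprime (orderOf g) p → g ^ k = g) :
    Nat.card {χ : IrrCharacter G // χ ∈ principalBlock M G ∧ ¬ p ∣ charDegree (χ : G → ℂ) ∧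
        ∀ g : G, (χ : G → ℂ) (g ^ k) = (χ : G → ℂ) g} =
      p * Nat.card {θ : IrrCharacter ↥N // θ ∈ principalBlock M ↥N ∧
        ¬ p ∣ charDegree (θ : ↥N → ℂ) ∧
        (∀ x ∈ (P : Subgroup G), ∀ n : ↥N,
          (θ : ↥N → ℂ) ⟨x * n * x⁻¹, hN.conj_mem n n.2 x⟩ = (θ : ↥N → ℂ) n) ∧
        ∀ n : ↥N, (θ : ↥N → ℂ) (n ^ k) = (θ : ↥N → ℂ) n} := by
  classical
  let _ : Fintype G := Fintype.ofFinite G
  let _ : Fintype N := Fintype.ofFinite N
  have hQ : IsPGroup p (G ⧸ N) := Helper47.isPGroup_quotient_pResidual p G N hle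
  have hk : k.Coprime (Nat.card G) := coprime_of_pow_conditions p k hk₁ hk₂
  obtain ⟨a, ha⟩ := Helper80.index_eq_pow_of_isPGroup_quotient p N hQ
  -- canonical extensions
  have hext : ∀ θ : {θ : IrrCharacter ↥N // θ ∈ principalBlock M ↥N ∧
        ¬ p ∣ charDegree (θ : ↥N → ℂ) ∧
        (∀ x ∈ (P : Subgroup G), ∀ n : ↥N,
          (θ : ↥N → ℂ) ⟨x * n * x⁻¹, hN.conj_mem n n.2 x⟩ = (θ : ↥N → ℂ) n) ∧
        ∀ n : ↥N, (θ : ↥N → ℂ) (n ^ k) = (θ : ↥N → ℂ) n},
      ∃ χ : G → ℂ, IsIrrCharacter G χ ∧ (∀ n : N, χ n = (θ.1 : N → ℂ) n) ∧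
        ∀ g : G, χ (g ^ k) = χ g := fun θ =>
    exists_fixed_ext p N hQ hNN k hk θ.1.2
      (invariant_of_sylow p N P hQ (Helper78.IsIrrCharacter.isCharacter θ.1.2) θ.2.2.2.1)
      θ.2.2.1 θ.2.2.2.2
  choose e he_irr he_res he_fix using hext
  -- the restriction of an extension is irreducible
  have he_resirr : ∀ θ, IsIrrCharacter N (fun n : N => e θ n) := by
    intro θ
    rw [show (fun n : N => e θ n) = (θ.1 : N → ℂ) from funext (he_res θ)]
    exact θ.1.2
  -- the twisted extensions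
  have hirr : ∀ θ (ν : G →* ℂˣ), IsIrrCharacter G (fun g => ((ν g : ℂˣ) : ℂ) * e θ g) :=
    fun θ ν => Helper81.isIrrCharacter_monoidHom_mul ν (he_irr θ)
  have hresν : ∀ θ (ν : G →* ℂˣ), N ≤ ν.ker → ∀ n : N,
      ((ν n : ℂˣ) : ℂ) * e θ n = (θ.1 : N → ℂ) n := by
    intro θ ν hν n
    rw [MonoidHom.mem_ker.mp (hν n.2), Units.val_one, one_mul, he_res]
  have hmem : ∀ θ (ν : G →* ℂˣ), N ≤ ν.ker →
      (⟨fun g => ((ν g : ℂˣ) : ℂ) * e θ g, hirr θ ν⟩ : IrrCharacter G) ∈ principalBlock M G := by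
    intro θ ν hν
    have h1 : classInner (fun n : N => ((PrincipalLin.triv G : IrrCharacter G) : G → ℂ) n)
        (Helper16.oneIrr N : N → ℂ) ≠ 0 :=
      Helper16.classInner_res_oneIrr_ne_zero N (PrincipalLin.triv G) (fun n _ => rfl)
    have h2 : classInner (fun n : N =>
        ((⟨fun g => ((ν g : ℂˣ) : ℂ) * e θ g, hirr θ ν⟩ : IrrCharacter G) : G → ℂ) n)
        (θ.1 : N → ℂ) ≠ 0 := by
      have h3 : (fun n : N =>
          ((⟨fun g => ((ν g : ℂˣ) : ℂ) * e θ g, hirr θ ν⟩ : IrrCharacter G) : G → ℂ) n) =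
          (θ.1 : N → ℂ) := funext (hresν θ ν hν)
      rw [h3, Helper78.classInner_irr_self θ.1.2]
      exact one_ne_zero
    have h4 : SameBlock M (Helper16.oneIrr N : N → ℂ) (θ.1 : N → ℂ) := θ.2.1
    exact Helper16.sameBlock_of_constituents_sameBlock N hM ha h1 h2 h4
  have hdeg : ∀ θ (ν : G →* ℂˣ),
      charDegree (fun g => ((ν g : ℂˣ) : ℂ) * e θ g) = charDegree (θ.1 : N → ℂ) := by
    intro θ ν
    show ⌊(((ν 1 : ℂˣ) : ℂ) * e θ 1).re⌋₊ = ⌊((θ.1 : N → ℂ) 1).re⌋₊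
    rw [map_one, Units.val_one, one_mul, ← he_res θ 1]
    rfl
  have hfixν : ∀ θ (ν : G →* ℂˣ), N ≤ ν.ker → ν ^ p = 1 → ∀ g : G,
      ((ν (g ^ k) : ℂˣ) : ℂ) * e θ (g ^ k) = ((ν g : ℂˣ) : ℂ) * e θ g := by
    intro θ ν hν hνp g
    rw [hom_pow_eq p k hk₁ ν (hle.trans hν) g, he_fix, pow_add, pow_one]
    have h1 : ν g ^ p = 1 := by
      have := congrArg (fun f : G →* ℂˣ => f g) hνp
      simpa using this
    rw [h1, mul_one]
  -- the bijection
  let Φ : {θ : IrrCharacter ↥N // θ ∈ principalBlock M ↥N ∧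
        ¬ p ∣ charDegree (θ : ↥N → ℂ) ∧
        (∀ x ∈ (P : Subgroup G), ∀ n : ↥N,
          (θ : ↥N → ℂ) ⟨x * n * x⁻¹, hN.conj_mem n n.2 x⟩ = (θ : ↥N → ℂ) n) ∧
        ∀ n : ↥N, (θ : ↥N → ℂ) (n ^ k) = (θ : ↥N → ℂ) n} ×
      {ν : G →* ℂˣ // N ≤ ν.ker ∧ ν ^ p = 1} →
      {χ : IrrCharacter G // χ ∈ principalBlock M G ∧ ¬ p ∣ charDegree (χ : G → ℂ) ∧
        ∀ g : G, (χ : G → ℂ) (g ^ k) = (χ : G → ℂ) g} := fun x =>
    ⟨⟨fun g => ((x.2.1 g : ℂˣ) : ℂ) * e x.1 g, hirr x.1 x.2.1⟩, hmem x.1 x.2.1 x.2.2.1, by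
      show ¬ p ∣ charDegree (fun g => ((x.2.1 g : ℂˣ) : ℂ) * e x.1 g)
      rw [hdeg]
      exact x.1.2.2.1, hfixν x.1 x.2.1 x.2.2.1 x.2.2.2⟩
  have hΦ : ∀ x g, ((Φ x).1 : G → ℂ) g = ((x.2.1 g : ℂˣ) : ℂ) * e x.1 g := fun x g => rfl
  have hinj : Function.Injective Φ := by
    rintro ⟨θ, ν⟩ ⟨θ', ν'⟩ h
    have hfun : ∀ g, ((ν.1 g : ℂˣ) : ℂ) * e θ g = ((ν'.1 g : ℂˣ) : ℂ) * e θ' g := by
      intro g
      have := congrArg (fun y => ((y.1 : IrrCharacter G) : G → ℂ) g) h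
      simpa only [hΦ] using this
    have hθ : θ = θ' := by
      apply Subtype.ext
      apply Subtype.ext
      funext n
      rw [← hresν θ ν.1 ν.2.1 n, ← hresν θ' ν'.1 ν'.2.1 n]
      exact hfun n
    subst hθ
    have hν : ν.1 * ν'.1⁻¹ = 1 := by
      apply Helper81.monoidHom_eq_one_of_mul_eq N.subtype (he_irr θ) (he_resirr θ)
      · intro n
        rw [MonoidHom.mul_apply, MonoidHom.inv_apply, Subgroup.coe_subtype,
          MonoidHom.mem_ker.mp (ν.2.1 n.2), MonoidHom.mem_ker.mp (ν'.2.1 n.2), inv_one, one_mul]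
      · intro g
        rw [MonoidHom.mul_apply, MonoidHom.inv_apply, mul_comm (ν.1 g), Units.val_mul, mul_assoc,
          hfun g, ← mul_assoc, ← Units.val_mul, inv_mul_cancel, Units.val_one, one_mul]
    have hν' : ν.1 = ν'.1 := mul_inv_eq_one.mp hν
    exact Prod.ext rfl (Subtype.ext hν')
  have hsurj : Function.Surjective Φ := by
    rintro ⟨χ, hχB, hχdeg, hχfix⟩
    have hχc : IsCharacter G (χ : G → ℂ) := Helper78.IsIrrCharacter.isCharacter χ.2
    have hθirr : IsIrrCharacter N (fun n : N => (χ : G → ℂ) n) :=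
      Helper80.res_irr_of_not_dvd p N hQ hNN χ.2 hχdeg
    have hθB : (⟨fun n : N => (χ : G → ℂ) n, hθirr⟩ : IrrCharacter N) ∈ principalBlock M N := by
      apply Helper75.constituent_mem_principalBlock N hM hχB
      show classInner (fun n : N => (χ : G → ℂ) n) (fun n : N => (χ : G → ℂ) n) ≠ 0
      rw [Helper78.classInner_irr_self hθirr]
      exact one_ne_zero
    let θ : {θ : IrrCharacter ↥N // θ ∈ principalBlock M ↥N ∧
        ¬ p ∣ charDegree (θ : ↥N → ℂ) ∧
        (∀ x ∈ (P : Subgroup G), ∀ n : ↥N,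
          (θ : ↥N → ℂ) ⟨x * n * x⁻¹, hN.conj_mem n n.2 x⟩ = (θ : ↥N → ℂ) n) ∧
        ∀ n : ↥N, (θ : ↥N → ℂ) (n ^ k) = (θ : ↥N → ℂ) n} :=
      ⟨⟨fun n : N => (χ : G → ℂ) n, hθirr⟩, hθB, hχdeg,
        fun x _ n => Helper78.IsCharacter.isClassFunction hχc n x,
        fun n => hχfix n⟩
    obtain ⟨ν, hνN, hν⟩ := RealExt.exists_hom_of_extensions N (he_irr θ) χ.2 (he_resirr θ)
      (fun n => (he_res θ n).symm)
    have hνp : ν ^ p = 1 := by
      apply Helper81.monoidHom_eq_one_of_mul_eq N.subtype χ.2 hθirr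
      · intro n
        rw [MonoidHom.pow_apply, Subgroup.coe_subtype, MonoidHom.mem_ker.mp (hνN n.2), one_pow]
      · intro g
        have h1 := hχfix g
        rw [hν (g ^ k), hom_pow_eq p k hk₁ ν (hle.trans hνN) g, he_fix, pow_add, pow_one,
          Units.val_mul, mul_assoc, mul_left_comm, ← hν g] at h1
        rw [MonoidHom.pow_apply]
        exact h1
    refine ⟨(θ, ⟨ν, hνN, hνp⟩), ?_⟩
    apply Subtype.ext
    apply Subtype.ext
    funext g
    rw [hΦ]
    exact (hν g).symm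
  rw [← Nat.card_congr (Equiv.ofBijective Φ ⟨hinj, hsurj⟩), Nat.card_prod,
    card_lin_torsion p N hcyc hQ hnt, mul_comm]

end main

end Cfsg.Agent.Lib.Helper3.SigmaOne
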