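import Mathlib
import Cfsg.Agent.Lib.Helper9.SmallOrderSieveA
import Cfsg.Agent.Lib.Helper72.Simple5400Defs
import Cfsg.Agent.Lib.Helper23.Simple5400M1
import Cfsg.Agent.Lib.Helper23.Simple5400M3a
import Cfsg.Agent.Lib.Helper23.Simple5400M3b

/-! S0983 module [5400-M2] (helper3): Sylow 5-subgroups through an intersection subgroup. -/

set_option autoImplicit false
set_option linter.unusedSectionVars false
set_option linter.unusedVariables false

namespace Cfsg.Agent.Lib.Helper3.Simple5400

open Subgroup Cfsg.Agent.Lib.Helper17 Cfsg.Agent.Lib.Helper9.Sieve Cfsg.Agent.Lib.Helper72.Simple5400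
open Cfsg.Agent.Lib.Helper23.Simple5400

variable {G : Type*} [Group G] [Finite G] [IsSimpleGroup G]

attribute [local instance] fact5

/-- the normalizer of an intersection subgroup is proper -/
theorem normalizer_inter_ne_top (h : Nat.card G = 5400) (D : Subgroup G) (hD : IsInter D) :
    normalizer (D : Set G) ≠ ⊤ := by
  intro htop
  have hn : D.Normal := normalizer_eq_top_iff.mp htop
  rcases hn.eq_bot_or_eq_top with h1 | h1
  · have := hD.1
    rw [h1] at this
    simp at this
  · have := hD.1
    rw [h1, Subgroup.card_top, h] at this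
    omega

/-- a Sylow 5-subgroup containing `D` normalizes `D` -/
theorem le_normalizer_of_le (h : Nat.card G = 5400) (D : Subgroup G) (Q : Sylow 5 G)
    (hDQ : D ≤ (Q : Subgroup G)) : (Q : Subgroup G) ≤ normalizer (D : Set G) := by
  intro q hq
  rw [mem_normalizer_iff]
  intro d
  have key : ∀ d ∈ D, q * d * q⁻¹ = d := by
    intro d hd
    have := sylow5_comm h Q q hq d (hDQ hd)
    rw [this]; group
  constructor
  · intro hd
    rw [key d hd]; exact hd
  · intro hd
    have := key _ hd
    have h5 : q * d * q⁻¹ = d := mul_left_cancel (mul_right_cancel this)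
    rw [← h5]; exact hd

/-- a Sylow 5-subgroup inside `N(D)` contains `D` -/
theorem le_of_le_normalizer (D : Subgroup G) (hD : Nat.card D = 5) (Q : Sylow 5 G)
    (hQ : (Q : Subgroup G) ≤ normalizer (D : Set G)) : D ≤ (Q : Subgroup G) := by
  have hDp : IsPGroup 5 D := IsPGroup.of_card (n := 1) (by rw [hD]; norm_num)
  have h1 : IsPGroup 5 (D ⊔ (Q : Subgroup G) : Subgroup G) :=
    IsPGroup.to_sup_of_normal_left' hDp Q.isPGroup' hQ
  have h2 := Q.is_maximal' h1 le_sup_right
  rw [← h2]
  exact le_sup_left

/-- cardinality of `A.subgroupOf K` -/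
theorem card_subgroupOf_eq_card_inf (A K : Subgroup G) :
    Nat.card (A.subgroupOf K) = Nat.card (A ⊓ K : Subgroup G) := by
  rw [← subgroupOf_map_subtype A K]
  exact (card_map_of_injective K.subtype_injective).symm

/-- all Sylow 5-subgroups of `N(D)` have order 25 when some Sylow 5-subgroup of `G` contains `D` -/
theorem card_sylow_normalizer (h : Nat.card G = 5400) (D : Subgroup G) (P : Sylow 5 G)
    (hDP : D ≤ (P : Subgroup G)) (Q' : Sylow 5 (normalizer (D : Set G))) :
    Nat.card (Q' : Subgroup (normalizer (D : Set G))) = 25 := by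
  have hP := le_normalizer_of_le h D P hDP
  have h1 : Nat.card (P.subtype hP : Subgroup (normalizer (D : Set G))) = 25 := by
    rw [Sylow.coe_subtype, card_subgroupOf_eq_card_inf, inf_of_le_left hP]
    exact card_sylow5 h P
  rw [Sylow.card_eq_multiplicity] at h1 ⊢
  exact h1

/-- the bijection between the Sylow 5-subgroups of `G` containing `D` and those of `N(D)` -/
theorem card_sylow_containing_eq (h : Nat.card G = 5400) (D : Subgroup G) (hD5 : Nat.card D = 5)
    (P : Sylow 5 G) (hDP : D ≤ (P : Subgroup G)) :
    Nat.card {Q : Sylow 5 G // D ≤ (Q : Subgroup G)} = Nat.card (Sylow 5 (normalizer (D : Set G))) := by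
  apply Nat.card_eq_of_bijective
    (fun Q : {Q : Sylow 5 G // D ≤ (Q : Subgroup G)} =>
      (Q.1.subtype (le_normalizer_of_le h D Q.1 Q.2) : Sylow 5 (normalizer (D : Set G))))
  constructor
  · rintro ⟨Q1, h1⟩ ⟨Q2, h2⟩ h12
    exact Subtype.ext (Sylow.subtype_injective h12)
  · intro Q'
    have hc := card_sylow_normalizer h D P hDP Q'
    have hK : Nat.card ((Q' : Subgroup (normalizer (D : Set G))).map (normalizer (D : Set G)).subtype)
        = 5 ^ (Nat.card G).factorization 5 := by
      rw [← P.card_eq_multiplicity, card_sylow5 h P,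
        card_map_of_injective (normalizer (D : Set G)).subtype_injective]
      exact hc
    have hle : ((Sylow.ofCard _ hK : Sylow 5 G) : Subgroup G) ≤ normalizer (D : Set G) := by
      rw [Sylow.coe_ofCard]; exact map_subtype_le _
    refine ⟨⟨Sylow.ofCard _ hK, le_of_le_normalizer D hD5 _ hle⟩, ?_⟩
    apply Sylow.ext
    simp only [Sylow.coe_subtype, Sylow.coe_ofCard]
    exact comap_map_eq_self_of_injective (normalizer (D : Set G)).subtype_injective _

theorem card_sylow_containing (h : Nat.card G = 5400) (D : Subgroup G) (hD : IsInter D) :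
    Nat.card {Q : Sylow 5 G // D ≤ (Q : Subgroup G)} = 6 := by
  obtain ⟨hD5, P, R, hPR, hDP, hDR⟩ := hD
  have hne := normalizer_inter_ne_top h D ⟨hD5, P, R, hPR, hDP, hDR⟩
  have hidx := index_ge_ten h _ hne
  have hP := le_normalizer_of_le h D P hDP
  -- k ≥ 2
  have h2 : 2 ≤ Nat.card {Q : Sylow 5 G // D ≤ (Q : Subgroup G)} := by
    by_contra hlt
    have h1 : Nat.card {Q : Sylow 5 G // D ≤ (Q : Subgroup G)} ≤ 1 := by omega
    have := (Finite.card_le_one_iff_subsingleton).mp h1
    have h3 : (⟨P, hDP⟩ : {Q : Sylow 5 G // D ≤ (Q : Subgroup G)}) = ⟨R, hDR⟩ := Subsingleton.elim _ _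
    exact hPR (congrArg Subtype.val h3)
  rw [card_sylow_containing_eq h D hD5 P hDP] at h2 ⊢
  have hmod : Nat.card (Sylow 5 (normalizer (D : Set G))) % 5 = 1 := by
    have := card_sylow_modEq_one 5 (normalizer (D : Set G))
    unfold Nat.ModEq at this
    simpa using this
  have hdvd := (P.subtype hP).card_dvd_index
  have hc := card_sylow_normalizer h D P hDP (P.subtype hP)
  have h3 := ((P.subtype hP : Sylow 5 (normalizer (D : Set G))) :
    Subgroup (normalizer (D : Set G))).card_mul_index
  rw [hc] at h3
  have h4 := (normalizer (D : Set G)).card_mul_index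
  rw [h] at h4
  obtain ⟨c, hc'⟩ := hdvd
  set k := Nat.card (Sylow 5 (normalizer (D : Set G))) with hk
  set i := (normalizer (D : Set G)).index with hi
  set m := Nat.card (normalizer (D : Set G)) with hm
  -- 25 * (k * c) = m, m * i = 5400, i ≥ 10
  have h5 : 25 * (k * c) * i = 5400 := by rw [← hc', h3]; exact h4
  have hk21 : k ≤ 21 := by
    by_contra hgt
    have : 22 ≤ k := by omega
    have hc1 : 1 ≤ c := by
      rcases Nat.eq_zero_or_pos c with h0 | h0
      · rw [h0] at h5; simp at h5
      · exact h0
    nlinarith [Nat.mul_le_mul this hc1, Nat.mul_le_mul (Nat.mul_le_mul this hc1) hidx]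
  have hk216 : k ∣ 216 := by
    have : 25 * (k * (c * i)) = 25 * 216 := by linarith
    have h6 := Nat.eq_of_mul_eq_mul_left (by norm_num) this
    exact Dvd.intro _ h6
  clear_value k
  interval_cases k <;> first | omega | (exfalso; revert hk216; decide)

theorem card_normalizer_inter (h : Nat.card G = 5400) (D : Subgroup G) (hD : IsInter D) (P : Sylow 5 G)
    (hDP : D ≤ (P : Subgroup G)) :
    Nat.card (normalizer (D : Set G)) =
      6 * Nat.card ↥(normalizer (D : Set G) ⊓ normalizer ((P : Subgroup G) : Set G)) := by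
  have hP := le_normalizer_of_le h D P hDP
  have h6 := card_sylow_containing h D hD
  rw [card_sylow_containing_eq h D hD.1 P hDP, (P.subtype hP).card_eq_index_normalizer] at h6
  have h6' : (normalizer (((P.subtype hP : Sylow 5 (normalizer (D : Set G))) :
    Subgroup (normalizer (D : Set G))) : Set (normalizer (D : Set G)))).index = 6 := h6
  have h1 := (normalizer (((P.subtype hP : Sylow 5 (normalizer (D : Set G))) :
    Subgroup (normalizer (D : Set G))) : Set (normalizer (D : Set G)))).card_mul_index
  rw [h6'] at h1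
  rw [← h1, Sylow.coe_subtype, ← subgroupOf_normalizer_eq hP, card_subgroupOf_eq_card_inf,
    inf_comm, mul_comm]

end Cfsg.Agent.Lib.Helper3.Simple5400
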