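import Mathlib
import Cfsg.Agent.Lib.Helper9.SmallOrderSieveA
import Cfsg.Agent.Lib.Helper72.Simple5400Defs
import Cfsg.Agent.Lib.Helper23.Simple5400M1
import Cfsg.Agent.Lib.Helper23.Simple5400M3a
import Cfsg.Agent.Lib.Helper23.Simple5400M3b
import Cfsg.Agent.Lib.Helper3.Simple5400M2

/-! S0983 module [5400-M3c] (helper3): a Sylow 5-subgroup contains exactly two intersection subgroups. -/

set_option autoImplicit false
set_option linter.unusedSectionVars false
set_option linter.unusedVariables false

namespace Cfsg.Agent.Lib.Helper3.Simple5400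

open Subgroup Cfsg.Agent.Lib.Helper17 Cfsg.Agent.Lib.Helper9.Sieve Cfsg.Agent.Lib.Helper72.Simple5400
open Cfsg.Agent.Lib.Helper23.Simple5400

variable {G : Type*} [Group G] [Finite G] [IsSimpleGroup G]

attribute [local instance] fact5

/-- distinct Sylow 5-subgroups meeting nontrivially meet in a subgroup of order 5 -/
theorem card_inf_sylow (h : Nat.card G = 5400) (P R : Sylow 5 G) (hRP : R ≠ P)
    (hne : (P : Subgroup G) ⊓ (R : Subgroup G) ≠ ⊥) :
    Nat.card ((P : Subgroup G) ⊓ (R : Subgroup G) : Subgroup G) = 5 := by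
  have hP := card_sylow5 h P
  have hR := card_sylow5 h R
  have h1 : Nat.card ((P : Subgroup G) ⊓ (R : Subgroup G) : Subgroup G) ∣ 25 := by
    rw [← hP]; exact card_dvd_of_le inf_le_left
  have h2 : Nat.card ((P : Subgroup G) ⊓ (R : Subgroup G) : Subgroup G) ≠ 1 := by
    intro h1; exact hne (card_eq_one.mp h1)
  have h3 : Nat.card ((P : Subgroup G) ⊓ (R : Subgroup G) : Subgroup G) ≠ 25 := by
    intro h25
    have h4 : (P : Subgroup G) ⊓ (R : Subgroup G) = (P : Subgroup G) :=
      eq_of_le_of_card_ge inf_le_left (by rw [h25, hP])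
    have h5 : (P : Subgroup G) ≤ (R : Subgroup G) := by rw [← h4]; exact inf_le_right
    have h6 : (P : Subgroup G) = (R : Subgroup G) := eq_of_le_of_card_ge h5 (by rw [hP, hR])
    exact hRP (Sylow.ext h6.symm)
  have h4 : Nat.card ((P : Subgroup G) ⊓ (R : Subgroup G) : Subgroup G) ≤ 25 :=
    Nat.le_of_dvd (by norm_num) h1
  generalize Nat.card ((P : Subgroup G) ⊓ (R : Subgroup G) : Subgroup G) = k at *
  interval_cases k <;> first | omega | (exfalso; revert h1; decide)

/-- a subgroup of order 5 in two distinct Sylow 5-subgroups is their intersection -/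
theorem inf_eq_of_le (h : Nat.card G = 5400) (P R : Sylow 5 G) (hRP : R ≠ P) (D : Subgroup G)
    (hD : Nat.card D = 5) (hDP : D ≤ (P : Subgroup G)) (hDR : D ≤ (R : Subgroup G)) :
    (P : Subgroup G) ⊓ (R : Subgroup G) = D := by
  have hle : D ≤ (P : Subgroup G) ⊓ (R : Subgroup G) := le_inf hDP hDR
  have hne : (P : Subgroup G) ⊓ (R : Subgroup G) ≠ ⊥ := by
    intro hbot
    rw [hbot, le_bot_iff] at hle
    rw [hle] at hD
    simp at hD
  have h5 := card_inf_sylow h P R hRP hne
  exact (eq_of_le_of_card_ge hle (by rw [h5, hD])).symm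

theorem card_inter_in_sylow (h : Nat.card G = 5400) (P : Sylow 5 G) :
    Nat.card {D : Subgroup G // IsInter D ∧ D ≤ (P : Subgroup G)} = 2 := by
  classical
  haveI : Fintype (Sylow 5 G) := Fintype.ofFinite _
  haveI : Fintype (Subgroup G) := Fintype.ofFinite _
  have hP25 := card_sylow5 h P
  set U : Finset (Sylow 5 G) := Finset.univ with hUdef
  set B := U.filter (fun R : Sylow 5 G => (P : Subgroup G) ⊓ (R : Subgroup G) = ⊥) with hBdef
  set C := U.filter (fun R : Sylow 5 G => R ≠ P ∧ (P : Subgroup G) ⊓ (R : Subgroup G) ≠ ⊥) with hCdef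
  set 𝒟 := (Finset.univ : Finset (Subgroup G)).filter
    (fun D => IsInter D ∧ D ≤ (P : Subgroup G)) with hDdef
  have hU : U.card = 36 := by
    rw [hUdef, Finset.card_univ, ← Nat.card_eq_fintype_card]; exact card_sylow_five h
  have hPbot : (P : Subgroup G) ≠ ⊥ := by
    intro hb
    rw [hb] at hP25
    simp at hP25
  have h1 : (U.erase P).card = 35 := by
    rw [Finset.card_erase_of_mem (Finset.mem_univ _), hU]
  have h2 : U.erase P = B ∪ C := by
    ext R
    simp only [hUdef, hBdef, hCdef, Finset.mem_erase, Finset.mem_univ, and_true, Finset.mem_union,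
      Finset.mem_filter, true_and]
    constructor
    · intro hRP
      by_cases hb : (P : Subgroup G) ⊓ (R : Subgroup G) = ⊥
      · exact Or.inl hb
      · exact Or.inr ⟨hRP, hb⟩
    · rintro (hb | ⟨hRP, -⟩)
      · intro hRP
        rw [hRP, inf_idem] at hb
        exact hPbot hb
      · exact hRP
  have h3 : Disjoint B C := by
    rw [hBdef, hCdef, Finset.disjoint_filter]
    intro R _ h1 h2
    exact h2.2 h1
  have hsplit : B.card + C.card = 35 := by
    rw [← Finset.card_union_of_disjoint h3, ← h2, h1]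
  have hB : 25 ∣ B.card := by
    have := dvd_card_disjoint P hP25
    rw [Nat.card_eq_fintype_card, Fintype.card_subtype] at this
    convert this
  have hfib : ∀ D ∈ 𝒟, (C.filter (fun R : Sylow 5 G => (P : Subgroup G) ⊓ (R : Subgroup G) = D)).card = 5 := by
    intro D hD
    rw [hDdef, Finset.mem_filter] at hD
    obtain ⟨-, hDI, hDP⟩ := hD
    have h6 := card_sylow_containing h D hDI
    rw [Nat.card_eq_fintype_card, Fintype.card_subtype] at h6
    have h7 : C.filter (fun R : Sylow 5 G => (P : Subgroup G) ⊓ (R : Subgroup G) = D) =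
        (Finset.univ.filter (fun Q : Sylow 5 G => D ≤ (Q : Subgroup G))).erase P := by
      ext R
      simp only [hCdef, hUdef, Finset.mem_filter, Finset.mem_univ, true_and, Finset.mem_erase]
      constructor
      · rintro ⟨⟨hRP, -⟩, hinf⟩
        exact ⟨hRP, by rw [← hinf]; exact inf_le_right⟩
      · rintro ⟨hRP, hDR⟩
        have hinf := inf_eq_of_le h P R hRP D hDI.1 hDP hDR
        refine ⟨⟨hRP, ?_⟩, hinf⟩
        rw [hinf]
        intro hb
        have := hDI.1
        rw [hb] at this
        simp at this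
    rw [h7, Finset.card_erase_of_mem (by simp [hDP])]
    have : (Finset.univ.filter (fun Q : Sylow 5 G => D ≤ (Q : Subgroup G))).card = 6 := by
      convert h6
    rw [this]
  have hC : C.card = 𝒟.card * 5 := by
    have hmaps : (C : Set (Sylow 5 G)).MapsTo
        (fun R : Sylow 5 G => (P : Subgroup G) ⊓ (R : Subgroup G)) 𝒟 := by
      intro R hR
      simp only [hCdef, hUdef, Finset.coe_filter, Finset.mem_univ, true_and, Set.mem_setOf_eq] at hR
      simp only [hDdef, Finset.coe_filter, Finset.mem_univ, true_and, Set.mem_setOf_eq]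
      exact ⟨⟨card_inf_sylow h P R hR.1 hR.2, P, R, fun e => hR.1 e.symm, inf_le_left, inf_le_right⟩,
        inf_le_left⟩
    rw [Finset.card_eq_sum_card_fiberwise hmaps]
    exact Finset.sum_const_nat hfib
  have hD6 : 𝒟.card ≤ 6 := by
    have h6 := card_order_five_le P hP25
    rw [Nat.card_eq_fintype_card, Fintype.card_subtype] at h6
    refine le_trans (Finset.card_le_card ?_) h6
    intro D hD
    simp only [hDdef, Finset.mem_filter, Finset.mem_univ, true_and] at hD ⊢
    exact ⟨hD.1.1, hD.2⟩
  have hfinal : Nat.card {D : Subgroup G // IsInter D ∧ D ≤ (P : Subgroup G)} = 𝒟.card := by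
    rw [Nat.card_eq_fintype_card, Fintype.card_subtype]
  rw [hfinal]
  obtain ⟨c, hc⟩ := hB
  omega

end Cfsg.Agent.Lib.Helper3.Simple5400
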