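import Mathlib
import Cfsg.Agent.Lib.Helper9.SmallOrderSieveA
import Cfsg.Agent.Lib.Helper72.Simple5400Defs
import Cfsg.Agent.Lib.Helper23.Simple5400M1
import Cfsg.Agent.Lib.Helper23.Simple5400M3a
import Cfsg.Agent.Lib.Helper23.Simple5400M3b
import Cfsg.Agent.Lib.Helper3.Simple5400M2
import Cfsg.Agent.Lib.Helper3.Simple5400M3c

/-! S0983 module [5400-M4] (helper3): there is no simple group of order 5400. -/

set_option autoImplicit false
set_option linter.unusedSectionVars false
set_option linter.unusedVariables false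

namespace Cfsg.Agent.Lib.Helper3.Simple5400

open Subgroup Cfsg.Agent.Lib.Helper17 Cfsg.Agent.Lib.Helper9.Sieve Cfsg.Agent.Lib.Helper72.Simple5400
open Cfsg.Agent.Lib.Helper23.Simple5400
open scoped Pointwise

variable {G : Type*} [Group G] [Finite G] [IsSimpleGroup G]

attribute [local instance] fact5

/-- `IsInter` is invariant under conjugation -/
theorem isInter_conj (D : Subgroup G) (hD : IsInter D) (n : G) : IsInter (MulAut.conj n • D) := by
  obtain ⟨h5, P, R, hPR, hDP, hDR⟩ := hD
  refine ⟨?_, n • P, n • R, ?_, ?_, ?_⟩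
  · rw [← h5]
    exact Nat.card_congr (Subgroup.equivSMul (MulAut.conj n) D).toEquiv.symm
  · intro he
    exact hPR (smul_left_cancel n he)
  · rw [Sylow.coe_subgroup_smul]
    exact pointwise_smul_le_pointwise_smul_iff.mpr hDP
  · rw [Sylow.coe_subgroup_smul]
    exact pointwise_smul_le_pointwise_smul_iff.mpr hDR

/-- conjugating by an element of `N(P)` preserves being inside `P` -/
theorem conj_le_of_mem_normalizer (P : Sylow 5 G) (D : Subgroup G) (hDP : D ≤ (P : Subgroup G))
    (n : G) (hn : n ∈ normalizer ((P : Subgroup G) : Set G)) :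
    MulAut.conj n • D ≤ (P : Subgroup G) := by
  have h1 : n • P = P := Sylow.smul_eq_iff_mem_normalizer.mpr hn
  have h2 : MulAut.conj n • (P : Subgroup G) = (P : Subgroup G) := by
    rw [← Sylow.coe_subgroup_smul, h1]
  rw [← h2]
  exact pointwise_smul_le_pointwise_smul_iff.mpr hDP

/-- membership in the conjugate subgroup -/
theorem conj_mem_conj_smul (D : Subgroup G) (n d : G) (hd : d ∈ D) :
    n * d * n⁻¹ ∈ MulAut.conj n • D := by
  have : MulAut.conj n • d ∈ MulAut.conj n • D := smul_mem_pointwise_smul_iff.mpr hd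
  simpa using this

/-- `n ∈ N(D)` iff conjugation by `n` fixes `D` -/
theorem conj_smul_eq_iff (D : Subgroup G) (n : G) :
    MulAut.conj n • D = D ↔ n ∈ normalizer (D : Set G) := by
  rw [mem_normalizer_iff_map_conj_eq]
  rfl

/-- an element of order dividing 3 normalizing a subgroup of order 5 centralizes it -/
theorem mem_centralizer_of_pow_three (D : Subgroup G) (hD : Nat.card D = 5) (x : G)
    (hx : x ∈ normalizer (D : Set G)) (hx3 : x ^ 3 = 1) : x ∈ centralizer (D : Set G) := by
  have hc : IsCyclic D := isCyclic_of_prime_card hD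
  have h4 : Nat.card (MulAut D) = 4 := by
    rw [IsCyclic.card_mulAut, hD]; decide
  have h3 : (D.normalizerMonoidHom ⟨x, hx⟩) ^ 3 = 1 := by
    rw [← map_pow]
    have : (⟨x, hx⟩ : normalizer (D : Set G)) ^ 3 = 1 := by
      apply Subtype.ext
      simp [hx3]
    rw [this, map_one]
  have h5 : orderOf (D.normalizerMonoidHom ⟨x, hx⟩) ∣ 3 := orderOf_dvd_of_pow_eq_one h3
  have h6 : orderOf (D.normalizerMonoidHom ⟨x, hx⟩) ∣ 4 := h4 ▸ orderOf_dvd_natCard _
  have h7 : orderOf (D.normalizerMonoidHom ⟨x, hx⟩) = 1 := by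
    have := Nat.dvd_gcd h5 h6
    simpa using this
  have h8 : D.normalizerMonoidHom ⟨x, hx⟩ = 1 := orderOf_eq_one_iff.mp h7
  have h9 : (⟨x, hx⟩ : normalizer (D : Set G)) ∈ D.normalizerMonoidHom.ker := h8
  rw [normalizerMonoidHom_ker, mem_subgroupOf] at h9
  exact h9

/-- distinct subgroups of order 5 meet trivially -/
theorem inf_eq_bot_of_card_five (D1 D2 : Subgroup G) (h1 : Nat.card D1 = 5) (h2 : Nat.card D2 = 5)
    (hne : D1 ≠ D2) : D1 ⊓ D2 = ⊥ := by
  have hd : Nat.card (D1 ⊓ D2 : Subgroup G) ∣ 5 := by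
    rw [← h1]; exact card_dvd_of_le inf_le_left
  rcases (Nat.dvd_prime (by norm_num : Nat.Prime 5)).mp hd with h | h
  · exact card_eq_one.mp h
  · exfalso
    have e1 : D1 ⊓ D2 = D1 := eq_of_le_of_card_ge inf_le_left (by rw [h, h1])
    have e2 : D1 ⊓ D2 = D2 := eq_of_le_of_card_ge inf_le_right (by rw [h, h2])
    exact hne (e1.symm.trans e2)

/-- distinct subgroups of order 5 generate a group of order 25 containing them -/
theorem sup_eq_of_card_five (P : Subgroup G) (hP : Nat.card P = 25) (D1 D2 : Subgroup G)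
    (h1 : Nat.card D1 = 5) (h2 : Nat.card D2 = 5) (hne : D1 ≠ D2) (hD1P : D1 ≤ P) (hD2P : D2 ≤ P) :
    D1 ⊔ D2 = P := by
  have hle : D1 ⊔ D2 ≤ P := sup_le hD1P hD2P
  have hd : Nat.card (D1 ⊔ D2 : Subgroup G) ∣ 25 := by
    rw [← hP]; exact card_dvd_of_le hle
  have hd5 : 5 ∣ Nat.card (D1 ⊔ D2 : Subgroup G) := by
    rw [← h1]; exact card_dvd_of_le le_sup_left
  have hne5 : Nat.card (D1 ⊔ D2 : Subgroup G) ≠ 5 := by
    intro h
    have e1 : D1 = D1 ⊔ D2 := eq_of_le_of_card_ge le_sup_left (by rw [h, h1])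
    have e2 : D2 = D1 ⊔ D2 := eq_of_le_of_card_ge le_sup_right (by rw [h, h2])
    exact hne (e1.trans e2.symm)
  have h25 : Nat.card (D1 ⊔ D2 : Subgroup G) = 25 := by
    have hle25 : Nat.card (D1 ⊔ D2 : Subgroup G) ≤ 25 := Nat.le_of_dvd (by norm_num) hd
    generalize Nat.card (D1 ⊔ D2 : Subgroup G) = k at *
    interval_cases k <;> first | omega | (exfalso; revert hd; decide)
  exact eq_of_le_of_card_ge hle (by rw [h25, hP])

theorem fact3 : Fact (Nat.Prime 3) := ⟨by norm_num⟩

theorem not_simple_of_card_5400 (h : Nat.card G = 5400) : False := by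
  have hG := not_comm h
  obtain ⟨P⟩ : Nonempty (Sylow 5 G) := inferInstance
  have hP25 := card_sylow5 h P
  have hcomm := sylow5_comm h P
  haveI : IsMulCommutative (P : Subgroup G) := ⟨⟨fun a b => Subtype.ext (hcomm a a.2 b b.2)⟩⟩
  have hN150 := card_normalizer_sylow5 h P
  -- the two intersection subgroups
  have h2 := card_inter_in_sylow h P
  obtain ⟨⟨D1, hD1I, hD1P⟩, ⟨D2, hD2I, hD2P⟩, hne, huniv⟩ := Nat.card_eq_two_iff.mp h2
  have hne' : D1 ≠ D2 := fun e => hne (Subtype.ext e)
  have hcases : ∀ D : Subgroup G, IsInter D → D ≤ (P : Subgroup G) → D = D1 ∨ D = D2 := by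
    intro D hDI hDP
    have hm : (⟨D, hDI, hDP⟩ : {D : Subgroup G // IsInter D ∧ D ≤ (P : Subgroup G)}) ∈
        ({⟨D1, hD1I, hD1P⟩, ⟨D2, hD2I, hD2P⟩} : Set _) := by rw [huniv]; trivial
    rcases hm with e | e
    · left; exact congrArg Subtype.val e
    · right; exact congrArg Subtype.val e
  have hinf := inf_eq_bot_of_card_five D1 D2 hD1I.1 hD2I.1 hne'
  have hsup := sup_eq_of_card_five (P : Subgroup G) hP25 D1 D2 hD1I.1 hD2I.1 hne' hD1P hD2P
  -- `N(P)` permutes `{D1, D2}`
  have hperm : ∀ n ∈ normalizer ((P : Subgroup G) : Set G),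
      (MulAut.conj n • D1 = D1 ∧ MulAut.conj n • D2 = D2) ∨
      (MulAut.conj n • D1 = D2 ∧ MulAut.conj n • D2 = D1) := by
    intro n hn
    have a1 := hcases _ (isInter_conj D1 hD1I n) (conj_le_of_mem_normalizer P D1 hD1P n hn)
    have a2 := hcases _ (isInter_conj D2 hD2I n) (conj_le_of_mem_normalizer P D2 hD2P n hn)
    have a3 : MulAut.conj n • D1 ≠ MulAut.conj n • D2 := fun e => hne' (smul_left_cancel _ e)
    rcases a1 with a1 | a1 <;> rcases a2 with a2 | a2
    · exact absurd (a1.trans a2.symm) a3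
    · exact Or.inl ⟨a1, a2⟩
    · exact Or.inr ⟨a1, a2⟩
    · exact absurd (a1.trans a2.symm) a3
  -- an element of order 3 in `N(P)`
  haveI := fact3
  obtain ⟨x0, hx0⟩ := exists_prime_orderOf_dvd_card' (G := normalizer ((P : Subgroup G) : Set G)) 3
    (by rw [hN150]; norm_num)
  have hxN : (x0 : G) ∈ normalizer ((P : Subgroup G) : Set G) := x0.2
  have hxo : orderOf (x0 : G) = 3 := by rw [Subgroup.orderOf_coe]; exact hx0
  have hx3 : (x0 : G) ^ 3 = 1 := by rw [← hxo]; exact pow_orderOf_eq_one _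
  have hxfix : MulAut.conj (x0 : G) • D1 = D1 ∧ MulAut.conj (x0 : G) • D2 = D2 := by
    rcases hperm _ hxN with hf | ⟨s1, s2⟩
    · exact hf
    · exfalso
      have e1 : MulAut.conj ((x0 : G) ^ 3) • D1 = D2 := by
        rw [pow_succ, pow_two, map_mul, map_mul, mul_smul, mul_smul, s1, s2, s1]
      rw [hx3, map_one, one_smul] at e1
      exact hne' e1
  have hxC1 := mem_centralizer_of_pow_three D1 hD1I.1 _ ((conj_smul_eq_iff D1 _).mp hxfix.1) hx3
  have hxC2 := mem_centralizer_of_pow_three D2 hD2I.1 _ ((conj_smul_eq_iff D2 _).mp hxfix.2) hx3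
  have hxC : (x0 : G) ∈ centralizer ((P : Subgroup G) : Set G) := by
    have hle : D1 ⊔ D2 ≤ centralizer ({(x0 : G)} : Set G) := by
      apply sup_le
      · intro d hd
        rw [mem_centralizer_iff]
        intro y hy
        rw [Set.mem_singleton_iff] at hy
        subst hy
        exact ((mem_centralizer_iff.mp hxC1) d hd).symm
      · intro d hd
        rw [mem_centralizer_iff]
        intro y hy
        rw [Set.mem_singleton_iff] at hy
        subst hy
        exact ((mem_centralizer_iff.mp hxC2) d hd).symm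
    rw [hsup] at hle
    rw [mem_centralizer_iff]
    intro p hp
    exact ((mem_centralizer_iff.mp (hle hp)) _ rfl).symm
  -- `|C(P)| = 75`
  have hCN : centralizer ((P : Subgroup G) : Set G) ≤ normalizer ((P : Subgroup G) : Set G) :=
    centralizer_le_normalizer _
  have hPC : (P : Subgroup G) ≤ centralizer ((P : Subgroup G) : Set G) := by
    intro a ha
    rw [mem_centralizer_iff]
    intro b hb
    exact hcomm b hb a ha
  have hnotle := not_normalizer_le_centralizer_of_simple hG P (by rw [h]; norm_num)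
  have hC75 : Nat.card (centralizer ((P : Subgroup G) : Set G)) = 75 := by
    have d25 : 25 ∣ Nat.card (centralizer ((P : Subgroup G) : Set G)) := by
      rw [← hP25]; exact card_dvd_of_le hPC
    have d3 : 3 ∣ Nat.card (centralizer ((P : Subgroup G) : Set G)) := by
      rw [← hxo]; exact Subgroup.orderOf_dvd_natCard _ hxC
    have d75 : 75 ∣ Nat.card (centralizer ((P : Subgroup G) : Set G)) :=
      Nat.Coprime.mul_dvd_of_dvd_of_dvd (by norm_num : Nat.Coprime 3 25) d3 d25
    have d150 : Nat.card (centralizer ((P : Subgroup G) : Set G)) ∣ 150 := by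
      rw [← hN150]; exact card_dvd_of_le hCN
    have hne150 : Nat.card (centralizer ((P : Subgroup G) : Set G)) ≠ 150 := by
      intro e
      have : centralizer ((P : Subgroup G) : Set G) = normalizer ((P : Subgroup G) : Set G) :=
        eq_of_le_of_card_ge hCN (by rw [e, hN150])
      exact hnotle (le_of_eq this.symm)
    obtain ⟨k, hk⟩ := d75
    rw [hk] at d150 hne150 ⊢
    have hk2 : k ∣ 2 := by
      have : 75 * k ∣ 75 * 2 := d150
      exact Nat.dvd_of_mul_dvd_mul_left (by norm_num) this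
    have hk2' : k ≤ 2 := Nat.le_of_dvd (by norm_num) hk2
    interval_cases k
    · simp at hk2
    · rfl
    · exact absurd rfl hne150
  -- index two
  have hidx : ((centralizer ((P : Subgroup G) : Set G)).subgroupOf
      (normalizer ((P : Subgroup G) : Set G))).index = 2 := by
    have := ((centralizer ((P : Subgroup G) : Set G)).subgroupOf
      (normalizer ((P : Subgroup G) : Set G))).card_mul_index
    rw [card_subgroupOf_eq_card_inf, inf_of_le_left hCN, hC75, hN150] at this
    omega
  have hB : ∀ a b : G, a ∈ normalizer ((P : Subgroup G) : Set G) →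
      b ∈ normalizer ((P : Subgroup G) : Set G) →
      (a * b ∈ centralizer ((P : Subgroup G) : Set G) ↔
        (a ∈ centralizer ((P : Subgroup G) : Set G) ↔ b ∈ centralizer ((P : Subgroup G) : Set G))) := by
    intro a b ha hb
    have := mul_mem_iff_of_index_two hidx (a := ⟨a, ha⟩) (b := ⟨b, hb⟩)
    simpa [mem_subgroupOf] using this
  obtain ⟨τ, hτN, hτC⟩ : ∃ τ ∈ normalizer ((P : Subgroup G) : Set G),
      τ ∉ centralizer ((P : Subgroup G) : Set G) := by
    by_contra hcon
    push Not at hcon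
    exact hnotle hcon
  have hτinvN : τ⁻¹ ∈ normalizer ((P : Subgroup G) : Set G) := inv_mem hτN
  have hτinvC : τ⁻¹ ∉ centralizer ((P : Subgroup G) : Set G) := fun hh => hτC (inv_mem_iff.mp hh)
  have hcoset : ∀ n ∈ normalizer ((P : Subgroup G) : Set G),
      n ∉ centralizer ((P : Subgroup G) : Set G) → τ⁻¹ * n ∈ centralizer ((P : Subgroup G) : Set G) := by
    intro n hn hnC
    rw [hB _ _ hτinvN hn]
    exact ⟨fun hh => absurd hh hτinvC, fun hh => absurd hh hnC⟩
  rcases hperm τ hτN with ⟨f1, f2⟩ | ⟨s1, s2⟩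
  · -- `τ` fixes `D1`: then `N(P) ≤ N(D1)`
    have hτND : τ ∈ normalizer (D1 : Set G) := (conj_smul_eq_iff D1 τ).mp f1
    have hCND : centralizer ((P : Subgroup G) : Set G) ≤ normalizer (D1 : Set G) :=
      (centralizer_le (show (D1 : Set G) ⊆ ((P : Subgroup G) : Set G) from hD1P)).trans
        (centralizer_le_normalizer _)
    have hNle : normalizer ((P : Subgroup G) : Set G) ≤ normalizer (D1 : Set G) := by
      intro n hn
      by_cases hnC : n ∈ centralizer ((P : Subgroup G) : Set G)
      · exact hCND hnC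
      · have h1 := hCND (hcoset n hn hnC)
        have h2 := mul_mem hτND h1
        rwa [mul_inv_cancel_left] at h2
    have hcard := card_normalizer_inter h D1 hD1I P hD1P
    rw [inf_of_le_right hNle, hN150] at hcard
    have hi := (normalizer (D1 : Set G)).card_mul_index
    rw [hcard, h] at hi
    have hge := index_ge_ten h _ (normalizer_inter_ne_top h D1 hD1I)
    omega
  · -- `τ` swaps `D1` and `D2`
    obtain ⟨d, hdD, hd1⟩ : ∃ d ∈ D1, d ≠ 1 := by
      by_contra hcon
      push Not at hcon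
      have : D1 = ⊥ := (eq_bot_iff_forall D1).mpr hcon
      have h5 := hD1I.1
      rw [this] at h5
      simp at h5
    have hdP : d ∈ (P : Subgroup G) := hD1P hdD
    have heD2 : τ * d * τ⁻¹ ∈ D2 := by
      have := conj_mem_conj_smul D1 τ d hdD
      rwa [s1] at this
    have heP : τ * d * τ⁻¹ ∈ (P : Subgroup G) := hD2P heD2
    have hzP : d * (τ * d * τ⁻¹) ∈ (P : Subgroup G) := mul_mem hdP heP
    have hττ : τ * τ ∈ centralizer ((P : Subgroup G) : Set G) := by
      rw [hB _ _ hτN hτN]
    have hττd : d * (τ * τ) = (τ * τ) * d := (mem_centralizer_iff.mp hττ) d hdP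
    have hde : d * (τ * d * τ⁻¹) = (τ * d * τ⁻¹) * d := hcomm d hdP _ heP
    have hτz : τ * (d * (τ * d * τ⁻¹)) = (d * (τ * d * τ⁻¹)) * τ := by
      have e1 : τ * (τ * d * τ⁻¹) = d * τ := by
        calc τ * (τ * d * τ⁻¹) = ((τ * τ) * d) * τ⁻¹ := by group
          _ = (d * (τ * τ)) * τ⁻¹ := by rw [hττd]
          _ = d * τ := by group
      calc τ * (d * (τ * d * τ⁻¹)) = (τ * d * τ⁻¹) * (τ * (τ * d * τ⁻¹)) := by group
        _ = (τ * d * τ⁻¹) * (d * τ) := by rw [e1]
        _ = ((τ * d * τ⁻¹) * d) * τ := by group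
        _ = (d * (τ * d * τ⁻¹)) * τ := by rw [← hde]
    have hz1 : d * (τ * d * τ⁻¹) = 1 := by
      apply eq_one_of_mem_sylow_of_commute_normalizer hG P _ hzP
      intro n hn
      by_cases hnC : n ∈ centralizer ((P : Subgroup G) : Set G)
      · exact ((mem_centralizer_iff.mp hnC) _ hzP).symm
      · have hc := hcoset n hn hnC
        have hcz := (mem_centralizer_iff.mp hc) _ hzP
        -- n = τ * (τ⁻¹ * n)
        calc n * (d * (τ * d * τ⁻¹)) = τ * ((τ⁻¹ * n) * (d * (τ * d * τ⁻¹))) := by group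
          _ = τ * ((d * (τ * d * τ⁻¹)) * (τ⁻¹ * n)) := by rw [hcz]
          _ = (τ * (d * (τ * d * τ⁻¹))) * (τ⁻¹ * n) := by group
          _ = ((d * (τ * d * τ⁻¹)) * τ) * (τ⁻¹ * n) := by rw [hτz]
          _ = (d * (τ * d * τ⁻¹)) * n := by group
    have he : τ * d * τ⁻¹ = d⁻¹ := by
      have := congrArg (fun t => d⁻¹ * t) hz1
      simpa using this
    have heD1 : τ * d * τ⁻¹ ∈ D1 := by rw [he]; exact inv_mem hdD
    have hebot : τ * d * τ⁻¹ ∈ D1 ⊓ D2 := ⟨heD1, heD2⟩
    rw [hinf, mem_bot] at hebot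
    rw [he, inv_eq_one] at hebot
    exact hd1 hebot

end Cfsg.Agent.Lib.Helper3.Simple5400
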