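import Mathlib
import Cfsg.Agent.Lib.Helper71.SylAltDefs
import Cfsg.Agent.Lib.Helper50.SylAltSupp

/-!
# S2221 module [WR-A] (helper3): basic facts on `IsSwapOf σ Y` and the wreath step `wr W σ`.
-/

set_option autoImplicit false
set_option linter.unusedSectionVars false

namespace Cfsg.Agent.Lib.Helper3.SylAlt

open Equiv Cfsg.Agent.Lib.Helper71.SylAlt Cfsg.Agent.Lib.Helper50.SylAlt

variable {α : Type*} [DecidableEq α] [Fintype α]

theorem swap_inv {σ : Perm α} {Y : Finset α} (h : IsSwapOf σ Y) : σ⁻¹ = σ :=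
  inv_eq_of_mul_eq_one_left h.1

theorem swap_apply_apply {σ : Perm α} {Y : Finset α} (h : IsSwapOf σ Y) (x : α) : σ (σ x) = x := by
  have := congrArg (fun f : Perm α => f x) h.1
  simpa using this

theorem swap_disjoint {σ : Perm α} {Y : Finset α} (h : IsSwapOf σ Y) : Disjoint Y (Y.image σ) := by
  rw [Finset.disjoint_left]
  intro x hx hx'
  obtain ⟨y, hy, rfl⟩ := Finset.mem_image.mp hx'
  exact h.2.1 y hy hx

theorem swap_card {σ : Perm α} {Y : Finset α} (h : IsSwapOf σ Y) :
    (Y ∪ Y.image σ).card = 2 * Y.card := by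
  rw [Finset.card_union_of_disjoint (swap_disjoint h), Finset.card_image_of_injective _ σ.injective]
  ring

theorem swap_support {σ : Perm α} {Y : Finset α} (h : IsSwapOf σ Y) :
    σ.support = Y ∪ Y.image σ := by
  ext x
  rw [Perm.mem_support, Finset.mem_union, Finset.mem_image]
  constructor
  · intro hx
    by_contra hcon
    push Not at hcon
    obtain ⟨h1, h2⟩ := hcon
    have h3 : σ x ∉ Y := by
      intro h3
      exact h2 (σ x) h3 (swap_apply_apply h x)
    exact hx (h.2.2 x h1 h3)
  · rintro (hx | ⟨y, hy, rfl⟩)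
    · intro heq
      have := h.2.1 x hx
      rw [heq] at this
      exact this hx
    · rw [swap_apply_apply h y]
      intro heq
      have := h.2.1 y hy
      rw [← heq] at this
      exact this hy

theorem swap_sign {σ : Perm α} {Y : Finset α} (h : IsSwapOf σ Y) :
    Perm.sign σ = (-1) ^ Y.card := by
  by_cases h1 : σ = 1
  · have : Y.card = 0 := by
      have hs := swap_support h
      have h0 : σ.support = ∅ := by rw [h1, Perm.support_one]
      have : (Y ∪ Y.image σ).card = 0 := by rw [← hs, h0]; rfl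
      rw [swap_card h] at this
      omega
    rw [h1, this]
    simp
  · have hord : orderOf σ = 2 := by
      apply orderOf_eq_prime
      · rw [pow_two]; exact h.1
      · exact h1
    have hprime : (orderOf σ).Prime := by rw [hord]; exact Nat.prime_two
    obtain ⟨n, hn⟩ := Perm.cycleType_prime_order hprime
    rw [hord] at hn
    have hsum : σ.cycleType.sum = 2 * Y.card := by
      rw [Perm.sum_cycleType, swap_support h, swap_card h]
    have hsum' : σ.cycleType.sum = (n + 1) * 2 := by
      rw [hn]; simp; ring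
    have hn1 : n + 1 = Y.card := by omega
    rw [Perm.sign_of_cycleType, hsum, hn, Multiset.card_replicate, hn1, pow_add, pow_mul]
    simp

theorem swap_map_map {σ : Perm α} {Y : Finset α} (h : IsSwapOf σ Y) (W : Subgroup (Perm α)) :
    (W.map (MulAut.conj σ).toMonoidHom).map (MulAut.conj σ).toMonoidHom = W := by
  rw [Subgroup.map_map]
  have : (MulAut.conj σ).toMonoidHom.comp (MulAut.conj σ).toMonoidHom = MonoidHom.id _ := by
    ext g : 1
    simp only [MonoidHom.comp_apply, MulEquiv.coe_toMonoidHom, MulAut.conj_apply, MonoidHom.id_apply]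
    rw [swap_inv h]
    calc σ * (σ * g * σ) * σ = (σ * σ) * g * (σ * σ) := by group
      _ = g := by rw [h.1]; simp
  rw [this, Subgroup.map_id]

/-- elements of a subgroup supported on `Y` map `Y` into `Y` -/
theorem suppOn_apply_mem {W : Subgroup (Perm α)} {Y : Finset α} (hW : SuppOn W Y) {a : Perm α}
    (ha : a ∈ W) {y : α} (hy : y ∈ Y) : a y ∈ Y := by
  by_contra hcon
  have h1 : a (a y) = a y := hW a ha (a y) hcon
  have h2 : a y = y := a.injective h1
  rw [h2] at hcon
  exact hcon hy

theorem swap_not_mem {σ : Perm α} {Y : Finset α} (h : IsSwapOf σ Y) (hne : Y.Nonempty)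
    {W : Subgroup (Perm α)} (hW : SuppOn W Y) :
    σ ∉ W ⊔ W.map (MulAut.conj σ).toMonoidHom := by
  intro hmem
  rw [mem_sup_iff_of_disjoint hW (suppOn_map_conj σ hW) (swap_disjoint h)] at hmem
  obtain ⟨a, ha, b, hb, hab⟩ := hmem
  obtain ⟨y, hy⟩ := hne
  have hby : b y = y := by
    apply suppOn_map_conj σ hW b hb
    exact Finset.disjoint_left.mp (swap_disjoint h) hy
  have : σ y = a y := by
    rw [hab, Perm.mul_apply, hby]
  exact h.2.1 y hy (this ▸ suppOn_apply_mem hW ha hy)

theorem suppOn_zpowers_swap {σ : Perm α} {Y : Finset α} (h : IsSwapOf σ Y) :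
    SuppOn (Subgroup.zpowers σ) (Y ∪ Y.image σ) := by
  intro g hg x hx
  rw [Finset.mem_union, not_or] at hx
  obtain ⟨k, rfl⟩ := Subgroup.mem_zpowers_iff.mp hg
  have hσx : σ x = x := by
    apply h.2.2 x hx.1
    intro h3
    apply hx.2
    rw [Finset.mem_image]
    exact ⟨σ x, h3, swap_apply_apply h x⟩
  exact Perm.zpow_apply_eq_self_of_apply_eq_self hσx k

theorem suppOn_wr {σ : Perm α} {Y : Finset α} (h : IsSwapOf σ Y) {W : Subgroup (Perm α)}
    (hW : SuppOn W Y) : SuppOn (wr W σ) (Y ∪ Y.image σ) := by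
  have h1 := suppOn_sup (suppOn_sup hW (suppOn_map_conj σ hW)) (suppOn_zpowers_swap h)
  rw [Finset.union_self] at h1
  exact h1

theorem le_wr (W : Subgroup (Perm α)) (σ : Perm α) : W ≤ wr W σ :=
  le_trans le_sup_left le_sup_left

theorem conj_le_wr (W : Subgroup (Perm α)) (σ : Perm α) :
    W.map (MulAut.conj σ).toMonoidHom ≤ wr W σ :=
  le_trans le_sup_right le_sup_left

theorem swap_mem_wr (W : Subgroup (Perm α)) (σ : Perm α) : σ ∈ wr W σ :=
  (le_sup_right : Subgroup.zpowers σ ≤ wr W σ) (Subgroup.mem_zpowers σ)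

end Cfsg.Agent.Lib.Helper3.SylAlt
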