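import Mathlib
import Cfsg.Agent.Lib.Helper71.SylAltDefs
import Cfsg.Agent.Lib.Helper50.SylAltSupp
import Cfsg.Agent.Lib.Helper3.SylAltWRA

/-!
# S2221 module [WR-B] (helper3): normal form of the elements of `wr W σ`, uniqueness, order.
-/

set_option autoImplicit false
set_option linter.unusedSectionVars false

namespace Cfsg.Agent.Lib.Helper3.SylAlt

open Equiv Cfsg.Agent.Lib.Helper71.SylAlt Cfsg.Agent.Lib.Helper50.SylAlt

variable {α : Type*} [DecidableEq α] [Fintype α]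

/-- elements of `W` commute with elements of `σ W σ⁻¹` -/
theorem wr_commute {σ : Perm α} {Y : Finset α} (h : IsSwapOf σ Y) {W : Subgroup (Perm α)}
    (hW : SuppOn W Y) {u v : Perm α} (hu : u ∈ W) (hv : v ∈ W) :
    u * (σ * v * σ⁻¹) = (σ * v * σ⁻¹) * u :=
  commute_of_disjoint hW (suppOn_map_conj σ hW) (swap_disjoint h) u hu (σ * v * σ⁻¹)
    (Subgroup.mem_map.mpr ⟨v, hv, rfl⟩)

theorem swap_mul_eq {σ : Perm α} {Y : Finset α} (h : IsSwapOf σ Y) (x : Perm α) :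
    σ * x = (σ * x * σ⁻¹) * σ := by group

theorem swap_conj_conj {σ : Perm α} {Y : Finset α} (h : IsSwapOf σ Y) (x : Perm α) :
    σ * (σ * x * σ⁻¹) * σ⁻¹ = x := by
  rw [swap_inv h]
  calc σ * (σ * x * σ) * σ = (σ * σ) * x * (σ * σ) := by group
    _ = x := by rw [h.1]; simp

theorem conj_mul_conj (σ x y : Perm α) : (σ * x * σ⁻¹) * (σ * y * σ⁻¹) = σ * (x * y) * σ⁻¹ := by
  group

/-- the four multiplication rules of the normal form -/
theorem wr_mul_00 {σ : Perm α} {Y : Finset α} (h : IsSwapOf σ Y) {W : Subgroup (Perm α)}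
    (hW : SuppOn W Y) {u v u' v' : Perm α} (hv : v ∈ W) (hu' : u' ∈ W) :
    (u * (σ * v * σ⁻¹)) * (u' * (σ * v' * σ⁻¹)) = (u * u') * (σ * (v * v') * σ⁻¹) := by
  rw [← conj_mul_conj]
  calc (u * (σ * v * σ⁻¹)) * (u' * (σ * v' * σ⁻¹))
      = u * ((σ * v * σ⁻¹) * u') * (σ * v' * σ⁻¹) := by group
    _ = u * (u' * (σ * v * σ⁻¹)) * (σ * v' * σ⁻¹) := by rw [wr_commute h hW hu' hv]
    _ = (u * u') * ((σ * v * σ⁻¹) * (σ * v' * σ⁻¹)) := by group

theorem wr_mul_10 {σ : Perm α} {Y : Finset α} (h : IsSwapOf σ Y) {W : Subgroup (Perm α)}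
    (hW : SuppOn W Y) {u v u' v' : Perm α} (hv : v ∈ W) (hu' : u' ∈ W) (hv' : v' ∈ W) :
    (u * (σ * v * σ⁻¹) * σ) * (u' * (σ * v' * σ⁻¹)) = (u * v') * (σ * (v * u') * σ⁻¹) * σ := by
  have h1 : σ * (u' * (σ * v' * σ⁻¹)) = (σ * u' * σ⁻¹) * v' * σ := by
    calc σ * (u' * (σ * v' * σ⁻¹)) = (σ * u' * σ⁻¹) * (σ * (σ * v' * σ⁻¹) * σ⁻¹) * σ := by group
      _ = (σ * u' * σ⁻¹) * v' * σ := by rw [swap_conj_conj h]
  have h2 : (σ * v * σ⁻¹) * (σ * u' * σ⁻¹) * v' = v' * ((σ * v * σ⁻¹) * (σ * u' * σ⁻¹)) := by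
    rw [conj_mul_conj]
    exact (wr_commute h hW hv' (W.mul_mem hv hu')).symm
  calc (u * (σ * v * σ⁻¹) * σ) * (u' * (σ * v' * σ⁻¹))
      = u * (σ * v * σ⁻¹) * (σ * (u' * (σ * v' * σ⁻¹))) := by group
    _ = u * (σ * v * σ⁻¹) * ((σ * u' * σ⁻¹) * v' * σ) := by rw [h1]
    _ = u * ((σ * v * σ⁻¹) * (σ * u' * σ⁻¹) * v') * σ := by group
    _ = u * (v' * ((σ * v * σ⁻¹) * (σ * u' * σ⁻¹))) * σ := by rw [h2]
    _ = (u * v') * (σ * (v * u') * σ⁻¹) * σ := by rw [conj_mul_conj]; group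

/-- the set of normal forms, as a subgroup -/
def wrNF (σ : Perm α) (Y : Finset α) (h : IsSwapOf σ Y) (W : Subgroup (Perm α)) (hW : SuppOn W Y) :
    Subgroup (Perm α) where
  carrier := {g | ∃ u ∈ W, ∃ v ∈ W, g = u * (σ * v * σ⁻¹) ∨ g = u * (σ * v * σ⁻¹) * σ}
  one_mem' := ⟨1, W.one_mem, 1, W.one_mem, Or.inl (by group)⟩
  mul_mem' := by
    rintro a b ⟨u, hu, v, hv, ha⟩ ⟨u', hu', v', hv', hb⟩
    rcases ha with rfl | rfl <;> rcases hb with rfl | rfl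
    · exact ⟨u * u', W.mul_mem hu hu', v * v', W.mul_mem hv hv', Or.inl (wr_mul_00 h hW hv hu')⟩
    · refine ⟨u * u', W.mul_mem hu hu', v * v', W.mul_mem hv hv', Or.inr ?_⟩
      rw [← wr_mul_00 h hW hv hu']; group
    · exact ⟨u * v', W.mul_mem hu hv', v * u', W.mul_mem hv hu', Or.inr (wr_mul_10 h hW hv hu' hv')⟩
    · refine ⟨u * v', W.mul_mem hu hv', v * u', W.mul_mem hv hu', Or.inl ?_⟩
      have := wr_mul_10 (u := u) h hW hv hu' hv'
      calc u * (σ * v * σ⁻¹) * σ * (u' * (σ * v' * σ⁻¹) * σ)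
          = (u * (σ * v * σ⁻¹) * σ * (u' * (σ * v' * σ⁻¹))) * σ := by group
        _ = (u * v') * (σ * (v * u') * σ⁻¹) * σ * σ := by rw [this]
        _ = (u * v') * (σ * (v * u') * σ⁻¹) * (σ * σ) := by group
        _ = (u * v') * (σ * (v * u') * σ⁻¹) := by rw [h.1, mul_one]
  inv_mem' := by
    rintro a ⟨u, hu, v, hv, ha⟩
    rcases ha with rfl | rfl
    · refine ⟨u⁻¹, W.inv_mem hu, v⁻¹, W.inv_mem hv, Or.inl ?_⟩
      have := wr_commute h hW (W.inv_mem hu) (W.inv_mem hv)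
      rw [this]; group
    · refine ⟨v⁻¹, W.inv_mem hv, u⁻¹, W.inv_mem hu, Or.inr ?_⟩
      calc (u * (σ * v * σ⁻¹) * σ)⁻¹ = v⁻¹ * σ⁻¹ * u⁻¹ := by group
        _ = v⁻¹ * σ * u⁻¹ * (σ * σ) := by rw [swap_inv h, h.1, mul_one]
        _ = v⁻¹ * (σ * u⁻¹ * σ) * σ := by group
        _ = v⁻¹ * (σ * u⁻¹ * σ⁻¹) * σ := by rw [swap_inv h]

/-- normal form of the elements of `wr W σ` -/
theorem mem_wr_iff {σ : Perm α} {Y : Finset α} (h : IsSwapOf σ Y) {W : Subgroup (Perm α)}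
    (hW : SuppOn W Y) (g : Perm α) :
    g ∈ wr W σ ↔ ∃ u ∈ W, ∃ v ∈ W, g = u * (σ * v * σ⁻¹) ∨ g = u * (σ * v * σ⁻¹) * σ := by
  constructor
  · intro hg
    have hle : wr W σ ≤ wrNF σ Y h W hW := by
      unfold wr
      refine sup_le (sup_le ?_ ?_) ?_
      · intro u hu
        exact ⟨u, hu, 1, W.one_mem, Or.inl (by group)⟩
      · rintro x ⟨v, hv, rfl⟩
        exact ⟨1, W.one_mem, v, hv, Or.inl (by simp [MulAut.conj_apply])⟩
      · rw [Subgroup.zpowers_le]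
        exact ⟨1, W.one_mem, 1, W.one_mem, Or.inr (by group)⟩
    exact hle hg
  · rintro ⟨u, hu, v, hv, hg | hg⟩
    · rw [hg]
      exact (wr W σ).mul_mem (le_wr W σ hu) (conj_le_wr W σ (Subgroup.mem_map.mpr ⟨v, hv, rfl⟩))
    · rw [hg]
      exact (wr W σ).mul_mem
        ((wr W σ).mul_mem (le_wr W σ hu) (conj_le_wr W σ (Subgroup.mem_map.mpr ⟨v, hv, rfl⟩)))
        (swap_mem_wr W σ)

/-- uniqueness of the normal form -/
theorem wr_normal_form_unique {σ : Perm α} {Y : Finset α} (h : IsSwapOf σ Y) (hne : Y.Nonempty)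
    {W : Subgroup (Perm α)} (hW : SuppOn W Y) {u v u' v' : Perm α} (hu : u ∈ W) (hv : v ∈ W)
    (hu' : u' ∈ W) (hv' : v' ∈ W) :
    (u * (σ * v * σ⁻¹) = u' * (σ * v' * σ⁻¹) → u = u' ∧ v = v') ∧
    (u * (σ * v * σ⁻¹) * σ = u' * (σ * v' * σ⁻¹) * σ → u = u' ∧ v = v') ∧
    u * (σ * v * σ⁻¹) ≠ u' * (σ * v' * σ⁻¹) * σ := by
  have hmem : ∀ {w : Perm α}, w ∈ W → σ * w * σ⁻¹ ∈ W.map (MulAut.conj σ).toMonoidHom :=
    fun hw => Subgroup.mem_map.mpr ⟨_, hw, rfl⟩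
  have key : u * (σ * v * σ⁻¹) = u' * (σ * v' * σ⁻¹) → u = u' ∧ v = v' := by
    intro heq
    obtain ⟨h1, h2⟩ := eq_of_mul_eq_of_disjoint hW (suppOn_map_conj σ hW) (swap_disjoint h)
      hu hu' (hmem hv) (hmem hv') heq
    refine ⟨h1, ?_⟩
    have := congrArg (fun x => σ⁻¹ * x * σ) h2
    simpa [mul_assoc] using this
  refine ⟨key, fun heq => key (mul_right_cancel heq), ?_⟩
  intro heq
  apply swap_not_mem h hne hW
  have hσ : σ = (u' * (σ * v' * σ⁻¹))⁻¹ * (u * (σ * v * σ⁻¹)) := by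
    rw [heq]; group
  have hmem2 : (u' * (σ * v' * σ⁻¹))⁻¹ * (u * (σ * v * σ⁻¹)) ∈
      W ⊔ W.map (MulAut.conj σ).toMonoidHom := by
    apply Subgroup.mul_mem
    · apply Subgroup.inv_mem
      exact Subgroup.mul_mem _ (Subgroup.mem_sup_left hu') (Subgroup.mem_sup_right (hmem hv'))
    · exact Subgroup.mul_mem _ (Subgroup.mem_sup_left hu) (Subgroup.mem_sup_right (hmem hv))
  rw [← hσ] at hmem2
  exact hmem2

theorem card_wr {σ : Perm α} {Y : Finset α} (h : IsSwapOf σ Y) (hne : Y.Nonempty)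
    {W : Subgroup (Perm α)} (hW : SuppOn W Y) :
    Nat.card ↥(wr W σ) = 2 * Nat.card W ^ 2 := by
  let f : (↥W × ↥W) × Bool → ↥(wr W σ) := fun x =>
    ⟨(x.1.1 : Perm α) * (σ * (x.1.2 : Perm α) * σ⁻¹) * (if x.2 then σ else 1), by
      rw [mem_wr_iff h hW]
      refine ⟨x.1.1, x.1.1.2, x.1.2, x.1.2.2, ?_⟩
      cases x.2
      · left; simp
      · right; simp⟩
  have hf : Function.Bijective f := by
    constructor
    · rintro ⟨⟨⟨u, hu⟩, ⟨v, hv⟩⟩, e⟩ ⟨⟨⟨u', hu'⟩, ⟨v', hv'⟩⟩, e'⟩ heq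
      have heq' : u * (σ * v * σ⁻¹) * (if e then σ else 1) =
          u' * (σ * v' * σ⁻¹) * (if e' then σ else 1) := congrArg Subtype.val heq
      have U := wr_normal_form_unique h hne hW hu hv hu' hv'
      have U' := wr_normal_form_unique h hne hW hu' hv' hu hv
      cases e <;> cases e'
      · simp only [Bool.false_eq_true, if_false, mul_one] at heq'
        obtain ⟨rfl, rfl⟩ := U.1 heq'
        rfl
      · simp only [Bool.false_eq_true, if_false, mul_one, if_true] at heq'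
        exact absurd heq' U.2.2
      · simp only [Bool.false_eq_true, if_false, mul_one, if_true] at heq'
        exact absurd heq'.symm U'.2.2
      · simp only [if_true] at heq'
        obtain ⟨rfl, rfl⟩ := U.2.1 heq'
        rfl
    · rintro ⟨g, hg⟩
      obtain ⟨u, hu, v, hv, hg' | hg'⟩ := (mem_wr_iff h hW g).mp hg
      · exact ⟨⟨⟨⟨u, hu⟩, ⟨v, hv⟩⟩, false⟩, Subtype.ext (by simp [f, hg'])⟩
      · exact ⟨⟨⟨⟨u, hu⟩, ⟨v, hv⟩⟩, true⟩, Subtype.ext (by simp [f, hg'])⟩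
  rw [← Nat.card_congr (Equiv.ofBijective f hf), Nat.card_prod, Nat.card_prod, Nat.card_eq_fintype_card (α := Bool),
    Fintype.card_bool]
  ring

end Cfsg.Agent.Lib.Helper3.SylAlt
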