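/-
helper3: module S2244-[CHAR] for helper5's project S2244 (weakly closed subgroups of `U`).
The torus characters `c ↦ c ^ A(k, i)` attached to the fundamental roots:
* `torus_T1`: their values generate the finite field `F` as a ring;
* `torus_T2`: for `i ≠ i'` the characters are not Galois conjugate (`q ≠ 2`, and `q ≠ 3` for `G2, B2, D4, F4`).
-/
import Cfsg.Prelude.Def_ChevStructure
import Cfsg.Prelude.Def_LieChev
import Cfsg.Prelude.Def_ChevB2
import Cfsg.Prelude.Def_ChevD4
import Mathlib

set_option autoImplicit false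

namespace Cfsg.Agent.Lib.Helper3.WC

open Cfsg.Lie

universe u

/-- The Cartan integer of the `k`-th fundamental root against the `i`-th fundamental root. -/
def sc (D : ChevalleyDatum) (k i : ℕ) : ℤ := D.cartan k (D.simple i)

/-- A list of integers all divisible by `q - 1` if the characters of `i` and `i'` were Galois conjugate. -/
def divList (D : ChevalleyDatum) (i i' : ℕ) : List ℤ :=
  (4 - sc D i i' * sc D i' i) :: ((if sc D i i' = 0 then [2] else []) ++
    ((((List.range D.rank).filter fun k => decide (sc D k i = 0)).map fun k => sc D k i') ++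
     (((List.range D.rank).filter fun k => decide (sc D k i' = 0)).map fun k => sc D k i)))

/-- The gcd of a list of integers. -/
def lgcd (L : List ℤ) : ℕ := L.foldr (fun x g => Int.gcd x (g : ℤ)) 0

theorem dvd_lgcd (n : ℤ) (L : List ℤ) (h : ∀ x ∈ L, n ∣ x) : n ∣ (lgcd L : ℤ) := by
  induction L with
  | nil => simp [lgcd]
  | cons a L ih =>
    have h1 : n ∣ a := h a List.mem_cons_self
    have h2 : n ∣ (lgcd L : ℤ) := ih fun x hx => h x (List.mem_cons_of_mem _ hx)
    change n ∣ ((Int.gcd a (lgcd L : ℤ) : ℕ) : ℤ)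
    exact Int.dvd_coe_gcd h1 h2

/-- The table check. -/
def certOK (D : ChevalleyDatum) (small : Bool) : Bool :=
  (List.range D.rank).all fun i => decide (sc D i i = 2) &&
    (List.range D.rank).all fun i' => decide (i = i') ||
      (decide (lgcd (divList D i i') = 1) || (small && decide (lgcd (divList D i i') = 2)))

theorem certOK_diag (D : ChevalleyDatum) (small : Bool) (h : certOK D small = true)
    (i : ℕ) (hi : i < D.rank) : sc D i i = 2 := by
  unfold certOK at h
  rw [List.all_eq_true] at h
  have h1 := h i (List.mem_range.mpr hi)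
  rw [Bool.and_eq_true, decide_eq_true_eq] at h1
  exact h1.1

theorem certOK_pair (D : ChevalleyDatum) (small : Bool) (h : certOK D small = true)
    (i : ℕ) (hi : i < D.rank) (i' : ℕ) (hi' : i' < D.rank) (hne : i ≠ i') :
    lgcd (divList D i i') = 1 ∨ (small = true ∧ lgcd (divList D i i') = 2) := by
  unfold certOK at h
  rw [List.all_eq_true] at h
  have h1 := h i (List.mem_range.mpr hi)
  rw [Bool.and_eq_true, List.all_eq_true] at h1
  have h2 := h1.2 i' (List.mem_range.mpr hi')
  simp only [Bool.or_eq_true, Bool.and_eq_true, decide_eq_true_eq] at h2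
  rcases h2 with h2 | h2 | h2
  · exact absurd h2 hne
  · exact Or.inl h2
  · exact Or.inr h2

theorem certOK_G2 : certOK chevG2 true = true := by decide +kernel
theorem certOK_B2 : certOK chevB2 true = true := by decide +kernel
theorem certOK_D4 : certOK chevD4 true = true := by decide +kernel
theorem certOK_F4 : certOK chevF4 true = true := by decide +kernel
theorem certOK_E6 : certOK chevE6 false = true := by decide +kernel
theorem certOK_E7 : certOK chevE7 false = true := by decide +kernel
theorem certOK_E8 : certOK chevE8 false = true := by decide +kernel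

/-- A generator of the multiplicative group of a finite field, in the form used below. -/
theorem exists_gen (F : Type u) [Field F] [Fintype F] :
    ∃ g : F, g ≠ 0 ∧ ∀ d : ℤ, g ^ d = 1 → ((Fintype.card F - 1 : ℕ) : ℤ) ∣ d := by
  classical
  obtain ⟨g, hg⟩ := IsCyclic.exists_generator (α := Fˣ)
  refine ⟨(g : F), g.ne_zero, ?_⟩
  intro d hd
  have h1 : g ^ d = 1 := by
    apply Units.ext
    rw [Units.val_zpow_eq_zpow_val]
    exact hd
  have h2 : orderOf g = Fintype.card F - 1 := by
    rw [orderOf_eq_card_of_forall_mem_zpowers hg, Nat.card_eq_fintype_card, Fintype.card_units]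
  rw [← h2]
  exact orderOf_dvd_iff_zpow_eq_one.mpr h1

theorem dvd_of_conj {F : Type u} [Field F] [Fintype F] (D : ChevalleyDatum) (i i' : ℕ)
    (hii : sc D i i = 2) (hi'i' : sc D i' i' = 2) (hi : i < D.rank) (hi' : i' < D.rank) (σ : F →+* F)
    (H : ∀ k < D.rank, ∀ c : F, c ≠ 0 → c ^ sc D k i' = σ (c ^ sc D k i)) :
    ∀ x ∈ divList D i i', ((Fintype.card F - 1 : ℕ) : ℤ) ∣ x := by
  obtain ⟨g, hg0, hg⟩ := exists_gen F
  have hσ : Function.Injective σ := σ.injective
  have hσg : σ g ≠ 0 := (map_ne_zero σ).mpr hg0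
  have e1 : g ^ sc D i i' = σ g ^ (2 : ℤ) := by
    have h := H i hi g hg0
    rw [hii, map_zpow₀] at h
    exact h
  have e2 : g ^ (2 : ℤ) = σ g ^ sc D i' i := by
    have h := H i' hi' g hg0
    rw [hi'i', map_zpow₀] at h
    exact h
  intro x hx
  simp only [divList, List.mem_cons, List.mem_append, List.mem_map, List.mem_filter, List.mem_range,
    decide_eq_true_eq] at hx
  rcases hx with rfl | hx | ⟨k, ⟨hk, hk0⟩, rfl⟩ | ⟨k, ⟨hk, hk0⟩, rfl⟩
  · apply hg
    have h4 : g ^ (sc D i i' * sc D i' i) = g ^ (4 : ℤ) := by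
      rw [zpow_mul, e1, ← zpow_mul, mul_comm, zpow_mul, ← e2, ← zpow_mul]
      norm_num
    rw [zpow_sub₀ hg0, h4, div_self (zpow_ne_zero _ hg0)]
  · split_ifs at hx with h0
    · simp only [List.mem_cons, List.not_mem_nil, or_false] at hx
      subst hx
      apply hg
      apply hσ
      rw [map_zpow₀, ← e1, h0, zpow_zero, map_one]
    · simp at hx
  · apply hg
    have h := H k hk g hg0
    rw [hk0, zpow_zero, map_one] at h
    exact h
  · apply hg
    apply hσ
    have h := H k hk g hg0
    rw [hk0, zpow_zero] at h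
    rw [← h, map_one]

variable {F : Type u} [Field F] {D : ChevalleyDatum}

theorem exists_certOK (hD : D ∈ [chevG2, chevB2, chevD4, chevF4, chevE6, chevE7, chevE8]) :
    ∃ small : Bool, certOK D small = true ∧ (small = true → D ∈ [chevG2, chevB2, chevD4, chevF4]) := by
  simp only [List.mem_cons, List.not_mem_nil, or_false] at hD
  rcases hD with rfl | rfl | rfl | rfl | rfl | rfl | rfl
  · exact ⟨true, certOK_G2, fun _ => by simp⟩
  · exact ⟨true, certOK_B2, fun _ => by simp⟩
  · exact ⟨true, certOK_D4, fun _ => by simp⟩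
  · exact ⟨true, certOK_F4, fun _ => by simp⟩
  · exact ⟨false, certOK_E6, fun h => (Bool.false_ne_true h).elim⟩
  · exact ⟨false, certOK_E7, fun h => (Bool.false_ne_true h).elim⟩
  · exact ⟨false, certOK_E8, fun h => (Bool.false_ne_true h).elim⟩

/-- S2244-[CHAR] T1: the values of the torus characters of the `i`-th fundamental root generate `F`. -/
theorem torus_T1 [Fintype F] (hD : D ∈ [chevG2, chevB2, chevD4, chevF4, chevE6, chevE7, chevE8])
    (i : ℕ) (hi : i < D.rank) :
    Subring.closure {a : F | ∃ k < D.rank, ∃ c : F, c ≠ 0 ∧ a = c ^ (D.cartan k (D.simple i))} = ⊤ := by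
  obtain ⟨small, hcert, -⟩ := exists_certOK hD
  have hdiag : sc D i i = 2 := certOK_diag D small hcert i hi
  rw [eq_top_iff]
  intro x _
  have hsq : ∀ c : F, c ^ 2 ∈
      Subring.closure {a : F | ∃ k < D.rank, ∃ c : F, c ≠ 0 ∧ a = c ^ (D.cartan k (D.simple i))} := by
    intro c
    by_cases hc : c = 0
    · subst hc
      rw [zero_pow (by norm_num)]
      exact Subring.zero_mem _
    · apply Subring.subset_closure
      refine ⟨i, hi, c, hc, ?_⟩
      change _ = c ^ sc D i i
      rw [hdiag]
      norm_cast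
  by_cases h2 : (2 : F) = 0
  · have hch : ringChar F = 2 := CharP.ringChar_of_prime_eq_zero Nat.prime_two (by exact_mod_cast h2)
    obtain ⟨y, hy⟩ := FiniteField.isSquare_of_char_two hch x
    rw [hy, ← sq]
    exact hsq y
  · have hx : x = ((x + 1) / 2) ^ 2 - ((x - 1) / 2) ^ 2 := by
      field_simp
      ring
    rw [hx]
    exact Subring.sub_mem _ (hsq _) (hsq _)

/-- S2244-[CHAR] T2: the torus characters of two distinct fundamental roots are not Galois conjugate. -/
theorem torus_T2 [Fintype F] (hD : D ∈ [chevG2, chevB2, chevD4, chevF4, chevE6, chevE7, chevE8])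
    (h2 : Fintype.card F ≠ 2)
    (h3 : D ∈ [chevG2, chevB2, chevD4, chevF4] → Fintype.card F ≠ 3)
    (i i' : ℕ) (hi : i < D.rank) (hi' : i' < D.rank) (hne : i ≠ i') (σ : F →+* F) :
    ∃ k < D.rank, ∃ c : F, c ≠ 0 ∧
      c ^ (D.cartan k (D.simple i')) ≠ σ (c ^ (D.cartan k (D.simple i))) := by
  by_contra hcon
  push Not at hcon
  obtain ⟨small, hcert, hsmall⟩ := exists_certOK hD
  have hdvd := dvd_of_conj D i i' (certOK_diag D small hcert i hi) (certOK_diag D small hcert i' hi')
    hi hi' σ hcon
  have h4 := dvd_lgcd _ _ hdvd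
  have hq : 1 < Fintype.card F := Fintype.one_lt_card
  rcases certOK_pair D small hcert i hi i' hi' hne with h | ⟨hs, h⟩
  · rw [h] at h4
    have h5 : Fintype.card F - 1 ∣ 1 := by exact_mod_cast h4
    have h6 := Nat.le_of_dvd (by norm_num) h5
    omega
  · rw [h] at h4
    have h5 : Fintype.card F - 1 ∣ 2 := by exact_mod_cast h4
    have h6 := Nat.le_of_dvd (by norm_num) h5
    have h7 := h3 (hsmall hs)
    omega

end Cfsg.Agent.Lib.Helper3.WC
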