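import Mathlib
import Cfsg.Agent.Lib.Helper3.WreathEmb
import Cfsg.Agent.Lib.Helper3.PiChar

/-!
# The subgroup `H ≀ Q` of `A ≀ Q` and induction of the product linear character
-/

set_option autoImplicit false

namespace Cfsg.Agent.Lib.Helper3.Wreath

open Cfsg

universe u

variable {A Q : Type u} [Group A] [Group Q]

/-- the subgroup `H ≀ᵣ Q` of `A ≀ᵣ Q` -/
def wrSub (H : Subgroup A) : Subgroup (A ≀ᵣ Q) where
  carrier := {w | ∀ q, w.left q ∈ H}
  mul_mem' := by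
    intro a b ha hb q
    rw [RegularWreathProduct.mul_left]
    exact H.mul_mem (ha q) (hb _)
  one_mem' := fun _ => H.one_mem
  inv_mem' := by
    intro a ha q
    rw [RegularWreathProduct.inv_left]
    simp only [Pi.inv_apply]
    exact H.inv_mem (ha _)

theorem mem_wrSub {H : Subgroup A} {w : A ≀ᵣ Q} : w ∈ wrSub H ↔ ∀ q, w.left q ∈ H := Iff.rfl

/-- the underlying type of `wrSub H` -/
def wrSubEquiv (H : Subgroup A) : (wrSub H : Subgroup (A ≀ᵣ Q)) ≃ (Q → H) × Q where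
  toFun w := (fun q => ⟨w.1.left q, w.2 q⟩, w.1.right)
  invFun p := ⟨⟨fun q => p.1 q, p.2⟩, fun q => (p.1 q).2⟩
  left_inv _ := rfl
  right_inv _ := rfl

theorem card_wrSub [Finite Q] (H : Subgroup A) :
    Nat.card (wrSub H : Subgroup (A ≀ᵣ Q)) = Nat.card H ^ Nat.card Q * Nat.card Q := by
  rw [Nat.card_congr (wrSubEquiv H), Nat.card_prod, Nat.card_fun]

variable [Fintype Q]

/-- the linear character `λ × ⋯ × λ` of `H ≀ᵣ Q` -/
def wrHom (H : Subgroup A) (lam : H →* ℂˣ) : (wrSub H : Subgroup (A ≀ᵣ Q)) →* ℂˣ where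
  toFun w := ∏ q, lam ⟨w.1.left q, w.2 q⟩
  map_one' := by
    apply Finset.prod_eq_one
    intro q _
    exact map_one lam
  map_mul' a b := by
    have h1 : ∀ q, lam ⟨(a * b).1.left q, (a * b).2 q⟩ =
        lam ⟨a.1.left q, a.2 q⟩ * lam ⟨b.1.left (a.1.right⁻¹ * q), b.2 _⟩ := by
      intro q
      rw [← map_mul]
      rfl
    rw [Finset.prod_congr rfl (fun q _ => h1 q), Finset.prod_mul_distrib]
    congr 1
    exact Fintype.prod_equiv (Equiv.mulLeft a.1.right⁻¹) _ _ (fun q => rfl)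

theorem wrHom_coe (H : Subgroup A) (lam : H →* ℂˣ) (w : (wrSub H : Subgroup (A ≀ᵣ Q))) :
    ((wrHom H lam w : ℂˣ) : ℂ) = ∏ q, ((lam ⟨w.1.left q, w.2 q⟩ : ℂˣ) : ℂ) := by
  unfold wrHom
  simp

theorem extendByZero_wrSub_base (H : Subgroup A) (lam : H →* ℂˣ) (c : Q → A) :
    extendByZero (wrSub H : Subgroup (A ≀ᵣ Q)) (fun w => ((wrHom H lam w : ℂˣ) : ℂ)) (base c) =
      ∏ q, extendByZero H (fun h => ((lam h : ℂˣ) : ℂ)) (c q) := by
  classical
  by_cases hc : ∀ q, c q ∈ H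
  · have hmem : (base c : A ≀ᵣ Q) ∈ wrSub H := hc
    rw [Cfsg.Agent.Lib.Helper75.extendByZero_of_mem _ _ hmem, wrHom_coe]
    apply Finset.prod_congr rfl
    intro q _
    rw [Cfsg.Agent.Lib.Helper75.extendByZero_of_mem _ _ (hc q)]
    rfl
  · have hmem : (base c : A ≀ᵣ Q) ∉ wrSub H := hc
    rw [Cfsg.Agent.Lib.Helper75.extendByZero_of_not_mem _ _ hmem]
    push Not at hc
    obtain ⟨q, hq⟩ := hc
    symm
    apply Finset.prod_eq_zero (Finset.mem_univ q)
    exact Cfsg.Agent.Lib.Helper75.extendByZero_of_not_mem _ _ hq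

/-- the character induced from `λ × ⋯ × λ` on `H ≀ᵣ Q`, evaluated on the base group -/
theorem indFun_wrSub_base [Fintype A] [Fintype (A ≀ᵣ Q)] (H : Subgroup A) (lam : H →* ℂˣ)
    (b : Q → A) :
    indFun (wrSub H : Subgroup (A ≀ᵣ Q)) (fun w => ((wrHom H lam w : ℂˣ) : ℂ)) (base b) =
      ∏ q, indFun H (fun h => ((lam h : ℂˣ) : ℂ)) (b q) := by
  classical
  set F : A → ℂ := extendByZero H (fun h => ((lam h : ℂˣ) : ℂ)) with hF
  -- the summand
  have hterm : ∀ x : A ≀ᵣ Q,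
      extendByZero (wrSub H : Subgroup (A ≀ᵣ Q)) (fun w => ((wrHom H lam w : ℂˣ) : ℂ))
        (x⁻¹ * base b * x) = ∏ z, F ((x.left z)⁻¹ * b z * x.left z) := by
    intro x
    rw [conj_base, extendByZero_wrSub_base]
    exact Fintype.prod_equiv (Equiv.mulLeft x.right) _ _ (fun q => rfl)
  unfold indFun
  rw [Finset.sum_congr rfl (fun x _ => hterm x)]
  -- split the sum over the wreath product
  have hsum : ∑ x : A ≀ᵣ Q, ∏ z, F ((x.left z)⁻¹ * b z * x.left z) =
      (Nat.card Q : ℂ) * ∑ a : Q → A, ∏ z, F ((a z)⁻¹ * b z * a z) := by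
    rw [← Fintype.sum_equiv (RegularWreathProduct.equivProd A Q).symm
      (fun p : (Q → A) × Q => ∏ z, F ((p.1 z)⁻¹ * b z * p.1 z))
      (fun x : A ≀ᵣ Q => ∏ z, F ((x.left z)⁻¹ * b z * x.left z)) (fun p => rfl)]
    rw [Fintype.sum_prod_type]
    simp only [Finset.sum_const, Finset.card_univ, nsmul_eq_mul]
    rw [Finset.mul_sum, Nat.card_eq_fintype_card]
  rw [hsum, ← Fintype.prod_sum (fun (z : Q) (y : A) => F (y⁻¹ * b z * y)), card_wrSub,
    Finset.prod_mul_distrib]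
  rw [Finset.prod_const, Finset.card_univ, ← Nat.card_eq_fintype_card]
  push_cast
  have hQ : (Nat.card Q : ℂ) ≠ 0 := by
    have : Nat.card Q ≠ 0 := Nat.card_pos.ne'
    exact_mod_cast this
  have hH : (Nat.card H : ℂ) ≠ 0 := by
    have : Nat.card H ≠ 0 := Nat.card_pos.ne'
    exact_mod_cast this
  field_simp
  rw [← mul_pow, mul_one_div_cancel hH, one_pow, one_mul]

end Cfsg.Agent.Lib.Helper3.Wreath
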