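import Mathlib
import Cfsg.Agent.Lib.Helper3.WreathInd
import Cfsg.Agent.Lib.Helper3.MGroupBasic
import Cfsg.Agent.Lib.Helper75.Clifford2
import Cfsg.Agent.Lib.Helper75.Clifford3
import Cfsg.Agent.Lib.Helper75.Ramified
import Cfsg.Agent.Lib.Helper15.Gallagher
import Cfsg.Agent.Lib.Helper15.GallagherExt
import Cfsg.Agent.Lib.Helper77.Deflation
import Cfsg.Agent.Lib.Helper81.Gallagher
import Cfsg.Agent.S0148

/-!
# The wreath product of an M-group with a group of prime order is an M-group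
-/

set_option autoImplicit false

namespace Cfsg.Agent.Lib.Helper3.Wreath

open Cfsg Cfsg.Agent.Lib.Helper3.MGroup Cfsg.Agent.Lib.Helper75 Cfsg.Agent.Lib.Helper78
open scoped ComplexConjugate

universe u

section Linear

variable {W : Type u} [Group W] [Fintype W] (N : Subgroup W) [hN : N.Normal] [Fintype N]

/-- an irreducible constituent of `(1_N)^W` is linear if `W / N` is abelian -/
theorem apply_one_eq_one_of_over_one (hcomm : ∀ a b : W, a * b * a⁻¹ * b⁻¹ ∈ N)
    {β : W → ℂ} (hβ : IsIrrCharacter W β)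
    (h : classInner (indFun N (fun _ : N => (1 : ℂ))) β ≠ 0) : β 1 = 1 := by
  have hβcl : IsClassFunction W β := IsCharacter.isClassFunction (IsIrrCharacter.isCharacter hβ)
  rw [frobenius_reciprocity N _ hβcl] at h
  have h' : classInner (fun n : N => β n) (fun _ : N => (1 : ℂ)) ≠ 0 := by
    intro h0
    apply h
    have h1 := Cfsg.Agent.Lib.Helper78.classInner_conj_symm (fun n : N => β n)
      (fun _ : N => (1 : ℂ))
    rw [h0, map_zero] at h1
    exact h1.symm
  have hone : IsIrrCharacter N (fun _ : N => (1 : ℂ)) := Cfsg.Agent.Lib.Helper80.isIrrCharacter_one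
  obtain ⟨e, -, -, hres⟩ := res_eq_smul_of_invariant N hβ hone h' (fun g => rfl)
  have hval : ∀ n ∈ N, β n = β 1 := by
    intro n hn
    have h1 := congrFun hres ⟨n, hn⟩
    have h2 := congrFun hres 1
    simp only [Pi.smul_apply, smul_eq_mul, mul_one] at h1 h2
    rw [h1]
    exact h2.symm
  obtain ⟨χ', hχ', hχ'val⟩ := Cfsg.Agent.Lib.Helper77.isIrrCharacter_deflate N hβ hval
  have : IsMulCommutative (W ⧸ N) := by
    refine ⟨⟨fun a b => ?_⟩⟩
    induction a using QuotientGroup.induction_on with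
    | H a =>
    induction b using QuotientGroup.induction_on with
    | H b =>
    rw [← QuotientGroup.mk_mul, ← QuotientGroup.mk_mul, QuotientGroup.eq]
    have h3 := hcomm b⁻¹ a⁻¹
    have h4 : (a * b)⁻¹ * (b * a) = b⁻¹ * a⁻¹ * b⁻¹⁻¹ * a⁻¹⁻¹ := by group
    rw [h4]
    exact h3
  have h1 := IsIrrCharacter.map_one_of_comm hχ'
  rw [← hχ'val 1]
  exact h1

end Linear

section Main

variable {A Q : Type u} [Group A] [Group Q]

theorem index_range_base [Finite Q] :
    ((base : (Q → A) →* A ≀ᵣ Q).range).index = Nat.card Q := by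
  rw [range_base_eq_ker, Subgroup.index_ker]
  have h : (RegularWreathProduct.rightHom : A ≀ᵣ Q →* Q).range = ⊤ :=
    MonoidHom.range_eq_top.mpr (fun q => ⟨RegularWreathProduct.inl q, rfl⟩)
  rw [h, Nat.card_congr Subgroup.topEquiv.toEquiv]

theorem comm_mod_range_base (hQ : ∀ x y : Q, x * y = y * x) (a b : A ≀ᵣ Q) :
    a * b * a⁻¹ * b⁻¹ ∈ (base : (Q → A) →* A ≀ᵣ Q).range := by
  rw [mem_range_base]
  simp only [RegularWreathProduct.mul_right, RegularWreathProduct.inv_right]
  rw [hQ a.right b.right]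
  group

theorem shift_conj (c : Q) (b : Q → A) :
    (RegularWreathProduct.inl c : A ≀ᵣ Q) * base b * (RegularWreathProduct.inl c)⁻¹ =
      base (fun y => b (c⁻¹ * y)) := by
  rw [conj_base']
  congr 1
  funext y
  simp

/-- **Main lemma**: if `A` is an M-group and `Q` has prime order then `A ≀ᵣ Q` is an M-group. -/
theorem isMGroup_wreath [Fintype A] [Fintype Q] [Fintype (A ≀ᵣ Q)] (hp : (Nat.card Q).Prime)
    (hA : IsMGroup A) : IsMGroup (A ≀ᵣ Q) := by
  classical
  intro χ hχ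
  have hχcl : IsClassFunction (A ≀ᵣ Q) χ := IsCharacter.isClassFunction (IsIrrCharacter.isCharacter hχ)
  obtain ⟨Bs, hBs⟩ : ∃ Bs : Subgroup (A ≀ᵣ Q), Bs = (base : (Q → A) →* A ≀ᵣ Q).range := ⟨_, rfl⟩
  have hBsn : Bs.Normal := hBs ▸ range_base_normal
  have : Fintype Bs := Fintype.ofFinite _
  let e : (Q → A) ≃* Bs :=
    (MonoidHom.ofInjective (base_injective (D := A) (Q := Q))).trans
      (MulEquiv.subgroupCongr hBs.symm)
  have he : ∀ b, ((e b : Bs) : A ≀ᵣ Q) = base b := fun b => rfl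
  have hQcomm : ∀ x y : Q, x * y = y * x := by
    have : Fact (Nat.card Q).Prime := ⟨hp⟩
    have hcyc : IsCyclic Q := isCyclic_of_prime_card (p := Nat.card Q) rfl
    intro x y
    exact (IsCyclic.isMulCommutative (α := Q)).is_comm.comm x y
  have hcomm : ∀ a b : A ≀ᵣ Q, a * b * a⁻¹ * b⁻¹ ∈ Bs := by
    intro a b
    rw [hBs]
    exact comm_mod_range_base hQcomm a b
  have hidx : Bs.index = Nat.card Q := by
    rw [hBs]
    exact index_range_base
  obtain ⟨θ', hθ'over⟩ := exists_constituent_res Bs hχ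
  have hθ'cl : IsClassFunction Bs (θ' : Bs → ℂ) :=
    IsCharacter.isClassFunction (IsIrrCharacter.isCharacter θ'.2)
  by_cases hinv : ∀ g : A ≀ᵣ Q, Cfsg.Agent.Lib.Helper75.conjFun Bs g (θ' : Bs → ℂ) = θ'
  · -- the invariant case
    have hθirr : IsIrrCharacter (Q → A) ((θ' : Bs → ℂ) ∘ e) :=
      Cfsg.Agent.Lib.Helper81.isIrrCharacter_comp_mulEquiv θ'.2 e
    obtain ⟨φ, hφ, hprod⟩ := Cfsg.Agent.Lib.Helper3.PiChar.decomp Q _ hθirr
    have hshift : ∀ (c : Q) (b : Q → A),
        (θ' : Bs → ℂ) (e (fun y => b (c⁻¹ * y))) = (θ' : Bs → ℂ) (e b) := by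
      intro c b
      have h1 := congrFun (hinv (RegularWreathProduct.inl c)) (e b)
      rw [Cfsg.Agent.Lib.Helper75.conjFun_apply] at h1
      rw [← h1]
      refine congrArg _ (Subtype.ext ?_)
      change base _ = RegularWreathProduct.inl c * base b * (RegularWreathProduct.inl c)⁻¹
      exact (shift_conj c b).symm
    have hd : ∀ y, φ y 1 ≠ 0 := fun y => Cfsg.Agent.Lib.Helper80.char_one_ne_zero_of_isIrr (hφ y)
    have hφeq : ∀ q, φ q = φ 1 := by
      intro q
      have hPq : (∏ y ∈ Finset.univ.erase q, φ y 1) ≠ 0 :=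
        Finset.prod_ne_zero_iff.mpr (fun y _ => hd y)
      have hP1 : (∏ y ∈ Finset.univ.erase (1 : Q), φ y 1) ≠ 0 :=
        Finset.prod_ne_zero_iff.mpr (fun y _ => hd y)
      have hval : ∀ x : A, φ q x * ∏ y ∈ Finset.univ.erase q, φ y 1 =
          φ 1 x * ∏ y ∈ Finset.univ.erase (1 : Q), φ y 1 := by
        intro x
        have h1 := hshift q (Pi.mulSingle 1 x)
        have h2 := hprod (fun y => (Pi.mulSingle 1 x : Q → A) (q⁻¹ * y))
        have h3 := hprod (Pi.mulSingle 1 x : Q → A)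
        simp only [Function.comp_apply] at h2 h3
        rw [h2, h3] at h1
        rw [← Finset.mul_prod_erase Finset.univ _ (Finset.mem_univ q),
          ← Finset.mul_prod_erase Finset.univ _ (Finset.mem_univ (1 : Q))] at h1
        have h4 : ∏ y ∈ Finset.univ.erase q, φ y ((Pi.mulSingle 1 x : Q → A) (q⁻¹ * y)) =
            ∏ y ∈ Finset.univ.erase q, φ y 1 := by
          apply Finset.prod_congr rfl
          intro y hy
          have hyq : y ≠ q := Finset.ne_of_mem_erase hy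
          have : q⁻¹ * y ≠ 1 := by
            intro h
            apply hyq
            have := congrArg (fun z => q * z) h
            simpa using this
          rw [Pi.mulSingle_eq_of_ne this]
        have h5 : ∏ y ∈ Finset.univ.erase (1 : Q), φ y ((Pi.mulSingle 1 x : Q → A) y) =
            ∏ y ∈ Finset.univ.erase (1 : Q), φ y 1 := by
          apply Finset.prod_congr rfl
          intro y hy
          rw [Pi.mulSingle_eq_of_ne (Finset.ne_of_mem_erase hy)]
        rw [h4, h5, inv_mul_cancel, Pi.mulSingle_eq_same] at h1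
        exact h1
      by_contra hne
      have h0 := classInner_irr_ne (hφ q) (hφ 1) hne
      have hfun : φ q = ((∏ y ∈ Finset.univ.erase (1 : Q), φ y 1) /
          (∏ y ∈ Finset.univ.erase q, φ y 1)) • φ 1 := by
        funext x
        simp only [Pi.smul_apply, smul_eq_mul]
        rw [div_mul_eq_mul_div, eq_div_iff hPq, hval x, mul_comm]
      rw [hfun, classInner_smul_left, classInner_irr_self (hφ 1), mul_one] at h0
      exact (div_ne_zero hP1 hPq) h0
    obtain ⟨H, lam, hlam⟩ := hA (φ 1) (hφ 1)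
    set χ' : A ≀ᵣ Q → ℂ :=
      indFun (wrSub H : Subgroup (A ≀ᵣ Q)) (fun w => ((wrHom H lam w : ℂˣ) : ℂ)) with hχ'def
    have hχ'char : IsCharacter (A ≀ᵣ Q) χ' :=
      Cfsg.Agent.S0148.result _ _ (IsIrrCharacter.isCharacter
        (Cfsg.Agent.Lib.Helper77.isIrrCharacter_of_monoidHom (wrHom H lam)))
    have hχ'res : ∀ n : Bs, χ' n = (θ' : Bs → ℂ) n := by
      intro n
      obtain ⟨b, rfl⟩ := e.surjective n
      rw [he, hχ'def, indFun_wrSub_base]
      have h1 := hprod b
      simp only [Function.comp_apply] at h1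
      rw [h1]
      apply Finset.prod_congr rfl
      intro q _
      rw [hφeq q, ← hlam]
    have hχ'irr : IsIrrCharacter (A ≀ᵣ Q) χ' := by
      apply Cfsg.Agent.Lib.Helper15.isIrrCharacter_of_res Bs hχ'char
      have : (fun n : Bs => χ' n) = (θ' : Bs → ℂ) := funext hχ'res
      rw [this]
      exact θ'.2
    have hθ'inv : ∀ (g : A ≀ᵣ Q) (n : Bs),
        (θ' : Bs → ℂ) ⟨g * n * g⁻¹, hBsn.conj_mem (n : A ≀ᵣ Q) n.2 g⟩ = (θ' : Bs → ℂ) n :=
      fun g n => congrFun (hinv g) n
    have hone_mul : (fun _ : Bs => (1 : ℂ)) * (θ' : Bs → ℂ) = (θ' : Bs → ℂ) := by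
      funext n
      simp
    have hprodirr : IsIrrCharacter Bs ((fun _ : Bs => (1 : ℂ)) * (θ' : Bs → ℂ)) := by
      rw [hone_mul]
      exact θ'.2
    obtain ⟨-, -, h3⟩ := Cfsg.Agent.Lib.Helper15.gallagher_core Bs (fun _ => (1 : ℂ)) (θ' : Bs → ℂ)
      Cfsg.Agent.Lib.Helper80.isIrrCharacter_one (fun _ _ => rfl) hθ'inv hprodirr χ' hχ'irr hχ'res
    have hover' : classInner (indFun Bs ((fun _ : Bs => (1 : ℂ)) * (θ' : Bs → ℂ)))
        ((⟨χ, hχ⟩ : IrrCharacter (A ≀ᵣ Q)) : A ≀ᵣ Q → ℂ) ≠ 0 := by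
      rw [hone_mul, frobenius_reciprocity Bs _ hχcl]
      intro h0
      apply hθ'over
      have h1 := Cfsg.Agent.Lib.Helper78.classInner_conj_symm (θ' : Bs → ℂ) (fun n : Bs => χ n)
      rw [h0, map_zero] at h1
      exact h1.symm
    obtain ⟨β, hβ1, hβ2⟩ := h3 ⟨χ, hχ⟩ hover'
    have hβone : (β : A ≀ᵣ Q → ℂ) 1 = 1 := apply_one_eq_one_of_over_one Bs hcomm β.2 hβ1
    obtain ⟨ν, hν⟩ := Cfsg.Agent.Lib.Helper77.exists_monoidHom_of_degree_one
      (IsIrrCharacter.isCharacter β.2) hβone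
    let mu : ↥(wrSub H : Subgroup (A ≀ᵣ Q)) →* ℂˣ :=
      (ν.comp (wrSub H : Subgroup (A ≀ᵣ Q)).subtype) * (wrHom H lam)
    refine ⟨wrSub H, mu, ?_⟩
    have h4 := Cfsg.Agent.Lib.Helper81.indFun_monoidHom_mul (wrSub H : Subgroup (A ≀ᵣ Q)) ν
      (fun w => ((wrHom H lam w : ℂˣ) : ℂ))
    have h5 : (fun (h : ↥(wrSub H : Subgroup (A ≀ᵣ Q))) => ((mu h : ℂˣ) : ℂ)) =
        fun (h : ↥(wrSub H : Subgroup (A ≀ᵣ Q))) =>
          ((ν (h : A ≀ᵣ Q) : ℂˣ) : ℂ) * ((wrHom H lam h : ℂˣ) : ℂ) := by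
      funext h
      simp [mu]
    rw [h5, h4]
    funext g
    have h6 := congrFun hβ2 g
    rw [Pi.mul_apply, hν g] at h6
    exact h6.symm
  · -- the non-invariant case: the inertia group is the base group
    have hT : ∀ g : A ≀ᵣ Q, g ∈ Bs ↔ Cfsg.Agent.Lib.Helper75.conjFun Bs g (θ' : Bs → ℂ) = θ' := by
      have hBT : Bs ≤ inertia Bs (θ' : Bs → ℂ) := le_inertia Bs hθ'cl
      have hTne : inertia Bs (θ' : Bs → ℂ) ≠ ⊤ := by
        intro h
        apply hinv
        intro g
        have : g ∈ inertia Bs (θ' : Bs → ℂ) := h ▸ Subgroup.mem_top g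
        exact this
      have hTBs : inertia Bs (θ' : Bs → ℂ) = Bs := by
        have h1 := Subgroup.relIndex_mul_index hBT
        rw [hidx] at h1
        have h2 : (inertia Bs (θ' : Bs → ℂ)).index ∣ Nat.card Q := Dvd.intro_left _ h1
        rcases (Nat.dvd_prime hp).mp h2 with h3 | h3
        · exact absurd (Subgroup.index_eq_one.mp h3) hTne
        · rw [h3] at h1
          have h4 : Bs.relIndex (inertia Bs (θ' : Bs → ℂ)) = 1 := by
            have hpos : 0 < Nat.card Q := hp.pos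
            exact Nat.eq_of_mul_eq_mul_right hpos (by rw [h1, one_mul])
          exact le_antisymm (Subgroup.relIndex_eq_one.mp h4) hBT
      intro g
      conv_lhs => rw [← hTBs]
      exact Iff.rfl
    obtain ⟨ψ, hψ, hind, -⟩ := exists_indFun_eq_of_over Bs Bs le_rfl θ'.2 hT hχ hθ'over
    have hψe : IsIrrCharacter (Q → A) (ψ ∘ e) :=
      Cfsg.Agent.Lib.Helper81.isIrrCharacter_comp_mulEquiv hψ e
    obtain ⟨K, lam, hK⟩ := isMGroup_pi Q hA (ψ ∘ e) hψe
    have hψ' : ψ = indFun (K.map (e : (Q → A) →* Bs))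
        (fun h' => ((lam.comp (e.subgroupMap K).symm.toMonoidHom h' : ℂˣ) : ℂ)) := by
      funext n
      obtain ⟨b, rfl⟩ := e.surjective n
      have h1 := indFun_map_mulEquiv e K (fun k => ((lam k : ℂˣ) : ℂ)) b
      have h2 := congrFun hK b
      rw [Function.comp_apply] at h2
      rw [h2, ← h1]
      rfl
    obtain ⟨H', mu, hmu⟩ := monomial_of_indFun Bs ψ _ _ hψ'
    exact ⟨H', mu, by rw [← hind, hmu]⟩

end Main

end Cfsg.Agent.Lib.Helper3.Wreath
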